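import Cfsg.Agent.Helper74.CharComplete
import Mathlib.Algebra.Group.ConjFinite

/-!
# Counting irreducible characters, second orthogonality (helper74)
-/

set_option autoImplicit false
namespace Cfsg.Agent.Helper74
open Cfsg
open scoped ComplexConjugate

universe u v

section classSize
variable {G : Type u} [Group G]

/-- The size of the conjugacy class of `h` is the index of its centralizer. -/
theorem card_isConj_eq_index (h : G) :
    Nat.card {x : G // IsConj x h} = (Subgroup.centralizer ({h} : Set G)).index := by
  let act : MulAction G G := MulAction.compHom G (MulAut.conj : G →* MulAut G)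
  have hsmul : ∀ g x : G, @HSMul.hSMul G G G (@instHSMul G G act.toSMul) g x = g * x * g⁻¹ :=
    fun g x => rfl
  have hstab : @MulAction.stabilizer G G _ act h = Subgroup.centralizer ({h} : Set G) := by
    ext g
    rw [@MulAction.mem_stabilizer_iff G G _ act, hsmul, Subgroup.mem_centralizer_iff]
    simp only [Set.mem_singleton_iff, forall_eq]
    constructor
    · intro h1
      calc h * g = g * h * g⁻¹ * g := by rw [h1]
        _ = g * h := by group
    · intro h1
      calc g * h * g⁻¹ = h * g * g⁻¹ := by rw [h1]
        _ = h := by group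
  rw [← hstab, @MulAction.index_stabilizer G G _ act h, ← Nat.card_coe_set_eq]
  apply Nat.card_congr
  refine Equiv.subtypeEquivRight (fun x => ?_)
  constructor
  · intro hx
    obtain ⟨c, hc⟩ := isConj_iff.mp hx.symm
    exact ⟨c, hc⟩
  · rintro ⟨c, hc⟩
    exact (isConj_iff.mpr ⟨c, hc⟩).symm

theorem card_isConj_mul_card_centralizer [Finite G] (h : G) :
    Nat.card {x : G // IsConj x h} * Nat.card (Subgroup.centralizer ({h} : Set G)) =
      Nat.card G := by
  rw [card_isConj_eq_index, mul_comm, Subgroup.card_mul_index]

end classSize

section secondOrth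
variable {G : Type u} [Group G]

open Classical in
/-- The indicator function of the conjugacy class of `h`. -/
noncomputable def classInd (h : G) : G → ℂ := fun x => if IsConj x h then 1 else 0

theorem classInd_isClassFunction (h : G) : IsClassFunction G (classInd h) := by
  intro g k
  unfold classInd
  have : IsConj (k * g * k⁻¹) h ↔ IsConj g h := by
    constructor
    · intro h1
      exact (isConj_iff.mpr ⟨k, rfl⟩).trans h1
    · intro h1
      exact (isConj_iff.mpr ⟨k, rfl⟩ : IsConj g (k * g * k⁻¹)).symm.trans h1
  rw [this]

variable [Fintype G]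

theorem classInner_classInd {f : G → ℂ} (hf : IsClassFunction G f) (h : G) :
    classInner (classInd h) f =
      (Nat.card G : ℂ)⁻¹ * (Nat.card {x : G // IsConj x h} : ℂ) * conj (f h) := by
  classical
  rw [classInner_def, mul_assoc]
  congr 1
  unfold classInd
  simp only [ite_mul, one_mul, zero_mul]
  rw [← Finset.sum_filter]
  have : ∀ x ∈ Finset.univ.filter (fun x : G => IsConj x h), conj (f x) = conj (f h) := by
    intro x hx
    rw [Finset.mem_filter] at hx
    obtain ⟨c, hc⟩ := isConj_iff.mp hx.2
    rw [← hc, hf x c]
  rw [Finset.sum_congr rfl this, Finset.sum_const, nsmul_eq_mul]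
  congr 2
  rw [Nat.card_eq_fintype_card, Fintype.card_subtype]

/-- Second (column) orthogonality relation. -/
theorem second_orthogonality [Fintype (IrrCharacter G)] (g h : G) [Decidable (IsConj g h)] :
    ∑ χ : IrrCharacter G, (χ : G → ℂ) g * conj ((χ : G → ℂ) h) =
      if IsConj g h then (Nat.card (Subgroup.centralizer ({h} : Set G)) : ℂ) else 0 := by
  classical
  have key := congrFun (classFunction_eq_sum_irr (classInd_isClassFunction h)) g
  simp only [Finset.sum_apply, Pi.smul_apply, smul_eq_mul] at key
  simp only [classInner_classInd (irr_isClassFunction _)] at key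
  have hcard := card_isConj_mul_card_centralizer h
  have hcardC : (Nat.card {x : G // IsConj x h} : ℂ) *
      (Nat.card (Subgroup.centralizer ({h} : Set G)) : ℂ) = (Nat.card G : ℂ) := by
    exact_mod_cast hcard
  have hG : (Nat.card G : ℂ) ≠ 0 := by exact_mod_cast Nat.card_pos.ne'
  have hK : (Nat.card {x : G // IsConj x h} : ℂ) ≠ 0 := by
    intro h0; rw [h0, zero_mul] at hcardC; exact hG hcardC.symm
  have key2 : classInd h g = (Nat.card G : ℂ)⁻¹ * (Nat.card {x : G // IsConj x h} : ℂ) *
      ∑ χ : IrrCharacter G, (χ : G → ℂ) g * conj ((χ : G → ℂ) h) := by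
    rw [key, Finset.mul_sum]
    refine Finset.sum_congr rfl (fun χ _ => ?_)
    ring
  have key3 : ∑ χ : IrrCharacter G, (χ : G → ℂ) g * conj ((χ : G → ℂ) h) =
      classInd h g * (Nat.card (Subgroup.centralizer ({h} : Set G)) : ℂ) := by
    rw [key2, ← hcardC]
    field_simp
  rw [key3]
  unfold classInd
  split_ifs <;> simp

/-- The sum of the squares of the degrees of the irreducible characters is the group order. -/
theorem sum_irr_degree_sq [Fintype (IrrCharacter G)] :
    ∑ χ : IrrCharacter G, (χ : G → ℂ) 1 * (χ : G → ℂ) 1 = (Nat.card G : ℂ) := by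
  classical
  have h := second_orthogonality (G := G) 1 1
  rw [if_pos (IsConj.refl 1)] at h
  have h1 : ∀ χ : IrrCharacter G, conj ((χ : G → ℂ) 1) = (χ : G → ℂ) 1 := by
    intro χ
    obtain ⟨n, hn⟩ := isCharacter_apply_one (irr_isCharacter χ)
    rw [hn]; simp
  simp only [h1] at h
  rw [h]
  have : Subgroup.centralizer ({1} : Set G) = ⊤ := by
    ext x; simp [Subgroup.mem_centralizer_iff]
  rw [this]
  simp

end secondOrth

section count
variable {G : Type u} [Group G]

/-- The class functions as a subspace of `G → ℂ`. -/
def classFunSubmodule (G : Type u) [Group G] : Submodule ℂ (G → ℂ) where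
  carrier := {f | IsClassFunction G f}
  add_mem' := fun h₁ h₂ => isClassFunction_add h₁ h₂
  zero_mem' := isClassFunction_zero
  smul_mem' := fun c _ h => isClassFunction_smul c h

theorem mem_classFunSubmodule {f : G → ℂ} : f ∈ classFunSubmodule G ↔ IsClassFunction G f :=
  Iff.rfl

/-- Pull back a function on conjugacy classes to the group. -/
def classPullback (G : Type u) [Group G] : (ConjClasses G → ℂ) →ₗ[ℂ] (G → ℂ) where
  toFun φ := φ ∘ ConjClasses.mk
  map_add' _ _ := rfl
  map_smul' _ _ := rfl

theorem classPullback_injective : Function.Injective (classPullback G) := by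
  intro φ ψ h
  ext c
  obtain ⟨g, rfl⟩ := ConjClasses.exists_rep c
  exact congrFun h g

theorem range_classPullback : LinearMap.range (classPullback G) = classFunSubmodule G := by
  ext f
  constructor
  · rintro ⟨φ, rfl⟩
    intro g h
    simp only [classPullback, LinearMap.coe_mk, AddHom.coe_mk, Function.comp_apply]
    congr 1
    rw [ConjClasses.mk_eq_mk_iff_isConj]
    exact (isConj_iff.mpr ⟨h, rfl⟩).symm
  · intro hf
    refine ⟨fun c => Quotient.liftOn' c f (fun a b hab => ?_), ?_⟩
    · obtain ⟨c, hc⟩ := isConj_iff.mp hab
      rw [← hc, hf a c]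
    · ext g
      rfl

theorem finrank_classFunSubmodule [Finite G] :
    Module.finrank ℂ (classFunSubmodule G) = Nat.card (ConjClasses G) := by
  have := Fintype.ofFinite (ConjClasses G)
  rw [← range_classPullback, LinearMap.finrank_range_of_inj classPullback_injective,
    Module.finrank_fintype_fun_eq_card, Nat.card_eq_fintype_card]

theorem span_irr_eq_classFunSubmodule [Finite G] :
    Submodule.span ℂ (Set.range (fun χ : IrrCharacter G => (χ : G → ℂ))) =
      classFunSubmodule G := by
  have := Fintype.ofFinite G
  have := irrFintype G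
  apply le_antisymm
  · rw [Submodule.span_le]
    rintro _ ⟨χ, rfl⟩
    exact irr_isClassFunction χ
  · intro f hf
    rw [classFunction_eq_sum_irr hf]
    refine Submodule.sum_mem _ (fun χ _ => Submodule.smul_mem _ _ (Submodule.subset_span ⟨χ, rfl⟩))

/-- The number of irreducible characters equals the number of conjugacy classes. -/
theorem card_irr_eq_card_conjClasses [Finite G] :
    Nat.card (IrrCharacter G) = Nat.card (ConjClasses G) := by
  have := irrFintype G
  rw [← finrank_classFunSubmodule, ← span_irr_eq_classFunSubmodule,
    finrank_span_eq_card irr_linearIndependent, Nat.card_eq_fintype_card]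

end count
end Cfsg.Agent.Helper74
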