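import Cfsg.Prelude.Def_Blocks
import Mathlib.LinearAlgebra.Matrix.PosDef
import Mathlib.Analysis.Complex.Order
import Mathlib.Analysis.Complex.Polynomial.Basic
import Mathlib.RepresentationTheory.Maschke

/-!
# Basic ordinary character theory in the Prelude vocabulary (helper74)

Everything lives in `Cfsg.Agent.Helper74`.
-/

set_option autoImplicit false

namespace Cfsg.Agent.Helper74

open Cfsg
open scoped ComplexConjugate

universe u

section transport

variable {G : Type*} [Monoid G]
variable {V W : Type*} [AddCommGroup V] [Module ℂ V] [AddCommGroup W] [Module ℂ W]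

/-- Transport a representation along a linear equivalence. -/
noncomputable def repConj (e : V ≃ₗ[ℂ] W) (ρ : Representation ℂ G V) : Representation ℂ G W where
  toFun g := e.conj (ρ g)
  map_one' := by
    ext w
    simp [LinearEquiv.conj_apply]
  map_mul' g h := by
    ext w
    simp [LinearEquiv.conj_apply]

@[simp] theorem repConj_apply (e : V ≃ₗ[ℂ] W) (ρ : Representation ℂ G V) (g : G) :
    repConj e ρ g = e.conj (ρ g) := rfl

/-- The equivalence of representations `ρ ≃ repConj e ρ`. -/
noncomputable def repConjEquiv (e : V ≃ₗ[ℂ] W) (ρ : Representation ℂ G V) :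
    Representation.Equiv ρ (repConj e ρ) :=
  Representation.Equiv.mk e (fun g => by
    ext v
    simp [LinearEquiv.conj_apply])

/-- An equivalence of representations induces an order isomorphism on subrepresentations. -/
noncomputable def subrepOrderIso {ρ : Representation ℂ G V} {σ : Representation ℂ G W}
    (φ : Representation.Equiv ρ σ) : Subrepresentation ρ ≃o Subrepresentation σ where
  toFun S := ⟨S.toSubmodule.map φ.toLinearEquiv.toLinearMap, by
    rintro g _ ⟨v, hv, rfl⟩
    refine ⟨ρ g v, S.apply_mem_toSubmodule g hv, ?_⟩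
    have := φ.toIntertwiningMap.isIntertwining _ _ g v
    simpa using this⟩
  invFun T := ⟨T.toSubmodule.map φ.symm.toLinearEquiv.toLinearMap, by
    rintro g _ ⟨v, hv, rfl⟩
    refine ⟨σ g v, T.apply_mem_toSubmodule g hv, ?_⟩
    have := φ.symm.toIntertwiningMap.isIntertwining _ _ g v
    simpa using this⟩
  left_inv S := by
    apply Subrepresentation.toSubmodule_injective
    ext v
    simp only [Submodule.mem_map]
    constructor
    · rintro ⟨_, ⟨w, hw, rfl⟩, rfl⟩
      simpa using hw
    · intro hv
      exact ⟨φ v, ⟨v, hv, rfl⟩, by simp⟩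
  right_inv T := by
    apply Subrepresentation.toSubmodule_injective
    ext v
    simp only [Submodule.mem_map]
    constructor
    · rintro ⟨_, ⟨w, hw, rfl⟩, rfl⟩
      simpa using hw
    · intro hv
      exact ⟨φ.symm v, ⟨v, hv, rfl⟩, by simp⟩
  map_rel_iff' := by
    intro S T
    constructor
    · intro h v hv
      have : φ v ∈ T.toSubmodule.map φ.toLinearEquiv.toLinearMap := h ⟨v, hv, rfl⟩
      obtain ⟨w, hw, hwv⟩ := this
      have : w = v := φ.toLinearEquiv.injective hwv
      exact this ▸ hw
    · intro h
      exact Submodule.map_mono h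

theorem isIrreducible_of_equiv {ρ : Representation ℂ G V} {σ : Representation ℂ G W}
    (φ : Representation.Equiv ρ σ) (h : ρ.IsIrreducible) : σ.IsIrreducible :=
  (OrderIso.isSimpleOrder_iff (subrepOrderIso φ)).mp h

end transport

section ofRep

variable {G : Type u} [Group G]
variable {V : Type*} [AddCommGroup V] [Module ℂ V] [FiniteDimensional ℂ V]

/-- The character of any finite-dimensional complex representation is a character. -/
theorem isCharacter_of_rep (ρ : Representation ℂ G V) : IsCharacter G ρ.character := by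
  let e : V ≃ₗ[ℂ] (Fin (Module.finrank ℂ V) → ℂ) := (Module.finBasis ℂ V).equivFun
  exact ⟨_, repConj e ρ, (Representation.char_iso (repConjEquiv e ρ)).symm⟩

/-- The character of any finite-dimensional irreducible complex representation is an
irreducible character. -/
theorem isIrrCharacter_of_rep (ρ : Representation ℂ G V) (h : ρ.IsIrreducible) :
    IsIrrCharacter G ρ.character := by
  let e : V ≃ₗ[ℂ] (Fin (Module.finrank ℂ V) → ℂ) := (Module.finBasis ℂ V).equivFun
  exact ⟨_, repConj e ρ, isIrreducible_of_equiv (repConjEquiv e ρ) h,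
    (Representation.char_iso (repConjEquiv e ρ)).symm⟩

theorem isCharacter_of_isIrr {χ : G → ℂ} (h : IsIrrCharacter G χ) : IsCharacter G χ := by
  obtain ⟨n, ρ, _, rfl⟩ := h
  exact ⟨n, ρ, rfl⟩

theorem irr_isCharacter (χ : IrrCharacter G) : IsCharacter G (χ : G → ℂ) :=
  isCharacter_of_isIrr χ.2

end ofRep

section closure

variable {G : Type u} [Group G]

theorem isCharacter_zero : IsCharacter G (0 : G → ℂ) := by
  refine ⟨0, 1, ?_⟩
  ext g
  simp [Representation.character]

theorem isCharacter_one : IsCharacter G (fun _ => (1 : ℂ)) := by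
  have := isCharacter_of_rep (Representation.trivial ℂ G ℂ)
  convert this using 1
  ext g
  simp [Representation.character, Representation.trivial]

theorem isCharacter_add {χ ψ : G → ℂ} (hχ : IsCharacter G χ) (hψ : IsCharacter G ψ) :
    IsCharacter G (χ + ψ) := by
  obtain ⟨n, ρ, rfl⟩ := hχ
  obtain ⟨m, σ, rfl⟩ := hψ
  have := isCharacter_of_rep (ρ.prod σ)
  convert this using 1
  ext g
  simp [Representation.character, Representation.prod, LinearMap.trace_prodMap']

theorem isCharacter_mul {χ ψ : G → ℂ} (hχ : IsCharacter G χ) (hψ : IsCharacter G ψ) :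
    IsCharacter G (χ * ψ) := by
  obtain ⟨n, ρ, rfl⟩ := hχ
  obtain ⟨m, σ, rfl⟩ := hψ
  have := isCharacter_of_rep (ρ.tprod σ)
  rwa [Representation.char_tensor] at this

/-- Pull back a character along a group homomorphism. -/
theorem isCharacter_comp {H : Type*} [Group H] (f : H →* G) {χ : G → ℂ} (hχ : IsCharacter G χ) :
    IsCharacter H (χ ∘ f) := by
  obtain ⟨n, ρ, rfl⟩ := hχ
  exact ⟨n, ρ.comp f, rfl⟩

/-- Restriction of a character to a subgroup. -/
theorem isCharacter_restrict (H : Subgroup G) {χ : G → ℂ} (hχ : IsCharacter G χ) :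
    IsCharacter H (fun h : H => χ h) :=
  isCharacter_comp H.subtype hχ

theorem isCharacter_apply_one {χ : G → ℂ} (hχ : IsCharacter G χ) : ∃ n : ℕ, χ 1 = n := by
  obtain ⟨n, ρ, rfl⟩ := hχ
  exact ⟨_, Representation.char_one ρ⟩

theorem charDegree_cast {χ : G → ℂ} (hχ : IsCharacter G χ) : (charDegree χ : ℂ) = χ 1 := by
  obtain ⟨n, hn⟩ := isCharacter_apply_one hχ
  simp [charDegree, hn]

theorem charDegree_rep {V : Type*} [AddCommGroup V] [Module ℂ V] [FiniteDimensional ℂ V]
    (ρ : Representation ℂ G V) : charDegree ρ.character = Module.finrank ℂ V := by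
  simp [charDegree]

end closure


section inv

open scoped Matrix ComplexOrder

variable {G : Type u} [Group G]

/-- The matrix of `ρ g`. -/
noncomputable def repMat {n : ℕ} (ρ : Representation ℂ G (Fin n → ℂ)) (g : G) :
    Matrix (Fin n) (Fin n) ℂ := LinearMap.toMatrix' (ρ g)

theorem repMat_mul {n : ℕ} (ρ : Representation ℂ G (Fin n → ℂ)) (g h : G) :
    repMat ρ (g * h) = repMat ρ g * repMat ρ h := by
  simp [repMat, LinearMap.toMatrix'_mul, map_mul]

theorem repMat_one {n : ℕ} (ρ : Representation ℂ G (Fin n → ℂ)) :
    repMat ρ 1 = 1 := by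
  simp [repMat]

theorem character_eq_trace_repMat {n : ℕ} (ρ : Representation ℂ G (Fin n → ℂ)) (g : G) :
    ρ.character g = (repMat ρ g).trace := by
  rw [Representation.character, LinearMap.trace_eq_matrix_trace ℂ (Pi.basisFun ℂ (Fin n)),
    LinearMap.toMatrix_eq_toMatrix']
  rfl

/-- The averaged Gram matrix, an invariant positive definite Hermitian form. -/
noncomputable def gramMat [Fintype G] {n : ℕ} (ρ : Representation ℂ G (Fin n → ℂ)) :
    Matrix (Fin n) (Fin n) ℂ := ∑ h : G, (repMat ρ h)ᴴ * repMat ρ h

theorem gramMat_posDef [Fintype G] {n : ℕ} (ρ : Representation ℂ G (Fin n → ℂ)) :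
    (gramMat ρ).PosDef := by
  classical
  unfold gramMat
  rw [← Finset.add_sum_erase Finset.univ _ (Finset.mem_univ (1 : G))]
  apply Matrix.PosDef.add_posSemidef
  · rw [repMat_one]; simpa using Matrix.PosDef.one
  · apply Matrix.posSemidef_sum
    intro i _
    exact Matrix.posSemidef_conjTranspose_mul_self _

theorem gramMat_invariant [Fintype G] {n : ℕ} (ρ : Representation ℂ G (Fin n → ℂ)) (g : G) :
    (repMat ρ g)ᴴ * gramMat ρ * repMat ρ g = gramMat ρ := by
  unfold gramMat
  rw [Finset.mul_sum, Finset.sum_mul]
  refine Fintype.sum_equiv (Equiv.mulRight g) _ _ (fun h => ?_)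
  simp [repMat_mul, Matrix.conjTranspose_mul, Matrix.mul_assoc]

theorem char_inv_rep [Fintype G] {n : ℕ} (ρ : Representation ℂ G (Fin n → ℂ)) (g : G) :
    ρ.character g⁻¹ = conj (ρ.character g) := by
  classical
  rw [character_eq_trace_repMat, character_eq_trace_repMat]
  have hA := (gramMat_posDef ρ).isUnit
  have hinv := gramMat_invariant ρ g
  set A := gramMat ρ with hAdef
  set X := repMat ρ g with hX
  have hXX : X * repMat ρ g⁻¹ = 1 := by
    rw [hX, ← repMat_mul, mul_inv_cancel, repMat_one]
  have hdet : IsUnit A.det := (Matrix.isUnit_iff_isUnit_det A).mp hA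
  have h1 : repMat ρ g⁻¹ = A⁻¹ * Xᴴ * A := by
    have : A⁻¹ * Xᴴ * A * X = 1 := by
      rw [Matrix.mul_assoc, Matrix.mul_assoc, ← Matrix.mul_assoc Xᴴ, hinv,
        Matrix.nonsing_inv_mul A hdet]
    calc repMat ρ g⁻¹ = (A⁻¹ * Xᴴ * A * X) * repMat ρ g⁻¹ := by rw [this, Matrix.one_mul]
      _ = A⁻¹ * Xᴴ * A * (X * repMat ρ g⁻¹) := by rw [Matrix.mul_assoc]
      _ = A⁻¹ * Xᴴ * A := by rw [hXX, Matrix.mul_one]
  rw [h1, Matrix.trace_mul_comm, ← Matrix.mul_assoc, Matrix.mul_nonsing_inv A hdet, Matrix.one_mul,
    Matrix.trace_conjTranspose]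
  rfl


end inv

section orthonormal

variable {G : Type u} [Group G]

theorem char_inv [Finite G] {χ : G → ℂ} (hχ : IsCharacter G χ) (g : G) :
    χ g⁻¹ = conj (χ g) := by
  obtain ⟨n, ρ, rfl⟩ := hχ
  have := Fintype.ofFinite G
  exact char_inv_rep ρ g

theorem isCharacter_conj [Finite G] {χ : G → ℂ} (hχ : IsCharacter G χ) :
    IsCharacter G (fun g => conj (χ g)) := by
  have h := hχ
  obtain ⟨n, ρ, rfl⟩ := hχ
  have := isCharacter_of_rep ρ.dual
  convert this using 1
  ext g
  rw [Representation.char_dual, char_inv h]

theorem isClassFunction_of_isCharacter {χ : G → ℂ} (hχ : IsCharacter G χ) :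
    IsClassFunction G χ := by
  obtain ⟨n, ρ, rfl⟩ := hχ
  intro g h
  exact Representation.char_conj ρ g h

theorem classInner_def [Fintype G] (φ ψ : G → ℂ) :
    classInner φ ψ = (Nat.card G : ℂ)⁻¹ * ∑ g : G, φ g * conj (ψ g) := rfl

/-- Orthonormality of the irreducible characters. -/
theorem irr_orthonormal [Fintype G] (χ ψ : IrrCharacter G) [Decidable (χ = ψ)] :
    classInner (χ : G → ℂ) (ψ : G → ℂ) = if χ = ψ then 1 else 0 := by
  classical
  obtain ⟨n, ρ, hρ, hχ⟩ := χ.2
  obtain ⟨m, σ, hσ, hψ⟩ := ψ.2
  have : Invertible (Nat.card G : ℂ) :=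
    invertibleOfNonzero (by exact_mod_cast Nat.card_pos.ne')
  have key := Representation.char_orthonormal ρ σ
  have key' := Representation.char_orthonormal ρ ρ
  have hinv : ∀ g, σ.character g⁻¹ = conj (σ.character g) := fun g => char_inv_rep σ g
  have hinv' : ∀ g, ρ.character g⁻¹ = conj (ρ.character g) := fun g => char_inv_rep ρ g
  rw [classInner_def, ← hχ, ← hψ]
  simp only [← hinv]
  rw [key]
  have hiff : χ = ψ ↔ ρ.character = σ.character := by
    rw [Subtype.ext_iff, ← hχ, ← hψ]
  by_cases h : ρ.character = σ.character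
  · rw [if_pos (hiff.mpr h)]
    by_cases h2 : Nonempty (σ.Equiv ρ)
    · rw [if_pos h2]
    · exfalso
      rw [if_neg h2] at key
      rw [if_pos ⟨Representation.Equiv.refl ρ⟩] at key'
      rw [h] at key'
      rw [h] at key
      rw [key] at key'
      simp at key'
  · rw [if_neg (fun h' => h (hiff.mp h'))]
    by_cases h2 : Nonempty (σ.Equiv ρ)
    · exact absurd (Representation.char_iso h2.some).symm h
    · rw [if_neg h2]

theorem irr_inner_self [Fintype G] (χ : IrrCharacter G) :
    classInner (χ : G → ℂ) (χ : G → ℂ) = 1 := by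
  classical
  rw [irr_orthonormal, if_pos rfl]

theorem irr_inner_ne [Fintype G] {χ ψ : IrrCharacter G} (h : χ ≠ ψ) :
    classInner (χ : G → ℂ) (ψ : G → ℂ) = 0 := by
  classical
  rw [irr_orthonormal, if_neg h]


end orthonormal

section decomp
variable {G : Type u} [Group G]

/-- A representation with two complementary subrepresentations is equivalent to their product. -/
noncomputable def prodEquivOfIsCompl {V : Type*} [AddCommGroup V] [Module ℂ V]
    {ρ : Representation ℂ G V} (S T : Subrepresentation ρ)
    (h : IsCompl S.toSubmodule T.toSubmodule) :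
    Representation.Equiv (S.toRepresentation.prod T.toRepresentation) ρ :=
  Representation.Equiv.mk (Submodule.prodEquivOfIsCompl _ _ h) (fun g => by
    ext ⟨x, y⟩ <;> simp [Representation.prod, Subrepresentation.toRepresentation])

theorem character_eq_add_of_isCompl {V : Type*} [AddCommGroup V] [Module ℂ V]
    [FiniteDimensional ℂ V]
    {ρ : Representation ℂ G V} (S T : Subrepresentation ρ)
    (h : IsCompl S.toSubmodule T.toSubmodule) :
    ρ.character = S.toRepresentation.character + T.toRepresentation.character := by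
  rw [← Representation.char_iso (prodEquivOfIsCompl S T h)]
  ext g
  simp [Representation.character, Representation.prod, LinearMap.trace_prodMap']

/-- The additive submonoid of `G → ℂ` generated by the irreducible characters. -/
def irrSpanNat (G : Type u) [Group G] : AddSubmonoid (G → ℂ) :=
  AddSubmonoid.closure {ψ | IsIrrCharacter G ψ}

theorem character_mem_irrSpanNat_aux.{v} [Finite G] (n : ℕ) :
    ∀ (V : Type v) [AddCommGroup V] [Module ℂ V] [FiniteDimensional ℂ V]
      (ρ : Representation ℂ G V), Module.finrank ℂ V = n → ρ.character ∈ irrSpanNat G := by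
  induction n using Nat.strong_induction_on with
  | _ n ih =>
    intro V _ _ _ ρ hn
    by_cases hirr : ρ.IsIrreducible
    · exact AddSubmonoid.subset_closure (isIrrCharacter_of_rep ρ hirr)
    by_cases htriv : Subsingleton V
    · have : ρ.character = 0 := by
        ext g
        simp only [Representation.character, Pi.zero_apply]
        have : ρ g = 0 := Subsingleton.elim _ _
        rw [this, map_zero]
      rw [this]; exact zero_mem _
    rw [not_subsingleton_iff_nontrivial] at htriv
    -- there is a proper nonzero subrepresentation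
    have hex : ∃ S : Subrepresentation ρ, S ≠ ⊥ ∧ S ≠ ⊤ := by
      by_contra hcon
      push Not at hcon
      apply hirr
      have : Nontrivial (Subrepresentation ρ) := by
        refine ⟨⊥, ⊤, fun h => ?_⟩
        have h2 : (⊥ : Subrepresentation ρ).toSubmodule = (⊤ : Subrepresentation ρ).toSubmodule := by
          rw [h]
        have h3 : (⊥ : Submodule ℂ V) = ⊤ := h2
        exact bot_ne_top h3
      exact ⟨fun S => by
        by_cases hS : S = ⊥
        · exact Or.inl hS
        · exact Or.inr (hcon S hS)⟩
    obtain ⟨S, hS0, hS1⟩ := hex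
    have : NeZero (Nat.card G : ℂ) := ⟨by exact_mod_cast Nat.card_pos.ne'⟩
    obtain ⟨T, hT⟩ := exists_isCompl S
    have hcompl : IsCompl S.toSubmodule T.toSubmodule := by
      constructor
      · rw [disjoint_iff]
        have := hT.1
        rw [disjoint_iff] at this
        have h2 := congrArg Subrepresentation.toSubmodule this
        exact h2
      · rw [codisjoint_iff]
        have := hT.2
        rw [codisjoint_iff] at this
        have h2 := congrArg Subrepresentation.toSubmodule this
        exact h2
    rw [character_eq_add_of_isCompl S T hcompl]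
    have hSlt : Module.finrank ℂ S.toSubmodule < n := by
      rw [← hn]
      apply Submodule.finrank_lt
      intro h
      apply hS1
      apply Subrepresentation.toSubmodule_injective
      exact h
    have hTlt : Module.finrank ℂ T.toSubmodule < n := by
      rw [← hn]
      apply Submodule.finrank_lt
      intro h
      apply hS0
      have : S.toSubmodule = ⊥ := by
        have := hcompl.1
        rw [h] at this
        exact disjoint_top.mp this
      apply Subrepresentation.toSubmodule_injective
      exact this
    exact add_mem (ih _ hSlt _ S.toRepresentation rfl) (ih _ hTlt _ T.toRepresentation rfl)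

/-- Every character is a sum of irreducible characters. -/
theorem isCharacter_mem_irrSpanNat [Finite G] {χ : G → ℂ} (hχ : IsCharacter G χ) :
    χ ∈ irrSpanNat G := by
  obtain ⟨n, ρ, rfl⟩ := hχ
  exact character_mem_irrSpanNat_aux _ _ ρ rfl

theorem isCharacter_of_mem_irrSpanNat {χ : G → ℂ} (hχ : χ ∈ irrSpanNat G) :
    IsCharacter G χ := by
  induction hχ using AddSubmonoid.closure_induction with
  | mem x hx => exact isCharacter_of_isIrr hx
  | zero => exact isCharacter_zero
  | add x y _ _ hx hy => exact isCharacter_add hx hy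

theorem isCharacter_iff_mem_irrSpanNat [Finite G] {χ : G → ℂ} :
    IsCharacter G χ ↔ χ ∈ irrSpanNat G :=
  ⟨isCharacter_mem_irrSpanNat, isCharacter_of_mem_irrSpanNat⟩

end decomp

section inner
variable {G : Type u} [Group G] [Fintype G]

theorem classInner_add_left (φ₁ φ₂ ψ : G → ℂ) :
    classInner (φ₁ + φ₂) ψ = classInner φ₁ ψ + classInner φ₂ ψ := by
  simp only [classInner_def, Pi.add_apply, add_mul, Finset.sum_add_distrib, mul_add]

theorem classInner_add_right (φ ψ₁ ψ₂ : G → ℂ) :
    classInner φ (ψ₁ + ψ₂) = classInner φ ψ₁ + classInner φ ψ₂ := by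
  simp only [classInner_def, Pi.add_apply, map_add, mul_add, Finset.sum_add_distrib]

theorem classInner_smul_left (c : ℂ) (φ ψ : G → ℂ) :
    classInner (c • φ) ψ = c * classInner φ ψ := by
  simp only [classInner_def, Pi.smul_apply, smul_eq_mul, Finset.mul_sum]
  refine Finset.sum_congr rfl (fun g _ => ?_)
  ring

theorem classInner_smul_right (c : ℂ) (φ ψ : G → ℂ) :
    classInner φ (c • ψ) = conj c * classInner φ ψ := by
  simp only [classInner_def, Pi.smul_apply, smul_eq_mul, Finset.mul_sum, map_mul]
  refine Finset.sum_congr rfl (fun g _ => ?_)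
  ring

@[simp] theorem classInner_zero_left (ψ : G → ℂ) : classInner (0 : G → ℂ) ψ = 0 := by
  simp [classInner_def]

@[simp] theorem classInner_zero_right (φ : G → ℂ) : classInner φ (0 : G → ℂ) = 0 := by
  simp [classInner_def]

theorem classInner_neg_left (φ ψ : G → ℂ) : classInner (-φ) ψ = - classInner φ ψ := by
  simp [classInner_def, Finset.sum_neg_distrib]

theorem classInner_sub_left (φ₁ φ₂ ψ : G → ℂ) :
    classInner (φ₁ - φ₂) ψ = classInner φ₁ ψ - classInner φ₂ ψ := by
  rw [sub_eq_add_neg, classInner_add_left, classInner_neg_left, ← sub_eq_add_neg]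

theorem classInner_neg_right (φ ψ : G → ℂ) : classInner φ (-ψ) = - classInner φ ψ := by
  simp [classInner_def, Finset.sum_neg_distrib]

theorem classInner_sub_right (φ ψ₁ ψ₂ : G → ℂ) :
    classInner φ (ψ₁ - ψ₂) = classInner φ ψ₁ - classInner φ ψ₂ := by
  rw [sub_eq_add_neg, classInner_add_right, classInner_neg_right, ← sub_eq_add_neg]

theorem classInner_sum_left {ι : Type*} (s : Finset ι) (f : ι → G → ℂ) (ψ : G → ℂ) :
    classInner (∑ i ∈ s, f i) ψ = ∑ i ∈ s, classInner (f i) ψ := by
  classical
  induction s using Finset.induction_on with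
  | empty => simp
  | insert a s ha ih => rw [Finset.sum_insert ha, Finset.sum_insert ha, classInner_add_left, ih]

theorem classInner_sum_right {ι : Type*} (s : Finset ι) (φ : G → ℂ) (f : ι → G → ℂ) :
    classInner φ (∑ i ∈ s, f i) = ∑ i ∈ s, classInner φ (f i) := by
  classical
  induction s using Finset.induction_on with
  | empty => simp
  | insert a s ha ih => rw [Finset.sum_insert ha, Finset.sum_insert ha, classInner_add_right, ih]

theorem classInner_conj_symm (φ ψ : G → ℂ) : conj (classInner φ ψ) = classInner ψ φ := by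
  simp only [classInner_def, map_mul, map_sum, map_inv₀, Complex.conj_natCast, Complex.conj_conj]
  congr 1
  refine Finset.sum_congr rfl (fun g _ => ?_)
  ring

/-- `classInner φ φ` is the normalised sum of squared norms. -/
theorem classInner_self (φ : G → ℂ) :
    classInner φ φ = (Nat.card G : ℂ)⁻¹ * ∑ g : G, ((Complex.normSq (φ g) : ℝ) : ℂ) := by
  simp only [classInner_def, Complex.mul_conj]

theorem classInner_self_eq_zero {φ : G → ℂ} (h : classInner φ φ = 0) : φ = 0 := by
  rw [classInner_self] at h
  have hcard : (Nat.card G : ℂ)⁻¹ ≠ 0 := by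
    apply inv_ne_zero
    exact_mod_cast Nat.card_pos.ne'
  have h2 : ∑ g : G, ((Complex.normSq (φ g) : ℝ) : ℂ) = 0 := by
    rcases mul_eq_zero.mp h with h | h
    · exact absurd h hcard
    · exact h
  have h3 : ∑ g : G, Complex.normSq (φ g) = 0 := by
    exact_mod_cast h2
  ext g
  have := (Finset.sum_eq_zero_iff_of_nonneg (fun i _ => Complex.normSq_nonneg (φ i))).mp h3 g
    (Finset.mem_univ g)
  simpa using this

end inner

section irrBasis
variable {G : Type u} [Group G]

theorem irr_linearIndependent [Finite G] :
    LinearIndependent ℂ (fun χ : IrrCharacter G => (χ : G → ℂ)) := by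
  classical
  have := Fintype.ofFinite G
  rw [linearIndependent_iff']
  intro s c hc χ hχ
  have h := congrArg (fun f => classInner f (χ : G → ℂ)) hc
  simp only [classInner_sum_left, classInner_smul_left, classInner_zero_left] at h
  rw [Finset.sum_eq_single χ] at h
  · simpa [irr_inner_self] using h
  · intro ψ _ hne
    rw [irr_inner_ne hne, mul_zero]
  · intro hn; exact absurd hχ hn

theorem irr_finite [Finite G] : Finite (IrrCharacter G) := by
  have : Module.Finite ℂ (G → ℂ) := by
    have := Fintype.ofFinite G
    infer_instance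
  exact (irr_linearIndependent (G := G)).finite_of_isNoetherian

/-- A `Fintype` structure on the irreducible characters of a finite group. -/
@[instance_reducible]
noncomputable def irrFintype (G : Type u) [Group G] [Finite G] : Fintype (IrrCharacter G) :=
  have := irr_finite (G := G)
  Fintype.ofFinite _

/-- The multiplicity of an irreducible character in a character is a natural number. -/
theorem isCharacter_inner_irr_nat [Fintype G] {χ : G → ℂ} (hχ : IsCharacter G χ)
    (ψ : IrrCharacter G) : ∃ m : ℕ, classInner χ (ψ : G → ℂ) = m := by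
  classical
  have hmem := isCharacter_mem_irrSpanNat hχ
  induction hmem using AddSubmonoid.closure_induction with
  | mem x hx =>
    have := irr_orthonormal ⟨x, hx⟩ ψ
    by_cases h : (⟨x, hx⟩ : IrrCharacter G) = ψ
    · exact ⟨1, by rw [this, if_pos h]; simp⟩
    · exact ⟨0, by rw [this, if_neg h]; simp⟩
  | zero => exact ⟨0, by simp⟩
  | add x y hx hy ihx ihy =>
    obtain ⟨a, ha⟩ := ihx (isCharacter_of_mem_irrSpanNat hx)
    obtain ⟨b, hb⟩ := ihy (isCharacter_of_mem_irrSpanNat hy)
    exact ⟨a + b, by rw [classInner_add_left, ha, hb]; push_cast; ring⟩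

/-- A character is the sum of its irreducible constituents with multiplicities. -/
theorem isCharacter_eq_sum_irr [Fintype G] [Fintype (IrrCharacter G)] {χ : G → ℂ}
    (hχ : IsCharacter G χ) :
    χ = ∑ ψ : IrrCharacter G, classInner χ (ψ : G → ℂ) • (ψ : G → ℂ) := by
  classical
  have hmem := isCharacter_mem_irrSpanNat hχ
  induction hmem using AddSubmonoid.closure_induction with
  | mem x hx =>
    rw [Finset.sum_eq_single (⟨x, hx⟩ : IrrCharacter G)]
    · have := irr_inner_self (⟨x, hx⟩ : IrrCharacter G)
      simp only at this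
      rw [this]; simp
    · intro ψ _ hne
      have := irr_inner_ne (χ := (⟨x, hx⟩ : IrrCharacter G)) (ψ := ψ) hne.symm
      simp only at this
      rw [this]; simp
    · intro hn; exact absurd (Finset.mem_univ _) hn
  | zero => simp
  | add x y hx hy ihx ihy =>
    have h1 := ihx (isCharacter_of_mem_irrSpanNat hx)
    have h2 := ihy (isCharacter_of_mem_irrSpanNat hy)
    conv_lhs => rw [h1, h2]
    rw [← Finset.sum_add_distrib]
    refine Finset.sum_congr rfl (fun ψ _ => ?_)
    rw [classInner_add_left, add_smul]

end irrBasis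

end Cfsg.Agent.Helper74
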