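import Cfsg.Agent.Helper74.CharBasic

/-!
# Completeness of the irreducible characters (helper74)
-/
set_option autoImplicit false
namespace Cfsg.Agent.Helper74
open Cfsg
open scoped ComplexConjugate

universe u v
section repInduction
variable {G : Type u} [Group G]

/-- Induction principle for finite-dimensional complex representations of a finite group:
a property that holds for zero spaces and irreducible representations and is inherited from two
complementary subrepresentations holds for all representations. -/
theorem rep_induction [Finite G]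
    (P : ∀ (V : Type v) [AddCommGroup V] [Module ℂ V] [FiniteDimensional ℂ V],
      Representation ℂ G V → Prop)
    (h0 : ∀ (V : Type v) [AddCommGroup V] [Module ℂ V] [FiniteDimensional ℂ V]
      (ρ : Representation ℂ G V), Subsingleton V → P V ρ)
    (hirr : ∀ (V : Type v) [AddCommGroup V] [Module ℂ V] [FiniteDimensional ℂ V]
      (ρ : Representation ℂ G V), ρ.IsIrreducible → P V ρ)
    (hsum : ∀ (V : Type v) [AddCommGroup V] [Module ℂ V] [FiniteDimensional ℂ V]
      (ρ : Representation ℂ G V) (S T : Subrepresentation ρ),
      IsCompl S.toSubmodule T.toSubmodule → P S.toSubmodule S.toRepresentation →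
      P T.toSubmodule T.toRepresentation → P V ρ)
    (V : Type v) [AddCommGroup V] [Module ℂ V] [FiniteDimensional ℂ V]
    (ρ : Representation ℂ G V) : P V ρ := by
  suffices H : ∀ (n : ℕ) (V : Type v) [AddCommGroup V] [Module ℂ V] [FiniteDimensional ℂ V]
      (ρ : Representation ℂ G V), Module.finrank ℂ V = n → P V ρ from H _ V ρ rfl
  intro n
  induction n using Nat.strong_induction_on with
  | _ n ih =>
    intro V _ _ _ ρ hn
    by_cases hirr' : ρ.IsIrreducible
    · exact hirr V ρ hirr'
    by_cases htriv : Subsingleton V
    · exact h0 V ρ htriv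
    rw [not_subsingleton_iff_nontrivial] at htriv
    have hex : ∃ S : Subrepresentation ρ, S ≠ ⊥ ∧ S ≠ ⊤ := by
      by_contra hcon
      push Not at hcon
      apply hirr'
      have : Nontrivial (Subrepresentation ρ) := by
        refine ⟨⊥, ⊤, fun h => ?_⟩
        have h2 : (⊥ : Subrepresentation ρ).toSubmodule = (⊤ : Subrepresentation ρ).toSubmodule := by
          rw [h]
        have h3 : (⊥ : Submodule ℂ V) = ⊤ := h2
        exact bot_ne_top h3
      exact ⟨fun S => by
        by_cases hS : S = ⊥
        · exact Or.inl hS
        · exact Or.inr (hcon S hS)⟩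
    obtain ⟨S, hS0, hS1⟩ := hex
    have : NeZero (Nat.card G : ℂ) := ⟨by exact_mod_cast Nat.card_pos.ne'⟩
    obtain ⟨T, hT⟩ := exists_isCompl S
    have hcompl : IsCompl S.toSubmodule T.toSubmodule := by
      constructor
      · rw [disjoint_iff]
        have := hT.1
        rw [disjoint_iff] at this
        exact congrArg Subrepresentation.toSubmodule this
      · rw [codisjoint_iff]
        have := hT.2
        rw [codisjoint_iff] at this
        exact congrArg Subrepresentation.toSubmodule this
    have hSlt : Module.finrank ℂ S.toSubmodule < n := by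
      rw [← hn]
      apply Submodule.finrank_lt
      intro h
      exact hS1 (Subrepresentation.toSubmodule_injective h)
    have hTlt : Module.finrank ℂ T.toSubmodule < n := by
      rw [← hn]
      apply Submodule.finrank_lt
      intro h
      apply hS0
      have : S.toSubmodule = ⊥ := by
        have := hcompl.1
        rw [h] at this
        exact disjoint_top.mp this
      exact Subrepresentation.toSubmodule_injective this
    exact hsum V ρ S T hcompl (ih _ hSlt _ S.toRepresentation rfl)
      (ih _ hTlt _ T.toRepresentation rfl)

end repInduction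

section classOp
variable {G : Type u} [Group G] [Fintype G]
variable {V : Type v} [AddCommGroup V] [Module ℂ V]

/-- The operator `∑ g, f g • ρ g` attached to a function `f` on `G`. -/
noncomputable def classOp (f : G → ℂ) (ρ : Representation ℂ G V) : V →ₗ[ℂ] V :=
  ∑ g : G, f g • ρ g

theorem classOp_apply (f : G → ℂ) (ρ : Representation ℂ G V) (v : V) :
    classOp f ρ v = ∑ g : G, f g • ρ g v := by
  simp [classOp, LinearMap.sum_apply]

theorem classOp_comm {f : G → ℂ} (hf : IsClassFunction G f) (ρ : Representation ℂ G V) (h : G) :
    classOp f ρ ∘ₗ ρ h = ρ h ∘ₗ classOp f ρ := by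
  ext v
  simp only [LinearMap.comp_apply, classOp_apply, map_sum, map_smul]
  refine Fintype.sum_equiv (MulAut.conj h⁻¹).toEquiv _ _ (fun g => ?_)
  simp only [MulEquiv.toEquiv_eq_coe, MulEquiv.coe_toEquiv, MulAut.conj_apply]
  rw [hf g h⁻¹]
  congr 1
  rw [← Module.End.mul_apply, ← map_mul, ← Module.End.mul_apply, ← map_mul]
  congr 2
  group

/-- `classOp` as an intertwining map. -/
noncomputable def classOpIntertwining {f : G → ℂ} (hf : IsClassFunction G f)
    (ρ : Representation ℂ G V) : Representation.IntertwiningMap ρ ρ :=
  ⟨classOp f ρ, fun h => classOp_comm hf ρ h⟩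

theorem trace_classOp [FiniteDimensional ℂ V] (f : G → ℂ) (ρ : Representation ℂ G V) :
    LinearMap.trace ℂ V (classOp f ρ) = ∑ g : G, f g * ρ.character g := by
  simp [classOp, map_sum, Representation.character]

end classOp
section schur
variable {G : Type u} [Group G]
variable {V : Type v} [AddCommGroup V] [Module ℂ V]

/-- Schur's lemma: an intertwining endomorphism of an irreducible representation is scalar. -/
theorem schur_scalar [FiniteDimensional ℂ V] (ρ : Representation ℂ G V) (hρ : ρ.IsIrreducible)
    (T : Representation.IntertwiningMap ρ ρ) : ∃ c : ℂ, T.toLinearMap = c • LinearMap.id := by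
  have := hρ
  obtain ⟨c, hc⟩ :=
    (Representation.IsIrreducible.algebraMap_intertwiningMap_bijective_of_isAlgClosed
      (ρ := ρ)).2 T
  refine ⟨c, ?_⟩
  rw [← hc]
  rfl

theorem nontrivial_of_isIrreducible (ρ : Representation ℂ G V) (hρ : ρ.IsIrreducible) :
    Nontrivial V := by
  by_contra h
  rw [not_nontrivial_iff_subsingleton] at h
  have h1 : (⊥ : Subrepresentation ρ) = ⊤ := by
    apply Subrepresentation.toSubmodule_injective
    exact Subsingleton.elim _ _
  exact bot_ne_top h1

end schur

section classFunctions
variable {G : Type u} [Group G]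

theorem isClassFunction_conj {f : G → ℂ} (hf : IsClassFunction G f) :
    IsClassFunction G (fun g => conj (f g)) := fun g h => by
  simp only [hf g h]

theorem isClassFunction_add {f₁ f₂ : G → ℂ} (h₁ : IsClassFunction G f₁)
    (h₂ : IsClassFunction G f₂) : IsClassFunction G (f₁ + f₂) := fun g h => by
  simp [h₁ g h, h₂ g h]

theorem isClassFunction_sub {f₁ f₂ : G → ℂ} (h₁ : IsClassFunction G f₁)
    (h₂ : IsClassFunction G f₂) : IsClassFunction G (f₁ - f₂) := fun g h => by
  simp [h₁ g h, h₂ g h]

theorem isClassFunction_smul (c : ℂ) {f : G → ℂ} (hf : IsClassFunction G f) :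
    IsClassFunction G (c • f) := fun g h => by
  simp [hf g h]

theorem isClassFunction_zero : IsClassFunction G (0 : G → ℂ) := fun _ _ => rfl

theorem isClassFunction_sum {ι : Type*} (s : Finset ι) {f : ι → G → ℂ}
    (hf : ∀ i ∈ s, IsClassFunction G (f i)) : IsClassFunction G (∑ i ∈ s, f i) := fun g h => by
  simp only [Finset.sum_apply]
  exact Finset.sum_congr rfl (fun i hi => hf i hi g h)

theorem irr_isClassFunction (χ : IrrCharacter G) : IsClassFunction G (χ : G → ℂ) :=
  isClassFunction_of_isCharacter (irr_isCharacter χ)

/-- The right regular representation on functions `G → ℂ`. -/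
noncomputable def funRep (G : Type u) [Group G] : Representation ℂ G (G → ℂ) where
  toFun g :=
    { toFun := fun φ x => φ (x * g)
      map_add' := fun _ _ => rfl
      map_smul' := fun _ _ => rfl }
  map_one' := by ext φ x; simp
  map_mul' g h := by ext φ x; simp [mul_assoc]

@[simp] theorem funRep_apply (g : G) (φ : G → ℂ) (x : G) : funRep G g φ x = φ (x * g) := rfl

end classFunctions

section complete
variable {G : Type u} [Group G] [Fintype G]

theorem classOp_eq_zero_of_orth {f : G → ℂ} (hf : IsClassFunction G f)
    (horth : ∀ χ : IrrCharacter G, ∑ g : G, f g * (χ : G → ℂ) g = 0)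
    (V : Type v) [AddCommGroup V] [Module ℂ V] [FiniteDimensional ℂ V]
    (ρ : Representation ℂ G V) : classOp f ρ = 0 := by
  refine rep_induction (G := G)
    (fun V _ _ _ ρ => classOp f ρ = 0) ?_ ?_ ?_ V ρ
  · intro V _ _ _ ρ hV
    ext v
    exact Subsingleton.elim _ _
  · intro V _ _ _ ρ hρ
    obtain ⟨c, hc⟩ := schur_scalar ρ hρ (classOpIntertwining hf ρ)
    have hc' : classOp f ρ = c • LinearMap.id := hc
    have htr := trace_classOp f ρ
    rw [horth ⟨ρ.character, isIrrCharacter_of_rep ρ hρ⟩, hc'] at htr
    simp only [map_smul, LinearMap.trace_id, smul_eq_mul] at htr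
    have hnt := nontrivial_of_isIrreducible ρ hρ
    have hfr : (Module.finrank ℂ V : ℂ) ≠ 0 := by
      exact_mod_cast (Module.finrank_pos (R := ℂ) (M := V)).ne'
    have hc0 : c = 0 := by
      rcases mul_eq_zero.mp htr with h | h
      · exact h
      · exact absurd h hfr
    rw [hc', hc0, zero_smul]
  · intro V _ _ _ ρ S T hST hS hT
    ext v
    obtain ⟨s, t, rfl⟩ : ∃ s : S.toSubmodule, ∃ t : T.toSubmodule, (s : V) + (t : V) = v := by
      have hv : v ∈ S.toSubmodule ⊔ T.toSubmodule := by
        rw [hST.sup_eq_top]; trivial
      obtain ⟨s, hs, t, ht, rfl⟩ := Submodule.mem_sup.mp hv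
      exact ⟨⟨s, hs⟩, ⟨t, ht⟩, rfl⟩
    have h1 : classOp f ρ (s : V) = ((classOp f S.toRepresentation s : S.toSubmodule) : V) := by
      simp [classOp_apply, Subrepresentation.toRepresentation]
    have h2 : classOp f ρ (t : V) = ((classOp f T.toRepresentation t : T.toSubmodule) : V) := by
      simp [classOp_apply, Subrepresentation.toRepresentation]
    rw [map_add, h1, h2, hS, hT]
    simp

/-- A class function orthogonal (bilinearly) to all irreducible characters vanishes. -/
theorem classFunction_eq_zero_of_orth' {f : G → ℂ} (hf : IsClassFunction G f)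
    (horth : ∀ χ : IrrCharacter G, ∑ g : G, f g * (χ : G → ℂ) g = 0) : f = 0 := by
  classical
  have h := classOp_eq_zero_of_orth hf horth (G → ℂ) (funRep G)
  ext x
  have h2 := congrFun (congrArg (fun T => T (Pi.single 1 1)) h) x⁻¹
  simp only [classOp_apply, Finset.sum_apply, Pi.smul_apply, funRep_apply, smul_eq_mul,
    LinearMap.zero_apply, Pi.zero_apply] at h2
  rw [Finset.sum_eq_single x] at h2
  · simpa using h2
  · intro g _ hg
    have : x⁻¹ * g ≠ 1 := by
      intro h3
      apply hg
      have := eq_inv_of_mul_eq_one_right h3
      simpa using this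
    simp [this]
  · intro hn; exact absurd (Finset.mem_univ _) hn

/-- A class function orthogonal to all irreducible characters vanishes. -/
theorem classFunction_eq_zero_of_orth {f : G → ℂ} (hf : IsClassFunction G f)
    (horth : ∀ χ : IrrCharacter G, classInner f (χ : G → ℂ) = 0) : f = 0 := by
  have hcard : (Nat.card G : ℂ)⁻¹ ≠ 0 := by
    apply inv_ne_zero
    exact_mod_cast Nat.card_pos.ne'
  have h := classFunction_eq_zero_of_orth' (isClassFunction_conj hf) (fun χ => by
    have h1 := horth χ
    rw [classInner_def] at h1
    have h2 : ∑ g : G, f g * conj ((χ : G → ℂ) g) = 0 := by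
      rcases mul_eq_zero.mp h1 with h | h
      · exact absurd h hcard
      · exact h
    have h3 := congrArg conj h2
    simpa [map_sum] using h3)
  ext g
  have := congrFun h g
  simpa using this

/-- Every class function is the combination of the irreducible characters given by the
inner products. -/
theorem classFunction_eq_sum_irr [Fintype (IrrCharacter G)] {f : G → ℂ}
    (hf : IsClassFunction G f) :
    f = ∑ ψ : IrrCharacter G, classInner f (ψ : G → ℂ) • (ψ : G → ℂ) := by
  classical
  have hsum : IsClassFunction G (∑ ψ : IrrCharacter G, classInner f (ψ : G → ℂ) • (ψ : G → ℂ)) :=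
    isClassFunction_sum _ (fun ψ _ => isClassFunction_smul _ (irr_isClassFunction ψ))
  have h := classFunction_eq_zero_of_orth (isClassFunction_sub hf hsum) (fun χ => by
    rw [classInner_sub_left, classInner_sum_left]
    simp only [classInner_smul_left]
    rw [Finset.sum_eq_single χ]
    · rw [irr_inner_self]; ring
    · intro ψ _ hne
      rw [irr_inner_ne hne]; ring
    · intro hn; exact absurd (Finset.mem_univ _) hn)
  exact sub_eq_zero.mp h

end complete

end Cfsg.Agent.Helper74
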