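import Cfsg.Agent.Helper74.FrobSchur

/-!
# Frobenius-Schur trichotomy, counting square roots (helper74)
-/
set_option autoImplicit false
namespace Cfsg.Agent.Helper74
open Cfsg
open scoped ComplexConjugate Matrix

universe u

section trichotomy
variable {G : Type u} [Group G] [Fintype G] {n : ℕ} {ρ : Representation ℂ G (Fin n → ℂ)}

omit [Fintype G] in
/-- An invertible invariant form forces `χ(g⁻¹) = χ(g)`. -/
theorem IsInvForm.char_inv_eq {M : Matrix (Fin n) (Fin n) ℂ} (hM : IsInvForm ρ M)
    (hu : IsUnit M) (g : G) : ρ.character g⁻¹ = ρ.character g := by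
  have hdet : IsUnit M.det := (Matrix.isUnit_iff_isUnit_det M).mp hu
  have h := hM.repMat_mul_inv' hu g
  -- X(g⁻¹)ᵀ = M X(g) M⁻¹
  have h2 : (repMat ρ g⁻¹)ᵀ = M * repMat ρ g * M⁻¹ := by
    rw [Matrix.mul_assoc, h, ← Matrix.mul_assoc, Matrix.mul_nonsing_inv M hdet, Matrix.one_mul]
  rw [character_eq_trace_repMat, character_eq_trace_repMat, ← Matrix.trace_transpose, h2,
    Matrix.trace_mul_comm, ← Matrix.mul_assoc, Matrix.nonsing_inv_mul M hdet, Matrix.one_mul]

theorem IsInvForm.char_real {M : Matrix (Fin n) (Fin n) ℂ} (hM : IsInvForm ρ M)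
    (hu : IsUnit M) (g : G) : (ρ.character g).im = 0 := by
  have h1 := hM.char_inv_eq hu g
  rw [char_inv_rep] at h1
  exact Complex.conj_eq_iff_im.mp h1

/-- Frobenius–Schur trichotomy at the level of representations. -/
theorem fsInd_cases (hρ : ρ.IsIrreducible) :
    fsInd ρ = 0 ∨ ((fsInd ρ = 1 ∨ fsInd ρ = -1) ∧ ∀ g : G, (ρ.character g).im = 0) := by
  by_cases hex : ∃ M : Matrix (Fin n) (Fin n) ℂ, M ≠ 0 ∧ IsInvForm ρ M
  · right
    obtain ⟨M, hM0, hM⟩ := hex
    have hu := hM.isUnit hρ hM0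
    obtain ⟨c, hc⟩ := hM.eq_smul hρ hu hM.transpose
    have hfs := fsInd_eq_of_transpose hρ hM hu hc
    refine ⟨?_, hM.char_real hu⟩
    have h2 : M = (c * c) • M := by
      have := congrArg Matrix.transpose hc
      rw [Matrix.transpose_transpose, Matrix.transpose_smul, hc, smul_smul] at this
      exact this
    have h3 : c * c = 1 := by
      by_contra hne
      apply hM0
      have h4 : (1 - c * c) • M = 0 := by
        rw [sub_smul, one_smul, ← h2, sub_self]
      rcases smul_eq_zero.mp h4 with h5 | h5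
      · exact absurd (sub_eq_zero.mp h5).symm hne
      · exact h5
    rw [hfs]
    have : (c - 1) * (c + 1) = 0 := by ring_nf; rw [sq, h3]; ring
    rcases mul_eq_zero.mp this with h | h
    · left; exact sub_eq_zero.mp h
    · right; exact eq_neg_of_add_eq_zero_left h
  · left
    push Not at hex
    have h0 : ∀ A, avgForm ρ A = 0 := by
      intro A
      by_contra hA
      exact hex _ hA (avgForm_isInvForm ρ A)
    rw [fsInd_eq_sum_avgForm]
    simp [h0]

end trichotomy

section fsIndF
variable {G : Type u} [Group G] [Fintype G]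

/-- The Frobenius–Schur indicator of a function on `G`. -/
noncomputable def fsIndF (χ : G → ℂ) : ℂ := (Nat.card G : ℂ)⁻¹ * ∑ g : G, χ (g * g)

theorem fsIndF_character {n : ℕ} (ρ : Representation ℂ G (Fin n → ℂ)) :
    fsIndF ρ.character = fsInd ρ := rfl

/-- Frobenius–Schur trichotomy for irreducible characters. -/
theorem fsIndF_cases (χ : IrrCharacter G) :
    fsIndF (χ : G → ℂ) = 0 ∨
      ((fsIndF (χ : G → ℂ) = 1 ∨ fsIndF (χ : G → ℂ) = -1) ∧ ∀ g : G, ((χ : G → ℂ) g).im = 0) := by
  obtain ⟨n, ρ, hρ, hχ⟩ := χ.2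
  rw [← hχ, fsIndF_character]
  exact fsInd_cases hρ

theorem fsIndF_conj (χ : IrrCharacter G) : conj (fsIndF (χ : G → ℂ)) = fsIndF (χ : G → ℂ) := by
  rcases fsIndF_cases χ with h | ⟨h | h, _⟩ <;> rw [h] <;> simp

/-- The number of square roots of `g`. -/
noncomputable def sqrtCount (g : G) : ℂ := (Nat.card {u : G // u * u = g} : ℂ)

omit [Fintype G] in
theorem sqrtCount_isClassFunction : IsClassFunction G (sqrtCount (G := G)) := by
  intro g h
  unfold sqrtCount
  congr 1
  apply Nat.card_congr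
  refine ⟨fun u => ⟨h⁻¹ * u.1 * h, ?_⟩, fun u => ⟨h * u.1 * h⁻¹, ?_⟩, ?_, ?_⟩
  · have := u.2
    calc h⁻¹ * u.1 * h * (h⁻¹ * u.1 * h) = h⁻¹ * (u.1 * u.1) * h := by group
      _ = g := by rw [this]; group
  · have := u.2
    calc h * u.1 * h⁻¹ * (h * u.1 * h⁻¹) = h * (u.1 * u.1) * h⁻¹ := by group
      _ = h * g * h⁻¹ := by rw [this]
  · intro u; ext; simp; group
  · intro u; ext; simp; group

theorem sum_sqrtCount_mul (f : G → ℂ) :
    ∑ g : G, sqrtCount g * f g = ∑ u : G, f (u * u) := by
  classical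
  rw [← Finset.sum_fiberwise (s := Finset.univ) (g := fun u : G => u * u) (f := fun u => f (u * u))]
  refine Finset.sum_congr rfl (fun g _ => ?_)
  have : ∀ u ∈ Finset.univ.filter (fun u : G => u * u = g), f (u * u) = f g := by
    intro u hu
    rw [(Finset.mem_filter.mp hu).2]
  rw [Finset.sum_congr rfl this, Finset.sum_const, nsmul_eq_mul]
  unfold sqrtCount
  congr 2
  rw [Nat.card_eq_fintype_card, Fintype.card_subtype]

theorem classInner_sqrtCount (χ : IrrCharacter G) :
    classInner (sqrtCount (G := G)) (χ : G → ℂ) = fsIndF (χ : G → ℂ) := by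
  rw [classInner_def, sum_sqrtCount_mul (fun g => conj ((χ : G → ℂ) g)), ← fsIndF_conj χ]
  unfold fsIndF
  simp [map_sum]

/-- The number of square roots of `g` is `∑ ν(χ) χ(g)`. -/
theorem sqrtCount_eq_sum [Fintype (IrrCharacter G)] (g : G) :
    sqrtCount g = ∑ χ : IrrCharacter G, fsIndF (χ : G → ℂ) * (χ : G → ℂ) g := by
  have h := congrFun (classFunction_eq_sum_irr (sqrtCount_isClassFunction (G := G))) g
  simp only [Finset.sum_apply, Pi.smul_apply, smul_eq_mul, classInner_sqrtCount] at h
  exact h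

end fsIndF
section normOne
variable {G : Type u} [Group G] [Fintype G]

/-- The norm of a character is the sum of squares of its multiplicities. -/
theorem classInner_self_eq_sum_sq [Fintype (IrrCharacter G)] {χ : G → ℂ} (hχ : IsCharacter G χ) :
    classInner χ χ = ∑ ψ : IrrCharacter G, classInner χ (ψ : G → ℂ) * classInner χ (ψ : G → ℂ) := by
  conv_lhs => rw [isCharacter_eq_sum_irr hχ]
  rw [classInner_sum_left]
  refine Finset.sum_congr rfl (fun ψ _ => ?_)
  rw [classInner_smul_left]
  congr 1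
  rw [← isCharacter_eq_sum_irr hχ, ← classInner_conj_symm]
  obtain ⟨m, hm⟩ := isCharacter_inner_irr_nat hχ ψ
  rw [hm]; simp

/-- A character of norm one is irreducible. -/
theorem isIrrCharacter_of_norm_one {χ : G → ℂ} (hχ : IsCharacter G χ)
    (h : classInner χ χ = 1) : IsIrrCharacter G χ := by
  classical
  have := irrFintype G
  choose m hm using fun ψ => isCharacter_inner_irr_nat hχ ψ
  have hsum : ∑ ψ : IrrCharacter G, m ψ * m ψ = 1 := by
    have h1 := classInner_self_eq_sum_sq hχ
    rw [h] at h1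
    simp only [hm] at h1
    exact_mod_cast h1.symm
  have hex : ∃ ψ₀, m ψ₀ ≠ 0 := by
    by_contra hcon
    push Not at hcon
    simp [hcon] at hsum
  obtain ⟨ψ₀, hψ₀⟩ := hex
  have hle : m ψ₀ * m ψ₀ ≤ 1 := by
    rw [← hsum]
    exact Finset.single_le_sum (f := fun ψ => m ψ * m ψ) (fun _ _ => Nat.zero_le _)
      (Finset.mem_univ ψ₀)
  have h1 : m ψ₀ = 1 := by
    have : m ψ₀ ≤ 1 := by nlinarith [Nat.pos_of_ne_zero hψ₀]
    omega
  have hothers : ∀ ψ, ψ ≠ ψ₀ → m ψ = 0 := by
    intro ψ hne
    by_contra h0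
    have h2 : m ψ₀ * m ψ₀ + m ψ * m ψ ≤ 1 := by
      rw [← hsum]
      have := Finset.sum_le_sum_of_subset (f := fun ψ => m ψ * m ψ)
        (Finset.subset_univ ({ψ₀, ψ} : Finset (IrrCharacter G)))
      rw [Finset.sum_pair hne.symm] at this
      exact this
    have : 0 < m ψ * m ψ := Nat.mul_pos (Nat.pos_of_ne_zero h0) (Nat.pos_of_ne_zero h0)
    rw [h1] at h2
    omega
  have hχeq : χ = (ψ₀ : G → ℂ) := by
    rw [isCharacter_eq_sum_irr hχ, Finset.sum_eq_single ψ₀]
    · rw [hm, h1]; simp
    · intro ψ _ hne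
      rw [hm, hothers ψ hne]; simp
    · intro hn; exact absurd (Finset.mem_univ _) hn
  rw [hχeq]
  exact ψ₀.2

theorem classInner_conj_conj (φ ψ : G → ℂ) :
    classInner (fun g => conj (φ g)) (fun g => conj (ψ g)) = conj (classInner φ ψ) := by
  simp only [classInner_def, map_mul, map_sum, map_inv₀, Complex.conj_natCast]

/-- The complex conjugate of an irreducible character. -/
noncomputable def irrConj (χ : IrrCharacter G) : IrrCharacter G :=
  ⟨fun g => conj ((χ : G → ℂ) g), isIrrCharacter_of_norm_one (isCharacter_conj (irr_isCharacter χ))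
    (by rw [classInner_conj_conj, irr_inner_self]; simp)⟩

@[simp] theorem irrConj_apply (χ : IrrCharacter G) (g : G) :
    (irrConj χ : G → ℂ) g = conj ((χ : G → ℂ) g) := rfl

theorem irrConj_eq_self_iff (χ : IrrCharacter G) :
    irrConj χ = χ ↔ ∀ g : G, ((χ : G → ℂ) g).im = 0 := by
  rw [Subtype.ext_iff]
  constructor
  · intro h g
    have := congrFun h g
    rw [irrConj_apply] at this
    exact Complex.conj_eq_iff_im.mp this
  · intro h
    ext g
    rw [irrConj_apply]
    exact Complex.conj_eq_iff_im.mpr (h g)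

/-- `∑ g, χ(g)² = |G|` if `χ` is real and `0` otherwise. -/
theorem sum_irr_sq (χ : IrrCharacter G) [Decidable (∀ g : G, ((χ : G → ℂ) g).im = 0)] :
    ∑ g : G, (χ : G → ℂ) g * (χ : G → ℂ) g =
      if ∀ g : G, ((χ : G → ℂ) g).im = 0 then (Nat.card G : ℂ) else 0 := by
  classical
  have hG : (Nat.card G : ℂ) ≠ 0 := by exact_mod_cast Nat.card_pos.ne'
  have h1 : classInner (χ : G → ℂ) (irrConj χ : G → ℂ) =
      (Nat.card G : ℂ)⁻¹ * ∑ g : G, (χ : G → ℂ) g * (χ : G → ℂ) g := by
    rw [classInner_def]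
    simp
  have h2 := irr_orthonormal χ (irrConj χ)
  rw [h1] at h2
  have h3 : ∑ g : G, (χ : G → ℂ) g * (χ : G → ℂ) g =
      (Nat.card G : ℂ) * (if χ = irrConj χ then 1 else 0) := by
    rw [← h2, ← mul_assoc, mul_inv_cancel₀ hG, one_mul]
  rw [h3]
  have hiff : χ = irrConj χ ↔ ∀ g : G, ((χ : G → ℂ) g).im = 0 := by
    rw [eq_comm]; exact irrConj_eq_self_iff χ
  by_cases h : ∀ g : G, ((χ : G → ℂ) g).im = 0
  · rw [if_pos (hiff.mpr h), if_pos h, mul_one]
  · rw [if_neg (fun h' => h (hiff.mp h')), if_neg h, mul_zero]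

/-- Counting real characters against real elements. -/
theorem sum_real_elements_centralizer [Fintype (IrrCharacter G)]
    [DecidablePred (fun g : G => IsConj g g⁻¹)]
    [DecidablePred (fun χ : IrrCharacter G => ∀ g : G, ((χ : G → ℂ) g).im = 0)] :
    ∑ g : G, (if IsConj g g⁻¹ then (Nat.card (Subgroup.centralizer ({g} : Set G)) : ℂ) else 0) =
      (Nat.card G : ℂ) *
        ((Finset.univ.filter (fun χ : IrrCharacter G => ∀ g : G, ((χ : G → ℂ) g).im = 0)).card : ℂ)
    := by
  classical
  have h1 : ∀ g : G, (if IsConj g g⁻¹ then (Nat.card (Subgroup.centralizer ({g} : Set G)) : ℂ)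
      else 0) = ∑ χ : IrrCharacter G, (χ : G → ℂ) g * (χ : G → ℂ) g := by
    intro g
    have h := second_orthogonality (G := G) g⁻¹ g
    have h2 : ∀ χ : IrrCharacter G, (χ : G → ℂ) g⁻¹ * conj ((χ : G → ℂ) g) =
        conj ((χ : G → ℂ) g * (χ : G → ℂ) g) := by
      intro χ
      rw [char_inv (irr_isCharacter χ), map_mul]
    simp only [h2] at h
    rw [← map_sum] at h
    have h3 := congrArg conj h
    rw [Complex.conj_conj] at h3
    rw [h3]
    have hiff : IsConj g⁻¹ g ↔ IsConj g g⁻¹ := ⟨IsConj.symm, IsConj.symm⟩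
    by_cases hc : IsConj g g⁻¹
    · rw [if_pos hc, if_pos (hiff.mpr hc)]; simp
    · rw [if_neg hc, if_neg (fun h' => hc (hiff.mp h'))]; simp
  simp only [h1]
  rw [Finset.sum_comm]
  simp only [sum_irr_sq]
  rw [← Finset.sum_filter, Finset.sum_const, nsmul_eq_mul, mul_comm]

end normOne
section involutions
variable {G : Type u} [Group G] [Fintype G]

/-- The trivial character as an irreducible character. -/
noncomputable def irrTriv (G : Type u) [Group G] [Fintype G] : IrrCharacter G :=
  ⟨fun _ => 1, isIrrCharacter_of_norm_one isCharacter_one (by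
    rw [classInner_def]
    simp)⟩

@[simp] theorem irrTriv_apply (g : G) : (irrTriv G : G → ℂ) g = 1 := rfl

theorem fsIndF_irrTriv : fsIndF (irrTriv G : G → ℂ) = 1 := by
  unfold fsIndF
  simp

theorem card_sq_eq_one :
    Nat.card {u : G // u * u = 1} = 1 + Nat.card {x : G // orderOf x = 2} := by
  classical
  rw [Nat.card_eq_fintype_card, Nat.card_eq_fintype_card, Fintype.card_subtype,
    Fintype.card_subtype]
  have h : Finset.univ.filter (fun u : G => u * u = 1) =
      insert 1 (Finset.univ.filter (fun x : G => orderOf x = 2)) := by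
    ext u
    simp only [Finset.mem_filter, Finset.mem_univ, true_and, Finset.mem_insert]
    constructor
    · intro hu
      by_cases h1 : u = 1
      · exact Or.inl h1
      · right
        rw [← sq] at hu
        exact orderOf_eq_prime hu h1
    · rintro (h1 | h2)
      · rw [h1, mul_one]
      · rw [← sq, ← h2]; exact pow_orderOf_eq_one u
  rw [h, Finset.card_insert_of_notMem, add_comm]
  simp

theorem one_add_involutions_eq_sum [Fintype (IrrCharacter G)] :
    ((1 + Nat.card {x : G // orderOf x = 2} : ℕ) : ℂ) =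
      ∑ χ : IrrCharacter G, fsIndF (χ : G → ℂ) * (χ : G → ℂ) 1 := by
  rw [← sqrtCount_eq_sum, sqrtCount, card_sq_eq_one]

end involutions
end Cfsg.Agent.Helper74
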