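import Cfsg.Agent.Helper74.FSCount
import Cfsg.Agent.Helper77.HS
import Cfsg.Agent.Helper78.LocalRing
import Cfsg.Agent.Helper80.CharLevel
import Cfsg.Agent.Helper80.Integrality

/-!
# Characters of defect zero vanish on `p`-singular elements

* `exists_isPModular`: every prime has a modular maximal ideal of the algebraic integers.
* `irr_conv`: generalized orthogonality `∑ a, χ(a) χ(a⁻¹ w) = (|G| / χ(1)) χ(w)`.
* `irr_eq_zero_of_defect_zero`: if the full power of `p` dividing `|G|` divides `χ(1)`, then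
  `χ` vanishes on elements of order divisible by `p` (through helper77's Hattori–Stallings
  vanishing applied to the central idempotent of `χ`).
-/

set_option autoImplicit false

namespace Cfsg.Agent.Helper74

open Cfsg
open scoped ComplexConjugate

universe u

/-- Every prime has a modular maximal ideal in the ring of algebraic integers. -/
theorem exists_isPModular (p : ℕ) (hp : p.Prime) : ∃ M : Ideal AlgInt, IsPModular p M := by
  have hne : Ideal.span {(p : AlgInt)} ≠ ⊤ := by
    intro h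
    rw [Ideal.span_singleton_eq_top] at h
    obtain ⟨a, ha⟩ := h.exists_right_inv
    have h1 : (p : ℂ) * (a : ℂ) = 1 := by
      have := congrArg (fun z : AlgInt => (z : ℂ)) ha
      simpa using this
    have hp0 : (p : ℂ) ≠ 0 := by exact_mod_cast hp.ne_zero
    have h2 : (a : ℂ) = (1 : ℕ) / (p : ℂ) := by
      field_simp
      rw [mul_comm]; simpa using h1
    have h3 : IsIntegral ℤ (((1 : ℕ) : ℂ) / (p : ℂ)) := h2 ▸ a.2
    have := Cfsg.Agent.Helper80.dvd_of_isIntegral_div hp.ne_zero h3
    exact hp.one_lt.ne' (Nat.dvd_one.mp this)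
  obtain ⟨M, hM, hle⟩ := Ideal.exists_le_maximal _ hne
  exact ⟨M, hp, hM, hle (Ideal.subset_span (Set.mem_singleton _))⟩


section conv
variable {G : Type u} [Group G] [Fintype G]

/-- Generalized orthogonality: `∑ a, χ(a) χ(a⁻¹ w) = (|G| / χ(1)) χ(w)`. -/
theorem irr_conv (χ : IrrCharacter G) (w : G) :
    ∑ a : G, (χ : G → ℂ) a * (χ : G → ℂ) (a⁻¹ * w) =
      (Nat.card G : ℂ) / (χ : G → ℂ) 1 * (χ : G → ℂ) w := by
  classical
  have hG : (Nat.card G : ℂ) ≠ 0 := by exact_mod_cast Nat.card_pos.ne'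
  have hnorm := irr_inner_self χ
  have hχc := irr_isCharacter χ
  obtain ⟨χf, n, ρ, hρ, rfl⟩ := χ
  simp only at hnorm hχc ⊢
  set f : G → ℂ := fun g => ρ.character g⁻¹ with hf
  have hfcl : IsClassFunction G f := by
    intro g h
    simp only [hf]
    rw [show (h * g * h⁻¹)⁻¹ = h * g⁻¹ * h⁻¹ by group]
    exact Representation.char_conj ρ g⁻¹ h
  obtain ⟨c, hc⟩ := schur_scalar ρ hρ (classOpIntertwining hfcl ρ)
  have hc' : classOp f ρ = c • LinearMap.id := hc
  have hn0 : (n : ℂ) ≠ 0 := finrank_pos_of_irr hρ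
  have h1 : ρ.character 1 = n := by
    rw [Representation.char_one]; simp
  -- the scalar
  have hsum : ∑ g : G, f g * ρ.character g = (Nat.card G : ℂ) := by
    rw [classInner_def] at hnorm
    have : ∑ g : G, f g * ρ.character g = ∑ g : G, ρ.character g * conj (ρ.character g) := by
      refine Finset.sum_congr rfl (fun g _ => ?_)
      simp only [hf]
      rw [char_inv hχc g, mul_comm]
    rw [this]
    field_simp at hnorm
    exact hnorm
  have hcval : c * n = (Nat.card G : ℂ) := by
    have htr := trace_classOp f ρ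
    rw [hsum, hc'] at htr
    simpa using htr
  -- multiply by ρ w and take traces
  have h2 : LinearMap.trace ℂ _ (classOp f ρ * ρ w) = ∑ g : G, f g * ρ.character (g * w) := by
    unfold classOp
    rw [Finset.sum_mul, map_sum]
    refine Finset.sum_congr rfl (fun g _ => ?_)
    rw [smul_mul_assoc, map_smul, smul_eq_mul, ← map_mul]
    rfl
  rw [hc'] at h2
  have h3 : LinearMap.trace ℂ _ ((c • LinearMap.id : Module.End ℂ (Fin n → ℂ)) * ρ w) =
      c * ρ.character w := by
    rw [smul_mul_assoc, map_smul, smul_eq_mul]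
    rfl
  rw [h3] at h2
  have h4 : ∑ a : G, ρ.character a * ρ.character (a⁻¹ * w) =
      ∑ g : G, f g * ρ.character (g * w) := by
    refine Fintype.sum_equiv (Equiv.inv G) _ _ (fun a => ?_)
    simp [hf]
  rw [h4, ← h2, h1]
  have : c = (Nat.card G : ℂ) / n := by
    field_simp
    exact hcval
  rw [this]

/-- An irreducible character of `p`-defect zero vanishes on `p`-singular elements. -/
theorem irr_eq_zero_of_defect_zero (χ : IrrCharacter G) {p : ℕ} (hp : p.Prime)
    (hdiv : p ^ (Nat.card G).factorization p ∣ charDegree (χ : G → ℂ)) (y : G)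
    (hy : p ∣ orderOf y) : (χ : G → ℂ) y = 0 := by
  classical
  obtain ⟨M, hM⟩ := exists_isPModular p hp
  have hMp : M.IsPrime := hM.2.1.isPrime
  have hG0 : Nat.card G ≠ 0 := Nat.card_pos.ne'
  have hG : (Nat.card G : ℂ) ≠ 0 := by exact_mod_cast hG0
  have hd := charDegree_cast (irr_isCharacter χ)
  have hχ1 : (χ : G → ℂ) 1 ≠ 0 := by
    obtain ⟨n, ρ, hρ, hχ⟩ := χ.2
    rw [← hχ, Representation.char_one]
    simpa using finrank_pos_of_irr hρ
  set a := (Nat.card G).factorization p with ha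
  set m := Nat.card G / p ^ a with hm
  have hmG : p ^ a * m = Nat.card G := Nat.ordProj_mul_ordCompl_eq_self (Nat.card G) p
  have hpm : ¬ p ∣ m := Nat.not_dvd_ordCompl hp hG0
  have hcop : Nat.Coprime m p := ((Nat.Prime.coprime_iff_not_dvd hp).mpr hpm).symm
  obtain ⟨d', hd'⟩ := hdiv
  have hm0 : (m : ℂ) ≠ 0 := by
    intro h
    have : m = 0 := by exact_mod_cast h
    rw [this, mul_zero] at hmG
    exact hG0 hmG.symm
  have hpa0 : (p : ℂ) ^ a ≠ 0 := pow_ne_zero _ (by exact_mod_cast hp.ne_zero)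
  let ε : G → ℂ := fun g => ((d' : ℂ) * (m : ℂ)⁻¹) * (χ : G → ℂ) g
  have hcoef : (d' : ℂ) * (m : ℂ)⁻¹ = (χ : G → ℂ) 1 / (Nat.card G : ℂ) := by
    rw [← hd, hd', ← hmG]
    push_cast
    field_simp
  have hεR : ∀ g, MemLocalRing M (ε g) := by
    intro g
    refine Cfsg.Agent.Helper78.memLocalRing_mul hMp (Cfsg.Agent.Helper78.memLocalRing_mul hMp
      (Cfsg.Agent.Helper78.memLocalRing_natCast hMp d')
      (Cfsg.Agent.Helper78.memLocalRing_inv_natCast hM hcop)) ?_
    exact Cfsg.Agent.Helper78.memLocalRing_of_isIntegral hMp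
      (Cfsg.Agent.Helper80.IsCharacter.isIntegral (irr_isCharacter χ) g)
  have hε : ∀ w : G, ∑ b : G, ε b * ε (b⁻¹ * w) = ε w := by
    intro w
    simp only [ε]
    have h := irr_conv χ w
    calc ∑ b : G, (d' : ℂ) * (m : ℂ)⁻¹ * (χ : G → ℂ) b *
          ((d' : ℂ) * (m : ℂ)⁻¹ * (χ : G → ℂ) (b⁻¹ * w))
        = ((d' : ℂ) * (m : ℂ)⁻¹) ^ 2 *
            ∑ b : G, (χ : G → ℂ) b * (χ : G → ℂ) (b⁻¹ * w) := by
          rw [Finset.mul_sum]
          refine Finset.sum_congr rfl (fun b _ => ?_)
          ring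
      _ = (d' : ℂ) * (m : ℂ)⁻¹ * (χ : G → ℂ) w := by
          rw [h, hcoef]
          field_simp
  have h := Cfsg.Agent.Helper77.hs_vanishing hM ε hεR hε y hy
  have hcl := irr_isClassFunction χ
  have h2 : ∀ g : G, ε (g * y * g⁻¹) = ε y := by
    intro g
    simp only [ε]
    rw [hcl y g]
  rw [Finset.sum_congr rfl (fun g _ => h2 g), Finset.sum_const, Finset.card_univ,
    nsmul_eq_mul] at h
  have hcard : (Fintype.card G : ℂ) ≠ 0 := by exact_mod_cast Fintype.card_ne_zero
  have h3 : ε y = 0 := (mul_eq_zero.mp h).resolve_left hcard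
  simp only [ε] at h3
  rw [hcoef] at h3
  have h4 : (χ : G → ℂ) 1 / (Nat.card G : ℂ) ≠ 0 := div_ne_zero hχ1 hG
  exact (mul_eq_zero.mp h3).resolve_left h4

end conv

end Cfsg.Agent.Helper74
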