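import Mathlib
import Cfsg.Prelude.Def_Characters
import Cfsg.Prelude.Def_Blocks
import Cfsg.Agent.Helper74.CharBasic
import Cfsg.Agent.Helper74.CharCount
import Cfsg.Agent.Helper3.ScalarSubgroup
import Cfsg.Agent.Helper3.CharEq

/-!
# The centre `Z(χ)` of an irreducible character (helper74)

* `charCenter χ : Subgroup G` (normal), `mem_charCenter_iff : g ∈ Z(χ) ↔ ‖χ g‖ = χ(1)`;
* `norm_le_charDegree`;
* `sum_norm_sq_irr : ∑ g, ‖χ g‖² = |G|`;
* `charDegree_sq_mul_card_charCenter_le`, `eq_zero_of_not_mem_charCenter`;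
* `mem_center_of_forall_mem_charCenter`.
-/

set_option autoImplicit false

namespace Cfsg.Agent.Helper74

open Cfsg
open scoped ComplexConjugate

universe u

section
variable {G : Type u} [Group G]

/-- A representation affording the irreducible character `χ`. -/
noncomputable def irrDim (χ : IrrCharacter G) : ℕ := Classical.choose χ.2

noncomputable def irrRep (χ : IrrCharacter G) : Representation ℂ G (Fin (irrDim χ) → ℂ) :=
  Classical.choose (Classical.choose_spec χ.2)

theorem irrRep_isIrreducible (χ : IrrCharacter G) : (irrRep χ).IsIrreducible :=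
  (Classical.choose_spec (Classical.choose_spec χ.2)).1

theorem irrRep_character (χ : IrrCharacter G) : (irrRep χ).character = (χ : G → ℂ) :=
  (Classical.choose_spec (Classical.choose_spec χ.2)).2

theorem irrDim_eq (χ : IrrCharacter G) : irrDim χ = charDegree (χ : G → ℂ) := by
  have h := charDegree_rep (irrRep χ)
  rw [irrRep_character] at h
  rw [h]
  simp

/-- The centre `Z(χ)` of an irreducible character: the elements acting as scalars. -/
noncomputable def charCenter (χ : IrrCharacter G) : Subgroup G :=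
  Helper3.scalarSubgroup (irrRep χ)

theorem charCenter_normal (χ : IrrCharacter G) : (charCenter χ).Normal :=
  Helper3.scalarSubgroup_normal (irrRep χ)

theorem mem_charCenter_iff [Finite G] (χ : IrrCharacter G) (g : G) :
    g ∈ charCenter χ ↔ ‖(χ : G → ℂ) g‖ = (charDegree (χ : G → ℂ) : ℝ) := by
  have h := Helper3.norm_char_eq_iff (irrRep χ) g (isOfFinOrder_of_finite g)
  rw [irrRep_character] at h
  have hd : Module.finrank ℂ (Fin (irrDim χ) → ℂ) = charDegree (χ : G → ℂ) := by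
    rw [← irrDim_eq]; simp
  rw [hd] at h
  rw [h]
  rfl

theorem norm_le_charDegree [Finite G] {χ : G → ℂ} (hχ : IsCharacter G χ) (g : G) :
    ‖χ g‖ ≤ (charDegree χ : ℝ) := by
  obtain ⟨n, ρ, rfl⟩ := hχ
  have h := Helper3.norm_char_le ρ g (isOfFinOrder_of_finite g)
  rw [charDegree_rep]
  exact h

theorem mul_conj_eq_norm_sq (z : ℂ) : z * conj z = ((‖z‖ ^ 2 : ℝ) : ℂ) := by
  rw [Complex.mul_conj, Complex.normSq_eq_norm_sq]

/-- `∑ ‖χ g‖² = |G| ⟨χ, χ⟩`, real form. -/
theorem sum_norm_sq_eq [Fintype G] (φ : G → ℂ) :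
    ((∑ g : G, ‖φ g‖ ^ 2 : ℝ) : ℂ) = (Nat.card G : ℂ) * classInner φ φ := by
  rw [classInner_def]
  have hG : (Nat.card G : ℂ) ≠ 0 := by exact_mod_cast Nat.card_pos.ne'
  rw [mul_inv_cancel_left₀ hG]
  push_cast
  refine Finset.sum_congr rfl fun g _ => ?_
  rw [mul_conj_eq_norm_sq]
  push_cast
  rfl

theorem sum_norm_sq_of_inner_one [Fintype G] {φ : G → ℂ} (h : classInner φ φ = 1) :
    (∑ g : G, ‖φ g‖ ^ 2 : ℝ) = (Nat.card G : ℝ) := by
  have := sum_norm_sq_eq φ
  rw [h, mul_one] at this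
  exact_mod_cast this

theorem sum_norm_sq_irr [Fintype G] (χ : IrrCharacter G) :
    (∑ g : G, ‖(χ : G → ℂ) g‖ ^ 2 : ℝ) = (Nat.card G : ℝ) :=
  sum_norm_sq_of_inner_one (irr_inner_self χ)

/-- `χ(1)² |Z(χ)| ≤ |G|`. -/
theorem charDegree_sq_mul_card_charCenter_le [Fintype G] (χ : IrrCharacter G) :
    charDegree (χ : G → ℂ) ^ 2 * Nat.card (charCenter χ) ≤ Nat.card G := by
  classical
  have h := sum_norm_sq_irr χ
  have h1 : (∑ g ∈ Finset.univ.filter (fun g : G => g ∈ charCenter χ),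
      ‖(χ : G → ℂ) g‖ ^ 2 : ℝ) ≤ ∑ g : G, ‖(χ : G → ℂ) g‖ ^ 2 :=
    Finset.sum_le_sum_of_subset_of_nonneg (Finset.filter_subset _ _)
      (fun _ _ _ => sq_nonneg _)
  have h2 : (∑ g ∈ Finset.univ.filter (fun g : G => g ∈ charCenter χ),
      ‖(χ : G → ℂ) g‖ ^ 2 : ℝ) =
      (charDegree (χ : G → ℂ) : ℝ) ^ 2 * (Nat.card (charCenter χ) : ℝ) := by
    rw [Finset.sum_congr rfl (fun g hg => by
      rw [(mem_charCenter_iff χ g).mp (Finset.mem_filter.mp hg).2]), Finset.sum_const,
      nsmul_eq_mul, mul_comm]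
    congr 2
    rw [Nat.card_eq_fintype_card, Fintype.card_subtype]
  rw [h2, h] at h1
  exact_mod_cast h1

/-- If `χ(1)² |Z(χ)| = |G|` then `χ` vanishes off `Z(χ)`. -/
theorem eq_zero_of_not_mem_charCenter [Fintype G] (χ : IrrCharacter G)
    (heq : charDegree (χ : G → ℂ) ^ 2 * Nat.card (charCenter χ) = Nat.card G) (g : G)
    (hg : g ∉ charCenter χ) : (χ : G → ℂ) g = 0 := by
  classical
  have h := sum_norm_sq_irr χ
  have hsplit := Finset.sum_filter_add_sum_filter_not Finset.univ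
    (fun g : G => g ∈ charCenter χ) (fun g => (‖(χ : G → ℂ) g‖ ^ 2 : ℝ))
  have h2 : (∑ g ∈ Finset.univ.filter (fun g : G => g ∈ charCenter χ),
      ‖(χ : G → ℂ) g‖ ^ 2 : ℝ) =
      (charDegree (χ : G → ℂ) : ℝ) ^ 2 * (Nat.card (charCenter χ) : ℝ) := by
    rw [Finset.sum_congr rfl (fun g hg => by
      rw [(mem_charCenter_iff χ g).mp (Finset.mem_filter.mp hg).2]), Finset.sum_const,
      nsmul_eq_mul, mul_comm]
    congr 2
    rw [Nat.card_eq_fintype_card, Fintype.card_subtype]
  have heq' : (charDegree (χ : G → ℂ) : ℝ) ^ 2 * (Nat.card (charCenter χ) : ℝ) =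
      (Nat.card G : ℝ) := by exact_mod_cast heq
  rw [h2, heq', h] at hsplit
  have h0 : (∑ g ∈ Finset.univ.filter (fun g : G => ¬ g ∈ charCenter χ),
      ‖(χ : G → ℂ) g‖ ^ 2 : ℝ) = 0 := by linarith
  have h3 := (Finset.sum_eq_zero_iff_of_nonneg (fun _ _ => sq_nonneg _)).mp h0 g
    (Finset.mem_filter.mpr ⟨Finset.mem_univ g, hg⟩)
  have h4 : ‖(χ : G → ℂ) g‖ = 0 := by
    exact pow_eq_zero_iff (two_ne_zero) |>.mp h3
  exact norm_eq_zero.mp h4

/-- An element lying in the centre of every irreducible character is central. -/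
theorem mem_center_of_forall_mem_charCenter [Fintype G] (g : G)
    (h : ∀ χ : IrrCharacter G, g ∈ charCenter χ) : g ∈ Subgroup.center G := by
  classical
  let _ := irrFintype G
  have h1 := second_orthogonality (G := G) g g
  rw [if_pos (IsConj.refl g)] at h1
  have h2 := second_orthogonality (G := G) 1 1
  rw [if_pos (IsConj.refl 1)] at h2
  have h3 : ∑ χ : IrrCharacter G, (χ : G → ℂ) g * conj ((χ : G → ℂ) g) =
      ∑ χ : IrrCharacter G, (χ : G → ℂ) 1 * conj ((χ : G → ℂ) 1) := by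
    refine Finset.sum_congr rfl fun χ _ => ?_
    rw [mul_conj_eq_norm_sq, mul_conj_eq_norm_sq, (mem_charCenter_iff χ g).mp (h χ),
      (mem_charCenter_iff χ 1).mp (one_mem _)]
  rw [h1, h2] at h3
  have h4 : Nat.card (Subgroup.centralizer ({g} : Set G)) =
      Nat.card (Subgroup.centralizer ({1} : Set G)) := by exact_mod_cast h3
  have h5 : Subgroup.centralizer ({(1 : G)} : Set G) = ⊤ := by
    rw [eq_top_iff]
    intro x _
    rw [Subgroup.mem_centralizer_iff]
    intro y hy
    rw [Set.mem_singleton_iff] at hy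
    rw [hy]; simp
  rw [h5, Subgroup.card_top] at h4
  have h6 : Subgroup.centralizer ({g} : Set G) = ⊤ :=
    Subgroup.card_eq_iff_eq_top _ |>.mp h4
  rw [Subgroup.mem_center_iff]
  intro x
  have hx : x ∈ Subgroup.centralizer ({g} : Set G) := by rw [h6]; trivial
  rw [Subgroup.mem_centralizer_iff] at hx
  exact (hx g rfl).symm

end

end Cfsg.Agent.Helper74
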