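import Cfsg.Agent.Helper74.FSCount
import Cfsg.Agent.Helper80.Linear

/-!
# Twisting irreducible characters by linear characters

The group `G →* ℂˣ` acts on `IrrCharacter G` by multiplication.
-/

set_option autoImplicit false

namespace Cfsg.Agent.Helper74

open Cfsg
open scoped ComplexConjugate

universe u

section twist
variable {G : Type u} [Group G] [Fintype G]

theorem monoidHom_mul_conj (μ : G →* ℂˣ) (g : G) :
    ((μ g : ℂˣ) : ℂ) * conj ((μ g : ℂˣ) : ℂ) = 1 := by
  have hpow : ((μ g : ℂˣ) : ℂ) ^ (Fintype.card G) = 1 := by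
    rw [← Units.val_pow_eq_pow_val, ← map_pow, pow_card_eq_one, map_one, Units.val_one]
  have hn : ‖((μ g : ℂˣ) : ℂ)‖ = 1 :=
    Complex.norm_eq_one_of_pow_eq_one hpow Fintype.card_ne_zero
  rw [Complex.mul_conj, Complex.normSq_eq_norm_sq, hn]
  simp

theorem monoidHom_conj_eq_inv (μ : G →* ℂˣ) (g : G) :
    conj ((μ g : ℂˣ) : ℂ) = ((μ⁻¹ g : ℂˣ) : ℂ) := by
  have h := monoidHom_mul_conj μ g
  rw [MonoidHom.inv_apply, Units.val_inv_eq_inv_val]
  exact eq_inv_of_mul_eq_one_right h

/-- The linear character `μ` as a function `G → ℂ`. -/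
def linFun (μ : G →* ℂˣ) : G → ℂ := fun g => ((μ g : ℂˣ) : ℂ)

@[simp] theorem linFun_apply (μ : G →* ℂˣ) (g : G) : linFun μ g = ((μ g : ℂˣ) : ℂ) := rfl

theorem linFun_isCharacter (μ : G →* ℂˣ) : IsCharacter G (linFun μ) :=
  isCharacter_of_isIrr (Cfsg.Agent.Helper80.isIrrCharacter_of_monoidHom μ)

theorem linFun_injective : Function.Injective (linFun (G := G)) := by
  intro μ ν h
  ext g
  exact congrFun h g

/-- Twisting by a linear character preserves the inner product. -/
theorem classInner_twist (μ : G →* ℂˣ) (φ ψ : G → ℂ) :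
    classInner (linFun μ * φ) (linFun μ * ψ) = classInner φ ψ := by
  rw [classInner_def, classInner_def]
  congr 1
  refine Finset.sum_congr rfl (fun g _ => ?_)
  simp only [Pi.mul_apply, linFun_apply, map_mul]
  have h := monoidHom_mul_conj μ g
  calc ((μ g : ℂˣ) : ℂ) * φ g * (conj ((μ g : ℂˣ) : ℂ) * conj (ψ g))
      = (((μ g : ℂˣ) : ℂ) * conj ((μ g : ℂˣ) : ℂ)) * (φ g * conj (ψ g)) := by ring
    _ = φ g * conj (ψ g) := by rw [h, one_mul]

/-- The twist of an irreducible character by a linear character. -/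
noncomputable def twist (μ : G →* ℂˣ) (χ : IrrCharacter G) : IrrCharacter G :=
  ⟨linFun μ * (χ : G → ℂ),
    isIrrCharacter_of_norm_one (isCharacter_mul (linFun_isCharacter μ) (irr_isCharacter χ))
      (by rw [classInner_twist, irr_inner_self])⟩

@[simp] theorem twist_apply (μ : G →* ℂˣ) (χ : IrrCharacter G) (g : G) :
    (twist μ χ : G → ℂ) g = ((μ g : ℂˣ) : ℂ) * (χ : G → ℂ) g := rfl

theorem twist_one (χ : IrrCharacter G) : twist 1 χ = χ := by
  apply Subtype.ext
  funext g
  simp

theorem twist_mul (μ ν : G →* ℂˣ) (χ : IrrCharacter G) :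
    twist (μ * ν) χ = twist μ (twist ν χ) := by
  apply Subtype.ext
  funext g
  simp [mul_assoc]

/-- The action of the linear characters on the irreducible characters. -/
@[instance_reducible]
noncomputable def twistAction : MulAction (G →* ℂˣ) (IrrCharacter G) where
  smul := twist
  one_smul := twist_one
  mul_smul := twist_mul

end twist

end Cfsg.Agent.Helper74
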