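import Mathlib
import Cfsg.Prelude.Def_Characters
import Cfsg.Prelude.Def_Blocks
import Cfsg.Agent.Helper74.CharCenter
import Cfsg.Agent.Helper74.LinTwist
import Cfsg.Agent.Helper3.ScalarIndex
import Cfsg.Agent.Helper15.CliffordCorr
import Cfsg.Agent.Helper15.LinChar
import Cfsg.Agent.Helper16.Covering3
import Cfsg.Agent.Helper81.Taketa
import Cfsg.Agent.Helper81.CliffordInd
import Cfsg.Agent.S4464

/-!
# Characters of degree `p` and subgroups of index `p` (helper74)

For `M ⊴ G` of index `p` and `χ ∈ Irr(G)` of degree `p` in a `p`-group: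
* `VanOff χ M`: `χ` vanishes off `M`;
* `exists_hom_of_vanOff`: then `χ = μ^G` for a linear character `μ` of `M`;
* `restrict_irr_of_not_vanOff`: otherwise `χ_M` is irreducible;
* `apply_commutator_of_vanOff`: `M' ≤ ker χ` in the first case;
* `mem_charCenter_of_ne_zero`: if `χ` vanishes off `M`, `χ'` does not, and all degrees are `1` or
  `p`, then `χ'` vanishes on `M \ Z(χ)`.
-/

set_option autoImplicit false

namespace Cfsg.Agent.Helper74

open Cfsg Cfsg.Agent.Helper15
open scoped ComplexConjugate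

universe u

section
variable {G : Type u} [Group G] [Fintype G]

theorem charDegree_dvd_card (χ : IrrCharacter G) :
    charDegree (χ : G → ℂ) ∣ Nat.card G := by
  have := irrRep_isIrreducible χ
  have h := Helper3.finrank_dvd_index_center (irrRep χ)
  have hd : Module.finrank ℂ (Fin (irrDim χ) → ℂ) = charDegree (χ : G → ℂ) := by
    rw [← irrDim_eq]; simp
  rw [hd] at h
  exact h.trans (Subgroup.index_dvd_card _)

theorem charDegree_pos' (χ : IrrCharacter G) : 0 < charDegree (χ : G → ℂ) := by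
  obtain ⟨d, hd0, hd⟩ := irr_degree_pos χ.2
  have := charDegree_cast (irr_isCharacter χ)
  rw [hd] at this
  have : charDegree (χ : G → ℂ) = d := by exact_mod_cast this
  omega

/-- `χ` vanishes off `M`. -/
def VanOff (χ : G → ℂ) (M : Subgroup G) : Prop := ∀ g, g ∉ M → χ g = 0

theorem sum_subgroup_eq_sum_filter {α : Type*} [AddCommMonoid α] (M : Subgroup G)
    [Fintype M] [DecidablePred (· ∈ M)] (f : G → α) :
    ∑ m : M, f m = ∑ g ∈ Finset.univ.filter (fun g : G => g ∈ M), f g := by
  exact (Finset.sum_subtype (Finset.univ.filter (fun g : G => g ∈ M)) (p := fun g => g ∈ M)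
    (fun x => by simp) f).symm

theorem sum_subgroup_eq_sum_of_vanOff {χ : G → ℂ} (M : Subgroup G) [Fintype M]
    (h : VanOff χ M) (f : G → ℂ) (hf : ∀ g, χ g = 0 → f g = 0) :
    ∑ m : M, f m = ∑ g : G, f g := by
  classical
  rw [sum_subgroup_eq_sum_filter]
  refine Finset.sum_subset (Finset.filter_subset _ _) fun g _ hg => ?_
  have : g ∉ M := fun hgM => hg (Finset.mem_filter.mpr ⟨Finset.mem_univ _, hgM⟩)
  exact hf g (h g this)

/-- If `χ` is irreducible and vanishes off `M` then `⟨χ_M, χ_M⟩ = [G : M]`. -/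
theorem inner_restrict_of_vanOff (χ : IrrCharacter G) (M : Subgroup G) [Fintype M]
    (h : VanOff (χ : G → ℂ) M) :
    classInner (fun m : M => (χ : G → ℂ) m) (fun m : M => (χ : G → ℂ) m) = (M.index : ℂ) := by
  have h1 := irr_inner_self χ
  rw [classInner_def] at h1
  rw [classInner_def]
  have h2 := sum_subgroup_eq_sum_of_vanOff M h
    (fun g => (χ : G → ℂ) g * conj ((χ : G → ℂ) g)) (fun g hg => by simp [hg])
  rw [h2]
  have hG : (Nat.card G : ℂ) ≠ 0 := by exact_mod_cast Nat.card_pos.ne'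
  have hM : (Nat.card M : ℂ) ≠ 0 := by exact_mod_cast Nat.card_pos.ne'
  have h3 : ∑ g : G, (χ : G → ℂ) g * conj ((χ : G → ℂ) g) = (Nat.card G : ℂ) := by
    field_simp at h1
    exact h1
  rw [h3]
  have h4 : (Nat.card G : ℂ) = (Nat.card M : ℂ) * (M.index : ℂ) := by
    exact_mod_cast (M.card_mul_index).symm
  rw [h4, inv_mul_cancel_left₀ hM]

theorem vanOff_indFun (M : Subgroup G) [hM : M.Normal] (θ : M → ℂ) :
    VanOff (indFun M θ) M := by
  intro g hg
  rw [indFun_apply]
  have : ∀ x : G, extendByZero M θ (x⁻¹ * g * x) = 0 := by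
    intro x
    apply extendByZero_of_not_mem
    intro hx
    apply hg
    have := hM.conj_mem _ hx x
    simpa [mul_assoc] using this
  simp [this]

/-- A linear constituent `θ` of `χ_M`, `[G : M] = χ(1)`, gives `χ = θ^G`. -/
theorem eq_indFun_of_linear_constituent (M : Subgroup G) [Fintype M] (χ : IrrCharacter G)
    (hdeg : charDegree (χ : G → ℂ) = M.index) (θ : IrrCharacter M)
    (hθ1 : charDegree (θ : M → ℂ) = 1)
    (hcon : classInner (fun m : M => (χ : G → ℂ) m) (θ : M → ℂ) ≠ 0) :
    (χ : G → ℂ) = indFun M (θ : M → ℂ) := by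
  have hΨ : IsCharacter G (indFun M (θ : M → ℂ)) :=
    isCharacter_indFun M (irr_isCharacter θ)
  have hfr := frobenius_reciprocity M (θ : M → ℂ) (χ : G → ℂ) (irr_isClassFunction χ)
  have hcon' : classInner (indFun M (θ : M → ℂ)) (χ : G → ℂ) ≠ 0 := by
    rw [hfr]
    intro h0
    apply hcon
    rw [← classInner_conj_symm, h0, map_zero]
  have hθ : (θ : M → ℂ) 1 = 1 := by
    rw [← charDegree_cast (irr_isCharacter θ), hθ1]; simp
  have h1 : indFun M (θ : M → ℂ) 1 = (M.index : ℕ) := by
    rw [indFun_apply_one, hθ, mul_one]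
  have h2 : (χ : G → ℂ) 1 = (M.index : ℕ) := by
    rw [← charDegree_cast (irr_isCharacter χ), hdeg]
  exact (eq_of_constituent_of_degree_le hΨ χ.2 hcon' _ _ h1 h2 le_rfl).symm

end

section pgroup
variable {G : Type u} [Group G] [Fintype G] {p : ℕ} [hp : Fact p.Prime]

/-- A character of a subgroup of a `p`-group of degree `< p` is linear. -/
theorem charDegree_eq_one_of_lt (hG : IsPGroup p G) (M : Subgroup G) [Fintype M]
    (θ : IrrCharacter M) (hlt : charDegree (θ : M → ℂ) < p) : charDegree (θ : M → ℂ) = 1 := by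
  have h1 := charDegree_dvd_card θ
  obtain ⟨n, hn⟩ := (IsPGroup.iff_card.mp (hG.to_subgroup M))
  rw [hn] at h1
  obtain ⟨k, -, hk⟩ := (Nat.dvd_prime_pow hp.out).mp h1
  rw [hk] at hlt ⊢
  rcases Nat.eq_zero_or_pos k with rfl | hkpos
  · simp
  · exfalso
    have : p ^ 1 ≤ p ^ k := Nat.pow_le_pow_right hp.out.pos hkpos
    rw [pow_one] at this
    omega

/-- If `χ` of degree `p` vanishes off `M ⊴ G` of index `p`, it is induced from a linear
character of `M`. -/
theorem exists_hom_of_vanOff (hG : IsPGroup p G) (M : Subgroup G) [Fintype M]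
    (hMp : M.index = p) (χ : IrrCharacter G) (hχ : charDegree (χ : G → ℂ) = p)
    (h : VanOff (χ : G → ℂ) M) :
    ∃ μ : M →* ℂˣ, (χ : G → ℂ) = indFun M (linFun μ) := by
  classical
  have hres : IsCharacter M (fun m : M => (χ : G → ℂ) m) :=
    isCharacter_restrict M (irr_isCharacter χ)
  have hne : (fun m : M => (χ : G → ℂ) m) 1 ≠ 0 :=
    Helper80.IsIrrCharacter.map_one_ne_zero χ.2
  obtain ⟨θ, hθ⟩ := Helper81.exists_irr_constituent hres hne
  have hle := Cfsg.Agent.S4464.charDegree_le_of_constituent M (irr_isCharacter χ) θ hθ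
  rw [hχ] at hle
  have hθlt : charDegree (θ : M → ℂ) < p := by
    rcases Nat.lt_or_ge (charDegree (θ : M → ℂ)) p with h1 | h1
    · exact h1
    · exfalso
      have heq : charDegree (θ : M → ℂ) = p := le_antisymm hle h1
      have h1' : (fun m : M => (χ : G → ℂ) m) 1 = (p : ℕ) := by
        show (χ : G → ℂ) 1 = _
        rw [← charDegree_cast (irr_isCharacter χ), hχ]
      have h2' : (θ : M → ℂ) 1 = (p : ℕ) := by
        rw [← charDegree_cast (irr_isCharacter θ), heq]
      have := eq_of_constituent_of_degree_le hres θ.2 hθ _ _ h1' h2' le_rfl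
      have hin := inner_restrict_of_vanOff χ M h
      rw [this, irr_inner_self θ, hMp] at hin
      have : (p : ℕ) = 1 := by exact_mod_cast hin.symm
      exact hp.out.one_lt.ne' this
  have hθ1 := charDegree_eq_one_of_lt hG M θ hθlt
  have hind := eq_indFun_of_linear_constituent M χ (by rw [hχ, hMp]) θ hθ1 hθ
  have hθ1' : (θ : M → ℂ) 1 = 1 := by
    rw [← charDegree_cast (irr_isCharacter θ), hθ1]; simp
  refine ⟨linCharUnits (irr_isCharacter θ) hθ1', ?_⟩
  rw [hind]
  rfl

/-- If `χ` of degree `p` does not vanish off `M` of index `p`, then `χ_M` is irreducible. -/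
theorem restrict_irr_of_not_vanOff (hG : IsPGroup p G) (M : Subgroup G) [M.Normal] [Fintype M]
    (hMp : M.index = p) (χ : IrrCharacter G) (hχ : charDegree (χ : G → ℂ) = p)
    (h : ¬ VanOff (χ : G → ℂ) M) : IsIrrCharacter M (fun m : M => (χ : G → ℂ) m) := by
  classical
  have hres : IsCharacter M (fun m : M => (χ : G → ℂ) m) :=
    isCharacter_restrict M (irr_isCharacter χ)
  have hne : (fun m : M => (χ : G → ℂ) m) 1 ≠ 0 :=
    Helper80.IsIrrCharacter.map_one_ne_zero χ.2
  obtain ⟨θ, hθ⟩ := Helper81.exists_irr_constituent hres hne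
  have hle := Cfsg.Agent.S4464.charDegree_le_of_constituent M (irr_isCharacter χ) θ hθ
  rw [hχ] at hle
  rcases Nat.lt_or_ge (charDegree (θ : M → ℂ)) p with h1 | h1
  · exfalso
    have hθ1 := charDegree_eq_one_of_lt hG M θ h1
    have hind := eq_indFun_of_linear_constituent M χ (by rw [hχ, hMp]) θ hθ1 hθ
    apply h
    rw [hind]
    exact vanOff_indFun M _
  · have heq : charDegree (θ : M → ℂ) = p := le_antisymm hle h1
    have h1' : (fun m : M => (χ : G → ℂ) m) 1 = (p : ℕ) := by
      show (χ : G → ℂ) 1 = _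
      rw [← charDegree_cast (irr_isCharacter χ), hχ]
    have h2' : (θ : M → ℂ) 1 = (p : ℕ) := by
      rw [← charDegree_cast (irr_isCharacter θ), heq]
    have := eq_of_constituent_of_degree_le hres θ.2 hθ _ _ h1' h2' le_rfl
    rw [this]
    exact θ.2

/-- If `χ` of degree `p` vanishes off `M ⊴ G` of index `p`, then `M' ≤ ker χ`. -/
theorem apply_commutator_of_vanOff (hG : IsPGroup p G) (M : Subgroup G) [hMn : M.Normal]
    [Fintype M] (hMp : M.index = p) (χ : IrrCharacter G) (hχ : charDegree (χ : G → ℂ) = p)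
    (h : VanOff (χ : G → ℂ) M) (g : G) (hg : g ∈ ⁅M, M⁆) :
    (χ : G → ℂ) g = (χ : G → ℂ) 1 := by
  obtain ⟨μ, hμ⟩ := exists_hom_of_vanOff hG M hMp χ hχ h
  rw [hμ]
  have hN : (⁅M, M⁆ : Subgroup G).Normal := Subgroup.commutator_normal M M
  have hNM : (⁅M, M⁆ : Subgroup G) ≤ M := Subgroup.commutator_le_right M M
  refine Helper81.indFun_apply_eq_of_normal M (linFun μ) ⁅M, M⁆ hNM ?_ g hg
  intro n hn
  have h1 : (⟨n, hNM hn⟩ : M) ∈ _root_.commutator M := by
    have := Subgroup.map_subtype_commutator M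
    rw [← this] at hn
    obtain ⟨m, hm, hmn⟩ := hn
    have : m = ⟨n, hNM hn⟩ := Subtype.ext hmn
    rw [← this]
    exact hm
  have h2 : μ ⟨n, hNM hn⟩ = 1 := by
    have := Abelianization.commutator_subset_ker μ h1
    exact this
  show ((μ ⟨n, hNM hn⟩ : ℂˣ) : ℂ) = ((μ 1 : ℂˣ) : ℂ)
  rw [h2, map_one]

end pgroup

end Cfsg.Agent.Helper74
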