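import Mathlib
import Cfsg.Agent.Helper1.MinDeg.Defs
import Cfsg.Agent.Helper14.MinDegM1
import Cfsg.Agent.Helper14.MinDegM2

/-!
# (M3) of helper1's S2140 plan: the dichotomy forces small index

`A ≤ Qc x` such that for every `g ∈ Lx x` either `gAg⁻¹ = A` or `A ⊔ gAg⁻¹ = Qc x`.  Then `A = 1`,
`A = Qc x` or `|Qc x| ≤ q |A|`.

The core `card_le_of_dichotomy_of` takes (M1) (transitivity of `Lx x` on `Qc x ∖ 1`) and (M2)
(`|Qc x| = q^(n-1)`) as hypotheses.
-/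

set_option autoImplicit false
set_option linter.unusedSectionVars false

namespace Cfsg.Agent.Helper74.MinDeg

open Matrix Cfsg.Agent.Helper14.AutPSL Cfsg.Agent.Helper1.MinDeg

variable {F : Type*} [Field F] {n : ℕ}

/-- conjugating a transvection with centre `x` by a generator of `Lx x` -/
theorem M3_conj_gen {x y χ φ : Fin n → F} (hχy : χ ⬝ᵥ y = 0) (hχx : χ ⬝ᵥ x = 0)
    (hφ : φ ⬝ᵥ x = 0) :
    tv y χ hχy * tv x φ hφ * (tv y χ hχy)⁻¹ =
      tv x φ hφ * tv x ((-(φ ⬝ᵥ y)) • χ) (by rw [smul_dotProduct, hχx, smul_zero]) := by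
  rw [conj_tv, tv_mul_center]
  refine tv_congr _ ?_ ?_
  · rw [tv_mulVec, hχx, zero_smul, add_zero]
  · rw [tv_inv, vecMul_tv, smul_neg, neg_smul]

/-- the one-parameter subgroup `c ↦ tv x (c • χ)` -/
def M3_rr (x χ : Fin n → F) (hχx : χ ⬝ᵥ x = 0) (c : F) : SpecialLinearGroup (Fin n) F :=
  tv x (c • χ) (by rw [smul_dotProduct, hχx, smul_zero])

theorem M3_rr_mem (x χ : Fin n → F) (hχx : χ ⬝ᵥ x = 0) (c : F) : M3_rr x χ hχx c ∈ Qc x :=
  tv_mem_Qc _ _ _

theorem M3_rr_zero (x χ : Fin n → F) (hχx : χ ⬝ᵥ x = 0) : M3_rr x χ hχx 0 = 1 := by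
  unfold M3_rr
  rw [tv_congr _ rfl (zero_smul F χ)]
  exact tv_zero_right x

theorem M3_rr_add (x χ : Fin n → F) (hχx : χ ⬝ᵥ x = 0) (c c' : F) :
    M3_rr x χ hχx (c + c') = M3_rr x χ hχx c * M3_rr x χ hχx c' := by
  unfold M3_rr
  rw [tv_mul_center]
  exact tv_congr _ rfl (add_smul c c' χ)

theorem M3_rr_neg (x χ : Fin n → F) (hχx : χ ⬝ᵥ x = 0) (c : F) :
    M3_rr x χ hχx (-c) = (M3_rr x χ hχx c)⁻¹ := by
  rw [eq_inv_iff_mul_eq_one, ← M3_rr_add, neg_add_cancel, M3_rr_zero]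

/-- the subgroup `A * {tv x (c • χ)}` -/
def M3_S (x χ : Fin n → F) (hχx : χ ⬝ᵥ x = 0) (A : Subgroup (SpecialLinearGroup (Fin n) F))
    (hA : A ≤ Qc x) : Subgroup (SpecialLinearGroup (Fin n) F) where
  carrier := {b | ∃ a ∈ A, ∃ c : F, b = a * M3_rr x χ hχx c}
  one_mem' := ⟨1, A.one_mem, 0, by rw [M3_rr_zero, mul_one]⟩
  mul_mem' := by
    rintro _ _ ⟨a, ha, c, rfl⟩ ⟨a', ha', c', rfl⟩
    refine ⟨a * a', A.mul_mem ha ha', c + c', ?_⟩
    rw [M3_rr_add]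
    have hcomm : M3_rr x χ hχx c * a' = a' * M3_rr x χ hχx c :=
      Qc_comm (M3_rr_mem x χ hχx c) (hA ha')
    calc a * M3_rr x χ hχx c * (a' * M3_rr x χ hχx c')
        = a * (M3_rr x χ hχx c * a') * M3_rr x χ hχx c' := by group
      _ = a * (a' * M3_rr x χ hχx c) * M3_rr x χ hχx c' := by rw [hcomm]
      _ = a * a' * (M3_rr x χ hχx c * M3_rr x χ hχx c') := by group
  inv_mem' := by
    rintro _ ⟨a, ha, c, rfl⟩
    refine ⟨a⁻¹, A.inv_mem ha, -c, ?_⟩
    rw [M3_rr_neg, _root_.mul_inv_rev]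
    exact Qc_comm ((Qc x).inv_mem (M3_rr_mem x χ hχx c)) (hA (A.inv_mem ha))

theorem M3_card_S_le [Fintype F] (x χ : Fin n → F) (hχx : χ ⬝ᵥ x = 0)
    (A : Subgroup (SpecialLinearGroup (Fin n) F)) (hA : A ≤ Qc x) :
    Nat.card (M3_S x χ hχx A hA) ≤ Fintype.card F * Nat.card A := by
  classical
  have hsurj : Function.Surjective (fun p : F × A =>
      (⟨(p.2 : SpecialLinearGroup (Fin n) F) * M3_rr x χ hχx p.1, ⟨p.2, p.2.2, p.1, rfl⟩⟩ :
        M3_S x χ hχx A hA)) := by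
    rintro ⟨b, a, ha, c, rfl⟩
    exact ⟨(c, ⟨a, ha⟩), rfl⟩
  have := Nat.card_le_card_of_surjective _ hsurj
  rwa [Nat.card_prod, Nat.card_eq_fintype_card (α := F)] at this

/-- `g` normalises `A` iff the image of `A` under conjugation by `g` is `A` -/
theorem M3_map_conj_eq_iff {G : Type*} [Group G] (A : Subgroup G) (g : G) :
    A.map (MulAut.conj g).toMonoidHom = A ↔ g ∈ Subgroup.normalizer (A : Set G) := by
  rw [Subgroup.mem_normalizer_iff]
  constructor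
  · intro h b
    constructor
    · intro hb
      rw [← h]
      exact ⟨b, hb, rfl⟩
    · intro hb
      rw [← h] at hb
      obtain ⟨a, ha, hab⟩ := hb
      have : a = b := by
        have h1 : g * a * g⁻¹ = g * b * g⁻¹ := hab
        have h2 : a = g⁻¹ * (g * a * g⁻¹) * g := by group
        rw [h2, h1]; group
      rw [← this]; exact ha
  · intro h
    ext b
    constructor
    · rintro ⟨a, ha, rfl⟩
      exact (h a).1 ha
    · intro hb
      refine ⟨g⁻¹ * b * g, ?_, ?_⟩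
      · apply (h (g⁻¹ * b * g)).2
        have : g * (g⁻¹ * b * g) * g⁻¹ = b := by group
        rw [this]; exact hb
      · show g * (g⁻¹ * b * g) * g⁻¹ = b
        group

/-- (M3), with (M1) and (M2) as hypotheses -/
theorem card_le_of_dichotomy_of [Fintype F] {x : Fin n → F}
    (hM1 : ∀ {φ ψ : Fin n → F}, φ ≠ 0 → ψ ≠ 0 → ∀ (h : φ ⬝ᵥ x = 0) (h' : ψ ⬝ᵥ x = 0),
      ∃ g ∈ Lx x, g * tv x φ h * g⁻¹ = tv x ψ h')
    (hM2 : Nat.card (Qc x) = Fintype.card F ^ (n - 1))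
    (A : Subgroup (SpecialLinearGroup (Fin n) F)) (hA : A ≤ Qc x)
    (hdich : ∀ g ∈ Lx x, A.map (MulAut.conj g).toMonoidHom = A ∨
      A ⊔ A.map (MulAut.conj g).toMonoidHom = Qc x) :
    A = ⊥ ∨ A = Qc x ∨ Fintype.card F ^ (n - 1) ≤ Fintype.card F * Nat.card A := by
  classical
  by_cases hgen : ∀ (y χ : Fin n → F) (h : χ ⬝ᵥ y = 0), χ ⬝ᵥ x = 0 →
      A.map (MulAut.conj (tv y χ h)).toMonoidHom = A
  · -- all of `Lx x` normalises `A`
    have hnorm : Lx x ≤ Subgroup.normalizer (A : Set (SpecialLinearGroup (Fin n) F)) := by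
      unfold Lx
      rw [Subgroup.closure_le]
      rintro _ ⟨y, χ, h, hχx, rfl⟩
      exact (M3_map_conj_eq_iff A _).1 (hgen y χ h hχx)
    by_cases hbot : A = ⊥
    · exact Or.inl hbot
    · right; left
      apply le_antisymm hA
      obtain ⟨a, haA, ha1⟩ : ∃ a ∈ A, a ≠ 1 := by
        by_contra hcon
        push_neg at hcon
        exact hbot ((Subgroup.eq_bot_iff_forall A).2 hcon)
      obtain ⟨φ, hφ, rfl⟩ := hA haA
      have hφ0 : φ ≠ 0 := by
        intro h0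
        apply ha1
        rw [tv_congr hφ rfl h0]
        exact tv_zero_right x
      rintro _ ⟨ψ, hψ, rfl⟩
      by_cases hψ0 : ψ = 0
      · rw [tv_congr hψ rfl hψ0, tv_zero_right]
        exact A.one_mem
      · obtain ⟨g, hg, hgc⟩ := hM1 hφ0 hψ0 hφ hψ
        rw [← hgc]
        exact ((Subgroup.mem_normalizer_iff.1 (hnorm hg)) _).1 haA
  · right; right
    push_neg at hgen
    obtain ⟨y, χ, hχy, hχx, hne⟩ := hgen
    have hsup := (hdich _ (tv_mem_Lx hχy hχx)).resolve_left hne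
    have hle : Qc x ≤ M3_S x χ hχx A hA := by
      rw [← hsup]
      apply sup_le
      · intro a ha
        exact ⟨a, ha, 0, by rw [M3_rr_zero, mul_one]⟩
      · rintro _ ⟨a, ha, rfl⟩
        obtain ⟨φ, hφ, rfl⟩ := hA ha
        refine ⟨tv x φ hφ, ha, -(φ ⬝ᵥ y), ?_⟩
        exact M3_conj_gen hχy hχx hφ
    calc Fintype.card F ^ (n - 1) = Nat.card (Qc x) := hM2.symm
      _ ≤ Nat.card (M3_S x χ hχx A hA) := Subgroup.card_le_of_le hle
      _ ≤ Fintype.card F * Nat.card A := M3_card_S_le x χ hχx A hA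

/-- (M3) the dichotomy forces small index. -/
theorem card_le_of_dichotomy [Fintype F] (hn : 3 ≤ n) {x : Fin n → F} (hx : x ≠ 0)
    (A : Subgroup (SpecialLinearGroup (Fin n) F)) (hA : A ≤ Qc x)
    (hdich : ∀ g ∈ Lx x, A.map (MulAut.conj g).toMonoidHom = A ∨
      A ⊔ A.map (MulAut.conj g).toMonoidHom = Qc x) :
    A = ⊥ ∨ A = Qc x ∨ Fintype.card F ^ (n - 1) ≤ Fintype.card F * Nat.card A :=
  card_le_of_dichotomy_of
    (fun hφ hψ h h' => Cfsg.Agent.Helper14.MinDeg.exists_Lx_conj hn hx hφ hψ h h')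
    (Cfsg.Agent.Helper14.MinDeg.card_Qc (by omega) hx) A hA hdich

end Cfsg.Agent.Helper74.MinDeg
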