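import Mathlib
import Cfsg.Agent.Helper1.MinDeg.Defs

/-!
# (T) of helper1's S2140 plan: `SL_n(F)` (`n ≥ 2`) is transitive on the nonzero vectors
-/

set_option autoImplicit false
set_option linter.unusedSectionVars false

namespace Cfsg.Agent.Helper74.MinDeg

open Matrix Cfsg.Agent.Helper14.AutPSL Cfsg.Agent.Helper1.MinDeg

variable {F : Type*} [Field F] {n : ℕ}

/-- one transvection suffices for independent vectors -/
theorem exists_mulVec_eq_of_indep {x y : Fin n → F} (hx : x ≠ 0) (hxy : ∀ c : F, y ≠ c • x) :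
    ∃ g : SpecialLinearGroup (Fin n) F, g.1 *ᵥ x = y := by
  have h1 : ∀ c : F, x ≠ c • (y - x) := by
    intro c hc
    by_cases hc0 : c = 0
    · rw [hc0, zero_smul] at hc
      exact hx hc
    · apply hxy (c⁻¹ * (1 + c))
      have h2 : c • y = (1 + c) • x := by
        rw [smul_sub] at hc
        rw [add_smul, one_smul]
        rw [eq_sub_iff_add_eq] at hc
        exact hc.symm
      rw [mul_smul, ← h2, smul_smul, inv_mul_cancel₀ hc0, one_smul]
  obtain ⟨l, hl1, hl0⟩ := exists_dot_pair h1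
  refine ⟨tv (y - x) l hl0, ?_⟩
  rw [tv_mulVec, hl1, one_smul]
  abel

/-- (T) `SL_n` is transitive on nonzero vectors. -/
theorem exists_mulVec_eq (hn : 2 ≤ n) {x y : Fin n → F} (hx : x ≠ 0) (hy : y ≠ 0) :
    ∃ g : SpecialLinearGroup (Fin n) F, g.1 *ᵥ x = y := by
  by_cases hxy : ∀ c : F, y ≠ c • x
  · exact exists_mulVec_eq_of_indep hx hxy
  · push_neg at hxy
    obtain ⟨c, hc⟩ := hxy
    have hc0 : c ≠ 0 := by
      intro h0
      rw [h0, zero_smul] at hc
      exact hy hc
    -- a third vector outside the line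
    obtain ⟨i, hi⟩ : ∃ i, x i ≠ 0 := by
      by_contra hcon
      push_neg at hcon
      exact hx (funext hcon)
    obtain ⟨z, hz0, hz⟩ := exists_ker (F := F) (ι := Fin n) (by simpa using hn) (Pi.single i 1)
    rw [single_one_dotProduct] at hz
    have hzx : ∀ d : F, z ≠ d • x := by
      intro d hd
      have h1 : z i = d * x i := by rw [hd]; rfl
      rw [hz] at h1
      rcases mul_eq_zero.1 h1.symm with h2 | h2
      · rw [h2, zero_smul] at hd
        exact hz0 hd
      · exact hi h2
    have hyz : ∀ d : F, y ≠ d • z := by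
      intro d hd
      by_cases hd0 : d = 0
      · rw [hd0, zero_smul] at hd
        exact hy hd
      · apply hzx (d⁻¹ * c)
        rw [mul_smul, ← hc, hd, smul_smul, inv_mul_cancel₀ hd0, one_smul]
    obtain ⟨g1, hg1⟩ := exists_mulVec_eq_of_indep hx hzx
    obtain ⟨g2, hg2⟩ := exists_mulVec_eq_of_indep hz0 hyz
    refine ⟨g2 * g1, ?_⟩
    have h3 : (g2 * g1).1 = g2.1 * g1.1 := rfl
    rw [h3, ← mulVec_mulVec, hg1, hg2]

end Cfsg.Agent.Helper74.MinDeg
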