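import Cfsg.Agent.Helper74.FSCount

/-!
# Real representations and the Frobenius-Schur indicator (helper74)
-/

set_option autoImplicit false
namespace Cfsg.Agent.Helper74
open Cfsg
open scoped ComplexConjugate Matrix ComplexOrder

universe u

section realRep
variable {G : Type u} [Group G]

/-- A matrix representation `G → Matrix`, as a representation on `Fin n → ℂ`. -/
noncomputable def repOfMat {n : ℕ} (Y : G → Matrix (Fin n) (Fin n) ℂ) (h1 : Y 1 = 1)
    (hmul : ∀ g h, Y (g * h) = Y g * Y h) : Representation ℂ G (Fin n → ℂ) where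
  toFun g := Matrix.toLin' (Y g)
  map_one' := by rw [h1, Matrix.toLin'_one]; rfl
  map_mul' g h := by rw [hmul, Matrix.toLin'_mul]; rfl

@[simp] theorem repMat_repOfMat {n : ℕ} (Y : G → Matrix (Fin n) (Fin n) ℂ) (h1 : Y 1 = 1)
    (hmul : ∀ g h, Y (g * h) = Y g * Y h) (g : G) : repMat (repOfMat Y h1 hmul) g = Y g := by
  simp [repMat, repOfMat]

/-- If a representation has the same character as an irreducible one, it is irreducible. -/
theorem isIrreducible_of_character_eq [Fintype G] {m n : ℕ}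
    {ρ : Representation ℂ G (Fin m → ℂ)} (hρ : ρ.IsIrreducible)
    {σ : Representation ℂ G (Fin n → ℂ)} (h : σ.character = ρ.character) : σ.IsIrreducible := by
  have : Invertible (Nat.card G : ℂ) := invertibleOfNonzero (by exact_mod_cast Nat.card_pos.ne')
  have hmn : m = n := by
    have h1 := congrFun h 1
    rw [Representation.char_one, Representation.char_one, Module.finrank_fin_fun,
      Module.finrank_fin_fun] at h1
    exact_mod_cast h1.symm
  subst hmn
  have hfr := Representation.card_inv_mul_sum_char_mul_char_eq_finrank ρ σ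
  have hρ' := hρ
  have hone := Representation.char_orthonormal ρ ρ
  rw [if_pos ⟨Representation.Equiv.refl ρ⟩] at hone
  rw [h, hone] at hfr
  have hfr1 : Module.finrank ℂ (Representation.IntertwiningMap ρ σ) = 1 := by exact_mod_cast hfr.symm
  obtain ⟨f, hf⟩ : ∃ f : Representation.IntertwiningMap ρ σ, f ≠ 0 := by
    have : 0 < Module.finrank ℂ (Representation.IntertwiningMap ρ σ) := by omega
    exact (Module.finrank_pos_iff_exists_ne_zero (R := ℂ)).mp this
  have hinj : Function.Injective f := by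
    rcases Representation.IsIrreducible.injective_or_eq_zero f with h1 | h1
    · exact h1
    · exact absurd h1 hf
  have hbij : Function.Bijective f := by
    refine ⟨hinj, ?_⟩
    have : Function.Injective f.toLinearMap := hinj
    exact (LinearMap.injective_iff_surjective (f := f.toLinearMap)).mp this
  exact isIrreducible_of_equiv (f.ofBijective hbij) hρ


/-- A real representation affording the irreducible character `χ` forces `ν(χ) = 1`. -/
theorem fsIndF_eq_one_of_real_rep [Fintype G] (χ : IrrCharacter G) (n : ℕ)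
    (ρr : Representation ℝ G (Fin n → ℝ))
    (h : ∀ g : G, ((LinearMap.trace ℝ (Fin n → ℝ) (ρr g) : ℝ) : ℂ) = (χ : G → ℂ) g) :
    fsIndF (χ : G → ℂ) = 1 := by
  classical
  let Y : G → Matrix (Fin n) (Fin n) ℝ := fun g => LinearMap.toMatrix' (ρr g)
  let Yc : G → Matrix (Fin n) (Fin n) ℂ := fun g => (Y g).map Complex.ofRealHom
  have hY1 : Yc 1 = 1 := by
    simp only [Yc, Y, map_one, LinearMap.toMatrix'_one]
    exact Matrix.map_one _ (map_zero _) (map_one _)
  have hYmul : ∀ g h, Yc (g * h) = Yc g * Yc h := by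
    intro g h
    simp only [Yc, Y, map_mul, LinearMap.toMatrix'_mul]
    exact Matrix.map_mul
  let σ := repOfMat Yc hY1 hYmul
  have hσmat : ∀ g, repMat σ g = Yc g := fun g => repMat_repOfMat Yc hY1 hYmul g
  have hσchar : σ.character = (χ : G → ℂ) := by
    ext g
    rw [character_eq_trace_repMat, hσmat, ← h g]
    simp only [Yc, Y]
    rw [LinearMap.trace_eq_matrix_trace ℝ (Pi.basisFun ℝ (Fin n)), LinearMap.toMatrix_eq_toMatrix']
    exact (AddMonoidHom.map_trace Complex.ofRealHom (LinearMap.toMatrix' (ρr g))).symm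
  obtain ⟨m, ρ, hρ, hχ⟩ := χ.2
  have hσirr : σ.IsIrreducible := isIrreducible_of_character_eq hρ (hσchar.trans hχ.symm)
  -- real entries: transpose = conjugate transpose
  have hreal : ∀ g, (repMat σ g)ᵀ = (repMat σ g)ᴴ := by
    intro g
    rw [hσmat]
    ext i j
    simp [Yc, Matrix.conjTranspose_apply]
  have hA : IsInvForm σ (gramMat σ) := by
    intro g
    rw [hreal]
    exact gramMat_invariant σ g
  have hu : IsUnit (gramMat σ) := (gramMat_posDef σ).isUnit
  have hsymm : (gramMat σ)ᵀ = (1 : ℂ) • gramMat σ := by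
    rw [one_smul]
    unfold gramMat
    rw [Matrix.transpose_sum]
    refine Finset.sum_congr rfl (fun g _ => ?_)
    rw [← hreal, Matrix.transpose_mul, Matrix.transpose_transpose]
  have := fsInd_eq_of_transpose hσirr hA hu hsymm
  rw [← hσchar, fsIndF_character, this]

end realRep

/-- If a linear pencil `z P + Q` is invertible for one `z`, it is invertible at some natural
number. -/
theorem exists_nat_isUnit_pencil {n : ℕ} (P Q : Matrix (Fin n) (Fin n) ℂ) (z : ℂ)
    (hz : IsUnit (z • P + Q)) : ∃ s : ℕ, IsUnit ((s : ℂ) • P + Q) := by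
  classical
  let A : Matrix (Fin n) (Fin n) (Polynomial ℂ) :=
    (Polynomial.X : Polynomial ℂ) • P.map Polynomial.C + Q.map Polynomial.C
  let p : Polynomial ℂ := A.det
  have heval : ∀ w : ℂ, Polynomial.eval w p = (w • P + Q).det := by
    intro w
    have h := RingHom.map_det (Polynomial.evalRingHom w) A
    have h2 : (Polynomial.evalRingHom w).mapMatrix A = w • P + Q := by
      ext i j
      simp [A]
      ring
    rw [h2] at h
    exact h
  have hp : p ≠ 0 := by
    intro h0
    have := heval z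
    rw [h0, Polynomial.eval_zero] at this
    exact ((Matrix.isUnit_iff_isUnit_det _).mp hz).ne_zero this.symm
  by_contra hcon
  push Not at hcon
  apply hp
  apply Polynomial.eq_zero_of_infinite_isRoot
  apply Set.Infinite.mono (s := Set.range (Nat.cast : ℕ → ℂ))
  · rintro _ ⟨s, rfl⟩
    simp only [Set.mem_ofPred_eq, Polynomial.IsRoot.def, heval]
    by_contra hne
    exact hcon s ((Matrix.isUnit_iff_isUnit_det _).mpr (Ne.isUnit hne))
  · exact Set.infinite_range_of_injective Nat.cast_injective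

section realStructure
variable {G : Type u} [Group G] [Fintype G] {n : ℕ} {ρ : Representation ℂ G (Fin n → ℂ)}

/-- Entrywise complex conjugation of matrices, as a ring homomorphism. -/
noncomputable def cjM (n : ℕ) : Matrix (Fin n) (Fin n) ℂ →+* Matrix (Fin n) (Fin n) ℂ :=
  (starRingEnd ℂ).mapMatrix

omit [Fintype G] in
theorem cjM_apply (A : Matrix (Fin n) (Fin n) ℂ) (i j : Fin n) : cjM n A i j = conj (A i j) := rfl

omit [Fintype G] in
theorem cjM_cjM (A : Matrix (Fin n) (Fin n) ℂ) : cjM n (cjM n A) = A := by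
  ext i j; simp [cjM_apply]

omit [Fintype G] in
theorem cjM_transpose (A : Matrix (Fin n) (Fin n) ℂ) : cjM n Aᵀ = Aᴴ := by
  ext i j; simp [cjM_apply, Matrix.conjTranspose_apply]

omit [Fintype G] in
theorem cjM_eq_transpose_of_isHermitian {A : Matrix (Fin n) (Fin n) ℂ} (hA : A.IsHermitian) :
    cjM n A = Aᵀ := by
  have : Aᴴ = A := hA
  ext i j
  have h := congrFun (congrFun this j) i
  simp only [Matrix.conjTranspose_apply] at h
  rw [cjM_apply, Matrix.transpose_apply]
  rw [← h]; simp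

omit [Fintype G] in
theorem cjM_smul (c : ℂ) (A : Matrix (Fin n) (Fin n) ℂ) : cjM n (c • A) = conj c • cjM n A := by
  ext i j; simp [cjM_apply]

/-- If `fsInd ρ = 1` there is an invertible symmetric invariant form. -/
theorem exists_symm_invForm (hρ : ρ.IsIrreducible) (h : fsInd ρ = 1) :
    ∃ M : Matrix (Fin n) (Fin n) ℂ, IsUnit M ∧ IsInvForm ρ M ∧ Mᵀ = M := by
  by_cases hex : ∃ M : Matrix (Fin n) (Fin n) ℂ, M ≠ 0 ∧ IsInvForm ρ M
  · obtain ⟨M, hM0, hM⟩ := hex
    have hu := hM.isUnit hρ hM0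
    obtain ⟨c, hc⟩ := hM.eq_smul hρ hu hM.transpose
    have hfs := fsInd_eq_of_transpose hρ hM hu hc
    rw [h] at hfs
    refine ⟨M, hu, hM, ?_⟩
    rw [hc, ← hfs, one_smul]
  · exfalso
    push Not at hex
    have h0 : ∀ A, avgForm ρ A = 0 := by
      intro A
      by_contra hA
      exact hex _ hA (avgForm_isInvForm ρ A)
    rw [fsInd_eq_sum_avgForm] at h
    simp [h0] at h

/-- `X(g) H⁻¹ = H⁻¹ X(g⁻¹)ᴴ` for the invariant Hermitian form `H`. -/
theorem repMat_mul_gramMat_inv (g : G) :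
    repMat ρ g * (gramMat ρ)⁻¹ = (gramMat ρ)⁻¹ * (repMat ρ g⁻¹)ᴴ := by
  have hu : IsUnit (gramMat ρ) := (gramMat_posDef ρ).isUnit
  have hdet : IsUnit (gramMat ρ).det := (Matrix.isUnit_iff_isUnit_det _).mp hu
  have hinv := gramMat_invariant ρ g⁻¹
  set H := gramMat ρ
  -- H = X(g⁻¹)ᴴ H X(g⁻¹)  ⇒  H X(g) = X(g⁻¹)ᴴ H
  have h1 : H * repMat ρ g = (repMat ρ g⁻¹)ᴴ * H := by
    calc H * repMat ρ g = ((repMat ρ g⁻¹)ᴴ * H * repMat ρ g⁻¹) * repMat ρ g := by rw [hinv]
      _ = (repMat ρ g⁻¹)ᴴ * H * (repMat ρ g⁻¹ * repMat ρ g) := by simp only [Matrix.mul_assoc]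
      _ = (repMat ρ g⁻¹)ᴴ * H := by rw [repMat_inv_mul, Matrix.mul_one]
  calc repMat ρ g * H⁻¹ = H⁻¹ * (H * repMat ρ g) * H⁻¹ := by
        rw [← Matrix.mul_assoc, Matrix.nonsing_inv_mul H hdet, Matrix.one_mul]
    _ = H⁻¹ * ((repMat ρ g⁻¹)ᴴ * H) * H⁻¹ := by rw [h1]
    _ = H⁻¹ * (repMat ρ g⁻¹)ᴴ := by
        rw [Matrix.mul_assoc, Matrix.mul_assoc, Matrix.mul_nonsing_inv H hdet, Matrix.mul_one]

/-- The antilinear structure matrix `N₀ = H⁻¹ M̄` satisfies `X N₀ = N₀ X̄`. -/
theorem repMat_mul_structure {M : Matrix (Fin n) (Fin n) ℂ} (hM : IsInvForm ρ M) (g : G) :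
    repMat ρ g * ((gramMat ρ)⁻¹ * cjM n M) =
      ((gramMat ρ)⁻¹ * cjM n M) * cjM n (repMat ρ g) := by
  have h1 := hM.mul_repMat g
  have h2 : cjM n M * cjM n (repMat ρ g) = (repMat ρ g⁻¹)ᴴ * cjM n M := by
    rw [← map_mul, h1, map_mul, cjM_transpose]
  rw [← Matrix.mul_assoc, repMat_mul_gramMat_inv, Matrix.mul_assoc, ← h2, Matrix.mul_assoc]


omit [Fintype G] in
/-- Abstract step: a matrix `N₀` with `X N₀ = N₀ X̄` gives `Z = N₀ N̄₀` commuting with `X`. -/
theorem structure_sq_comm {N₀ : Matrix (Fin n) (Fin n) ℂ}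
    (hN : ∀ g : G, repMat ρ g * N₀ = N₀ * cjM n (repMat ρ g)) (g : G) :
    (N₀ * cjM n N₀) * repMat ρ g = repMat ρ g * (N₀ * cjM n N₀) := by
  have h1 : cjM n N₀ * repMat ρ g = cjM n (repMat ρ g) * cjM n N₀ := by
    have := congrArg (cjM n) (hN g)
    rw [map_mul, map_mul, cjM_cjM] at this
    exact this.symm
  rw [Matrix.mul_assoc, h1, ← Matrix.mul_assoc, ← hN g, Matrix.mul_assoc]

/-- The scalar `μ` with `N₀ N̄₀ = μ` is a positive real. -/
theorem structure_sq_pos (hρ : ρ.IsIrreducible) {M : Matrix (Fin n) (Fin n) ℂ}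
    (hu : IsUnit M) (hM : IsInvForm ρ M) (hsymm : Mᵀ = M) :
    ∃ μ : ℝ, 0 < μ ∧
      ((gramMat ρ)⁻¹ * cjM n M) * cjM n ((gramMat ρ)⁻¹ * cjM n M) = (μ : ℂ) • 1 := by
  classical
  have hHpd := gramMat_posDef ρ
  have hHu : IsUnit (gramMat ρ) := hHpd.isUnit
  have hHdet : IsUnit (gramMat ρ).det := (Matrix.isUnit_iff_isUnit_det _).mp hHu
  set H := gramMat ρ with hH
  set N₀ := H⁻¹ * cjM n M with hN₀
  obtain ⟨μ, hμ⟩ := matrix_schur hρ (Z := N₀ * cjM n N₀)
    (structure_sq_comm (fun g => repMat_mul_structure hM g))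
  -- W = Mᴴ (H⁻¹)ᵀ M is positive definite and equals μ H
  have hKpd : (H⁻¹)ᵀ.PosDef := hHpd.inv.transpose
  have hMinj : Function.Injective M.mulVec := Matrix.mulVec_injective_iff_isUnit.mpr hu
  have hWpd : (Mᴴ * (H⁻¹)ᵀ * M).PosDef := hKpd.conjTranspose_mul_mul_same hMinj
  have hcjM : cjM n M = Mᴴ := by rw [← cjM_transpose, hsymm]
  have hcjK : cjM n H⁻¹ = (H⁻¹)ᵀ := cjM_eq_transpose_of_isHermitian hHpd.inv.isHermitian
  have hZ : N₀ * cjM n N₀ = H⁻¹ * (Mᴴ * (H⁻¹)ᵀ * M) := by
    rw [hN₀, map_mul, cjM_cjM, hcjK, hcjM]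
    simp only [Matrix.mul_assoc]
  have hW : Mᴴ * (H⁻¹)ᵀ * M = μ • H := by
    have : H * (N₀ * cjM n N₀) = Mᴴ * (H⁻¹)ᵀ * M := by
      rw [hZ, ← Matrix.mul_assoc, Matrix.mul_nonsing_inv H hHdet, Matrix.one_mul]
    rw [← this, hμ]
    simp
  have hn : 0 < n := by
    have := finrank_pos_of_irr hρ
    exact Nat.pos_of_ne_zero (by exact_mod_cast this)
  let i : Fin n := ⟨0, hn⟩
  have h1 : 0 < (Mᴴ * (H⁻¹)ᵀ * M) i i := hWpd.diag_pos
  have h2 : 0 < H i i := hHpd.diag_pos
  rw [hW, Matrix.smul_apply, smul_eq_mul] at h1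
  -- H i i is a positive real; so is μ * H i i; hence μ is a positive real
  rw [Complex.pos_iff] at h1 h2
  have hre : (μ * H i i).re = μ.re * (H i i).re := by
    rw [Complex.mul_re, ← h2.2]; ring
  have him : (μ * H i i).im = μ.im * (H i i).re := by
    rw [Complex.mul_im, ← h2.2]; ring
  have hμim : μ.im = 0 := by
    have := h1.2
    rw [him] at this
    rcases mul_eq_zero.mp this.symm with h | h
    · exact h
    · exact absurd h h2.1.ne'
  have hμre : 0 < μ.re := by
    have := h1.1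
    rw [hre] at this
    exact (pos_iff_pos_of_mul_pos this).mpr h2.1
  refine ⟨μ.re, hμre, ?_⟩
  rw [hμ]
  congr 1
  apply Complex.ext <;> simp [hμim]


/-- Existence of an antilinear involutive structure commuting with the representation. -/
theorem exists_structure (hρ : ρ.IsIrreducible) (h : fsInd ρ = 1) :
    ∃ N : Matrix (Fin n) (Fin n) ℂ, N * cjM n N = 1 ∧
      ∀ g : G, repMat ρ g * N = N * cjM n (repMat ρ g) := by
  obtain ⟨M, hu, hM, hsymm⟩ := exists_symm_invForm hρ h
  obtain ⟨μ, hμpos, hμ⟩ := structure_sq_pos hρ hu hM hsymm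
  set N₀ := (gramMat ρ)⁻¹ * cjM n M with hN₀
  have hcomm : ∀ g : G, repMat ρ g * N₀ = N₀ * cjM n (repMat ρ g) :=
    fun g => repMat_mul_structure hM g
  set r : ℝ := (Real.sqrt μ)⁻¹ with hr
  have hr2 : (r : ℂ) * (r : ℂ) * (μ : ℂ) = 1 := by
    have h1 : r * r * μ = 1 := by
      rw [hr]
      have hs : Real.sqrt μ ≠ 0 := (Real.sqrt_pos.mpr hμpos).ne'
      have hs2 : Real.sqrt μ * Real.sqrt μ = μ := Real.mul_self_sqrt hμpos.le
      field_simp
      rw [sq, hs2]
    exact_mod_cast h1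
  refine ⟨(r : ℂ) • N₀, ?_, ?_⟩
  · rw [cjM_smul, Complex.conj_ofReal, Matrix.smul_mul, Matrix.mul_smul, smul_smul, hμ, smul_smul,
      hr2, one_smul]
  · intro g
    rw [Matrix.mul_smul, Matrix.smul_mul, hcomm g]

omit [Fintype G] in
/-- Hilbert 90 for `GL_n(ℂ)/ℝ`: a matrix `N` with `N N̄ = 1` is of the form `B B̄⁻¹`. -/
theorem exists_real_basis {N : Matrix (Fin n) (Fin n) ℂ} (hN : N * cjM n N = 1) :
    ∃ B : Matrix (Fin n) (Fin n) ℂ, IsUnit B ∧ N * cjM n B = B := by
  -- pencil s (1 + N) + i (1 - N), invertible at s = i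
  have hz : IsUnit (Complex.I • ((1 : Matrix (Fin n) (Fin n) ℂ) + N) + Complex.I • (1 - N)) := by
    have : Complex.I • ((1 : Matrix (Fin n) (Fin n) ℂ) + N) + Complex.I • (1 - N) =
        (2 * Complex.I) • (1 : Matrix (Fin n) (Fin n) ℂ) := by
      rw [smul_add, smul_sub, two_mul, add_smul]
      abel
    rw [this]
    have h2 : IsUnit (2 * Complex.I) := by
      apply Ne.isUnit
      simp
    rw [Matrix.isUnit_iff_isUnit_det, Matrix.det_smul, Matrix.det_one, mul_one]
    exact h2.pow _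
  obtain ⟨s, hs⟩ := exists_nat_isUnit_pencil _ _ _ hz
  set c : ℂ := (s : ℂ) + Complex.I with hc
  have hB : (s : ℂ) • ((1 : Matrix (Fin n) (Fin n) ℂ) + N) + Complex.I • (1 - N) =
      c • (1 : Matrix (Fin n) (Fin n) ℂ) + conj c • N := by
    have hcc : conj c = (s : ℂ) - Complex.I := by
      rw [hc, map_add, Complex.conj_I, Complex.conj_natCast]; ring
    rw [hcc, hc, smul_add, smul_sub, add_smul, sub_smul]
    abel
  rw [hB] at hs
  refine ⟨_, hs, ?_⟩
  rw [map_add, cjM_smul, cjM_smul, Complex.conj_conj, map_one, Matrix.mul_add, Matrix.mul_smul,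
    Matrix.mul_smul, hN, Matrix.mul_one, add_comm]


/-- A representation with indicator `1` is conjugate to a real matrix representation. -/
theorem exists_real_matrices (hρ : ρ.IsIrreducible) (h : fsInd ρ = 1) :
    ∃ B : Matrix (Fin n) (Fin n) ℂ, IsUnit B ∧
      ∀ g : G, cjM n (B⁻¹ * repMat ρ g * B) = B⁻¹ * repMat ρ g * B := by
  obtain ⟨N, hN1, hN2⟩ := exists_structure hρ h
  obtain ⟨B, hBu, hB⟩ := exists_real_basis hN1
  have hdet : IsUnit B.det := (Matrix.isUnit_iff_isUnit_det _).mp hBu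
  refine ⟨B, hBu, fun g => ?_⟩
  set Y := B⁻¹ * repMat ρ g * B with hY
  have hXB : repMat ρ g * B = B * Y := by
    rw [hY, ← Matrix.mul_assoc, ← Matrix.mul_assoc, Matrix.mul_nonsing_inv B hdet, Matrix.one_mul]
  have h1 : repMat ρ g * B = B * cjM n Y := by
    calc repMat ρ g * B = repMat ρ g * (N * cjM n B) := by rw [hB]
      _ = N * cjM n (repMat ρ g) * cjM n B := by rw [← Matrix.mul_assoc, hN2 g]
      _ = N * cjM n (repMat ρ g * B) := by rw [map_mul, Matrix.mul_assoc]
      _ = N * cjM n (B * Y) := by rw [hXB]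
      _ = N * cjM n B * cjM n Y := by rw [map_mul, Matrix.mul_assoc]
      _ = B * cjM n Y := by rw [hB]
  have h2 : B * Y = B * cjM n Y := hXB.symm.trans h1
  calc cjM n Y = B⁻¹ * (B * cjM n Y) := by
        rw [← Matrix.mul_assoc, Matrix.nonsing_inv_mul B hdet, Matrix.one_mul]
    _ = B⁻¹ * (B * Y) := by rw [h2]
    _ = Y := by rw [← Matrix.mul_assoc, Matrix.nonsing_inv_mul B hdet, Matrix.one_mul]

/-- A representation with indicator `1` is afforded by a real representation. -/
theorem exists_real_rep (hρ : ρ.IsIrreducible) (h : fsInd ρ = 1) :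
    ∃ ρr : Representation ℝ G (Fin n → ℝ),
      ∀ g : G, ((LinearMap.trace ℝ (Fin n → ℝ) (ρr g) : ℝ) : ℂ) = ρ.character g := by
  classical
  obtain ⟨B, hBu, hB⟩ := exists_real_matrices hρ h
  have hdet : IsUnit B.det := (Matrix.isUnit_iff_isUnit_det _).mp hBu
  let Y : G → Matrix (Fin n) (Fin n) ℂ := fun g => B⁻¹ * repMat ρ g * B
  let Yr : G → Matrix (Fin n) (Fin n) ℝ := fun g => (Y g).map Complex.re
  have hYr : ∀ g, (Yr g).map Complex.ofRealHom = Y g := by
    intro g
    ext i j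
    have := congrFun (congrFun (hB g) i) j
    rw [cjM_apply] at this
    simp only [Yr, Matrix.map_apply, Complex.ofRealHom_eq_coe]
    exact (Complex.conj_eq_iff_re.mp this)
  have hY1 : Y 1 = 1 := by
    simp only [Y, repMat_one, Matrix.mul_one, Matrix.nonsing_inv_mul B hdet]
  have hYmul : ∀ g h, Y (g * h) = Y g * Y h := by
    intro g h
    simp only [Y, repMat_mul]
    calc B⁻¹ * (repMat ρ g * repMat ρ h) * B
        = B⁻¹ * repMat ρ g * (B * B⁻¹) * repMat ρ h * B := by
          rw [Matrix.mul_nonsing_inv B hdet, Matrix.mul_one]; simp only [Matrix.mul_assoc]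
      _ = B⁻¹ * repMat ρ g * B * (B⁻¹ * repMat ρ h * B) := by simp only [Matrix.mul_assoc]
  have hinj : Function.Injective
      (fun A : Matrix (Fin n) (Fin n) ℝ => A.map Complex.ofRealHom) :=
    Matrix.map_injective Complex.ofReal_injective
  have hYr1 : Yr 1 = 1 := by
    apply hinj
    simp only
    rw [hYr, hY1]
    exact (Matrix.map_one _ (map_zero _) (map_one _)).symm
  have hYrmul : ∀ g h, Yr (g * h) = Yr g * Yr h := by
    intro g h
    apply hinj
    simp only
    rw [hYr, hYmul, Matrix.map_mul, hYr, hYr]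
  let ρr : Representation ℝ G (Fin n → ℝ) :=
    { toFun := fun g => Matrix.toLin' (Yr g)
      map_one' := by rw [hYr1, Matrix.toLin'_one]; rfl
      map_mul' := fun g h => by rw [hYrmul, Matrix.toLin'_mul]; rfl }
  refine ⟨ρr, fun g => ?_⟩
  have h1 : LinearMap.trace ℝ (Fin n → ℝ) (ρr g) = (Yr g).trace := by
    rw [LinearMap.trace_eq_matrix_trace ℝ (Pi.basisFun ℝ (Fin n)), LinearMap.toMatrix_eq_toMatrix']
    simp [ρr]
  rw [h1]
  have h2 : ((Yr g).trace : ℂ) = ((Yr g).map Complex.ofRealHom).trace :=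
    AddMonoidHom.map_trace Complex.ofRealHom (Yr g)
  rw [h2, hYr, character_eq_trace_repMat]
  simp only [Y]
  rw [Matrix.trace_mul_comm, ← Matrix.mul_assoc, Matrix.mul_nonsing_inv B hdet, Matrix.one_mul]

end realStructure
end Cfsg.Agent.Helper74
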