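import Cfsg.Agent.Helper61.TwoPDefs
import Cfsg.Agent.Helper74.CharBasic
import Cfsg.Agent.Helper79.Linear

/-!
# S4707 (helper61), piece (C): inner products against functions constant on `p`-singular elements
-/

set_option autoImplicit false

namespace Cfsg.Agent.Helper74.TwoP

open Cfsg Cfsg.Agent.Helper61.TwoP
open scoped ComplexConjugate

variable {G : Type*} [Group G] [Fintype G] {p : ℕ}

/-- If `Φ` vanishes on `p`-regular elements and `F = c` on `p`-singular elements then
`⟨F, Φ⟩ = c ⟨1, Φ⟩`. -/
theorem classInner_eq_of_const (F Φ : G → ℂ) (c : ℂ) (hF : ∀ g, p ∣ orderOf g → F g = c)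
    (hΦ : ∀ g, ¬ p ∣ orderOf g → Φ g = 0) :
    classInner F Φ = c * classInner (fun _ => (1 : ℂ)) Φ := by
  unfold classInner
  have h : ∀ g : G, F g * conj (Φ g) = c * ((1 : ℂ) * conj (Φ g)) := by
    intro g
    by_cases hg : p ∣ orderOf g
    · rw [hF g hg]; ring
    · rw [hΦ g hg]; simp
  simp_rw [h]
  rw [← Finset.mul_sum]
  ring

theorem classInner_combo (F η χ : G → ℂ) (a b : ℂ) (ha : conj a = a) (hb : conj b = b) :
    classInner F (fun g => a * η g + 1 + b * χ g) =
      a * classInner F η + classInner F (fun _ => (1 : ℂ)) + b * classInner F χ := by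
  unfold classInner
  have h : ∀ g, F g * conj (a * η g + 1 + b * χ g) =
      a * (F g * conj (η g)) + F g * conj (1 : ℂ) + b * (F g * conj (χ g)) := by
    intro g
    rw [map_add, map_add, map_mul, map_mul, ha, hb, map_one]; ring
  simp_rw [h]
  rw [Finset.sum_add_distrib, Finset.sum_add_distrib, ← Finset.mul_sum, ← Finset.mul_sum]
  ring

theorem classInner_one_irr (η : IrrCharacter G) (hη : η ≠ Helper79.principalIrr G) :
    classInner (fun _ => (1 : ℂ)) (η : G → ℂ) = 0 := by
  classical
  have h := Helper74.irr_orthonormal (Helper79.principalIrr G) η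
  rw [if_neg (fun h' => hη h'.symm)] at h
  exact h

theorem classInner_one_one : classInner (fun _ : G => (1 : ℂ)) (fun _ => (1 : ℂ)) = 1 := by
  classical
  have h := Helper74.irr_orthonormal (Helper79.principalIrr G) (Helper79.principalIrr G)
  rw [if_pos rfl] at h
  exact h

/-- (C) inner products against class functions constant on `p`-singular elements. -/
theorem inner_rel {ε δ : ℤ} {χ1 : IrrCharacter G} {Y : Set (IrrCharacter G)}
    (T : Std G p ε δ χ1 Y) (F : G → ℂ) (c : ℂ) (hF : ∀ g : G, p ∣ orderOf g → F g = c) :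
    (∀ η ∈ Y, ∀ η' ∈ Y, classInner F (η : G → ℂ) = classInner F (η' : G → ℂ)) ∧
    (∀ η ∈ Y, -(δ : ℂ) * classInner F (η : G → ℂ) + classInner F (fun _ => (1 : ℂ)) +
      (ε : ℂ) * classInner F (χ1 : G → ℂ) = c) := by
  have hne : ∀ η ∈ Y, η ≠ Helper79.principalIrr G := fun η hη h => T.one_nmem (h ▸ hη)
  constructor
  · intro η hη η' hη'
    have h1 : classInner F ((η : G → ℂ) - (η' : G → ℂ)) =
        c * classInner (fun _ => (1 : ℂ)) ((η : G → ℂ) - (η' : G → ℂ)) := by
      apply classInner_eq_of_const (p := p) F _ c hF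
      intro g hg
      rw [Pi.sub_apply, T.reg_eq η hη η' hη' g hg, sub_self]
    rw [Helper74.classInner_sub_right, Helper74.classInner_sub_right,
      classInner_one_irr η (hne η hη), classInner_one_irr η' (hne η' hη'), sub_self,
      mul_zero] at h1
    exact sub_eq_zero.mp h1
  · intro η hη
    have hδ : conj (-(δ : ℂ)) = -(δ : ℂ) := by rw [map_neg, map_intCast]
    have hε : conj (ε : ℂ) = (ε : ℂ) := map_intCast _ ε
    have h1 := classInner_eq_of_const (p := p) F
      (fun g => -(δ : ℂ) * (η : G → ℂ) g + 1 + (ε : ℂ) * (χ1 : G → ℂ) g) c hF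
      (fun g hg => T.rel η hη g hg)
    rw [classInner_combo F _ _ _ _ hδ hε, classInner_combo _ _ _ _ _ hδ hε,
      classInner_one_irr η (hne η hη), classInner_one_irr χ1 T.chi_ne, classInner_one_one] at h1
    rw [h1]; ring

end Cfsg.Agent.Helper74.TwoP
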