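import Cfsg.Agent.Helper74.DegP2
import Cfsg.Agent.Helper81.NilpotentMonomial

/-!
# Characters of degree `p` in `p`-groups, continued (helper74)

* `center_le_charCenter`, `charCenter_eq_top_of_degree_one`, `charCenter_le_of_vanOff`;
* `eq_one_of_forall_irr_eq`;
* `exists_vanOff_of_degree` (C1): a character of degree `p` vanishes off some normal subgroup of
  index `p`;
* `comm_of_forall_vanOff` (C2): if all characters of degree `p` vanish off `M` then `M` is abelian;
* `card_le_of_vanOff_of_not_vanOff` (C4).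
-/

set_option autoImplicit false

namespace Cfsg.Agent.Helper74

open Cfsg Cfsg.Agent.Helper15
open scoped ComplexConjugate commutatorElement

universe u

section
variable {G : Type u} [Group G] [Fintype G]

theorem center_le_charCenter (χ : IrrCharacter G) : Subgroup.center G ≤ charCenter χ := by
  intro z hz
  have hcomm : ∀ g, irrRep χ z * irrRep χ g = irrRep χ g * irrRep χ z := by
    intro g
    rw [← map_mul, ← map_mul, (Subgroup.mem_center_iff.mp hz g)]
  obtain ⟨c, hc⟩ :=
    Helper80.exists_scalar_of_commute (irrRep χ) (irrRep_isIrreducible χ) _ hcomm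
  exact ⟨c, hc⟩

theorem charCenter_eq_top_of_degree_one (χ : IrrCharacter G)
    (h : charDegree (χ : G → ℂ) = 1) : charCenter χ = ⊤ := by
  rw [eq_top_iff]
  intro g _
  rw [mem_charCenter_iff, h]
  have h1 : (χ : G → ℂ) 1 = 1 := by
    rw [← charDegree_cast (irr_isCharacter χ), h]; simp
  rw [linChar_norm (irr_isCharacter χ) h1 g]
  simp

theorem charCenter_le_of_vanOff (χ : IrrCharacter G) (M : Subgroup G)
    (h : VanOff (χ : G → ℂ) M) : charCenter χ ≤ M := by
  intro g hg
  by_contra hgM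
  have h0 := h g hgM
  rw [mem_charCenter_iff, h0, norm_zero] at hg
  have := charDegree_pos' χ
  have : (0 : ℝ) < (charDegree (χ : G → ℂ) : ℝ) := by exact_mod_cast this
  linarith

theorem eq_one_of_forall_irr_eq (g : G)
    (h : ∀ χ : IrrCharacter G, (χ : G → ℂ) g = (χ : G → ℂ) 1) : g = 1 := by
  classical
  let _ := irrFintype G
  have h1 := second_orthogonality (G := G) g 1
  have h2 := second_orthogonality (G := G) 1 1
  rw [if_pos (IsConj.refl 1)] at h2
  have h3 : ∑ χ : IrrCharacter G, (χ : G → ℂ) g * conj ((χ : G → ℂ) 1)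
      = ∑ χ : IrrCharacter G, (χ : G → ℂ) 1 * conj ((χ : G → ℂ) 1) :=
    Finset.sum_congr rfl (fun χ _ => by rw [h χ])
  rw [h3, h2] at h1
  by_contra hg
  rw [if_neg (by rwa [isConj_one_left])] at h1
  have : (Nat.card (Subgroup.centralizer ({1} : Set G)) : ℂ) ≠ 0 := by
    exact_mod_cast Nat.card_pos.ne'
  exact this h1

/-- A group all of whose irreducible characters are linear is abelian. -/
theorem comm_of_forall_degree_one (h : ∀ χ : IrrCharacter G, charDegree (χ : G → ℂ) = 1)
    (a b : G) : a * b = b * a := by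
  have : a ∈ Subgroup.center G := by
    apply mem_center_of_forall_mem_charCenter
    intro χ
    rw [charCenter_eq_top_of_degree_one χ (h χ)]
    trivial
  exact (Subgroup.mem_center_iff.mp this b).symm

end

section pgroup
variable {G : Type u} [Group G] [Fintype G] {p : ℕ} [hp : Fact p.Prime]

/-- A subgroup of index `p` of a finite `p`-group is normal. -/
theorem normal_of_index_eq_prime (hG : IsPGroup p G) (M : Subgroup G) (hMp : M.index = p) :
    M.Normal := by
  apply Subgroup.normal_of_index_eq_minFac_card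
  obtain ⟨n, hn⟩ := IsPGroup.iff_card.mp hG
  have hpd : p ∣ Nat.card G := by
    rw [← hMp]; exact Subgroup.index_dvd_card M
  have hn0 : n ≠ 0 := by
    rintro rfl
    rw [hn, pow_zero] at hpd
    exact hp.out.one_lt.ne' (Nat.dvd_one.mp hpd)
  rw [hMp, hn, Nat.pow_minFac hn0, hp.out.minFac_eq]

/-- (C1) A character of degree `p` of a `p`-group vanishes off a normal subgroup of index `p`. -/
theorem exists_vanOff_of_degree (hG : IsPGroup p G) (χ : IrrCharacter G)
    (hχ : charDegree (χ : G → ℂ) = p) :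
    ∃ M : Subgroup G, M.Normal ∧ M.index = p ∧ VanOff (χ : G → ℂ) M := by
  have : Group.IsNilpotent G := hG.isNilpotent
  obtain ⟨H, lam, hH⟩ := Helper81.isMonomial_of_nilpotent (Nat.card G) G rfl (χ : G → ℂ) χ.2
  have h1 : (χ : G → ℂ) 1 = (H.index : ℂ) := by
    rw [hH, indFun_apply_one, map_one, Units.val_one, mul_one]
  have hidx : H.index = p := by
    rw [← charDegree_cast (irr_isCharacter χ), hχ] at h1
    exact_mod_cast h1.symm
  have hn := normal_of_index_eq_prime hG H hidx
  refine ⟨H, hn, hidx, ?_⟩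
  rw [hH]
  exact vanOff_indFun H _

/-- (C2) If every character of degree `p` vanishes off `M`, then `M` is abelian. -/
theorem comm_of_forall_vanOff (hG : IsPGroup p G)
    (hcd : ∀ χ : IrrCharacter G, charDegree (χ : G → ℂ) = 1 ∨ charDegree (χ : G → ℂ) = p)
    (M : Subgroup G) [hMn : M.Normal] (hMp : M.index = p)
    (hall : ∀ χ : IrrCharacter G, charDegree (χ : G → ℂ) = p → VanOff (χ : G → ℂ) M) :
    ∀ a ∈ M, ∀ b ∈ M, a * b = b * a := by
  classical
  intro a ha b hb
  have hmem : ⁅a, b⁆ ∈ ⁅M, M⁆ := Subgroup.commutator_mem_commutator ha hb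
  have h1 : ⁅a, b⁆ = 1 := by
    apply eq_one_of_forall_irr_eq
    intro χ
    rcases hcd χ with h | h
    · have hχ1 : (χ : G → ℂ) 1 = 1 := by
        rw [← charDegree_cast (irr_isCharacter χ), h]; simp
      have hle : ⁅M, M⁆ ≤ _root_.commutator G := by
        rw [commutator_def]
        exact Subgroup.commutator_mono le_top le_top
      have := Abelianization.commutator_subset_ker (linCharUnits (irr_isCharacter χ) hχ1)
        (hle hmem)
      have h2 : linCharUnits (irr_isCharacter χ) hχ1 ⁅a, b⁆ = 1 := this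
      rw [← linCharUnits_apply (irr_isCharacter χ) hχ1, h2, hχ1]
      simp
    · exact apply_commutator_of_vanOff hG M hMp χ h (hall χ h) _ hmem
  exact commutatorElement_eq_one_iff_mul_comm.mp h1

/-- (C4) If `χ` vanishes off `M` and `χ'` does not, then `|M| ≤ p² |Z(χ)|`, and in case of
equality `Z(χ) ≤ Z(χ')`. -/
theorem card_le_of_vanOff_of_not_vanOff (hG : IsPGroup p G)
    (hcd : ∀ χ : IrrCharacter G, charDegree (χ : G → ℂ) ≤ p)
    (M : Subgroup G) [hMn : M.Normal] (hMp : M.index = p)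
    (χ : IrrCharacter G) (hχ : charDegree (χ : G → ℂ) = p) (h : VanOff (χ : G → ℂ) M)
    (χ' : IrrCharacter G) (hχ' : charDegree (χ' : G → ℂ) = p) (h' : ¬ VanOff (χ' : G → ℂ) M) :
    Nat.card M ≤ p ^ 2 * Nat.card (charCenter χ) ∧
      (Nat.card M = p ^ 2 * Nat.card (charCenter χ) → charCenter χ ≤ charCenter χ') := by
  classical
  have hψ := restrict_irr_of_not_vanOff hG M hMp χ' hχ' h'
  have hsum := sum_norm_sq_of_inner_one (irr_inner_self (⟨_, hψ⟩ : IrrCharacter M))
  have hLM : charCenter χ ≤ M := charCenter_le_of_vanOff χ M h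
  -- rewrite the sum over `M` as a sum over the filter
  have e1 : (∑ m : M, ‖(χ' : G → ℂ) m‖ ^ 2 : ℝ)
      = ∑ g ∈ Finset.univ.filter (fun g : G => g ∈ M), ‖(χ' : G → ℂ) g‖ ^ 2 :=
    sum_subgroup_eq_sum_filter M (fun g => ‖(χ' : G → ℂ) g‖ ^ 2)
  have e2 : (∑ g ∈ Finset.univ.filter (fun g : G => g ∈ charCenter χ), ‖(χ' : G → ℂ) g‖ ^ 2 : ℝ)
      = ∑ g ∈ Finset.univ.filter (fun g : G => g ∈ M), ‖(χ' : G → ℂ) g‖ ^ 2 := by
    apply Finset.sum_subset
    · intro g hg
      rw [Finset.mem_filter] at hg ⊢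
      exact ⟨hg.1, hLM hg.2⟩
    · intro g hg hg'
      rw [Finset.mem_filter] at hg
      have hgL : g ∉ charCenter χ := fun hgL => hg' (Finset.mem_filter.mpr ⟨Finset.mem_univ _, hgL⟩)
      have : (χ' : G → ℂ) g = 0 := by
        by_contra hne
        exact hgL (mem_charCenter_of_ne_zero hG hcd M hMp χ hχ h χ' hχ' h' g hg.2 hne)
      rw [this]; simp
  have hcardL : (Finset.univ.filter (fun g : G => g ∈ charCenter χ)).card
      = Nat.card (charCenter χ) := by
    rw [Nat.card_eq_fintype_card, Fintype.card_subtype]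
  have hbound : ∀ g : G, ‖(χ' : G → ℂ) g‖ ^ 2 ≤ (p : ℝ) ^ 2 := by
    intro g
    have h1 := norm_le_charDegree (irr_isCharacter χ') g
    rw [hχ'] at h1
    have h0 := norm_nonneg ((χ' : G → ℂ) g)
    nlinarith
  have e3 : (∑ g ∈ Finset.univ.filter (fun g : G => g ∈ charCenter χ), ‖(χ' : G → ℂ) g‖ ^ 2 : ℝ)
      ≤ (p : ℝ) ^ 2 * (Nat.card (charCenter χ) : ℝ) := by
    calc _ ≤ ∑ _g ∈ Finset.univ.filter (fun g : G => g ∈ charCenter χ), (p : ℝ) ^ 2 :=
          Finset.sum_le_sum (fun g _ => hbound g)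
      _ = _ := by rw [Finset.sum_const, hcardL, nsmul_eq_mul, mul_comm]
  have hM : (Nat.card M : ℝ) = ∑ g ∈ Finset.univ.filter (fun g : G => g ∈ charCenter χ),
      ‖(χ' : G → ℂ) g‖ ^ 2 := by
    rw [e2, ← e1]
    exact hsum.symm
  constructor
  · have : (Nat.card M : ℝ) ≤ (p : ℝ) ^ 2 * (Nat.card (charCenter χ) : ℝ) := hM ▸ e3
    exact_mod_cast this
  · intro heq g hg
    have heq' : (Nat.card M : ℝ) = (p : ℝ) ^ 2 * (Nat.card (charCenter χ) : ℝ) := by
      exact_mod_cast heq
    have hz : ∑ g ∈ Finset.univ.filter (fun g : G => g ∈ charCenter χ),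
        ((p : ℝ) ^ 2 - ‖(χ' : G → ℂ) g‖ ^ 2) = 0 := by
      rw [Finset.sum_sub_distrib, ← hM, Finset.sum_const, hcardL, nsmul_eq_mul, heq']
      ring
    have hz' := (Finset.sum_eq_zero_iff_of_nonneg
      (fun g _ => sub_nonneg.mpr (hbound g))).mp hz g
      (Finset.mem_filter.mpr ⟨Finset.mem_univ _, hg⟩)
    rw [mem_charCenter_iff, hχ']
    have h0 := norm_nonneg ((χ' : G → ℂ) g)
    have hp0 : (0 : ℝ) ≤ (p : ℝ) := Nat.cast_nonneg p
    have hsq : ‖(χ' : G → ℂ) g‖ ^ 2 = (p : ℝ) ^ 2 := by linarith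
    nlinarith [sq_nonneg (‖(χ' : G → ℂ) g‖ - p), sq_nonneg (‖(χ' : G → ℂ) g‖ + p)]

end pgroup

end Cfsg.Agent.Helper74
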