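import Cfsg.Agent.Helper74.DefectZero
import Cfsg.Agent.Helper15.CliffordCorr
import Cfsg.Agent.Helper15.LinChar
import Cfsg.Agent.Helper76.CharCentral
import Cfsg.Agent.Helper80.CharBasic

/-!
# Ito's theorem

* `sum_char_inv_smul`: `∑ g, ψ(g⁻¹) σ(g) = (|T| / ψ(1)) · 1` for irreducible `σ`
* `finrank_mul_card_dvd_of_scalar`: if a subgroup `A` acts by scalars in an irreducible
  representation of `T` of degree `n`, then `n · |A|` divides `|T|`
* `ito_degree_dvd_index`: the degree of an irreducible character divides the index of any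
  abelian normal subgroup
-/

set_option autoImplicit false

namespace Cfsg.Agent.Helper74

open Cfsg
open scoped ComplexConjugate

universe u v

section scalar
variable {T : Type u} [Group T] [Fintype T] {W : Type v} [AddCommGroup W] [Module ℂ W]
  [FiniteDimensional ℂ W]

/-- `∑ g, ψ(g⁻¹) σ(g) = (|T| / ψ(1)) · 1` for an irreducible representation `σ`. -/
theorem sum_char_inv_smul (σ : Representation ℂ T W) (hσ : σ.IsIrreducible) :
    ∑ g : T, σ.character g⁻¹ • σ g =
      ((Nat.card T : ℂ) / (Module.finrank ℂ W : ℂ)) • (1 : Module.End ℂ W) := by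
  classical
  have hG : (Nat.card T : ℂ) ≠ 0 := by exact_mod_cast Nat.card_pos.ne'
  have hirr : IsIrrCharacter T σ.character := isIrrCharacter_of_rep σ hσ
  have hχc : IsCharacter T σ.character := isCharacter_of_isIrr hirr
  have hnorm := irr_inner_self (⟨σ.character, hirr⟩ : IrrCharacter T)
  simp only at hnorm
  set f : T → ℂ := fun g => σ.character g⁻¹ with hf
  have hfcl : IsClassFunction T f := by
    intro g h
    simp only [hf]
    rw [show (h * g * h⁻¹)⁻¹ = h * g⁻¹ * h⁻¹ by group]
    exact Representation.char_conj σ g⁻¹ h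
  obtain ⟨c, hc⟩ := schur_scalar σ hσ (classOpIntertwining hfcl σ)
  have hc' : classOp f σ = c • LinearMap.id := hc
  have hnt := nontrivial_of_isIrreducible σ hσ
  have hn0 : (Module.finrank ℂ W : ℂ) ≠ 0 := by
    exact_mod_cast (Module.finrank_pos (R := ℂ) (M := W)).ne'
  have hsum : ∑ g : T, f g * σ.character g = (Nat.card T : ℂ) := by
    rw [classInner_def] at hnorm
    have : ∑ g : T, f g * σ.character g = ∑ g : T, σ.character g * conj (σ.character g) := by
      refine Finset.sum_congr rfl (fun g _ => ?_)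
      simp only [hf]
      rw [char_inv hχc g, mul_comm]
    rw [this]
    field_simp at hnorm
    exact hnorm
  have hcval : c * (Module.finrank ℂ W : ℂ) = (Nat.card T : ℂ) := by
    have htr := trace_classOp f σ
    rw [hsum, hc'] at htr
    simpa using htr
  have hceq : c = (Nat.card T : ℂ) / (Module.finrank ℂ W : ℂ) := by
    field_simp
    exact hcval
  have : ∑ g : T, σ.character g⁻¹ • σ g = classOp f σ := rfl
  rw [this, hc', hceq]
  rfl

/-- If the subgroup `A` acts by scalars in the irreducible representation `σ` of `T`, then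
`σ(1) · |A|` divides `|T|`. -/
theorem finrank_mul_card_dvd_of_scalar (σ : Representation ℂ T W) (hσ : σ.IsIrreducible)
    (A : Subgroup T) (hA : ∀ a ∈ A, ∃ c : ℂ, σ a = c • (1 : Module.End ℂ W)) :
    Module.finrank ℂ W * Nat.card A ∣ Nat.card T := by
  classical
  have hnt := nontrivial_of_isIrreducible σ hσ
  have hn0 : Module.finrank ℂ W ≠ 0 := (Module.finrank_pos (R := ℂ) (M := W)).ne'
  have hn0' : (Module.finrank ℂ W : ℂ) ≠ 0 := by exact_mod_cast hn0
  have hA0 : Nat.card A ≠ 0 := Nat.card_pos.ne'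
  have hA0' : (Nat.card A : ℂ) ≠ 0 := by exact_mod_cast hA0
  have hχc : IsCharacter T σ.character := isCharacter_of_rep σ
  set F : T → Module.End ℂ W := fun g => σ.character g⁻¹ • σ g with hF
  -- right invariance under `A`
  have hinv : ∀ (g : T) (a : A), F (g * a) = F g := by
    intro g a
    obtain ⟨c, hc⟩ := hA a a.2
    have hone : (1 : Module.End ℂ W) ≠ 0 := one_ne_zero
    have hc0 : c ≠ 0 := by
      intro h0
      have h1 : σ (a : T)⁻¹ * σ (a : T) = 1 := by rw [← map_mul, inv_mul_cancel, map_one]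
      rw [hc, h0, zero_smul, mul_zero] at h1
      exact hone h1.symm
    have hinvc : σ (a : T)⁻¹ = c⁻¹ • (1 : Module.End ℂ W) := by
      have h1 : σ (a : T)⁻¹ * σ (a : T) = 1 := by rw [← map_mul, inv_mul_cancel, map_one]
      rw [hc, mul_smul_comm, mul_one] at h1
      rw [← h1, smul_smul, inv_mul_cancel₀ hc0, one_smul]
    simp only [hF]
    have h2 : σ (g * a) = c • σ g := by
      rw [map_mul, hc, mul_smul_comm, mul_one]
    have h3 : σ.character (g * a)⁻¹ = c⁻¹ * σ.character g⁻¹ := by
      rw [mul_inv_rev]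
      unfold Representation.character
      rw [map_mul, hinvc, smul_mul_assoc, one_mul, map_smul, smul_eq_mul]
    rw [h2, h3, smul_smul, mul_comm c⁻¹, mul_assoc, inv_mul_cancel₀ hc0, mul_one]
  -- a transversal
  obtain ⟨R, hR, -⟩ := Subgroup.exists_isComplement_left A (1 : T)
  have hRfin : Fintype R := Fintype.ofFinite R
  have hsumR : ∑ g : T, F g = (Nat.card A : ℂ) • ∑ r : R, F (r : T) := by
    let e : R × (A : Set T) ≃ T :=
      Equiv.ofBijective (fun x : R × (A : Set T) => (x.1 : T) * (x.2 : T)) hR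
    have he : ∀ (r : R) (a : (A : Set T)), e (r, a) = (r : T) * (a : T) := fun _ _ => rfl
    rw [← Equiv.sum_comp e F, Fintype.sum_prod_type]
    have : ∀ r : R, ∑ a : (A : Set T), F (e (r, a)) = (Nat.card A : ℂ) • F (r : T) := by
      intro r
      have h1 : ∀ a : (A : Set T), F (e (r, a)) = F (r : T) := fun a => by
        rw [he]; exact hinv (r : T) ⟨a.1, a.2⟩
      rw [Finset.sum_congr rfl (fun a _ => h1 a), Finset.sum_const, Finset.card_univ,
        ← Nat.cast_smul_eq_nsmul ℂ]
      congr 2
      rw [Nat.card_eq_fintype_card]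
      rfl
    rw [Finset.sum_congr rfl (fun r _ => this r), ← Finset.smul_sum]
  set α : ℂ := (Nat.card T : ℂ) / ((Module.finrank ℂ W * Nat.card A : ℕ) : ℂ) with hα
  have hαR : α • (1 : Module.End ℂ W) = ∑ r : R, F (r : T) := by
    have h1 := sum_char_inv_smul σ hσ
    have h2 : ∑ g : T, F g = ∑ g : T, σ.character g⁻¹ • σ g := rfl
    rw [← h2, hsumR] at h1
    have h3 : ∑ r : R, F (r : T) = (Nat.card A : ℂ)⁻¹ • ((Nat.card T : ℂ) /
        (Module.finrank ℂ W : ℂ)) • (1 : Module.End ℂ W) := by
      rw [← h1, smul_smul, inv_mul_cancel₀ hA0', one_smul]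
    rw [h3, smul_smul, hα]
    congr 1
    push_cast
    field_simp
  -- integrality
  let N : Submodule AlgInt (Module.End ℂ W) := Submodule.span AlgInt (Set.range σ)
  have hNne : N ≠ ⊥ := by
    intro h
    have h1 : σ 1 ∈ N := Submodule.subset_span ⟨1, rfl⟩
    rw [h, Submodule.mem_bot, map_one] at h1
    exact one_ne_zero h1
  have hNfg : N.FG := Submodule.fg_span (Set.finite_range _)
  have hαN : ∀ n ∈ N, α • n ∈ N := by
    intro n hn
    induction hn using Submodule.span_induction with
    | mem x hx =>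
      obtain ⟨g, rfl⟩ := hx
      have h1 : α • σ g = (α • (1 : Module.End ℂ W)) * σ g := by
        rw [smul_mul_assoc, one_mul]
      rw [h1, hαR, Finset.sum_mul]
      refine Submodule.sum_mem _ (fun r _ => ?_)
      simp only [hF]
      rw [smul_mul_assoc, ← map_mul]
      have hint : IsIntegral ℤ (σ.character (r : T)⁻¹) :=
        Cfsg.Agent.Helper80.IsCharacter.isIntegral hχc _
      have : σ.character (r : T)⁻¹ • σ ((r : T) * g) =
          (⟨σ.character (r : T)⁻¹, hint⟩ : AlgInt) • σ ((r : T) * g) := rfl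
      rw [this]
      exact Submodule.smul_mem _ _ (Submodule.subset_span ⟨_, rfl⟩)
    | zero => rw [smul_zero]; exact Submodule.zero_mem _
    | add x y _ _ hx hy => rw [smul_add]; exact Submodule.add_mem _ hx hy
    | smul c x _ hx =>
      rw [smul_comm]
      exact Submodule.smul_mem _ _ hx
  have hint1 : IsIntegral AlgInt α := isIntegral_of_smul_mem_submodule N hNne hNfg α hαN
  have hint : IsIntegral ℤ α := isIntegral_trans α hint1
  exact Cfsg.Agent.Helper80.dvd_of_isIntegral_div (Nat.mul_ne_zero hn0 hA0) hint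

end scalar

/-- **Ito's theorem**: the degree of an irreducible character divides the index of any abelian
normal subgroup. -/
theorem ito_degree_dvd_index {G : Type u} [Group G] [Fintype G] (H : Subgroup G) [hHn : H.Normal]
    (hH : ∀ a ∈ H, ∀ b ∈ H, a * b = b * a) {χ : G → ℂ} (hχ : IsIrrCharacter G χ) :
    ∃ n : ℕ, χ 1 = n ∧ n ∣ H.index := by
  classical
  let _ : Fintype H := Fintype.ofFinite H
  let _ := irrFintype H
  have hχc : IsCharacter G χ := isCharacter_of_isIrr hχ
  have hres : IsCharacter H (fun h : H => χ h) := isCharacter_restrict H hχc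
  have hdec := isCharacter_eq_sum_irr hres
  have hex : ∃ lam : IrrCharacter H, classInner (fun h : H => χ h) (lam : H → ℂ) ≠ 0 := by
    by_contra hcon
    push Not at hcon
    have h0 : (fun h : H => χ h) = 0 := by
      rw [hdec]
      refine Finset.sum_eq_zero (fun lam _ => ?_)
      rw [hcon lam, zero_smul]
    have h1 := congrFun h0 1
    exact Helper80.IsIrrCharacter.map_one_ne_zero hχ (by simpa using h1)
  obtain ⟨lam, hlam⟩ := hex
  have hcommH : ∀ a b : H, a * b = b * a := fun a b => Subtype.ext (hH a a.2 b b.2)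
  have hlam1 : (lam : H → ℂ) 1 = 1 := Helper76.irr_one_of_comm hcommH lam.2
  have hlamc : IsCharacter H (lam : H → ℂ) := irr_isCharacter lam
  obtain ⟨T, hT⟩ : ∃ T : Subgroup G, T = Helper15.inertia H (lam : H → ℂ) := ⟨_, rfl⟩
  have hHT : H ≤ T := hT ▸ Helper15.le_inertia H (irr_isClassFunction lam)
  let _ : Fintype T := Fintype.ofFinite T
  obtain ⟨ψ, hψ, hind, hmult⟩ :=
    Helper15.clifford_correspondence_exists H lam.2 T hT hHT hχ hlam
  -- Clifford inside `T`
  let _ : Fintype (H.subgroupOf T) := Fintype.ofFinite _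
  have hθ' : IsIrrCharacter (H.subgroupOf T) (Helper15.toSub H T hHT (lam : H → ℂ)) :=
    Helper15.isIrrCharacter_toSub H T hHT lam.2
  have hinv' : ∀ t : T, Helper15.conjFun (H.subgroupOf T) t (Helper15.toSub H T hHT (lam : H → ℂ))
      = Helper15.toSub H T hHT (lam : H → ℂ) := by
    intro t
    rw [Helper15.conjFun_toSub]
    have : (t : G) ∈ Helper15.inertia H (lam : H → ℂ) := hT ▸ t.2
    rw [(Helper15.mem_inertia H (lam : H → ℂ) _).mp this]
  have hψres : (fun x : H.subgroupOf T => ψ x)
      = Helper15.toSub H T hHT (fun n : H => ψ ⟨(n : G), hHT n.2⟩) :=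
    Helper15.restrict_subgroupOf H T hHT _
  have hne' : classInner (fun x : H.subgroupOf T => ψ x)
      (Helper15.toSub H T hHT (lam : H → ℂ)) ≠ 0 := by
    rw [hψres, Helper15.classInner_toSub, hmult]
    exact hlam
  have hcl := Helper15.restrict_eq_smul_of_invariant (H.subgroupOf T) hψ hθ' hne' hinv'
  set c : ℂ := classInner (fun x : H.subgroupOf T => ψ x)
      (Helper15.toSub H T hHT (lam : H → ℂ)) with hc
  -- values on `A = H.subgroupOf T`
  have hval : ∀ a : H.subgroupOf T, ψ a = c * (lam : H → ℂ) ⟨((a : T) : G), a.2⟩ := by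
    intro a
    have := congrFun hcl a
    simpa [Helper15.toSub_apply] using this
  have hψ1 : ψ 1 = c := by
    have h := hval 1
    have h2 : (⟨(((1 : H.subgroupOf T) : T) : G), (1 : H.subgroupOf T).2⟩ : H) = 1 := rfl
    rw [h2, hlam1, mul_one] at h
    simpa using h
  obtain ⟨m, σ, hσ, hσψ⟩ := hψ
  have hm : ψ 1 = (m : ℂ) := by
    rw [← hσψ, Representation.char_one]; simp
  have hfr : Module.finrank ℂ (Fin m → ℂ) = m := by simp
  have hscal : ∀ a ∈ H.subgroupOf T, ∃ z : ℂ, σ a = z • (1 : Module.End ℂ (Fin m → ℂ)) := by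
    intro a ha
    rw [← Helper80.norm_char_eq_finrank_iff σ a (isOfFinOrder_of_finite a)]
    have h1 : σ.character a = c * (lam : H → ℂ) ⟨(a : G), ha⟩ := by
      rw [hσψ]; exact hval ⟨a, ha⟩
    rw [h1, norm_mul, Helper15.linChar_norm hlamc hlam1, mul_one, hfr, ← hψ1, hm]
    simp
  have hdvd := finrank_mul_card_dvd_of_scalar σ hσ (H.subgroupOf T) hscal
  rw [hfr] at hdvd
  -- degrees
  have hχ1 : χ 1 = ((T.index * m : ℕ) : ℂ) := by
    rw [← hind, Helper15.indFun_apply_one, hm]; push_cast; ring
  refine ⟨T.index * m, hχ1, ?_⟩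
  have hcardA : Nat.card (H.subgroupOf T) = Nat.card H :=
    Nat.card_congr (Subgroup.subgroupOfEquivOfLe hHT).toEquiv
  rw [hcardA] at hdvd
  have h1 : T.index * (m * Nat.card H) ∣ T.index * Nat.card T := Nat.mul_dvd_mul_left _ hdvd
  rw [Subgroup.index_mul_card, ← Subgroup.index_mul_card H, ← mul_assoc] at h1
  exact Nat.dvd_of_mul_dvd_mul_right Nat.card_pos h1

end Cfsg.Agent.Helper74
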