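/-
Degree ratio theorem: if chi in Irr(G) lies over theta in Irr(N), with N normal in G,
then chi(1)/theta(1) divides |G:N|.
Built via a finite central extension realising the projective representation attached
to an invariant theta, followed by the Clifford correspondence for the general case.
-/
import Cfsg.Agent.Helper74.Ito
import Cfsg.Agent.Helper15.Gallagher
import Cfsg.Agent.Helper3.EquivOfChar
import Cfsg.Agent.Helper15.CliffordCorr
import Cfsg.Agent.Helper80.Irr
import Cfsg.Agent.Helper80.Pullback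
import Cfsg.Agent.Helper80.CharBasic

set_option autoImplicit false

namespace Cfsg.Agent.Helper74

open Cfsg
open scoped ComplexConjugate

universe u

section ext

variable {G : Type u} [Group G] (N : Subgroup G) [hN : N.Normal] {d : ℕ}
  (Y : Representation ℂ N (Fin d → ℂ))

/-- The pairs `(g, P)` with `P` intertwining `Y` and its `g`-conjugate. -/
def twGroup : Subgroup (G × (Module.End ℂ (Fin d → ℂ))ˣ) where
  carrier := {x | ∀ n : N, (x.2 : Module.End ℂ (Fin d → ℂ)) * Y n
      = Y (MulAut.conjNormal x.1 n) * (x.2 : Module.End ℂ (Fin d → ℂ))}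
  one_mem' := by
    intro n
    simp
  mul_mem' := by
    intro x y hx hy n
    simp only [Prod.fst_mul, Prod.snd_mul, Units.val_mul, map_mul, MulAut.mul_apply]
    rw [mul_assoc, hy n, ← mul_assoc, hx, mul_assoc]
  inv_mem' := by
    intro x hx n
    simp only [Prod.fst_inv, Prod.snd_inv, map_inv]
    have h := hx ((MulAut.conjNormal x.1)⁻¹ n)
    rw [MulAut.apply_inv_self] at h
    calc ((x.2⁻¹ : (Module.End ℂ (Fin d → ℂ))ˣ) : Module.End ℂ (Fin d → ℂ)) * Y n
        = ((x.2⁻¹ : (Module.End ℂ (Fin d → ℂ))ˣ) : Module.End ℂ (Fin d → ℂ)) * (Y n * x.2) *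
            ((x.2⁻¹ : (Module.End ℂ (Fin d → ℂ))ˣ) : Module.End ℂ (Fin d → ℂ)) := by
          rw [mul_assoc, mul_assoc, Units.mul_inv, mul_one]
      _ = Y ((MulAut.conjNormal x.1)⁻¹ n) *
            ((x.2⁻¹ : (Module.End ℂ (Fin d → ℂ))ˣ) : Module.End ℂ (Fin d → ℂ)) := by
          rw [← h, ← mul_assoc, Units.inv_mul, one_mul]

theorem mem_twGroup (x : G × (Module.End ℂ (Fin d → ℂ))ˣ) :
    x ∈ twGroup N Y ↔ ∀ n : N, (x.2 : Module.End ℂ (Fin d → ℂ)) * Y n
      = Y (MulAut.conjNormal x.1 n) * (x.2 : Module.End ℂ (Fin d → ℂ)) := Iff.rfl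

/-- The determinant as a homomorphism on units. -/
noncomputable def detU (d : ℕ) : (Module.End ℂ (Fin d → ℂ))ˣ →* ℂˣ :=
  Units.map (LinearMap.det : Module.End ℂ (Fin d → ℂ) →* ℂ)

/-- The finite central extension: intertwining pairs with `det ^ m = 1`. -/
noncomputable def extGroup (m : ℕ) : Subgroup (G × (Module.End ℂ (Fin d → ℂ))ˣ) :=
  twGroup N Y ⊓ (((powMonoidHom m).comp (detU d)).comp
    (MonoidHom.snd G (Module.End ℂ (Fin d → ℂ))ˣ)).ker

theorem mem_extGroup (m : ℕ) (x : G × (Module.End ℂ (Fin d → ℂ))ˣ) :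
    x ∈ extGroup N Y m ↔ x ∈ twGroup N Y ∧ detU d x.2 ^ m = 1 := Iff.rfl

end ext


section ext2

variable {G : Type u} [Group G] (N : Subgroup G) [hN : N.Normal] {d : ℕ}
  (Y : Representation ℂ N (Fin d → ℂ))

theorem pair_mem_extGroup (n : N) :
    (((n : G), Y.asGroupHom n) : G × (Module.End ℂ (Fin d → ℂ))ˣ) ∈ extGroup N Y (Nat.card N) := by
  rw [mem_extGroup]
  constructor
  · intro n'
    simp only [Representation.asGroupHom_apply]
    rw [← map_mul, ← map_mul]
    congr 1
    apply Subtype.ext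
    simp [MulAut.conjNormal_apply]
  · show detU d (Y.asGroupHom n) ^ Nat.card N = 1
    rw [← map_pow, ← map_pow, pow_card_eq_one', map_one, map_one]

/-- The embedding of `N` into the extension group. -/
noncomputable def extIncl : N →* extGroup N Y (Nat.card N) where
  toFun n := ⟨((n : G), Y.asGroupHom n), pair_mem_extGroup N Y n⟩
  map_one' := by
    apply Subtype.ext
    simp
  map_mul' a b := by
    apply Subtype.ext
    simp

theorem extIncl_injective : Function.Injective (extIncl N Y) := by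
  intro a b h
  have h1 : ((extIncl N Y a : extGroup N Y (Nat.card N)) : G × (Module.End ℂ (Fin d → ℂ))ˣ).1
      = ((extIncl N Y b : extGroup N Y (Nat.card N)) : G × (Module.End ℂ (Fin d → ℂ))ˣ).1 := by
    rw [h]
  exact Subtype.ext h1

/-- The projection of the extension group onto `G`. -/
noncomputable def extProj (m : ℕ) : extGroup N Y m →* G :=
  (MonoidHom.fst G (Module.End ℂ (Fin d → ℂ))ˣ).comp (extGroup N Y m).subtype

/-- The tautological representation of the extension group. -/
noncomputable def extRep (m : ℕ) : Representation ℂ (extGroup N Y m) (Fin d → ℂ) :=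
  (Units.coeHom (Module.End ℂ (Fin d → ℂ))).comp
    ((MonoidHom.snd G (Module.End ℂ (Fin d → ℂ))ˣ).comp (extGroup N Y m).subtype)

theorem extRep_apply (m : ℕ) (x : extGroup N Y m) :
    extRep N Y m x = ((x : G × (Module.End ℂ (Fin d → ℂ))ˣ).2 : Module.End ℂ (Fin d → ℂ)) := rfl

theorem extProj_apply (m : ℕ) (x : extGroup N Y m) :
    extProj N Y m x = (x : G × (Module.End ℂ (Fin d → ℂ))ˣ).1 := rfl

theorem extRep_extIncl (n : N) : extRep N Y (Nat.card N) (extIncl N Y n) = Y n := by
  rw [extRep_apply]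
  exact Representation.asGroupHom_apply Y n

theorem extProj_extIncl (n : N) : extProj N Y (Nat.card N) (extIncl N Y n) = (n : G) := rfl

theorem extRep_mul_eq (m : ℕ) (x : extGroup N Y m) (n : N) :
    extRep N Y m x * Y n = Y (MulAut.conjNormal (extProj N Y m x) n) * extRep N Y m x :=
  x.2.1 n

end ext2


section ext3

variable {G : Type u} [Group G] (N : Subgroup G) [hN : N.Normal] {d : ℕ}
  (Y : Representation ℂ N (Fin d → ℂ))

/-- Schur's lemma: an endomorphism commuting with an irreducible representation is scalar. -/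
theorem exists_eq_smul_one_of_commute (hY : Y.IsIrreducible) (P : Module.End ℂ (Fin d → ℂ))
    (hP : ∀ n : N, P * Y n = Y n * P) : ∃ c : ℂ, P = c • (1 : Module.End ℂ (Fin d → ℂ)) := by
  obtain ⟨c, hc⟩ := schur_scalar Y hY ⟨P, fun n => hP n⟩
  exact ⟨c, hc⟩

/-- Elements of the extension group lying over `1` are scalar. -/
theorem exists_scalar_of_extProj_eq_one (hY : Y.IsIrreducible) (m : ℕ) (x : extGroup N Y m)
    (hx : extProj N Y m x = 1) :
    ∃ c : ℂ, extRep N Y m x = c • (1 : Module.End ℂ (Fin d → ℂ)) := by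
  apply exists_eq_smul_one_of_commute N Y hY
  intro n
  have h := extRep_mul_eq N Y m x n
  rw [hx, map_one, MulAut.one_apply] at h
  exact h

/-- The kernel of the projection is central. -/
theorem extProj_ker_le_center (hY : Y.IsIrreducible) (m : ℕ) :
    (extProj N Y m).ker ≤ Subgroup.center (extGroup N Y m) := by
  intro x hx
  rw [MonoidHom.mem_ker] at hx
  obtain ⟨c, hc⟩ := exists_scalar_of_extProj_eq_one N Y hY m x hx
  rw [Subgroup.mem_center_iff]
  intro y
  apply Subtype.ext
  apply Prod.ext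
  · show (extProj N Y m y) * (extProj N Y m x) = (extProj N Y m x) * (extProj N Y m y)
    rw [hx, mul_one, one_mul]
  · apply Units.ext
    show extRep N Y m y * extRep N Y m x = extRep N Y m x * extRep N Y m y
    rw [hc]
    simp

end ext3


section ext4

variable {G : Type u} [Group G] (N : Subgroup G) [hN : N.Normal] [Fintype N] {d : ℕ}
  (Y : Representation ℂ N (Fin d → ℂ))

/-- If the character of the irreducible `Y` is `G`-invariant, the extension group maps onto `G`. -/
theorem extProj_surjective (hY : Y.IsIrreducible)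
    (hinv : ∀ (g : G) (n : N), Y.character (MulAut.conjNormal g n) = Y.character n) (m : ℕ) :
    Function.Surjective (extProj N Y m) := by
  intro g
  set Yg : Representation ℂ N (Fin d → ℂ) :=
    Y.comp (MulAut.conjNormal g : N ≃* N).toMonoidHom with hYg
  have hchar : Y.character = Yg.character := by
    funext n
    exact (hinv g n).symm
  obtain ⟨e⟩ := Helper3.equiv_of_character_eq Y Yg hchar
  set P₀ : (Module.End ℂ (Fin d → ℂ))ˣ :=
    LinearMap.GeneralLinearGroup.ofLinearEquiv e.toLinearEquiv with hP₀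
  have hP₀v : (P₀ : Module.End ℂ (Fin d → ℂ)) = e.toLinearMap := rfl
  have hint : ∀ n : N, (P₀ : Module.End ℂ (Fin d → ℂ)) * Y n
      = Y (MulAut.conjNormal g n) * (P₀ : Module.End ℂ (Fin d → ℂ)) := by
    intro n
    rw [hP₀v]
    exact e.isIntertwining' n
  have hnt := nontrivial_of_isIrreducible Y hY
  have hdpos : 0 < d := by
    have := Module.finrank_pos (R := ℂ) (M := Fin d → ℂ)
    simpa using this
  set δ : ℂ := LinearMap.det (P₀ : Module.End ℂ (Fin d → ℂ)) with hδ
  have hδ0 : δ ≠ 0 := by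
    have h1 : LinearMap.det (P₀ : Module.End ℂ (Fin d → ℂ)) *
        LinearMap.det ((P₀⁻¹ : (Module.End ℂ (Fin d → ℂ))ˣ) : Module.End ℂ (Fin d → ℂ)) = 1 := by
      rw [← map_mul, Units.mul_inv, map_one]
    exact left_ne_zero_of_mul_eq_one h1
  obtain ⟨c, hc⟩ := IsAlgClosed.exists_pow_nat_eq (δ⁻¹) hdpos
  have hc0 : c ≠ 0 := by
    intro h0
    rw [h0, zero_pow hdpos.ne'] at hc
    exact inv_ne_zero hδ0 hc.symm
  set Q : Module.End ℂ (Fin d → ℂ) := c • (P₀ : Module.End ℂ (Fin d → ℂ)) with hQ
  set Qi : Module.End ℂ (Fin d → ℂ) :=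
    c⁻¹ • ((P₀⁻¹ : (Module.End ℂ (Fin d → ℂ))ˣ) : Module.End ℂ (Fin d → ℂ)) with hQi
  have hQQi : Q * Qi = 1 := by
    rw [hQ, hQi, smul_mul_smul_comm, mul_inv_cancel₀ hc0, Units.mul_inv, one_smul]
  have hQiQ : Qi * Q = 1 := by
    rw [hQ, hQi, smul_mul_smul_comm, inv_mul_cancel₀ hc0, Units.inv_mul, one_smul]
  let P : (Module.End ℂ (Fin d → ℂ))ˣ := ⟨Q, Qi, hQQi, hQiQ⟩
  have hmem : ((g, P) : G × (Module.End ℂ (Fin d → ℂ))ˣ) ∈ extGroup N Y m := by
    rw [mem_extGroup]
    constructor
    · intro n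
      show Q * Y n = Y (MulAut.conjNormal g n) * Q
      rw [hQ, smul_mul_assoc, hint n, mul_smul_comm]
    · have hdet : LinearMap.det Q = 1 := by
        rw [hQ, LinearMap.det_smul, Module.finrank_fin_fun, hc, ← hδ, inv_mul_cancel₀ hδ0]
      have : detU d P = 1 := by
        apply Units.ext
        exact hdet
      show detU d P ^ m = 1
      rw [this, one_pow]
  exact ⟨⟨(g, P), hmem⟩, rfl⟩

/-- The extension group is finite. -/
theorem finite_extGroup [Finite G] (hY : Y.IsIrreducible) (m : ℕ) (hm : 0 < m) :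
    Finite (extGroup N Y m) := by
  rw [MonoidHom.finite_iff_finite_ker_range (extProj N Y m)]
  refine ⟨?_, inferInstance⟩
  have hnt := nontrivial_of_isIrreducible Y hY
  have hdpos : 0 < d := by
    have := Module.finrank_pos (R := ℂ) (M := Fin d → ℂ)
    simpa using this
  have hne : NeZero (d * m) := ⟨(Nat.mul_pos hdpos hm).ne'⟩
  -- the kernel embeds into the roots of unity of order `d * m`
  let F : (extProj N Y m).ker → Module.End ℂ (Fin d → ℂ) := fun x => extRep N Y m x.1
  have hF : Function.Injective F := by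
    intro x y hxy
    apply Subtype.ext
    apply Subtype.ext
    apply Prod.ext
    · show extProj N Y m x.1 = extProj N Y m y.1
      rw [MonoidHom.mem_ker.mp x.2, MonoidHom.mem_ker.mp y.2]
    · exact Units.ext hxy
  have hS : (Set.range fun ζ : rootsOfUnity (d * m) ℂ =>
      (((ζ : ℂˣ) : ℂ) • (1 : Module.End ℂ (Fin d → ℂ)))).Finite := Set.finite_range _
  have hsub : Set.range F ⊆ Set.range fun ζ : rootsOfUnity (d * m) ℂ =>
      (((ζ : ℂˣ) : ℂ) • (1 : Module.End ℂ (Fin d → ℂ))) := by
    rintro _ ⟨x, rfl⟩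
    obtain ⟨c, hc⟩ := exists_scalar_of_extProj_eq_one N Y hY m x.1 (MonoidHom.mem_ker.mp x.2)
    have hdet : LinearMap.det (extRep N Y m x.1) ^ m = 1 := by
      have h1 := x.1.2.2
      have h2 : detU d (x.1 : G × (Module.End ℂ (Fin d → ℂ))ˣ).2 ^ m = 1 := h1
      have h3 := congrArg (fun u : ℂˣ => (u : ℂ)) h2
      rw [extRep_apply]
      simpa [detU] using h3
    rw [hc, LinearMap.det_smul, Module.finrank_fin_fun, map_one, mul_one, ← pow_mul] at hdet
    have hc0 : c ≠ 0 := by
      intro h0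
      rw [h0, zero_pow (Nat.mul_pos hdpos hm).ne'] at hdet
      exact zero_ne_one hdet
    refine ⟨⟨Units.mk0 c hc0, ?_⟩, ?_⟩
    · rw [mem_rootsOfUnity]
      apply Units.ext
      simpa using hdet
    · show (c • (1 : Module.End ℂ (Fin d → ℂ))) = F x
      exact hc.symm
  have hfin : (Set.range F).Finite := hS.subset hsub
  have hfin' : Finite (Set.range F) := hfin.to_subtype
  exact Finite.of_injective (fun x => (⟨F x, ⟨x, rfl⟩⟩ : Set.range F))
    (fun x y h => hF (congrArg Subtype.val h))

end ext4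


/-- **Relative degree theorem, invariant case**: if `θ ∈ Irr(N)` is `G`-invariant and lies under
`χ ∈ Irr(G)`, then `χ(1) = b θ(1)` with `b ∣ [G : N]`. -/
theorem degree_ratio_dvd_of_invariant {G : Type u} [Group G] [Fintype G] (N : Subgroup G)
    [hN : N.Normal] [Fintype N] {χ : G → ℂ} (hχ : IsIrrCharacter G χ) {θ : N → ℂ}
    (hθ : IsIrrCharacter N θ) (hcon : classInner (fun n : N => χ n) θ ≠ 0)
    (hinv : ∀ g : G, Helper15.conjFun N g θ = θ) :
    ∃ b : ℕ, χ 1 = (b : ℂ) * θ 1 ∧ b ∣ N.index := by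
  classical
  obtain ⟨d, Y, hY, rfl⟩ := hθ
  have hYirr : Y.IsIrreducible := hY
  have hmpos : 0 < Nat.card N := Nat.card_pos
  have hfinE : Finite (extGroup N Y (Nat.card N)) := finite_extGroup N Y hYirr _ hmpos
  let _ : Fintype (extGroup N Y (Nat.card N)) := Fintype.ofFinite _
  have hinv' : ∀ (g : G) (n : N), Y.character (MulAut.conjNormal g n) = Y.character n := by
    intro g n
    have h1 := congrFun (hinv g) n
    rw [Helper15.conjFun_eq_comp] at h1
    exact h1
  have hsurj := extProj_surjective N Y hYirr hinv' (Nat.card N)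
  -- the copy of `N`
  set N₀ : Subgroup (extGroup N Y (Nat.card N)) := (extIncl N Y).range with hN₀
  have hN₀n : N₀.Normal := by
    refine ⟨?_⟩
    rintro _ ⟨n, rfl⟩ x
    refine ⟨MulAut.conjNormal (extProj N Y _ x) n, ?_⟩
    apply Subtype.ext
    apply Prod.ext
    · show ((MulAut.conjNormal (extProj N Y _ x) n : N) : G)
        = extProj N Y _ x * (n : G) * (extProj N Y _ x)⁻¹
      exact MulAut.conjNormal_apply _ _
    · apply Units.ext
      show extRep N Y _ (extIncl N Y (MulAut.conjNormal (extProj N Y _ x) n))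
        = extRep N Y _ (x * extIncl N Y n * x⁻¹)
      rw [extRep_extIncl, map_mul, map_mul, extRep_extIncl, extRep_mul_eq, mul_assoc, ← map_mul,
        mul_inv_cancel, map_one, mul_one]
  let _ : Fintype N₀ := Fintype.ofFinite _
  -- the extension of `θ`
  have hρirr : (extRep N Y (Nat.card N)).IsIrreducible := by
    rw [Helper80.isIrreducible_iff] at hYirr ⊢
    refine ⟨hYirr.1, fun U hU => hYirr.2 U (fun n v hv => ?_)⟩
    have h1 := hU (extIncl N Y n) v hv
    rwa [extRep_extIncl] at h1
  have hθh : IsIrrCharacter (extGroup N Y (Nat.card N)) (extRep N Y (Nat.card N)).character :=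
    ⟨d, extRep N Y _, hρirr, rfl⟩
  have hθhN : IsIrrCharacter N₀ (fun x : N₀ => (extRep N Y (Nat.card N)).character x) := by
    refine ⟨d, (extRep N Y (Nat.card N)).comp N₀.subtype, ?_, rfl⟩
    have hYirr' : Y.IsIrreducible := hY
    show Representation.IsIrreducible _
    rw [Helper80.isIrreducible_iff] at hYirr' ⊢
    refine ⟨hYirr'.1, fun U hU => hYirr'.2 U (fun n v hv => ?_)⟩
    have h1 := hU ⟨extIncl N Y n, ⟨n, rfl⟩⟩ v hv
    have h2 : ((extRep N Y (Nat.card N)).comp N₀.subtype) ⟨extIncl N Y n, ⟨n, rfl⟩⟩ = Y n :=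
      extRep_extIncl N Y n
    rwa [h2] at h1
  -- inflation of `χ`
  set χ₁ : extGroup N Y (Nat.card N) → ℂ := fun x => χ (extProj N Y _ x) with hχ₁
  have hχ₁irr : IsIrrCharacter (extGroup N Y (Nat.card N)) χ₁ :=
    Helper80.IsIrrCharacter.comp_surjective hχ (extProj N Y _) hsurj
  have hχ₁cf : IsClassFunction (extGroup N Y (Nat.card N)) χ₁ :=
    isClassFunction_of_isCharacter (isCharacter_of_isIrr hχ₁irr)
  let e : N ≃* N₀ := MonoidHom.ofInjective (extIncl_injective N Y)
  have he : ∀ n : N, ((e n : N₀) : extGroup N Y (Nat.card N)) = extIncl N Y n := fun n => rfl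
  have hne : classInner (indFun N₀ (fun x : N₀ => (extRep N Y (Nat.card N)).character x)) χ₁ ≠ 0 := by
    rw [Helper15.frobenius_reciprocity N₀ _ _ hχ₁cf]
    rw [← Helper15.classInner_comp_mulEquiv e]
    have h1 : (fun a : N => (extRep N Y (Nat.card N)).character ((e a : N₀) :
        extGroup N Y (Nat.card N))) = Y.character := by
      funext n
      show LinearMap.trace ℂ _ (extRep N Y _ (extIncl N Y n)) = _
      rw [extRep_extIncl]
      rfl
    have h2 : (fun a : N => χ₁ ((e a : N₀) : extGroup N Y (Nat.card N))) = fun n : N => χ n := by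
      funext n
      rfl
    rw [h1, h2, ← Helper15.classInner_conj_symm]
    intro h0
    apply hcon
    have := congrArg conj h0
    simpa using this
  obtain ⟨β, ⟨hβirr, hβ1⟩, hβeq⟩ := (Helper15.gallagher_bijOn N₀ hθh hθhN).surjOn ⟨hχ₁irr, hne⟩
  -- `β` lies over the trivial character of `N₀`
  have hβ0 : classInner (fun n : N₀ => β n) (fun _ => (1 : ℂ)) ≠ 0 := by
    rw [Helper15.frobenius_reciprocity N₀ _ _
      (isClassFunction_of_isCharacter (isCharacter_of_isIrr hβirr))] at hβ1
    rw [← Helper15.classInner_conj_symm]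
    intro h0
    apply hβ1
    have := congrArg conj h0
    simpa using this
  have hβconst := Helper15.normal_mul_of_inner_one_ne_zero N₀ hβirr hβ0
  obtain ⟨b, σ, hσ, rfl⟩ := hβirr
  have hσirr : σ.IsIrreducible := hσ
  have hfr : Module.finrank ℂ (Fin b → ℂ) = b := Module.finrank_fin_fun ℂ
  -- elements over `N` act by scalars
  set A : Subgroup (extGroup N Y (Nat.card N)) := N.comap (extProj N Y (Nat.card N)) with hA
  have hscal : ∀ a ∈ A, ∃ c : ℂ, σ a = c • (1 : Module.End ℂ (Fin b → ℂ)) := by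
    intro a ha
    have haN : extProj N Y _ a ∈ N := ha
    set n : N := ⟨extProj N Y _ a, haN⟩ with hn
    set z : extGroup N Y (Nat.card N) := (extIncl N Y n)⁻¹ * a with hz
    have hzker : z ∈ (extProj N Y (Nat.card N)).ker := by
      rw [MonoidHom.mem_ker, hz, map_mul, map_inv, extProj_extIncl]
      exact inv_mul_cancel _
    have hzc : z ∈ Subgroup.center (extGroup N Y (Nat.card N)) :=
      extProj_ker_le_center N Y hYirr _ hzker
    have haz : a = extIncl N Y n * z := by rw [hz, mul_inv_cancel_left]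
    obtain ⟨c, hc⟩ := schur_scalar σ hσirr ⟨σ z, fun x => by
      show σ z * σ x = σ x * σ z
      rw [← map_mul, ← map_mul, (Subgroup.mem_center_iff.mp hzc x)]⟩
    have hc' : σ z = c • (1 : Module.End ℂ (Fin b → ℂ)) := hc
    have h1 : ‖σ.character z‖ = (Module.finrank ℂ (Fin b → ℂ) : ℝ) :=
      (Helper80.norm_char_eq_finrank_iff σ z (isOfFinOrder_of_finite z)).mpr ⟨c, hc'⟩
    have h2 : σ.character a = σ.character z := by
      rw [haz]
      exact hβconst ⟨extIncl N Y n, ⟨n, rfl⟩⟩ z
    rw [← Helper80.norm_char_eq_finrank_iff σ a (isOfFinOrder_of_finite a), h2, h1]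
  have hdvd := finrank_mul_card_dvd_of_scalar σ hσirr A hscal
  rw [hfr] at hdvd
  have hidx : A.index = N.index := Subgroup.index_comap_of_surjective N hsurj
  refine ⟨b, ?_, ?_⟩
  · have h1 := congrFun hβeq 1
    simp only [Pi.mul_apply, hχ₁, map_one] at h1
    rw [← h1, Representation.char_one, hfr, Representation.char_one, Representation.char_one]
  · rw [← Subgroup.index_mul_card A, hidx] at hdvd
    exact Nat.dvd_of_mul_dvd_mul_right Nat.card_pos hdvd


/-- **Relative degree theorem** (Isaacs 11.29): if `θ ∈ Irr(N)`, `N ⊴ G`, lies under `χ ∈ Irr(G)`,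
then `χ(1) = b θ(1)` with `b ∣ [G : N]`. -/
theorem degree_ratio_dvd {G : Type u} [Group G] [Fintype G] (N : Subgroup G)
    [hN : N.Normal] [Fintype N] {χ : G → ℂ} (hχ : IsIrrCharacter G χ) {θ : N → ℂ}
    (hθ : IsIrrCharacter N θ) (hcon : classInner (fun n : N => χ n) θ ≠ 0) :
    ∃ b : ℕ, χ 1 = (b : ℂ) * θ 1 ∧ b ∣ N.index := by
  classical
  obtain ⟨T, hT⟩ : ∃ T : Subgroup G, T = Helper15.inertia N θ := ⟨_, rfl⟩
  have hNT : N ≤ T :=
    hT ▸ Helper15.le_inertia N (isClassFunction_of_isCharacter (isCharacter_of_isIrr hθ))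
  let _ : Fintype T := Fintype.ofFinite T
  obtain ⟨ψ, hψ, hind, hmult⟩ := Helper15.clifford_correspondence_exists N hθ T hT hNT hχ hcon
  let _ : Fintype (N.subgroupOf T) := Fintype.ofFinite _
  have hθ' : IsIrrCharacter (N.subgroupOf T) (Helper15.toSub N T hNT θ) :=
    Helper15.isIrrCharacter_toSub N T hNT hθ
  have hinv' : ∀ t : T, Helper15.conjFun (N.subgroupOf T) t (Helper15.toSub N T hNT θ)
      = Helper15.toSub N T hNT θ := by
    intro t
    rw [Helper15.conjFun_toSub]
    have : (t : G) ∈ Helper15.inertia N θ := hT ▸ t.2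
    rw [(Helper15.mem_inertia N θ _).mp this]
  have hψres : (fun x : N.subgroupOf T => ψ x)
      = Helper15.toSub N T hNT (fun n : N => ψ ⟨(n : G), hNT n.2⟩) :=
    Helper15.restrict_subgroupOf N T hNT _
  have hne' : classInner (fun x : N.subgroupOf T => ψ x) (Helper15.toSub N T hNT θ) ≠ 0 := by
    rw [hψres, Helper15.classInner_toSub, hmult]
    exact hcon
  obtain ⟨b, hb1, hb2⟩ := degree_ratio_dvd_of_invariant (N.subgroupOf T) hψ hθ' hne' hinv'
  have hθ1 : Helper15.toSub N T hNT θ 1 = θ 1 := rfl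
  refine ⟨T.index * b, ?_, ?_⟩
  · rw [← hind, Helper15.indFun_apply_one, hb1, hθ1]
    push_cast; ring
  · have h1 : (N.subgroupOf T).index = N.relIndex T := rfl
    rw [h1] at hb2
    rw [← Subgroup.relIndex_mul_index hNT, mul_comm]
    exact Nat.mul_dvd_mul_right hb2 _

end Cfsg.Agent.Helper74
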