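import Cfsg.Agent.Helper74.SN.Defs
import Cfsg.Agent.Helper63.Frattini

/-!
# SN farm (S4073), leaf (FS): in a solvable SN-group a Sylow subgroup which is not the whole group
is abelian.
-/

set_option autoImplicit false
set_option linter.unusedSectionVars false
set_option linter.unusedVariables false
set_option linter.dupNamespace false

namespace Cfsg.Agent.Helper74.SNG

open Cfsg Cfsg.Agent.Helper74.SNG

universe u

/-- A nonabelian finite `p`-group has two distinct maximal subgroups. -/
theorem exists_two_coatoms {P : Type*} [Group P] [Finite P]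
    (hna : ¬ IsMulCommutative P) :
    ∃ M₁ M₂ : Subgroup P, IsCoatom M₁ ∧ IsCoatom M₂ ∧ M₁ ≠ M₂ := by
  have hnt : (⊥ : Subgroup P) ≠ ⊤ := by
    intro h
    apply hna
    rw [isMulCommutative_type_iff]
    intro a b
    have ha : a ∈ (⊥ : Subgroup P) := by rw [h]; trivial
    have hb : b ∈ (⊥ : Subgroup P) := by rw [h]; trivial
    rw [Subgroup.mem_bot] at ha hb
    rw [ha, hb]
  obtain ⟨M₁, hM₁, -⟩ := (eq_top_or_exists_le_coatom (⊥ : Subgroup P)).resolve_left hnt
  obtain ⟨g, hg⟩ : ∃ g : P, g ∉ M₁ := by
    by_contra hall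
    push Not at hall
    exact hM₁.1 (eq_top_iff.mpr fun x _ => hall x)
  have hz : Subgroup.zpowers g ≠ ⊤ := by
    intro h
    apply hna
    rw [isMulCommutative_type_iff]
    intro a b
    have ha : a ∈ Subgroup.zpowers g := by rw [h]; trivial
    have hb : b ∈ Subgroup.zpowers g := by rw [h]; trivial
    obtain ⟨i, rfl⟩ := Subgroup.mem_zpowers_iff.mp ha
    obtain ⟨j, rfl⟩ := Subgroup.mem_zpowers_iff.mp hb
    rw [← zpow_add, ← zpow_add, add_comm]
  obtain ⟨M₂, hM₂, hle⟩ := (eq_top_or_exists_le_coatom (Subgroup.zpowers g)).resolve_left hz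
  refine ⟨M₁, M₂, hM₁, hM₂, ?_⟩
  intro h
  apply hg
  rw [h]
  exact hle (Subgroup.mem_zpowers g)

/-- A subgroup containing the commutator subgroup is normal. -/
theorem normal_of_commutator_le {H : Type*} [Group H] {N : Subgroup H} (hN : commutator H ≤ N) :
    N.Normal := by
  refine ⟨fun n hn g => ?_⟩
  have h1 : g * n * g⁻¹ * n⁻¹ ∈ commutator H := by
    have := Subgroup.commutator_mem_commutator (Subgroup.mem_top g) (Subgroup.mem_top n)
    rw [commutatorElement_def] at this
    exact this
  have h2 : g * n * g⁻¹ = (g * n * g⁻¹ * n⁻¹) * n := by group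
  rw [h2]
  exact N.mul_mem (hN h1) hn

/-- (FS) In a solvable SN-group a Sylow subgroup which is not the whole group is abelian. -/
theorem SN.sylow_comm_of_solvable {H : Type u} [Group H] [Finite H] (h : SN H) [Group.IsSolvable H]
    {p : ℕ} [Fact p.Prime] (P : Sylow p H) (hP : (P : Subgroup H) ≠ ⊤) :
    IsMulCommutative (P : Subgroup H) := by
  by_contra hna
  have hp : p.Prime := Fact.out
  have hNP : Subgroup.normalizer ((P : Subgroup H) : Set H) = P := h _ hna
  haveI : Nontrivial H := by
    by_contra hnt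
    rw [not_nontrivial_iff_subsingleton] at hnt
    apply hP
    rw [eq_top_iff]
    intro x _
    rw [Subsingleton.elim x 1]
    exact Subgroup.one_mem _
  have hD : commutator H ≠ ⊤ := (IsSolvable.commutator_lt_top_of_nontrivial H).ne
  have hDc : IsMulCommutative (commutator H) := h.comm_of_normal _ hD
  have hDc' := (isMulCommutative_iff _).mp hDc
  -- `P ⊔ H' = ⊤`
  have hPD : (P : Subgroup H) ⊔ commutator H = ⊤ := by
    by_contra hne
    haveI hN : ((P : Subgroup H) ⊔ commutator H).Normal := normal_of_commutator_le le_sup_right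
    have := h.comm_of_normal _ hne
    exact hna (isMulCommutative_mono le_sup_left this)
  -- nonabelian as a type
  have hna' : ¬ IsMulCommutative (↥(P : Subgroup H)) := hna
  -- key claim
  have key : ∀ Q : Subgroup H, Q.Normal → Q ⊓ (P : Subgroup H) = ⊥ → Q = ⊥ := by
    intro Q hQn hQP
    have hcent : ∀ M : Subgroup (P : Subgroup H), IsCoatom M → ∀ m ∈ M, ∀ x ∈ Q,
        (m : H) * x = x * (m : H) := by
      intro M hM m hm x hx
      have hMn : M.Normal := Cfsg.Agent.Helper63.normal_of_isCoatom_of_isPGroup P.2 M hM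
      set M' : Subgroup H := M.map (P : Subgroup H).subtype with hM'
      set L : Subgroup H := Q ⊔ M' with hL
      obtain ⟨g, hg⟩ : ∃ g : (P : Subgroup H), g ∉ M := by
        by_contra hall
        push Not at hall
        exact hM.1 (eq_top_iff.mpr fun x _ => hall x)
      have hgN : (g : H) ∈ Subgroup.normalizer (L : Set H) := by
        have hle : L ≤ L.map (MulAut.conj (g : H)).toMonoidHom → True := fun _ => trivial
        rw [Subgroup.mem_normalizer_iff]
        have hconj : ∀ y ∈ L, (g : H) * y * (g : H)⁻¹ ∈ L := by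
          intro y hy
          have hy' : y ∈ ((Q ⊔ M' : Subgroup H) : Set H) := hy
          rw [Subgroup.normal_mul] at hy'
          obtain ⟨a, ha, b, hb, rfl⟩ := hy'
          have h1 : (g : H) * (a * b) * (g : H)⁻¹ =
              ((g : H) * a * (g : H)⁻¹) * ((g : H) * b * (g : H)⁻¹) := by group
          rw [h1]
          refine L.mul_mem (Subgroup.mem_sup_left (hQn.conj_mem a ha _)) (Subgroup.mem_sup_right ?_)
          obtain ⟨b', hb', rfl⟩ := hb
          exact ⟨g * b' * g⁻¹, hMn.conj_mem b' hb' g, rfl⟩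
        intro y
        constructor
        · exact hconj y
        · intro hy
          have hginv : ∀ y ∈ L, (g : H)⁻¹ * y * (g : H) ∈ L := by
            intro y hy
            have hy' : y ∈ ((Q ⊔ M' : Subgroup H) : Set H) := hy
            rw [Subgroup.normal_mul] at hy'
            obtain ⟨a, ha, b, hb, rfl⟩ := hy'
            have h1 : (g : H)⁻¹ * (a * b) * (g : H) =
                ((g : H)⁻¹ * a * (g : H)⁻¹⁻¹) * ((g : H)⁻¹ * b * (g : H)⁻¹⁻¹) := by group
            rw [h1]
            refine L.mul_mem (Subgroup.mem_sup_left (hQn.conj_mem a ha _))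
              (Subgroup.mem_sup_right ?_)
            obtain ⟨b', hb', rfl⟩ := hb
            exact ⟨g⁻¹ * b' * g⁻¹⁻¹, hMn.conj_mem b' hb' g⁻¹, by simp⟩
          have := hginv _ hy
          have h2 : (g : H)⁻¹ * ((g : H) * y * (g : H)⁻¹) * (g : H) = y := by group
          rwa [h2] at this
      have hgL : (g : H) ∉ L := by
        intro hgL
        have hy' : (g : H) ∈ ((Q ⊔ M' : Subgroup H) : Set H) := hgL
        rw [Subgroup.normal_mul] at hy'
        obtain ⟨a, ha, b, hb, hab⟩ := hy'
        obtain ⟨b', hb', rfl⟩ := hb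
        have hab' : a * (b' : H) = (g : H) := hab
        have ha' : a = (g : H) * (b' : H)⁻¹ := by
          rw [← hab']; group
        have haP : a ∈ (P : Subgroup H) := by
          rw [ha']
          exact (P : Subgroup H).mul_mem g.2 ((P : Subgroup H).inv_mem b'.2)
        have ha1 : a = 1 := by
          have : a ∈ Q ⊓ (P : Subgroup H) := ⟨ha, haP⟩
          rw [hQP] at this
          exact this
        rw [ha1, one_mul] at hab'
        apply hg
        have : b' = g := Subtype.ext hab'
        rw [← this]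
        exact hb'
      have hLc : IsMulCommutative L := h.comm_of_normalizer hgN hgL
      exact (isMulCommutative_iff L).mp hLc m (Subgroup.mem_sup_right ⟨⟨m, _⟩, hm, rfl⟩) x
        (Subgroup.mem_sup_left hx)
    obtain ⟨M₁, M₂, h1, h2, hne⟩ := exists_two_coatoms hna'
    have htop : M₁ ⊔ M₂ = ⊤ := by
      by_contra hne'
      have h3 : M₁ ⊔ M₂ = M₁ := by
        rcases eq_or_lt_of_le (le_sup_left : M₁ ≤ M₁ ⊔ M₂) with h | h
        · exact h.symm
        · exact absurd (h1.2 _ h) hne'
      have h4 : M₁ ⊔ M₂ = M₂ := by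
        rcases eq_or_lt_of_le (le_sup_right : M₂ ≤ M₁ ⊔ M₂) with h | h
        · exact h.symm
        · exact absurd (h2.2 _ h) hne'
      exact hne (h3.symm.trans h4)
    -- `Q` centralizes `P`
    have hQc : Q ≤ Subgroup.centralizer ((P : Subgroup H) : Set H) := by
      intro x hx
      rw [Subgroup.mem_centralizer_iff]
      intro y hy
      have hyT : (⟨y, hy⟩ : (P : Subgroup H)) ∈ M₁ ⊔ M₂ := by rw [htop]; trivial
      -- induction on the closure
      have : ∀ w : (P : Subgroup H), w ∈ M₁ ⊔ M₂ → (w : H) * x = x * (w : H) := by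
        intro w hw
        rw [Subgroup.sup_eq_closure] at hw
        induction hw using Subgroup.closure_induction with
        | mem w hw =>
          rcases hw with hw | hw
          · exact hcent M₁ h1 w hw x hx
          · exact hcent M₂ h2 w hw x hx
        | one => simp
        | mul a b _ _ ha hb =>
          show ((a : H) * (b : H)) * x = x * ((a : H) * (b : H))
          rw [mul_assoc, hb, ← mul_assoc, ha, mul_assoc]
        | inv a _ ha =>
          show ((a : H))⁻¹ * x = x * ((a : H))⁻¹
          have : x = (a : H)⁻¹ * ((a : H) * x) := by group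
          rw [ha] at this
          calc (a : H)⁻¹ * x = (a : H)⁻¹ * x * ((a : H) * (a : H)⁻¹) := by group
            _ = ((a : H)⁻¹ * (x * (a : H))) * (a : H)⁻¹ := by group
            _ = x * (a : H)⁻¹ := by rw [← this]
      exact this ⟨y, hy⟩ hyT
    have hQP' : Q ≤ (P : Subgroup H) := by
      have h1 : Subgroup.centralizer ((P : Subgroup H) : Set H) ≤
          Subgroup.normalizer ((P : Subgroup H) : Set H) := Subgroup.centralizer_le_normalizer _
      rw [hNP] at h1
      exact hQc.trans h1
    rw [← hQP]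
    exact (inf_eq_left.mpr hQP').symm
  -- the `p'`-part of `H'`
  set a := (Nat.card (commutator H)).factorization p with ha
  set m := Nat.card (commutator H) / p ^ a with hm
  have hpm : p ^ a * m = Nat.card (commutator H) := Nat.ordProj_mul_ordCompl_eq_self _ p
  have hmcop : Nat.Coprime p m := by
    have hpos : Nat.card (commutator H) ≠ 0 := Nat.card_pos.ne'
    exact Nat.coprime_ordCompl hp hpos
  let K : Subgroup H :=
    { carrier := {x | x ∈ commutator H ∧ x ^ m = 1}
      mul_mem' := by
        rintro x y ⟨hx, hxm⟩ ⟨hy, hym⟩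
        refine ⟨(commutator H).mul_mem hx hy, ?_⟩
        have hc : Commute x y := hDc' x hx y hy
        rw [hc.mul_pow, hxm, hym, one_mul]
      one_mem' := ⟨Subgroup.one_mem _, one_pow _⟩
      inv_mem' := by
        rintro x ⟨hx, hxm⟩
        exact ⟨(commutator H).inv_mem hx, by rw [inv_pow, hxm, inv_one]⟩ }
  have hKn : K.Normal := by
    refine ⟨fun x hx g => ?_⟩
    obtain ⟨hx1, hx2⟩ := hx
    refine ⟨(inferInstance : (commutator H).Normal).conj_mem x hx1 g, ?_⟩
    rw [conj_pow, hx2, mul_one, mul_inv_cancel]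
  have hKP : K ⊓ (P : Subgroup H) = ⊥ := by
    rw [eq_bot_iff]
    rintro x ⟨⟨-, hxm⟩, hxP⟩
    rw [Subgroup.mem_bot]
    obtain ⟨k, hk⟩ := (P.2 ⟨x, hxP⟩)
    have hk' : x ^ p ^ k = 1 := by
      have := congrArg Subtype.val hk
      simpa using this
    have h1 : orderOf x ∣ p ^ k := orderOf_dvd_of_pow_eq_one hk'
    have h2 : orderOf x ∣ m := orderOf_dvd_of_pow_eq_one hxm
    have h3 : Nat.Coprime (p ^ k) m := Nat.Coprime.pow_left k hmcop
    have h4 : orderOf x ∣ 1 := by
      have := Nat.dvd_gcd h1 h2
      rwa [h3] at this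
    exact orderOf_eq_one_iff.mp (Nat.dvd_one.mp h4)
  have hK : K = ⊥ := key K hKn hKP
  -- `H'` is a `p`-group
  have hDp : IsPGroup p (commutator H) := by
    intro x
    refine ⟨a, ?_⟩
    have h1 : (x : H) ^ p ^ a ∈ K := by
      refine ⟨(commutator H).pow_mem x.2 _, ?_⟩
      rw [← pow_mul, hpm]
      have h2 := pow_card_eq_one' (G := commutator H) (x := x)
      have h3 := congrArg Subtype.val h2
      rw [Subgroup.coe_pow, Subgroup.coe_one] at h3
      exact h3
    rw [hK, Subgroup.mem_bot] at h1
    exact Subtype.ext (by simpa using h1)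
  -- so `H' ≤ P`
  have hDP : commutator H ≤ (P : Subgroup H) := by
    obtain ⟨Q, hQ⟩ := hDp.exists_le_sylow
    obtain ⟨g, hg⟩ := MulAction.exists_smul_eq H Q P
    intro x hx
    have h1 : g⁻¹ * x * g⁻¹⁻¹ ∈ commutator H :=
      (inferInstance : (commutator H).Normal).conj_mem x hx g⁻¹
    have h2 : g⁻¹ * x * g⁻¹⁻¹ ∈ (Q : Subgroup H) := hQ h1
    rw [← hg, Sylow.coe_subgroup_smul]
    rw [Subgroup.mem_pointwise_smul_iff_inv_smul_mem]
    simpa [MulAut.smul_def, inv_inv] using h2
  apply hP
  rw [← hPD]
  exact (sup_eq_left.mpr hDP).symm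

end Cfsg.Agent.Helper74.SNG
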