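import Cfsg.Agent.Helper74.CharComplete
import Cfsg.Agent.Helper15.Clifford
import Cfsg.Agent.Helper15.CliffordCorr
import Cfsg.Agent.Helper80.Pullback
import Cfsg.Agent.Helper81.CliffordInd
import Cfsg.Agent.Helper1.CoprimeAction

/-!
# Invariant constituents via Glauberman's lemma

* `normConjEquiv`, `normPerm`, `normPermHom`: the action of `N_Γ(N)` on `Irr(N)` as a homomorphism
  into `Equiv.Perm (IrrCharacter N)`
* `exists_invariant_constituent`: an `S`-invariant `χ ∈ Irr(G)` has an `S`-invariant irreducible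
  constituent on an `S`-invariant normal subgroup `N` when `(|G:N|, |S|) = 1` and `S` or `G/N`
  is solvable (Isaacs 13.27), using helper1's `glauberman_ambient` and helper15's Clifford theory
-/

set_option autoImplicit false

namespace Cfsg.Agent.Helper74

open Cfsg
open scoped ComplexConjugate

universe u

section NormAct

variable {Γ : Type u} [Group Γ] (N : Subgroup Γ)

/-- Conjugation by an element of the normalizer, as an automorphism of `N`. -/
def normConjEquiv (m : (Subgroup.normalizer (N : Set Γ))) : N ≃* N where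
  toFun n := ⟨(m : Γ) * n * (m : Γ)⁻¹, (Subgroup.mem_normalizer_iff.mp m.2 n).mp n.2⟩
  invFun n := ⟨(m : Γ)⁻¹ * n * (m : Γ), by
    have := (Subgroup.mem_normalizer_iff.mp ((Subgroup.normalizer (N : Set Γ)).inv_mem m.2) n).mp n.2
    simpa using this⟩
  left_inv n := by ext; simp [mul_assoc]
  right_inv n := by ext; simp [mul_assoc]
  map_mul' a b := by ext; simp [mul_assoc]

@[simp] theorem normConjEquiv_apply (m : (Subgroup.normalizer (N : Set Γ))) (n : N) :
    ((normConjEquiv N m n : N) : Γ) = (m : Γ) * n * (m : Γ)⁻¹ := rfl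

@[simp] theorem normConjEquiv_symm_apply (m : (Subgroup.normalizer (N : Set Γ))) (n : N) :
    (((normConjEquiv N m).symm n : N) : Γ) = (m : Γ)⁻¹ * n * (m : Γ) := rfl

/-- The permutation of `Irr(N)` induced by an element of the normalizer of `N`:
`θ ↦ (n ↦ θ (m⁻¹ n m))`. -/
noncomputable def normPerm (m : (Subgroup.normalizer (N : Set Γ))) : Equiv.Perm (IrrCharacter N) where
  toFun θ := ⟨fun n => (θ : N → ℂ) ((normConjEquiv N m).symm n),
    Helper80.IsIrrCharacter.comp_surjective θ.2 (normConjEquiv N m).symm.toMonoidHom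
      (normConjEquiv N m).symm.surjective⟩
  invFun θ := ⟨fun n => (θ : N → ℂ) (normConjEquiv N m n),
    Helper80.IsIrrCharacter.comp_surjective θ.2 (normConjEquiv N m).toMonoidHom
      (normConjEquiv N m).surjective⟩
  left_inv θ := by
    apply Subtype.ext; funext n; simp
  right_inv θ := by
    apply Subtype.ext; funext n; simp

theorem normPerm_apply (m : (Subgroup.normalizer (N : Set Γ))) (θ : IrrCharacter N) (n : N) :
    (normPerm N m θ : N → ℂ) n = (θ : N → ℂ) ((normConjEquiv N m).symm n) := rfl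

/-- The action of the normalizer of `N` on `Irr(N)`, as a homomorphism. -/
noncomputable def normPermHom : (Subgroup.normalizer (N : Set Γ)) →* Equiv.Perm (IrrCharacter N) where
  toFun := normPerm N
  map_one' := by
    ext θ n
    rw [normPerm_apply]
    simp only [Equiv.Perm.coe_one, id_eq]
    have : (normConjEquiv N 1).symm n = n := by
      apply Subtype.ext; simp
    rw [this]
  map_mul' a b := by
    ext θ n
    rw [Equiv.Perm.mul_apply, normPerm_apply, normPerm_apply, normPerm_apply]
    have : (normConjEquiv N (a * b)).symm n = (normConjEquiv N b).symm ((normConjEquiv N a).symm n) := by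
      apply Subtype.ext; simp [mul_assoc]
    rw [this]

theorem normPermHom_apply (m : (Subgroup.normalizer (N : Set Γ))) (θ : IrrCharacter N) (n : N) :
    (normPermHom N m θ : N → ℂ) n = (θ : N → ℂ) ((normConjEquiv N m).symm n) := rfl

end NormAct


theorem classInner_comp_equiv_right {A : Type u} [Group A] [Fintype A] (e : A ≃* A) (f g : A → ℂ)
    (hf : ∀ a, f (e a) = f a) : classInner f (fun a => g (e a)) = classInner f g := by
  have h := Helper15.classInner_comp_mulEquiv e f g
  have h2 : (fun a => f (e a)) = f := funext hf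
  rw [h2] at h
  exact h

/-- **Glauberman's lemma applied to Clifford theory**: an `S`-invariant irreducible character
of `G` has an `S`-invariant irreducible constituent on the `S`-invariant normal subgroup `N`,
provided `|G : N|` and `|S|` are coprime and `S` or `G/N` is solvable. -/
theorem exists_invariant_constituent {Γ : Type u} [Group Γ] [Fintype Γ] (G S N : Subgroup Γ)
    [Fintype G] [Fintype N]
    (hnorm : ∀ s ∈ S, ∀ g ∈ G, s * g * s⁻¹ ∈ G) (hNG : N ≤ G) [hNn : (N.subgroupOf G).Normal]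
    (hNS : ∀ s ∈ S, ∀ n ∈ N, s * n * s⁻¹ ∈ N) (hcop : (N.relIndex G).Coprime (Nat.card S))
    (hsolv : Group.IsSolvable S ∨ Group.IsSolvable (G ⧸ N.subgroupOf G)) (χ : IrrCharacter G)
    (hinv : ∀ s ∈ S, ∀ g g' : G, (g' : Γ) = s * g * s⁻¹ → (χ : G → ℂ) g' = (χ : G → ℂ) g) :
    ∃ θ : IrrCharacter N, classInner (fun n : N => (χ : G → ℂ) ⟨n, hNG n.2⟩) (θ : N → ℂ) ≠ 0 ∧
      (∀ s ∈ S, ∀ g g' : N, (g' : Γ) = s * g * s⁻¹ → (θ : N → ℂ) g' = (θ : N → ℂ) g) := by
  classical
  have hSM : S ≤ Subgroup.normalizer (N : Set Γ) := by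
    intro s hs
    rw [Subgroup.mem_normalizer_iff]
    intro h
    constructor
    · exact hNS s hs h
    · intro hh
      have := hNS s⁻¹ (S.inv_mem hs) _ hh
      simpa [mul_assoc] using this
  have hGN : ∀ g ∈ G, ∀ n ∈ N, g * n * g⁻¹ ∈ N := by
    intro g hg n hn
    have := hNn.conj_mem ⟨n, hNG hn⟩ (Subgroup.mem_subgroupOf.mpr hn) ⟨g, hg⟩
    exact Subgroup.mem_subgroupOf.mp this
  have hGM : G ≤ Subgroup.normalizer (N : Set Γ) := by
    intro g hg
    rw [Subgroup.mem_normalizer_iff]
    intro h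
    constructor
    · exact hGN g hg h
    · intro hh
      have := hGN g⁻¹ (G.inv_mem hg) _ hh
      simpa [mul_assoc] using this
  let fG : G →* Equiv.Perm (IrrCharacter N) := (normPermHom N).comp (Subgroup.inclusion hGM)
  let fS : S →* Equiv.Perm (IrrCharacter N) := (normPermHom N).comp (Subgroup.inclusion hSM)
  have hfG : ∀ (g : G) (θ : IrrCharacter N) (n : N),
      (fG g θ : N → ℂ) n = (θ : N → ℂ) ⟨(g : Γ)⁻¹ * n * g, by
        have := hGN (g : Γ)⁻¹ (G.inv_mem g.2) n n.2; simpa using this⟩ := fun g θ n => rfl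
  have hfS : ∀ (s : S) (θ : IrrCharacter N) (n : N),
      (fS s θ : N → ℂ) n = (θ : N → ℂ) ⟨(s : Γ)⁻¹ * n * s, by
        have := hNS (s : Γ)⁻¹ (S.inv_mem s.2) n n.2; simpa using this⟩ := fun s θ n => rfl
  have hfin : Finite (IrrCharacter N) := irr_finite
  set χN : N → ℂ := fun n => (χ : G → ℂ) ⟨n, hNG n.2⟩ with hχNdef
  have hχN : IsCharacter N χN := isCharacter_comp (Subgroup.inclusion hNG) (irr_isCharacter χ)
  have hχcf : IsClassFunction G (χ : G → ℂ) := irr_isClassFunction χ
  -- invariance of the inner products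
  have hinvG : ∀ (g : G) (θ : IrrCharacter N), classInner χN (fG g θ : N → ℂ) = classInner χN θ := by
    intro g θ
    refine classInner_comp_equiv_right (normConjEquiv N (Subgroup.inclusion hGM g)).symm χN θ ?_
    intro a
    simp only [hχNdef]
    have h1 := hχcf ⟨a, hNG a.2⟩ g⁻¹
    rw [← h1]
    refine congrArg (χ : G → ℂ) (Subtype.ext ?_)
    simp
  have hinvS : ∀ (s : S) (θ : IrrCharacter N), classInner χN (fS s θ : N → ℂ) = classInner χN θ := by
    intro s θ
    refine classInner_comp_equiv_right (normConjEquiv N (Subgroup.inclusion hSM s)).symm χN θ ?_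
    intro a
    simp only [hχNdef]
    refine hinv (s : Γ)⁻¹ (S.inv_mem s.2) ⟨a, hNG a.2⟩ _ ?_
    simp
  -- the set of constituents
  set T : Set (IrrCharacter N) := {θ | classInner χN (θ : N → ℂ) ≠ 0} with hT
  have hTne : T.Nonempty := by
    have h1 : χN 1 ≠ 0 := by
      simp only [hχNdef]
      exact Helper80.IsIrrCharacter.map_one_ne_zero χ.2
    obtain ⟨θ, hθ⟩ := Helper81.exists_irr_constituent hχN h1
    exact ⟨θ, hθ⟩
  have hTK : ∀ k ∈ fG.range, ∀ ω ∈ T, k • ω ∈ T := by
    rintro _ ⟨g, rfl⟩ ω hω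
    show classInner χN (fG g ω : N → ℂ) ≠ 0
    rw [hinvG]; exact hω
  have hTA : ∀ a ∈ fS.range, ∀ ω ∈ T, a • ω ∈ T := by
    rintro _ ⟨s, rfl⟩ ω hω
    show classInner χN (fS s ω : N → ℂ) ≠ 0
    rw [hinvS]; exact hω
  -- transitivity (Clifford)
  have htrans : ∀ ω ∈ T, ∀ ω' ∈ T, ∃ k ∈ fG.range, k • ω = ω' := by
    intro ω hω ω' hω'
    let _ : Fintype (N.subgroupOf G) := Fintype.ofFinite _
    have hres : (fun x : N.subgroupOf G => (χ : G → ℂ) x) = Helper15.toSub N G hNG χN :=
      Helper15.restrict_subgroupOf N G hNG _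
    have h1 : classInner (fun x : N.subgroupOf G => (χ : G → ℂ) x)
        (Helper15.toSub N G hNG (ω : N → ℂ)) ≠ 0 := by
      rw [hres, Helper15.classInner_toSub]; exact hω
    have h2 : classInner (fun x : N.subgroupOf G => (χ : G → ℂ) x)
        (Helper15.toSub N G hNG (ω' : N → ℂ)) ≠ 0 := by
      rw [hres, Helper15.classInner_toSub]; exact hω'
    obtain ⟨g, hg⟩ := Helper15.exists_conj_of_constituents (N.subgroupOf G) χ.2
      (Helper15.isIrrCharacter_toSub N G hNG ω.2) (Helper15.isIrrCharacter_toSub N G hNG ω'.2) h1 h2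
    refine ⟨fG g⁻¹, ⟨g⁻¹, rfl⟩, ?_⟩
    apply Subtype.ext
    funext n
    show (fG g⁻¹ ω : N → ℂ) n = (ω' : N → ℂ) n
    rw [hfG]
    have h3 := congrFun hg ⟨⟨n, hNG n.2⟩, Subgroup.mem_subgroupOf.mpr n.2⟩
    rw [Helper15.conjFun_apply, Helper15.toSub_apply, Helper15.toSub_apply] at h3
    rw [h3]
    refine congrArg (ω : N → ℂ) (Subtype.ext ?_)
    simp
  -- normalizing, coprimality and solvability
  have hAK : fS.range ≤ Subgroup.normalizer (fG.range : Set (Equiv.Perm (IrrCharacter N))) := by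
    rintro _ ⟨s, rfl⟩
    have key : ∀ (t : S) (g : G), fS t * fG g * (fS t)⁻¹ ∈ fG.range := by
      intro t g
      refine ⟨⟨(t : Γ) * g * (t : Γ)⁻¹, hnorm t t.2 g g.2⟩, ?_⟩
      show normPermHom N _ = normPermHom N _ * normPermHom N _ * (normPermHom N _)⁻¹
      rw [← map_inv, ← map_mul, ← map_mul]
      congr 1
    rw [Subgroup.mem_normalizer_iff]
    intro k
    constructor
    · rintro ⟨g, rfl⟩
      exact key s g
    · intro hk
      obtain ⟨g, hg⟩ := hk
      have h1 := key s⁻¹ g
      rw [hg, map_inv] at h1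
      have h2 : (fS s)⁻¹ * (fS s * k * (fS s)⁻¹) * (fS s)⁻¹⁻¹ = k := by group
      rw [h2] at h1
      exact h1
  have hkerG : N.subgroupOf G ≤ fG.ker := by
    intro x hx
    rw [MonoidHom.mem_ker]
    ext θ n
    rw [hfG]
    simp only [Equiv.Perm.coe_one, id_eq]
    have hxN : (x : Γ) ∈ N := Subgroup.mem_subgroupOf.mp hx
    have hcf := irr_isClassFunction θ n (⟨(x : Γ), hxN⟩ : N)⁻¹
    rw [← hcf]
    refine congrArg (θ : N → ℂ) (Subtype.ext ?_)
    simp
  have hcardK : Nat.card fG.range ∣ N.relIndex G := by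
    rw [← Subgroup.index_ker fG]
    exact Subgroup.index_dvd_of_le hkerG
  have hcardA : Nat.card fS.range ∣ Nat.card S := Subgroup.card_range_dvd fS
  have hcop' : (Nat.card fS.range).Coprime (Nat.card fG.range) :=
    (Nat.Coprime.coprime_dvd_left hcardK (Nat.Coprime.coprime_dvd_right hcardA hcop)).symm
  have hsolv' : Group.IsSolvable fS.range ∨ Group.IsSolvable fG.range := by
    rcases hsolv with h | h
    · left
      exact Group.isSolvable_of_surjective fS.rangeRestrict_surjective
    · right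
      let q : G ⧸ N.subgroupOf G →* fG.range :=
        QuotientGroup.lift (N.subgroupOf G) fG.rangeRestrict (by
          intro x hx
          have := hkerG hx
          rw [MonoidHom.mem_ker] at this ⊢
          exact Subtype.ext this)
      have hq : Function.Surjective q := by
        rintro ⟨_, g, rfl⟩
        exact ⟨QuotientGroup.mk g, rfl⟩
      exact Group.isSolvable_of_surjective hq
  obtain ⟨⟨ω, hωT, hfix⟩, -⟩ := Helper1.glauberman_ambient (Ω := IrrCharacter N) fS.range fG.range
    hAK hcop' hsolv' T hTne hTK hTA htrans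
  refine ⟨ω, hωT, ?_⟩
  intro s hs g g' hgg'
  have h1 := hfix (fS ⟨s, hs⟩) ⟨⟨s, hs⟩, rfl⟩
  have h2 : (fS ⟨s, hs⟩ ω : N → ℂ) g' = (ω : N → ℂ) g' := by
    have : fS ⟨s, hs⟩ ω = ω := h1
    rw [this]
  rw [hfS] at h2
  rw [← h2]
  refine congrArg (ω : N → ℂ) (Subtype.ext ?_)
  simp [hgg', mul_assoc]

end Cfsg.Agent.Helper74
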