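import Cfsg.Agent.Helper74.LinTwist
import Cfsg.Agent.Helper1.PGroup
import Mathlib.Algebra.BigOperators.ModEq

/-!
# The Alperin–Feit–Thompson theorem on involutions of 2-groups

A finite 2-group whose number of involutions is `1 mod 4` is cyclic or has
commutator subgroup of index four.
-/

set_option autoImplicit false

namespace Cfsg.Agent.Helper74

open Cfsg
open scoped ComplexConjugate

universe u

section duality
variable {G : Type u} [Group G] [Finite G]

theorem card_monoidHom_units_eq_index_commutator :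
    Nat.card (G →* ℂˣ) = (commutator G).index := by
  have e : (G →* ℂˣ) ≃ (Abelianization G →* ℂˣ) := Abelianization.lift
  rw [Nat.card_congr e]
  have hne : NeZero (Monoid.exponent (Abelianization G)) := ⟨Monoid.exponent_ne_zero_of_finite⟩
  have : NeZero ((Monoid.exponent (Abelianization G) : ℕ) : ℂ) := NeZero.charZero
  rw [CommGroup.card_monoidHom_of_hasEnoughRootsOfUnity (Abelianization G) ℂ]
  rfl


/-- The homomorphism to `±1` with kernel a subgroup of index two. -/
noncomputable def signHom (H : Subgroup G) (hH : H.index = 2) : G →* ℂˣ where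
  toFun g := by
    classical
    exact if g ∈ H then 1 else -1
  map_one' := by simp [H.one_mem]
  map_mul' a b := by
    classical
    by_cases ha : a ∈ H <;> by_cases hb : b ∈ H <;>
      simp [ha, hb, Subgroup.mul_mem_iff_of_index_two hH]

omit [Finite G] in
theorem signHom_apply_of_mem {H : Subgroup G} (hH : H.index = 2) {g : G} (hg : g ∈ H) :
    signHom H hH g = 1 := by
  classical
  simp [signHom, hg]

omit [Finite G] in
theorem signHom_apply_of_not_mem {H : Subgroup G} (hH : H.index = 2) {g : G} (hg : g ∉ H) :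
    signHom H hH g = -1 := by
  classical
  simp [signHom, hg]

omit [Finite G] in
theorem signHom_sq {H : Subgroup G} (hH : H.index = 2) : signHom H hH ^ 2 = 1 := by
  ext g
  by_cases hg : g ∈ H
  · simp [signHom_apply_of_mem hH hg]
  · simp [signHom_apply_of_not_mem hH hg]

omit [Finite G] in
theorem signHom_ker {H : Subgroup G} (hH : H.index = 2) (g : G) :
    signHom H hH g = 1 ↔ g ∈ H := by
  by_cases hg : g ∈ H
  · simp [signHom_apply_of_mem hH hg, hg]
  · simp only [signHom_apply_of_not_mem hH hg, hg, iff_false]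
    intro h
    have := congrArg Units.val h
    norm_num at this

/-- A noncyclic finite `2`-group has two distinct subgroups of index two. -/
theorem exists_two_index_two (hG : IsPGroup 2 G) (hnc : ¬ IsCyclic G) :
    ∃ H K : Subgroup G, H.index = 2 ∧ K.index = 2 ∧ H ≠ K := by
  haveI : Fact (Nat.Prime 2) := ⟨Nat.prime_two⟩
  have hnt : Nontrivial G := by
    by_contra h
    rw [not_nontrivial_iff_subsingleton] at h
    exact hnc isCyclic_of_subsingleton
  have hbt : (⊥ : Subgroup G) ≠ ⊤ := bot_ne_top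
  obtain ⟨H, hH, _⟩ := (eq_top_or_exists_le_coatom (⊥ : Subgroup G)).resolve_left hbt
  obtain ⟨x, hx⟩ : ∃ x, x ∉ H := by
    by_contra h
    push Not at h
    exact hH.1 (eq_top_iff.mpr fun g _ => h g)
  have hxt : Subgroup.zpowers x ≠ ⊤ := by
    intro h
    exact hnc ⟨x, fun g => by
      have : g ∈ Subgroup.zpowers x := h ▸ Subgroup.mem_top g
      exact this⟩
  obtain ⟨K, hK, hxK⟩ := (eq_top_or_exists_le_coatom (Subgroup.zpowers x)).resolve_left hxt
  refine ⟨H, K, (Cfsg.Agent.Helper1.coatom_normal_index hG H hH).2,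
    (Cfsg.Agent.Helper1.coatom_normal_index hG K hK).2, ?_⟩
  intro h
  exact hx (h ▸ hxK (Subgroup.mem_zpowers x))

theorem four_dvd_card_sq_eq_one (hG : IsPGroup 2 G) (hnc : ¬ IsCyclic G) :
    4 ∣ Nat.card {μ : G →* ℂˣ // μ ^ 2 = 1} := by
  haveI : Fact (Nat.Prime 2) := ⟨Nat.prime_two⟩
  let Λ : Subgroup (G →* ℂˣ) := (powMonoidHom 2 : (G →* ℂˣ) →* (G →* ℂˣ)).ker
  have hΛ : ∀ μ, μ ∈ Λ ↔ μ ^ 2 = 1 := fun μ => by
    simp [Λ, MonoidHom.mem_ker]
  have hcard : Nat.card {μ : G →* ℂˣ // μ ^ 2 = 1} = Nat.card Λ :=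
    Nat.card_congr (Equiv.subtypeEquivRight (fun μ => (hΛ μ).symm))
  have hp : IsPGroup 2 Λ := by
    rintro ⟨μ, hμ⟩
    refine ⟨1, ?_⟩
    apply Subtype.ext
    simpa using (hΛ μ).mp hμ
  obtain ⟨n, hn⟩ := hp.exists_card_eq
  obtain ⟨H, K, hH, hK, hHK⟩ := exists_two_index_two hG hnc
  -- three distinct elements of Λ
  have h3 : 3 ≤ Nat.card Λ := by
    let a : Λ := ⟨signHom H hH, (hΛ _).mpr (signHom_sq hH)⟩
    let b : Λ := ⟨signHom K hK, (hΛ _).mpr (signHom_sq hK)⟩
    have hab : a ≠ b := by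
      intro h
      apply hHK
      ext g
      rw [← signHom_ker hH, ← signHom_ker hK]
      have : signHom H hH = signHom K hK := congrArg Subtype.val h
      rw [this]
    have ha1 : a ≠ 1 := by
      intro h
      have h' : signHom H hH = 1 := congrArg Subtype.val h
      have : H = ⊤ := by
        ext g
        rw [← signHom_ker hH, h']
        simp
      rw [this, Subgroup.index_top] at hH
      omega
    have hb1 : b ≠ 1 := by
      intro h
      have h' : signHom K hK = 1 := congrArg Subtype.val h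
      have : K = ⊤ := by
        ext g
        rw [← signHom_ker hK, h']
        simp
      rw [this, Subgroup.index_top] at hK
      omega
    have := Fintype.ofFinite Λ
    rw [Nat.card_eq_fintype_card]
    classical
    have hsub : ({a, b, 1} : Finset Λ) ⊆ Finset.univ := Finset.subset_univ _
    have hc : ({a, b, 1} : Finset Λ).card = 3 := by
      rw [Finset.card_insert_of_notMem, Finset.card_insert_of_notMem, Finset.card_singleton]
      · simpa using hb1
      · simp only [Finset.mem_insert, Finset.mem_singleton, not_or]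
        exact ⟨hab, ha1⟩
    calc 3 = ({a, b, 1} : Finset Λ).card := hc.symm
      _ ≤ Finset.univ.card := Finset.card_le_card hsub
      _ = Fintype.card Λ := Finset.card_univ
  rw [hcard, hn]
  rw [hn] at h3
  have hn2 : 2 ≤ n := by
    by_contra h
    push Not at h
    interval_cases n <;> omega
  exact pow_dvd_pow 2 hn2

end duality

section comb

/-- Fixed point congruence for a `p`-group acting on a stable finset. -/
theorem card_finset_modEq_card_fixed {Γ α : Type*} [Group Γ] [MulAction Γ α] [DecidableEq α]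
    {p : ℕ} [Fact p.Prime] (hΓ : IsPGroup p Γ) (S : Finset α)
    (hS : ∀ (γ : Γ) (x : α), x ∈ S → γ • x ∈ S)
    [DecidablePred fun x : α => ∀ γ : Γ, γ • x = x] :
    S.card ≡ (S.filter (fun x => ∀ γ : Γ, γ • x = x)).card [MOD p] := by
  let T : SubMulAction Γ α :=
    { carrier := (S : Set α)
      smul_mem' := fun γ x hx => hS γ x hx }
  have hfin : Finite T := Finite.of_injective (fun x : T => (⟨x.1, x.2⟩ : {x // x ∈ S}))
    (fun a b h => Subtype.ext (congrArg Subtype.val h))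
  have h := hΓ.card_modEq_card_fixedPoints T
  have h1 : Nat.card T = S.card := by
    have e : T ≃ {x // x ∈ S} :=
      { toFun := fun x => ⟨x.1, x.2⟩
        invFun := fun x => ⟨x.1, x.2⟩
        left_inv := fun _ => rfl
        right_inv := fun _ => rfl }
    rw [Nat.card_congr e, Nat.card_eq_fintype_card, Fintype.card_coe]
  have h2 : Nat.card (MulAction.fixedPoints Γ T) =
      (S.filter (fun x => ∀ γ : Γ, γ • x = x)).card := by
    have e : MulAction.fixedPoints Γ T ≃ {x // x ∈ S.filter (fun x => ∀ γ : Γ, γ • x = x)} :=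
      { toFun := fun x => ⟨x.1.1, Finset.mem_filter.mpr ⟨x.1.2, fun γ =>
          congrArg Subtype.val (x.2 γ)⟩⟩
        invFun := fun x => ⟨⟨x.1, (Finset.mem_filter.mp x.2).1⟩, fun γ =>
          Subtype.ext ((Finset.mem_filter.mp x.2).2 γ)⟩
        left_inv := fun _ => rfl
        right_inv := fun _ => rfl }
    rw [Nat.card_congr e, Nat.card_eq_fintype_card, Fintype.card_coe]
  rw [h1, h2] at h
  exact h

/-- A finset with a fixed-point-free involution has even cardinality. -/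
theorem even_card_of_involution {α : Type*} (S : Finset α) (f : α → α)
    (hmem : ∀ x ∈ S, f x ∈ S) (hinv : ∀ x ∈ S, f (f x) = x) (hne : ∀ x ∈ S, f x ≠ x) :
    2 ∣ S.card := by
  have h := Finset.sum_involution (s := S) (f := fun _ => (1 : ZMod 2)) (fun a _ => f a)
    (fun _ _ => by decide) (fun a ha _ => hne a ha) (fun a ha => hmem a ha)
    (fun a ha => hinv a ha)
  rw [Finset.sum_const, nsmul_eq_mul, mul_one] at h
  exact (ZMod.natCast_eq_zero_iff _ _).mp h

end comb

theorem exists_order_four {L : Type*} [Group L] (n : ℕ) (μ : L) (h : μ ^ (2 ^ n) = 1)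
    (h2 : μ ^ 2 ≠ 1) : ∃ μ₀ : L, μ₀ ^ 4 = 1 ∧ μ₀ ^ 2 ≠ 1 := by
  induction n generalizing μ with
  | zero =>
    exfalso
    apply h2
    have : μ = 1 := by simpa using h
    rw [this, one_pow]
  | succ k ih =>
    by_cases h4 : μ ^ 4 = 1
    · exact ⟨μ, h4, h2⟩
    · refine ih (μ ^ 2) ?_ ?_
      · rw [← pow_mul, ← pow_succ']; exact h
      · rw [← pow_mul]; exact h4


section aft
variable {G : Type u} [Group G] [Fintype G]

/-- The linear character `μ` as an irreducible character. -/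
noncomputable def linIrr (μ : G →* ℂˣ) : IrrCharacter G :=
  ⟨linFun μ, Cfsg.Agent.Helper80.isIrrCharacter_of_monoidHom μ⟩

omit [Fintype G] in
@[simp] theorem linIrr_apply (μ : G →* ℂˣ) (g : G) :
    (linIrr μ : G → ℂ) g = ((μ g : ℂˣ) : ℂ) := rfl

theorem linIrr_injective : Function.Injective (linIrr (G := G)) := by
  intro μ ν h
  exact linFun_injective (congrArg Subtype.val h)

theorem twist_apply_one (μ : G →* ℂˣ) (χ : IrrCharacter G) :
    (twist μ χ : G → ℂ) 1 = (χ : G → ℂ) 1 := by simp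

theorem charDegree_twist (μ : G →* ℂˣ) (χ : IrrCharacter G) :
    charDegree (twist μ χ : G → ℂ) = charDegree (χ : G → ℂ) := by
  unfold charDegree
  rw [twist_apply_one]

theorem fsIndF_twist_of_sq (μ : G →* ℂˣ) (hμ : μ ^ 2 = 1) (χ : IrrCharacter G) :
    fsIndF (twist μ χ : G → ℂ) = fsIndF (χ : G → ℂ) := by
  unfold fsIndF
  congr 1
  refine Finset.sum_congr rfl (fun g _ => ?_)
  rw [twist_apply, map_mul, ← sq, ← MonoidHom.pow_apply, hμ]
  simp

theorem linFun_real_iff (μ : G →* ℂˣ) : (∀ g, (linFun μ g).im = 0) ↔ μ ^ 2 = 1 := by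
  constructor
  · intro h
    ext g
    have h1 := monoidHom_mul_conj μ g
    have h2 : conj ((μ g : ℂˣ) : ℂ) = ((μ g : ℂˣ) : ℂ) := Complex.conj_eq_iff_im.mpr (h g)
    rw [h2] at h1
    rw [MonoidHom.pow_apply, sq, Units.val_mul, h1]
    simp
  · intro h g
    have h1 := monoidHom_mul_conj μ g
    have h3 : ((μ g : ℂˣ) : ℂ) * ((μ g : ℂˣ) : ℂ) = 1 := by
      have := congrArg (fun ν : G →* ℂˣ => ((ν g : ℂˣ) : ℂ)) h
      simpa [sq] using this
    have h2 : conj ((μ g : ℂˣ) : ℂ) = ((μ g : ℂˣ) : ℂ) := by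
      have hne : ((μ g : ℂˣ) : ℂ) ≠ 0 := Units.ne_zero _
      exact mul_left_cancel₀ hne (h1.trans h3.symm)
    exact Complex.conj_eq_iff_im.mp h2

theorem fsIndF_linFun (μ : G →* ℂˣ) [Decidable (μ ^ 2 = 1)] :
    fsIndF (linFun μ) = if μ ^ 2 = 1 then 1 else 0 := by
  classical
  have hG : (Nat.card G : ℂ) ≠ 0 := by exact_mod_cast Nat.card_pos.ne'
  have h := sum_irr_sq (linIrr μ)
  unfold fsIndF
  have h1 : ∑ g : G, linFun μ (g * g) = ∑ g : G, (linIrr μ : G → ℂ) g * (linIrr μ : G → ℂ) g := by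
    refine Finset.sum_congr rfl (fun g _ => ?_)
    simp
  rw [h1, h]
  by_cases hμ : μ ^ 2 = 1
  · rw [if_pos hμ, if_pos (show ∀ g, ((linIrr μ : G → ℂ) g).im = 0 from
      (linFun_real_iff μ).mpr hμ), inv_mul_cancel₀ hG]
  · rw [if_neg hμ, if_neg (show ¬ ∀ g, ((linIrr μ : G → ℂ) g).im = 0 from
      fun h' => hμ ((linFun_real_iff μ).mp h')), mul_zero]

theorem fsIndF_ne_zero_of_real (χ : IrrCharacter G)
    (h : ∀ g, ((χ : G → ℂ) g).im = 0) : fsIndF (χ : G → ℂ) ≠ 0 := by
  obtain ⟨n, ρ, hρ, hχ⟩ := χ.2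
  rw [← hχ, fsIndF_character]
  have hreal : ∀ g : G, (ρ.character g).im = 0 := by
    intro g; rw [hχ]; exact h g
  obtain ⟨M, hM0, hM⟩ := exists_isInvForm_of_real hρ hreal
  have hu := hM.isUnit hρ hM0
  obtain ⟨c, hc⟩ := hM.eq_smul hρ hu hM.transpose
  rw [fsInd_eq_of_transpose hρ hM hu hc]
  intro hc0
  rw [hc0, zero_smul] at hc
  apply hM0
  have := congrArg Matrix.transpose hc
  simpa using this

omit [Fintype G] in
theorem exists_linIrr_of_degree_one [Finite G] (χ : IrrCharacter G)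
    (h : charDegree (χ : G → ℂ) = 1) : ∃ μ, χ = linIrr μ := by
  have hc := charDegree_cast (irr_isCharacter χ)
  rw [h] at hc
  obtain ⟨φ, hφ⟩ := Cfsg.Agent.Helper80.IsCharacter.exists_monoidHom (irr_isCharacter χ)
    (by rw [← hc]; simp)
  refine ⟨φ, ?_⟩
  apply Subtype.ext
  funext g
  rw [hφ g]
  rfl

omit [Fintype G] in
theorem charDegree_linIrr (μ : G →* ℂˣ) : charDegree (linIrr μ : G → ℂ) = 1 := by
  simp [charDegree]

/-- The stabilizer of `χ` under twisting has at most `χ(1)²` elements. -/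
theorem card_le_degree_sq_of_twist_fixed [Fintype (IrrCharacter G)] (χ : IrrCharacter G)
    (S : Finset (G →* ℂˣ)) (hS : ∀ μ ∈ S, twist μ χ = χ) :
    S.card ≤ charDegree (χ : G → ℂ) ^ 2 := by
  classical
  set θ : G → ℂ := (χ : G → ℂ) * (fun g => conj ((χ : G → ℂ) g)) with hθdef
  have hθ : IsCharacter G θ := isCharacter_mul (irr_isCharacter χ)
    (isCharacter_conj (irr_isCharacter χ))
  choose m hm using fun ψ => isCharacter_inner_irr_nat hθ ψ
  have hd := charDegree_cast (irr_isCharacter χ)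
  have hθ1 : θ 1 = ((charDegree (χ : G → ℂ) ^ 2 : ℕ) : ℂ) := by
    simp only [hθdef, Pi.mul_apply]
    rw [← hd]
    simp [sq]
  have hsum : θ 1 = ∑ ψ : IrrCharacter G, (m ψ : ℂ) * (charDegree (ψ : G → ℂ) : ℂ) := by
    have h := congrFun (isCharacter_eq_sum_irr hθ) 1
    rw [Finset.sum_apply] at h
    rw [h]
    refine Finset.sum_congr rfl (fun ψ _ => ?_)
    rw [Pi.smul_apply, smul_eq_mul, hm ψ, charDegree_cast (irr_isCharacter ψ)]
  have hN : charDegree (χ : G → ℂ) ^ 2 = ∑ ψ : IrrCharacter G, m ψ * charDegree (ψ : G → ℂ) := by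
    have : ((charDegree (χ : G → ℂ) ^ 2 : ℕ) : ℂ) =
        ((∑ ψ : IrrCharacter G, m ψ * charDegree (ψ : G → ℂ) : ℕ) : ℂ) := by
      rw [← hθ1, hsum]
      push_cast
      rfl
    exact_mod_cast this
  have hm1 : ∀ μ ∈ S, m (linIrr μ) = 1 := by
    intro μ hμ
    have h1 : classInner θ (linIrr μ : G → ℂ) =
        classInner (χ : G → ℂ) (twist μ χ : G → ℂ) := by
      rw [classInner_def, classInner_def]
      congr 1
      refine Finset.sum_congr rfl (fun g _ => ?_)
      simp only [hθdef, Pi.mul_apply, linIrr_apply, twist_apply, map_mul]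
      ring
    rw [hS μ hμ, irr_inner_self, hm] at h1
    exact_mod_cast h1
  calc S.card = ∑ μ ∈ S, 1 := by simp
    _ = ∑ μ ∈ S, m (linIrr μ) * charDegree (linIrr μ : G → ℂ) := by
        refine Finset.sum_congr rfl (fun μ hμ => ?_)
        rw [hm1 μ hμ, charDegree_linIrr]
    _ = ∑ ψ ∈ S.image linIrr, m ψ * charDegree (ψ : G → ℂ) := by
        rw [Finset.sum_image (fun a _ b _ h => linIrr_injective h)]
    _ ≤ ∑ ψ : IrrCharacter G, m ψ * charDegree (ψ : G → ℂ) :=
        Finset.sum_le_sum_of_subset (Finset.subset_univ _)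
    _ = charDegree (χ : G → ℂ) ^ 2 := hN.symm

end aft

section core
variable {G : Type u} [Group G] [Fintype G]

set_option maxHeartbeats 800000 in
theorem aft_core [Fintype (IrrCharacter G)] (hG : IsPGroup 2 G)
    (ht : Nat.card {x : G // orderOf x = 2} % 4 = 1)
    (hΛ4 : 4 ∣ Nat.card {μ : G →* ℂˣ // μ ^ 2 = 1}) : Nat.card (G →* ℂˣ) = 4 := by
  classical
  haveI : Fact (Nat.Prime 2) := ⟨Nat.prime_two⟩
  letI := twistAction (G := G)
  letI hLfin : Fintype (G →* ℂˣ) := Fintype.ofFinite _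
  obtain ⟨t, htdef⟩ : ∃ t, t = Nat.card {x : G // orderOf x = 2} := ⟨_, rfl⟩
  rw [← htdef] at ht
  -- integer-valued Frobenius–Schur indicator
  let nuZ : IrrCharacter G → ℤ := fun χ =>
    if fsIndF (χ : G → ℂ) = 1 then 1 else if fsIndF (χ : G → ℂ) = -1 then -1 else 0
  have hnuZ : ∀ χ, (nuZ χ : ℂ) = fsIndF (χ : G → ℂ) := by
    intro χ
    rcases fsIndF_cases χ with h | ⟨h | h, _⟩
    · simp [nuZ, h]
    · simp [nuZ, h]
    · have h' : ¬ ((-1 : ℂ) = 1) := by norm_num
      simp [nuZ, h, h']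
  have hnuZ_cases : ∀ χ, nuZ χ = 0 ∨ nuZ χ = 1 ∨ nuZ χ = -1 := by
    intro χ
    simp only [nuZ]
    split_ifs <;> simp
  have hnuZ_real : ∀ χ, nuZ χ ≠ 0 ↔ ∀ g, ((χ : G → ℂ) g).im = 0 := by
    intro χ
    constructor
    · intro h
      rcases fsIndF_cases χ with h0 | ⟨_, hr⟩
      · exfalso
        apply h
        have := hnuZ χ
        rw [h0] at this
        exact_mod_cast this
      · exact hr
    · intro hr h0
      apply fsIndF_ne_zero_of_real χ hr
      rw [← hnuZ χ, h0]
      simp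
  let d : IrrCharacter G → ℕ := fun χ => charDegree (χ : G → ℂ)
  have hd : ∀ χ, ((d χ : ℕ) : ℂ) = (χ : G → ℂ) 1 := fun χ => charDegree_cast (irr_isCharacter χ)
  -- the count
  have hcount : ((1 + t : ℕ) : ℤ) = ∑ χ : IrrCharacter G, nuZ χ * (d χ : ℤ) := by
    have h := one_add_involutions_eq_sum (G := G)
    rw [← htdef] at h
    have : (((1 + t : ℕ) : ℤ) : ℂ) = ((∑ χ : IrrCharacter G, nuZ χ * (d χ : ℤ) : ℤ) : ℂ) := by
      rw [Int.cast_natCast, h, Int.cast_sum]
      refine Finset.sum_congr rfl (fun χ _ => ?_)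
      rw [Int.cast_mul, hnuZ χ, Int.cast_natCast, hd χ]
    exact_mod_cast this
  obtain ⟨n, hn⟩ := hG.exists_card_eq
  have hdpow : ∀ χ, ∃ k, d χ = 2 ^ k := by
    intro χ
    have h := Cfsg.Agent.Helper80.IsIrrCharacter.charDegree_dvd_card χ.2
    rw [hn] at h
    obtain ⟨k, _, hk⟩ := (Nat.dvd_prime_pow Nat.prime_two).mp h
    exact ⟨k, hk⟩
  have hlin : ∀ χ, d χ = 1 → (nuZ χ = 0 ∨ nuZ χ = 1) := by
    intro χ h1
    obtain ⟨μ, rfl⟩ := exists_linIrr_of_degree_one χ h1
    have h := hnuZ (linIrr μ)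
    have h2 : fsIndF (linIrr μ : G → ℂ) = if μ ^ 2 = 1 then 1 else 0 := fsIndF_linFun μ
    rw [h2] at h
    by_cases hμ : μ ^ 2 = 1
    · rw [if_pos hμ] at h
      right; exact_mod_cast h
    · rw [if_neg hμ] at h
      left; exact_mod_cast h
  -- the sets X₁, X₂
  let X₁ : Finset (IrrCharacter G) := Finset.univ.filter (fun χ => d χ = 1 ∧ nuZ χ ≠ 0)
  let X₂ : Finset (IrrCharacter G) := Finset.univ.filter (fun χ => d χ = 2 ∧ nuZ χ ≠ 0)
  have hterm : ∀ χ, nuZ χ * (d χ : ℤ) ≡
      (if d χ = 1 ∧ nuZ χ ≠ 0 then 1 else 0) + 2 * (if d χ = 2 ∧ nuZ χ ≠ 0 then 1 else 0)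
      [ZMOD 4] := by
    intro χ
    obtain ⟨k, hk⟩ := hdpow χ
    rcases k with _ | _ | k
    · have h1 : d χ = 1 := by simpa using hk
      rcases hlin χ h1 with h0 | h0
      · simp [h1, h0]
      · simp [h1, h0]
    · have h1 : d χ = 2 := by simpa using hk
      rcases hnuZ_cases χ with h0 | h0 | h0
      · simp [h1, h0]
      · simp [h1, h0]
      · simp [h1, h0]; decide
    · have h1 : d χ = 4 * 2 ^ k := by rw [hk]; ring
      have hne1 : d χ ≠ 1 := by rw [h1]; omega
      have hne2 : d χ ≠ 2 := by rw [h1]; omega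
      simp only [hne1, hne2, false_and, if_false, mul_zero, add_zero]
      rw [h1]
      push_cast
      exact (Int.modEq_zero_iff_dvd).mpr ⟨nuZ χ * 2 ^ k, by ring⟩
  have hmod : ((1 + t : ℕ) : ℤ) ≡ (X₁.card : ℤ) + 2 * (X₂.card : ℤ) [ZMOD 4] := by
    rw [hcount]
    have h := Int.ModEq.sum (s := (Finset.univ : Finset (IrrCharacter G))) (n := 4)
      (fun χ _ => hterm χ)
    refine h.trans ?_
    rw [Finset.sum_add_distrib, ← Finset.mul_sum, Finset.sum_boole, Finset.sum_boole]
  -- X₁ is in bijection with Λ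
  let ΛS : Finset (G →* ℂˣ) := Finset.univ.filter (fun μ => μ ^ 2 = 1)
  have hΛScard : ΛS.card = Nat.card {μ : G →* ℂˣ // μ ^ 2 = 1} := by
    rw [Nat.card_eq_fintype_card, Fintype.card_subtype]
  have hX₁ : X₁.card = ΛS.card := by
    have : X₁ = ΛS.image linIrr := by
      ext χ
      simp only [X₁, ΛS, Finset.mem_filter, Finset.mem_univ, true_and, Finset.mem_image]
      constructor
      · rintro ⟨h1, h0⟩
        obtain ⟨μ, rfl⟩ := exists_linIrr_of_degree_one χ h1
        refine ⟨μ, ?_, rfl⟩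
        by_contra hμ
        apply h0
        have h := hnuZ (linIrr μ)
        have h2 : fsIndF (linIrr μ : G → ℂ) = if μ ^ 2 = 1 then 1 else 0 := fsIndF_linFun μ
        rw [h2, if_neg hμ] at h
        exact_mod_cast h
      · rintro ⟨μ, hμ, rfl⟩
        refine ⟨charDegree_linIrr μ, ?_⟩
        intro h0
        have h := hnuZ (linIrr μ)
        have h2 : fsIndF (linIrr μ : G → ℂ) = if μ ^ 2 = 1 then 1 else 0 := fsIndF_linFun μ
        rw [h2, if_pos hμ, h0] at h
        simp at h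
    rw [this, Finset.card_image_of_injective _ linIrr_injective]
  have hodd : X₂.card % 2 = 1 := by
    rw [hX₁, hΛScard] at hmod
    obtain ⟨c, hc⟩ := hΛ4
    rw [hc] at hmod
    have := hmod
    unfold Int.ModEq at this
    push_cast at this
    omega
  -- the group Λ and its action on X₂
  let Λ : Subgroup (G →* ℂˣ) := (powMonoidHom 2 : (G →* ℂˣ) →* (G →* ℂˣ)).ker
  have hΛmem : ∀ μ, μ ∈ Λ ↔ μ ^ 2 = 1 := fun μ => by
    simp [Λ, MonoidHom.mem_ker]
  have hpΛ : IsPGroup 2 Λ := by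
    rintro ⟨μ, hμ⟩
    refine ⟨1, ?_⟩
    apply Subtype.ext
    simpa using (hΛmem μ).mp hμ
  have hsmul : ∀ (γ : Λ) (χ : IrrCharacter G), γ • χ = twist (γ : G →* ℂˣ) χ := fun _ _ => rfl
  have hstable : ∀ (γ : Λ) (χ : IrrCharacter G), χ ∈ X₂ → γ • χ ∈ X₂ := by
    intro γ χ hχ
    simp only [X₂, Finset.mem_filter, Finset.mem_univ, true_and] at hχ ⊢
    rw [hsmul]
    refine ⟨by simp only [d]; rw [charDegree_twist]; exact hχ.1, ?_⟩
    have : nuZ (twist (γ : G →* ℂˣ) χ) = nuZ χ := by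
      simp only [nuZ]
      rw [fsIndF_twist_of_sq _ ((hΛmem _).mp γ.2)]
    rw [this]
    exact hχ.2
  let F : Finset (IrrCharacter G) := X₂.filter (fun χ => ∀ γ : Λ, γ • χ = χ)
  have hFX := card_finset_modEq_card_fixed hpΛ X₂ hstable
  have hFodd : F.card % 2 = 1 := by
    have := hFX
    unfold Nat.ModEq at this
    simp only [F]
    omega
  have hFfix : ∀ χ ∈ F, ∀ μ : G →* ℂˣ, μ ^ 2 = 1 → twist μ χ = χ := by
    intro χ hχ μ hμ
    have h := (Finset.mem_filter.mp hχ).2 ⟨μ, (hΛmem μ).mpr hμ⟩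
    rw [hsmul] at h
    exact h
  have hFd : ∀ χ ∈ F, d χ = 2 := by
    intro χ hχ
    have h := (Finset.mem_filter.mp hχ).1
    simp only [X₂, Finset.mem_filter, Finset.mem_univ, true_and] at h
    exact h.1
  have hFreal : ∀ χ ∈ F, ∀ g, ((χ : G → ℂ) g).im = 0 := by
    intro χ hχ
    have h := (Finset.mem_filter.mp hχ).1
    simp only [X₂, Finset.mem_filter, Finset.mem_univ, true_and] at h
    exact (hnuZ_real χ).mp h.2
  have hΛpos : 4 ≤ ΛS.card := by
    rw [hΛScard]
    have hpos : 0 < Nat.card {μ : G →* ℂˣ // μ ^ 2 = 1} := by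
      haveI : Nonempty {μ : G →* ℂˣ // μ ^ 2 = 1} := ⟨⟨1, by ext g; simp⟩⟩
      exact Nat.card_pos
    exact Nat.le_of_dvd hpos hΛ4
  have hstab : ∀ χ ∈ F, ∀ μ : G →* ℂˣ, twist μ χ = χ → μ ^ 2 = 1 := by
    intro χ hχ μ hμ
    by_contra hne
    have hnot : μ ∉ ΛS := by
      simp only [ΛS, Finset.mem_filter, Finset.mem_univ, true_and]
      exact hne
    have hle := card_le_degree_sq_of_twist_fixed χ (insert μ ΛS) (by
      intro ν hν
      rcases Finset.mem_insert.mp hν with rfl | hν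
      · exact hμ
      · simp only [ΛS, Finset.mem_filter, Finset.mem_univ, true_and] at hν
        exact hFfix χ hχ ν hν)
    rw [Finset.card_insert_of_notMem hnot] at hle
    have h2 : charDegree (χ : G → ℂ) = 2 := hFd χ hχ
    rw [h2] at hle
    omega
  obtain ⟨χ₀, hχ₀⟩ : F.Nonempty := by
    rw [Finset.nonempty_iff_ne_empty]
    intro h
    rw [h] at hFodd
    simp at hFodd
  have hΛle : ΛS.card ≤ 4 := by
    have hle := card_le_degree_sq_of_twist_fixed χ₀ ΛS (by
      intro ν hν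
      simp only [ΛS, Finset.mem_filter, Finset.mem_univ, true_and] at hν
      exact hFfix χ₀ hχ₀ ν hν)
    have h2 : charDegree (χ₀ : G → ℂ) = 2 := hFd χ₀ hχ₀
    rw [h2] at hle
    omega
  -- every linear character has square one
  have hall : ∀ μ : G →* ℂˣ, μ ^ 2 = 1 := by
    by_contra hcon
    push Not at hcon
    obtain ⟨μ, hμ⟩ := hcon
    have hpow : μ ^ (2 ^ n) = 1 := by
      ext g
      rw [MonoidHom.pow_apply, ← map_pow, ← hn, pow_card_eq_one']
      simp
    obtain ⟨μ₀, h4, h2⟩ := exists_order_four n μ hpow hμ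
    have hsq : (μ₀ ^ 2) ^ 2 = 1 := by rw [← pow_mul]; exact h4
    have heven := even_card_of_involution F (twist μ₀) ?_ ?_ ?_
    · omega
    · -- stability
      intro χ hχ
      have hreal : ∀ g, ((twist μ₀ χ : G → ℂ) g).im = 0 := by
        intro g
        apply Complex.conj_eq_iff_im.mp
        rw [twist_apply, map_mul]
        have hc : conj ((χ : G → ℂ) g) = (χ : G → ℂ) g :=
          Complex.conj_eq_iff_im.mpr (hFreal χ hχ g)
        have ha := monoidHom_mul_conj μ₀ g
        have hb : ((μ₀ g : ℂˣ) : ℂ) * ((μ₀ g : ℂˣ) : ℂ) * (χ : G → ℂ) g = (χ : G → ℂ) g := by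
          have := congrArg (fun ψ : IrrCharacter G => (ψ : G → ℂ) g) (hFfix χ hχ (μ₀ ^ 2) hsq)
          simpa [sq] using this
        rw [hc]
        calc conj ((μ₀ g : ℂˣ) : ℂ) * (χ : G → ℂ) g
            = conj ((μ₀ g : ℂˣ) : ℂ) *
                (((μ₀ g : ℂˣ) : ℂ) * ((μ₀ g : ℂˣ) : ℂ) * (χ : G → ℂ) g) := by rw [hb]
          _ = (((μ₀ g : ℂˣ) : ℂ) * conj ((μ₀ g : ℂˣ) : ℂ)) *
                (((μ₀ g : ℂˣ) : ℂ) * (χ : G → ℂ) g) := by ring
          _ = ((μ₀ g : ℂˣ) : ℂ) * (χ : G → ℂ) g := by rw [ha, one_mul]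
      simp only [F, X₂, Finset.mem_filter, Finset.mem_univ, true_and]
      refine ⟨⟨?_, (hnuZ_real _).mpr hreal⟩, ?_⟩
      · simp only [d]; rw [charDegree_twist]; exact hFd χ hχ
      · intro γ
        rw [hsmul, ← twist_mul, mul_comm (γ : G →* ℂˣ) μ₀, twist_mul,
          hFfix χ hχ _ ((hΛmem _).mp γ.2)]
    · intro χ hχ
      rw [← twist_mul, (sq μ₀).symm]
      exact hFfix χ hχ _ hsq
    · intro χ hχ hfix
      exact h2 (hstab χ hχ μ₀ hfix)
  have hfinal : ΛS = Finset.univ := by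
    ext μ
    simp only [ΛS, Finset.mem_filter, Finset.mem_univ, true_and, iff_true]
    exact hall μ
  rw [Nat.card_eq_fintype_card, ← Finset.card_univ, ← hfinal]
  omega

end core

end Cfsg.Agent.Helper74
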