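import Cfsg.Agent.Helper74.Ito
import Cfsg.Agent.Helper74.AFT
import Cfsg.Agent.Helper80.OneChar
import Cfsg.Agent.Helper34.Tate
import Cfsg.Agent.Helper34.Gaschutz
import Cfsg.Agent.Helper1.PGroup
import Cfsg.Agent.Lib.Cores
import Cfsg.Agent.Helper15.Clifford
import Cfsg.Agent.Helper15.CliffordCorr

/-!
# Thompson's theorem on character degrees

* `sum_irr_degree_mul_apply`: the regular character `∑ χ, χ(1) χ(g)`
* `mem_commutator_sylow_of_degrees`: if `p ∣ χ(1)` for all nonlinear `χ ∈ Irr(G)` then
  `P ∩ G' ≤ P'` for a Sylow `p`-subgroup `P`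
* `mem_commutator_of_mem_pResidual`: `p`-elements of `O^p(G)` lie in `G'`
* `coprime_card_pResidual_of_degrees`: Thompson's theorem (via Tate's theorem of helper34):
  under the same hypothesis `O^p(G)` is a normal `p`-complement
* `charDegree_dvd_of_constituent`: for `N ⊴ G`, `θ(1) ∣ χ(1)` for a constituent `θ` of `χ_N`
-/

set_option autoImplicit false

namespace Cfsg.Agent.Helper74

open Cfsg
open scoped ComplexConjugate

universe u

/-- The regular character: `∑ χ, χ(1) χ(g) = |G|` if `g = 1` and `0` otherwise. -/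
theorem sum_irr_degree_mul_apply {G : Type u} [Group G] [Fintype G] [Fintype (IrrCharacter G)]
    (g : G) [Decidable (g = 1)] :
    ∑ χ : IrrCharacter G, (χ : G → ℂ) 1 * (χ : G → ℂ) g =
      if g = 1 then (Nat.card G : ℂ) else 0 := by
  classical
  have h := second_orthogonality (G := G) g 1
  have h1 : ∀ χ : IrrCharacter G, conj ((χ : G → ℂ) 1) = (χ : G → ℂ) 1 := by
    intro χ
    obtain ⟨n, hn⟩ := isCharacter_apply_one (irr_isCharacter χ)
    rw [hn]; simp
  have h2 : ∑ χ : IrrCharacter G, (χ : G → ℂ) 1 * (χ : G → ℂ) g =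
      ∑ χ : IrrCharacter G, (χ : G → ℂ) g * conj ((χ : G → ℂ) 1) :=
    Finset.sum_congr rfl (fun χ _ => by rw [h1 χ, mul_comm])
  rw [h2, h]
  have h3 : IsConj g 1 ↔ g = 1 := isConj_one_left
  by_cases hg : g = 1
  · rw [if_pos hg, if_pos (h3.mpr hg)]
    congr 1
    have : Subgroup.centralizer ({1} : Set G) = ⊤ := by
      rw [eq_top_iff]; intro x _; rw [Subgroup.mem_centralizer_iff]; intro y hy
      rw [Set.mem_singleton_iff] at hy; rw [hy, one_mul, mul_one]
    rw [this, Nat.card_congr Subgroup.topEquiv.toEquiv]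
  · rw [if_neg hg, if_neg (fun h => hg (h3.mp h))]

/-- **Thompson's argument**: if `p` divides the degree of every nonlinear irreducible character
of `G`, then a Sylow `p`-subgroup `P` satisfies `P ∩ G' ≤ P'`. -/
theorem mem_commutator_sylow_of_degrees {G : Type u} [Group G] [Fintype G] (p : ℕ)
    [hp : Fact p.Prime]
    (hdeg : ∀ χ : IrrCharacter G, charDegree (χ : G → ℂ) ≠ 1 → p ∣ charDegree (χ : G → ℂ))
    (P : Sylow p G) (x : (P : Subgroup G)) (hx : (x : G) ∈ commutator G) :
    x ∈ commutator (P : Subgroup G) := by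
  classical
  by_contra hxc
  obtain ⟨μ, hμ⟩ := Helper80.exists_hom_ne_one_of_not_mem_commutator x hxc
  let _ := irrFintype G
  let _ : Fintype (P : Subgroup G) := Fintype.ofFinite _
  have hm : ∀ χ : IrrCharacter G, ∃ m : ℕ,
      classInner (fun y : (P : Subgroup G) => (χ : G → ℂ) y) ((linIrr μ : IrrCharacter _) : _ → ℂ) = m :=
    fun χ => isCharacter_inner_irr_nat (isCharacter_restrict (P : Subgroup G) (irr_isCharacter χ))
      (linIrr μ)
  choose m hm using hm
  have hP0 : (Nat.card (P : Subgroup G) : ℂ) ≠ 0 := by exact_mod_cast Nat.card_pos.ne'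
  -- the key identity
  have hkey : (Nat.card G : ℂ) = (Nat.card (P : Subgroup G) : ℂ) *
      ∑ χ : IrrCharacter G, (χ : G → ℂ) 1 * (m χ : ℂ) := by
    have h1 : ∑ y : (P : Subgroup G), (∑ χ : IrrCharacter G, (χ : G → ℂ) 1 * (χ : G → ℂ) y) *
        conj ((linIrr μ : _ → ℂ) y) = (Nat.card G : ℂ) := by
      rw [Finset.sum_eq_single (1 : (P : Subgroup G))]
      · rw [Subgroup.coe_one, sum_irr_degree_mul_apply, if_pos rfl]
        simp
      · intro y _ hy
        have : (y : G) ≠ 1 := fun h => hy (Subtype.ext h)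
        rw [sum_irr_degree_mul_apply, if_neg this, zero_mul]
      · intro h; exact absurd (Finset.mem_univ _) h
    rw [← h1]
    simp only [Finset.sum_mul]
    rw [Finset.sum_comm, Finset.mul_sum]
    refine Finset.sum_congr rfl (fun χ _ => ?_)
    rw [← hm χ, classInner_def]
    simp only [mul_assoc]
    rw [← Finset.mul_sum, ← mul_assoc (Nat.card (P : Subgroup G) : ℂ), ← mul_assoc,
      mul_comm (Nat.card (P : Subgroup G) : ℂ), mul_assoc ((χ : G → ℂ) 1),
      mul_inv_cancel₀ hP0, mul_one]
  -- degrees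
  have hd : ∀ χ : IrrCharacter G, (χ : G → ℂ) 1 = (charDegree (χ : G → ℂ) : ℂ) :=
    fun χ => (charDegree_cast (irr_isCharacter χ)).symm
  have hkeyN : Nat.card G = Nat.card (P : Subgroup G) *
      ∑ χ : IrrCharacter G, charDegree (χ : G → ℂ) * m χ := by
    have : (Nat.card G : ℂ) = ((Nat.card (P : Subgroup G) *
        ∑ χ : IrrCharacter G, charDegree (χ : G → ℂ) * m χ : ℕ) : ℂ) := by
      rw [hkey]; push_cast
      congr 1
      exact Finset.sum_congr rfl (fun χ _ => by rw [hd χ])
    exact_mod_cast this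
  -- each term is divisible by p
  have hterm : ∀ χ : IrrCharacter G, p ∣ charDegree (χ : G → ℂ) * m χ := by
    intro χ
    by_cases h1 : charDegree (χ : G → ℂ) = 1
    · -- linear: multiplicity zero
      have hm0 : m χ = 0 := by
        by_contra hne
        -- restriction is the irreducible character `linIrr μ`
        have hχ1 : (χ : G → ℂ) 1 = 1 := by rw [hd χ, h1]; simp
        obtain ⟨φ, hφ⟩ := Helper80.IsCharacter.exists_monoidHom (irr_isCharacter χ) hχ1
        let φP : (P : Subgroup G) →* ℂˣ := φ.comp (P : Subgroup G).subtype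
        have hres : (fun y : (P : Subgroup G) => (χ : G → ℂ) y) = (linIrr φP : _ → ℂ) := by
          funext y; rw [hφ]; rfl
        have h2 := hm χ
        rw [hres, irr_orthonormal] at h2
        have heq : linIrr φP = linIrr μ := by
          by_contra hne'
          rw [if_neg hne'] at h2
          exact hne (by exact_mod_cast h2.symm)
        have heq' : φP = μ := linIrr_injective heq
        apply hμ
        rw [← heq']
        show φ (x : G) = 1
        exact MonoidHom.mem_ker.mp (Abelianization.commutator_subset_ker φ hx)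
      rw [hm0, mul_zero]; exact dvd_zero p
    · exact Dvd.dvd.mul_right (hdeg χ h1) _
  have hdvd : p ∣ ∑ χ : IrrCharacter G, charDegree (χ : G → ℂ) * m χ :=
    Finset.dvd_sum (fun χ _ => hterm χ)
  have hidx : (P : Subgroup G).index = ∑ χ : IrrCharacter G, charDegree (χ : G → ℂ) * m χ := by
    have h1 := Subgroup.index_mul_card (P : Subgroup G)
    rw [hkeyN, mul_comm] at h1
    exact Nat.eq_of_mul_eq_mul_left Nat.card_pos h1
  exact P.not_dvd_index (hidx ▸ hdvd)

/-- A `p`-element of `O^p(G)` lies in the derived subgroup. -/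
theorem mem_commutator_of_mem_pResidual {G : Type u} [Group G] [Finite G] (p : ℕ)
    [hp : Fact p.Prime] (x : G) (k : ℕ) (hxp : x ^ (p ^ k) = 1) (hx : x ∈ Cfsg.pResidual p G) :
    x ∈ commutator G := by
  classical
  set A := Abelianization G
  set m := ordCompl[p] (Nat.card A) with hm
  have hcard : Nat.card A = p ^ (Nat.card A).factorization p * m := (Nat.ordProj_mul_ordCompl_eq_self _ _).symm
  have hle : Cfsg.pResidual p G ≤ ((powMonoidHom m : A →* A).ker).comap Abelianization.of := by
    unfold Cfsg.pResidual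
    rw [Subgroup.closure_le]
    intro g hg
    have hg' : (orderOf g).Coprime p := hg
    show (Abelianization.of g) ^ m = 1
    have h1 : orderOf (Abelianization.of g) ∣ orderOf g := orderOf_map_dvd _ g
    have h2 : orderOf (Abelianization.of g) ∣ Nat.card A := orderOf_dvd_natCard _
    have h3 : (orderOf (Abelianization.of g)).Coprime (p ^ (Nat.card A).factorization p) :=
      Nat.Coprime.pow_right _ (Nat.Coprime.coprime_dvd_left h1 hg')
    rw [hcard] at h2
    exact orderOf_dvd_iff_pow_eq_one.mp (h3.dvd_of_dvd_mul_left h2)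
  have h1 : (Abelianization.of x) ^ m = 1 := hle hx
  have h2 : (Abelianization.of x) ^ (p ^ k) = 1 := by rw [← map_pow, hxp, map_one]
  have hcop : (p ^ k).Coprime m := Nat.Coprime.pow_left _ (Nat.coprime_ordCompl hp.out Nat.card_pos.ne')
  have h3 : orderOf (Abelianization.of x) = 1 :=
    Nat.eq_one_of_dvd_coprimes hcop (orderOf_dvd_of_pow_eq_one h2) (orderOf_dvd_of_pow_eq_one h1)
  have h4 : Abelianization.of x = 1 := orderOf_eq_one_iff.mp h3
  rw [← Abelianization.ker_of (G := G)]
  exact h4

/-- **Thompson's theorem** on character degrees: if `p` divides the degree of every nonlinear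
irreducible character, then `O^p(G)` is a normal `p`-complement. -/
theorem coprime_card_pResidual_of_degrees {G : Type u} [Group G] [Finite G] (p : ℕ)
    [hp : Fact p.Prime]
    (hdeg : ∀ χ : IrrCharacter G, charDegree (χ : G → ℂ) ≠ 1 → p ∣ charDegree (χ : G → ℂ)) :
    (Nat.card (Cfsg.pResidual p G)).Coprime p := by
  classical
  let _ : Fintype G := Fintype.ofFinite G
  obtain ⟨P⟩ : Nonempty (Sylow p G) := inferInstance
  have hfr : ∀ x : ↥(P : Subgroup G), x ∈ Helper34.tateD P → x ∈ frattini ↥(P : Subgroup G) := by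
    intro x hx
    rw [Helper34.mem_tateD] at hx
    obtain ⟨k, hk⟩ := P.2 x
    have hk' : (x : G) ^ (p ^ k) = 1 := by
      have := congrArg Subtype.val hk
      simpa using this
    have h1 := mem_commutator_of_mem_pResidual p (x : G) k hk' hx
    have h2 := mem_commutator_sylow_of_degrees p hdeg P x h1
    unfold frattini Order.radical
    rw [Subgroup.mem_iInf]
    intro M
    rw [Subgroup.mem_iInf]
    intro hM
    exact Helper1.commutator_le_coatom P.2 M hM h2
  have hcore := Helper34.tate_core P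
    (fun E _ _ K U _ _ h1 h2 A h3 h4 h5 => Helper34.gaschutz_exists K U h1 h2 A h3 h4 h5) hfr
  rw [Nat.coprime_comm, Nat.Prime.coprime_iff_not_dvd hp.out]
  intro hdvd
  obtain ⟨z, hz⟩ := exists_prime_orderOf_dvd_card' p hdvd
  -- `z` has order `p` in `O^p(G)`; conjugate it into `P`
  have hzo : orderOf (z : G) = p := by rw [Subgroup.orderOf_coe]; exact hz
  have hzp : IsPGroup p (Subgroup.zpowers (z : G)) := by
    apply IsPGroup.of_card (n := 1)
    rw [Nat.card_zpowers, hzo, pow_one]
  obtain ⟨Q, hQ⟩ := hzp.exists_le_sylow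
  obtain ⟨g, hg⟩ := MulAction.exists_smul_eq G Q P
  have hzQ : (z : G) ∈ (Q : Subgroup G) := hQ (Subgroup.mem_zpowers _)
  have hgz : g * (z : G) * g⁻¹ ∈ (P : Subgroup G) := by
    rw [← hg, Sylow.coe_subgroup_smul, Subgroup.mem_pointwise_smul_iff_inv_smul_mem]
    simpa [MulAut.smul_def, mul_assoc] using hzQ
  have hgzR : g * (z : G) * g⁻¹ ∈ Cfsg.pResidual p G :=
    (Helper34.pResidual_normal p G).conj_mem _ z.2 g
  have hmem : (⟨g * (z : G) * g⁻¹, hgz⟩ : ↥(P : Subgroup G)) ∈ Helper34.tateD P :=
    (Helper34.mem_tateD P _).mpr hgzR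
  rw [hcore, Subgroup.mem_bot] at hmem
  have h1 : g * (z : G) * g⁻¹ = 1 := congrArg Subtype.val hmem
  have h2 : (z : G) = 1 := by
    have := congrArg (fun t => g⁻¹ * t * g) h1
    simpa [mul_assoc] using this
  rw [h2, orderOf_one] at hzo
  exact hp.out.one_lt.ne hzo

/-- For `N ⊴ G` the degree of an irreducible constituent of `χ_N` divides `χ(1)`. -/
theorem charDegree_dvd_of_constituent {G : Type u} [Group G] [Fintype G] (N : Subgroup G)
    [hN : N.Normal] [Fintype N] {χ : G → ℂ} (hχ : IsIrrCharacter G χ) {θ : N → ℂ}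
    (hθ : IsIrrCharacter N θ) (hcon : classInner (fun n : N => χ n) θ ≠ 0) :
    charDegree θ ∣ charDegree χ := by
  classical
  have hχc : IsCharacter G χ := isCharacter_of_isIrr hχ
  have hθc : IsCharacter N θ := isCharacter_of_isIrr hθ
  obtain ⟨e, he⟩ := isCharacter_inner_irr_nat (isCharacter_restrict N hχc) ⟨θ, hθ⟩
  have h := congrFun (Helper15.clifford_restrict N hχ hθ hcon) 1
  simp only [Pi.smul_apply, Finset.sum_apply, smul_eq_mul] at h
  have hsum : ∑ φ ∈ Helper15.conjOrbit N θ, φ 1 =
      ((Helper15.conjOrbit N θ).card : ℂ) * θ 1 := by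
    rw [Finset.sum_congr rfl (fun φ hφ => ?_), Finset.sum_const, nsmul_eq_mul]
    obtain ⟨g, rfl⟩ := (Helper15.mem_conjOrbit N).mp hφ
    rw [Helper15.conjFun_apply_one]
  have he' : classInner (fun n : N => χ n) θ = (e : ℂ) := he
  rw [hsum, he', ← charDegree_cast hθc] at h
  have h1 : (charDegree χ : ℂ) = ((e * ((Helper15.conjOrbit N θ).card * charDegree θ) : ℕ) : ℂ) := by
    rw [charDegree_cast hχc]
    push_cast
    rw [← h]
    simp
  have h2 : charDegree χ = e * ((Helper15.conjOrbit N θ).card * charDegree θ) := by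
    exact_mod_cast h1
  rw [h2]
  exact ⟨e * (Helper15.conjOrbit N θ).card, by ring⟩

end Cfsg.Agent.Helper74
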