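import Cfsg.Agent.Helper81.Taketa
import Cfsg.Agent.Helper81.NilpotentMonomial
import Cfsg.Agent.Helper81.CliffordInd
import Cfsg.Agent.Helper80.TwoDeg
import Cfsg.Agent.Helper80.DegGraph2
import Cfsg.Agent.Helper74.ThompsonDeg
import Cfsg.Agent.Helper74.DegreeRatio
import Cfsg.Agent.Lib.Cores

/-!
# Three character degrees, the case of a common prime divisor

If a prime `p` divides both nonlinear degrees `m`, `n` of `G`, Thompson's theorem gives a normal
`p`-complement `N`; the degrees of `N` are the `p'`-parts of those of `G`, and the degrees of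
`G/N'` are powers of `p`.  According to how many of `m`, `n` are powers of `p` we get
`G' ≤ N'`, or `G'' ≤ N'` with `N'' = 1`, or `N` is abelian and `G` is an M-group (Taketa).
-/

set_option autoImplicit false
set_option linter.unusedSectionVars false

namespace Cfsg.Agent.Helper74.ThreeDeg

open Cfsg
open scoped ComplexConjugate commutatorElement

universe u

section taketa

variable {G : Type u} [Group G] [Fintype G]

/-- A subgroup lying in the kernel of every irreducible character is trivial. -/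
theorem eq_bot_of_forall_irr (S : Subgroup G)
    (h : ∀ χ : IrrCharacter G, ∀ g ∈ S, (χ : G → ℂ) g = (χ : G → ℂ) 1) : S = ⊥ := by
  classical
  let _ := Helper74.irrFintype G
  rw [eq_bot_iff]
  intro g hg
  rw [Subgroup.mem_bot]
  by_contra hg1
  have h1 := Helper81.sum_irr_one_mul (G := G) g
  rw [if_neg hg1] at h1
  have h2 := Helper81.sum_irr_one_mul (G := G) 1
  rw [if_pos rfl] at h2
  have h3 : ∑ χ : IrrCharacter G, (χ : G → ℂ) 1 * (χ : G → ℂ) g =
      ∑ χ : IrrCharacter G, (χ : G → ℂ) 1 * (χ : G → ℂ) 1 :=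
    Finset.sum_congr rfl fun χ _ => by rw [h χ g hg]
  rw [h1, h2] at h3
  have : (Nat.card G : ℂ) ≠ 0 := by
    have : 0 < Nat.card G := Nat.card_pos
    exact_mod_cast this.ne'
  exact this h3.symm

/-- **Taketa's step.**  In an M-group, if the `k`-th derived subgroup lies in the kernel of every
irreducible character of degree smaller than `χ(1)`, then the `(k+1)`-st derived subgroup lies in
the kernel of `χ`. -/
theorem taketa_step
    (hM : ∀ χ : G → ℂ, IsIrrCharacter G χ →
      ∃ (H : Subgroup G) (lam : H →* ℂˣ), χ = indFun H (fun h => ((lam h : ℂˣ) : ℂ)))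
    (k : ℕ) (χ : IrrCharacter G)
    (hlow : ∀ ψ : IrrCharacter G, charDegree (ψ : G → ℂ) < charDegree (χ : G → ℂ) →
      ∀ x ∈ derivedSeries G k, (ψ : G → ℂ) x = (ψ : G → ℂ) 1) :
    ∀ g ∈ derivedSeries G (k + 1), (χ : G → ℂ) g = (χ : G → ℂ) 1 := by
  classical
  intro g hg
  obtain ⟨H, lam, hχ⟩ := hM χ χ.2
  have : Fintype H := Fintype.ofFinite H
  have hidx : H.index = charDegree (χ : G → ℂ) := by
    have h1 := Helper74.charDegree_cast (Helper74.irr_isCharacter χ)
    have h2 : (χ : G → ℂ) 1 = (H.index : ℂ) := by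
      rw [hχ, Helper15.indFun_apply_one]
      simp
    rw [h2] at h1
    exact_mod_cast h1.symm
  obtain ⟨π, hπ⟩ : ∃ π : G → ℂ, π = indFun H (fun _ : H => (1 : ℂ)) := ⟨_, rfl⟩
  have hπc : IsCharacter G π := by
    rw [hπ]
    exact Helper15.isCharacter_indFun H
      (Helper74.isCharacter_of_isIrr (Helper81.isIrrCharacter_one (G := H)))
  have hπ1 : π 1 = (charDegree (χ : G → ℂ) : ℂ) := by
    rw [hπ, Helper15.indFun_apply_one, hidx]
    simp
  have hDH : derivedSeries G k ≤ H := by
    by_cases hd1 : charDegree (χ : G → ℂ) = 1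
    · have : H = ⊤ := by rw [← Subgroup.index_eq_one, hidx, hd1]
      rw [this]
      exact le_top
    · intro x hx
      apply Helper81.mem_of_indFun_one_eq H x
      rw [← hπ]
      apply Helper81.apply_eq_of_forall_constituent hπc x
      intro ψ hψcon
      apply hlow ψ ?_ x hx
      by_contra hnot
      have hle : charDegree (χ : G → ℂ) ≤ charDegree (ψ : G → ℂ) := by omega
      have hψ1 : (ψ : G → ℂ) 1 = (charDegree (ψ : G → ℂ) : ℂ) :=
        (Helper74.charDegree_cast (Helper74.irr_isCharacter ψ)).symm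
      have heq := Helper15.eq_of_constituent_of_degree_le hπc ψ.2 hψcon
        (charDegree (χ : G → ℂ)) (charDegree (ψ : G → ℂ)) hπ1 hψ1 hle
      have h11 : classInner π (fun _ : G => (1 : ℂ)) = 1 := by
        rw [hπ, Helper81.inner_indFun_one_one]
      have hψtriv : ψ = Helper81.trivialIrr G := by
        by_contra hne
        have h0 := Helper74.irr_orthonormal ψ (Helper81.trivialIrr G)
        rw [if_neg hne] at h0
        rw [heq] at h11
        rw [show ((Helper81.trivialIrr G : IrrCharacter G) : G → ℂ) = fun _ => (1 : ℂ)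
          from rfl] at h0
        rw [h0] at h11
        exact zero_ne_one h11
      have h1' : (ψ : G → ℂ) 1 = 1 := by rw [hψtriv]; rfl
      rw [h1'] at hψ1
      have h2' : charDegree (ψ : G → ℂ) = 1 := by exact_mod_cast hψ1.symm
      have hpos := Helper80.IsIrrCharacter.charDegree_pos χ.2
      omega
  obtain ⟨K, hK⟩ : ∃ K : Subgroup G, K = (MonoidHom.ker lam).map H.subtype := ⟨_, rfl⟩
  have hKH : K ≤ H := by
    rw [hK]
    rintro x ⟨h, -, rfl⟩
    exact h.2
  have hNK : derivedSeries G (k + 1) ≤ K := by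
    rw [derivedSeries_succ, Subgroup.commutator_le]
    intro a ha b hb
    rw [hK]
    refine ⟨⁅(⟨a, hDH ha⟩ : H), ⟨b, hDH hb⟩⁆, ?_, rfl⟩
    rw [SetLike.mem_coe, MonoidHom.mem_ker, map_commutatorElement]
    exact commutatorElement_eq_one_iff_commute.mpr (Commute.all _ _)
  have hnorm := derivedSeries_normal G (k + 1)
  rw [hχ]
  apply Helper81.indFun_apply_eq_of_normal H _ (derivedSeries G (k + 1)) (hNK.trans hKH) _ g hg
  intro n hn
  have hnK := hNK hn
  rw [hK] at hnK
  obtain ⟨h, hh, hhn⟩ := hnK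
  have h5 : (⟨n, (hNK.trans hKH) hn⟩ : H) = h := Subtype.ext hhn.symm
  rw [h5]
  rw [SetLike.mem_coe, MonoidHom.mem_ker] at hh
  rw [hh, map_one]

/-- Taketa for at most three character degrees `1 < m < n`. -/
theorem taketa_three_lt
    (hM : ∀ χ : G → ℂ, IsIrrCharacter G χ →
      ∃ (H : Subgroup G) (lam : H →* ℂˣ), χ = indFun H (fun h => ((lam h : ℂˣ) : ℂ)))
    {m n : ℕ} (h1m : 1 < m) (hmn : m < n)
    (hcd : ∀ χ : IrrCharacter G, charDegree (χ : G → ℂ) = 1 ∨ charDegree (χ : G → ℂ) = m ∨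
      charDegree (χ : G → ℂ) = n) :
    derivedSeries G 3 = ⊥ := by
  have h1 : ∀ χ : IrrCharacter G, charDegree (χ : G → ℂ) = 1 →
      ∀ g ∈ derivedSeries G 1, (χ : G → ℂ) g = (χ : G → ℂ) 1 := by
    intro χ hχ
    apply taketa_step hM 0 χ
    intro ψ hψ
    have := Helper80.IsIrrCharacter.charDegree_pos ψ.2
    omega
  have h2 : ∀ χ : IrrCharacter G, charDegree (χ : G → ℂ) = m →
      ∀ g ∈ derivedSeries G 2, (χ : G → ℂ) g = (χ : G → ℂ) 1 := by
    intro χ hχ
    apply taketa_step hM 1 χ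
    intro ψ hψ
    apply h1 ψ
    rcases hcd ψ with h | h | h <;> omega
  have h3 : ∀ χ : IrrCharacter G, charDegree (χ : G → ℂ) = n →
      ∀ g ∈ derivedSeries G 3, (χ : G → ℂ) g = (χ : G → ℂ) 1 := by
    intro χ hχ
    apply taketa_step hM 2 χ
    intro ψ hψ x hx
    rcases hcd ψ with h | h | h
    · exact h1 ψ h x (derivedSeries_antitone G (by norm_num : 1 ≤ 2) hx)
    · exact h2 ψ h x hx
    · omega
  apply eq_bot_of_forall_irr
  intro χ g hg
  rcases hcd χ with h | h | h
  · exact h1 χ h g (derivedSeries_antitone G (by norm_num : 1 ≤ 3) hg)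
  · exact h2 χ h g (derivedSeries_antitone G (by norm_num : 2 ≤ 3) hg)
  · exact h3 χ h g hg

end taketa

section monomial

variable {G : Type u} [Group G] [Fintype G]

/-- Every irreducible character of a normal subgroup lies under an irreducible character. -/
theorem exists_irr_over' (N : Subgroup G) [Fintype N] (θ : IrrCharacter N) :
    ∃ χ : IrrCharacter G, classInner (fun n : N => (χ : G → ℂ) n) (θ : N → ℂ) ≠ 0 := by
  have hind : IsCharacter G (indFun N (θ : N → ℂ)) :=
    Helper15.isCharacter_indFun N (Helper74.irr_isCharacter θ)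
  have h1 : indFun N (θ : N → ℂ) 1 ≠ 0 := by
    rw [Helper15.indFun_apply_one]
    refine mul_ne_zero ?_ (Helper80.IsIrrCharacter.map_one_ne_zero θ.2)
    exact_mod_cast N.index_ne_zero_of_finite
  obtain ⟨χ, hχ⟩ := Helper81.exists_irr_constituent hind h1
  refine ⟨χ, ?_⟩
  rw [Helper15.frobenius_reciprocity N (θ : N → ℂ) (χ : G → ℂ)
    (Helper74.isClassFunction_of_isCharacter (Helper74.irr_isCharacter χ))] at hχ
  intro h0
  apply hχ
  rw [← Helper74.classInner_conj_symm, h0, map_zero]

/-- A group with an abelian normal subgroup of prime power index is an M-group. -/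
theorem isMonomial_of_abelian_normal (N : Subgroup G) [hN : N.Normal]
    (hab : ∀ a ∈ N, ∀ b ∈ N, a * b = b * a) {p k : ℕ} [hp : Fact p.Prime]
    (hidx : N.index = p ^ k) (χ : G → ℂ) (hχ : IsIrrCharacter G χ) :
    Helper81.IsMonomial G χ := by
  classical
  have : Fintype N := Fintype.ofFinite N
  have hχc := Helper74.isCharacter_of_isIrr hχ
  obtain ⟨θ, hcon⟩ := Helper81.exists_irr_constituent (Helper74.isCharacter_restrict N hχc)
    (Helper80.IsIrrCharacter.map_one_ne_zero hχ)
  -- `θ` is linear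
  have hNcomm : IsMulCommutative N := by
    rw [isMulCommutative_iff]
    intro a b
    exact Subtype.ext (hab a a.2 b b.2)
  have hθ1 : (θ : N → ℂ) 1 = 1 := by
    have h1 := Helper80.IsIrrCharacter.charDegree_eq_one_of_comm θ.2
    have h2 := Helper80.IsCharacter.charDegree_cast (Helper74.irr_isCharacter θ)
    rw [h1, Nat.cast_one] at h2
    exact h2.symm
  obtain ⟨μ, hμ⟩ := Helper80.IsCharacter.exists_monoidHom (Helper74.irr_isCharacter θ) hθ1
  -- the inertia group
  obtain ⟨T, hT⟩ : ∃ T : Subgroup G, T = Helper15.inertia N (θ : N → ℂ) := ⟨_, rfl⟩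
  have hNT : N ≤ T := by
    rw [hT]
    exact Helper15.le_inertia N
      (Helper74.isClassFunction_of_isCharacter (Helper74.irr_isCharacter θ))
  have : Fintype T := Fintype.ofFinite T
  obtain ⟨ψ, hψ, hind, hmul⟩ := Helper15.clifford_correspondence_exists N θ.2 T hT hNT hχ hcon
  have hψc := Helper74.isCharacter_of_isIrr hψ
  -- inside `T`
  have : Fintype (N.subgroupOf T) := Fintype.ofFinite _
  have hθT : IsIrrCharacter (N.subgroupOf T) (Helper15.toSub N T hNT (θ : N → ℂ)) :=
    Helper15.isIrrCharacter_toSub N T hNT θ.2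
  have hconT : classInner (fun x : N.subgroupOf T => ψ x)
      (Helper15.toSub N T hNT (θ : N → ℂ)) ≠ 0 := by
    rw [Helper15.restrict_subgroupOf N T hNT ψ, Helper15.classInner_toSub, hmul]
    exact hcon
  have hinvT : ∀ t : T, Helper15.conjFun (N.subgroupOf T) t
      (Helper15.toSub N T hNT (θ : N → ℂ)) = Helper15.toSub N T hNT (θ : N → ℂ) := by
    intro t
    rw [Helper15.conjFun_toSub]
    have ht : (t : G) ∈ Helper15.inertia N (θ : N → ℂ) := by rw [← hT]; exact t.2
    rw [(Helper15.mem_inertia N (θ : N → ℂ) (t : G)).mp ht]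
  have hres := Helper15.restrict_eq_smul_of_invariant (N.subgroupOf T) hψ hθT hconT hinvT
  obtain ⟨c, hc⟩ : ∃ c : ℂ, c = classInner (fun x : N.subgroupOf T => ψ x)
      (Helper15.toSub N T hNT (θ : N → ℂ)) := ⟨_, rfl⟩
  rw [← hc] at hres
  have hval : ∀ (t : T) (ht : (t : G) ∈ N), ψ t = c * ((μ ⟨(t : G), ht⟩ : ℂˣ) : ℂ) := by
    intro t ht
    have h1 := congrFun hres ⟨t, Subgroup.mem_subgroupOf.mpr ht⟩
    simp only [Pi.smul_apply, smul_eq_mul, Helper15.toSub_apply] at h1
    rw [h1, hμ]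
  -- the normal subgroup `K = ker ψ ∩ N`
  obtain ⟨K, hK⟩ : ∃ K : Subgroup T, K = Helper80.kerChar ψ hψc ⊓ N.subgroupOf T := ⟨_, rfl⟩
  have hKn : K.Normal := by
    rw [hK]
    infer_instance
  have hKker : ∀ t : T, (QuotientGroup.mk' K) t = 1 → ψ t = ψ 1 := by
    intro t ht
    have h1 : t ∈ K := (QuotientGroup.eq_one_iff t).mp ht
    rw [hK] at h1
    exact (Helper80.mem_kerChar hψc t).mp h1.1
  obtain ⟨ψbar, hψbar, hψeq⟩ := Helper80.IsIrrCharacter.exists_descend hψ (QuotientGroup.mk' K)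
    (QuotientGroup.mk'_surjective K) hKker
  -- the quotient `T ⧸ K` is nilpotent
  have hKle : K ≤ N.subgroupOf T := by
    rw [hK]
    exact inf_le_right
  have hinv_μ : ∀ (t : T) (x : N), μ ⟨(t : G) * x * (t : G)⁻¹, hN.conj_mem x x.2 t⟩ = μ x := by
    intro t x
    have ht : (t : G) ∈ Helper15.inertia N (θ : N → ℂ) := by rw [← hT]; exact t.2
    have h1 := (Helper15.mem_inertia_iff N (θ : N → ℂ) (t : G)).mp ht x
    rw [hμ, hμ] at h1
    exact Units.ext h1
  have hpgrp : IsPGroup p (T ⧸ N.subgroupOf T) := by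
    have h1 : Nat.card (T ⧸ N.subgroupOf T) ∣ p ^ k := by
      rw [← hidx]
      have h2 : Nat.card (T ⧸ N.subgroupOf T) = N.relIndex T := rfl
      rw [h2]
      exact Subgroup.relIndex_dvd_index_of_normal N T
    obtain ⟨j, -, hj⟩ := (Nat.dvd_prime_pow hp.out).mp h1
    exact IsPGroup.of_card hj
  have hnilq : Group.IsNilpotent (T ⧸ N.subgroupOf T) := hpgrp.isNilpotent
  have hnil : Group.IsNilpotent (T ⧸ K) := by
    haveI := hnilq
    apply Subgroup.isNilpotent_of_ker_le_center
      (QuotientGroup.map K (N.subgroupOf T) (MonoidHom.id T) hKle)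
    intro q hq
    induction q using QuotientGroup.induction_on with
    | H x =>
      rw [MonoidHom.mem_ker] at hq
      have hq' : ((x : T) : T ⧸ N.subgroupOf T) = 1 := hq
      rw [QuotientGroup.eq_one_iff] at hq'
      have hxN : (x : G) ∈ N := Subgroup.mem_subgroupOf.mp hq'
      rw [Subgroup.mem_center_iff]
      intro q'
      induction q' using QuotientGroup.induction_on with
      | H t =>
        rw [← QuotientGroup.mk_mul, ← QuotientGroup.mk_mul, QuotientGroup.eq]
        -- `(t * x)⁻¹ * (x * t) ∈ K`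
        have hmemN : ((t * x)⁻¹ * (x * t) : T) ∈ N.subgroupOf T := by
          rw [Subgroup.mem_subgroupOf]
          have h1 : (((t * x)⁻¹ * (x * t) : T) : G) =
              (x : G)⁻¹ * ((t : G)⁻¹ * (x : G) * ((t : G)⁻¹)⁻¹) := by
            push_cast
            group
          rw [h1]
          exact N.mul_mem (N.inv_mem hxN) (hN.conj_mem x hxN _)
        rw [hK, Subgroup.mem_inf]
        refine ⟨?_, hmemN⟩
        rw [Helper80.mem_kerChar hψc]
        have hmemN' : (((t * x)⁻¹ * (x * t) : T) : G) ∈ N := Subgroup.mem_subgroupOf.mp hmemN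
        rw [hval _ hmemN', hval 1 (by simpa using N.one_mem)]
        congr 1
        have h2 : (⟨(((t * x)⁻¹ * (x * t) : T) : G), hmemN'⟩ : N) =
            (⟨x, hxN⟩ : N)⁻¹ * ⟨(t⁻¹ : T) * (x : G) * ((t⁻¹ : T) : G)⁻¹,
              hN.conj_mem x hxN _⟩ := by
          apply Subtype.ext
          push_cast
          group
        rw [h2, map_mul, hinv_μ t⁻¹ ⟨x, hxN⟩, map_inv, inv_mul_cancel]
        have h3 : (⟨((1 : T) : G), by simpa using N.one_mem⟩ : N) = 1 := rfl
        rw [h3, map_one]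
  -- conclude
  have : Fintype (T ⧸ K) := Fintype.ofFinite _
  have hmono1 : Helper81.IsMonomial (T ⧸ K) ψbar :=
    Helper81.isMonomial_of_nilpotent (Nat.card (T ⧸ K)) (T ⧸ K) rfl ψbar hψbar
  have hmono2 : Helper81.IsMonomial T ψ := Helper81.isMonomial_of_quotient K hmono1 hψeq
  have hmono3 := Helper81.isMonomial_of_indFun T hmono2
  rw [hind] at hmono3
  exact hmono3

end monomial

section twodeg

variable {G : Type u} [Group G] [Finite G]

/-- A group all of whose irreducible characters are linear is commutative. -/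
theorem derivedSeries_one_eq_bot_of_linear
    (h : ∀ χ : IrrCharacter G, charDegree (χ : G → ℂ) = 1) : derivedSeries G 1 = ⊥ := by
  have hc : IsMulCommutative G := by
    by_contra hcon
    obtain ⟨χ, hχ⟩ := Helper80.exists_irr_charDegree_ne_one hcon
    exact hχ (h χ)
  rw [derivedSeries_one, commutator_def, eq_bot_iff, Subgroup.commutator_le]
  intro a _ b _
  rw [Subgroup.mem_bot, commutatorElement_eq_one_iff_commute]
  exact (isMulCommutative_iff.mp hc) a b

/-- Isaacs 12.6: at most two character degrees force `G'' = 1`. -/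
theorem derivedSeries_two_eq_bot_of_two_degrees (m : ℕ)
    (hcd : ∀ χ : IrrCharacter G, charDegree (χ : G → ℂ) = 1 ∨ charDegree (χ : G → ℂ) = m) :
    derivedSeries G 2 = ⊥ := by
  by_cases hex : ∃ χ : IrrCharacter G, charDegree (χ : G → ℂ) ≠ 1
  · obtain ⟨χ, hχ⟩ := hex
    have hχm : charDegree (χ : G → ℂ) = m := by
      rcases hcd χ with h | h
      · exact absurd h hχ
      · exact h
    have hcomm := Helper80.two_degrees_commutator_comm m hcd ⟨χ, hχm⟩ (by rw [← hχm]; exact hχ)
    rw [derivedSeries_succ, derivedSeries_one, eq_bot_iff, Subgroup.commutator_le]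
    intro a ha b hb
    rw [Subgroup.mem_bot, commutatorElement_eq_one_iff_commute]
    exact hcomm a ha b hb
  · push Not at hex
    have h1 := derivedSeries_one_eq_bot_of_linear hex
    exact le_bot_iff.mp (h1 ▸ derivedSeries_antitone G (by norm_num : 1 ≤ 2))

end twodeg

section pcomplement

variable {G : Type u} [Group G] [Fintype G]

/-- Degrees of a normal `p'`-subgroup of `p`-power index: the `p'`-parts of degrees of `G`. -/
theorem degree_normal_ordCompl (p : ℕ) [hp : Fact p.Prime] (N : Subgroup G) [hN : N.Normal]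
    {k : ℕ} (hidx : N.index = p ^ k) (hcop : (Nat.card N).Coprime p) (θ : IrrCharacter N) :
    ∃ χ : IrrCharacter G, charDegree (θ : N → ℂ) = ordCompl[p] (charDegree (χ : G → ℂ)) := by
  classical
  have : Fintype N := Fintype.ofFinite N
  obtain ⟨χ, hcon⟩ := exists_irr_over' N θ
  refine ⟨χ, ?_⟩
  obtain ⟨b, hb, hbd⟩ := Helper74.degree_ratio_dvd N χ.2 θ.2 hcon
  rw [hidx] at hbd
  obtain ⟨j, -, rfl⟩ := (Nat.dvd_prime_pow hp.out).mp hbd
  have hdeg : charDegree (χ : G → ℂ) = p ^ j * charDegree (θ : N → ℂ) := by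
    have h2 : (charDegree (χ : G → ℂ) : ℂ) = ((p ^ j * charDegree (θ : N → ℂ) : ℕ) : ℂ) := by
      rw [Helper80.IsCharacter.charDegree_cast (Helper74.irr_isCharacter χ), hb]
      push_cast
      rw [Helper80.IsCharacter.charDegree_cast (Helper74.irr_isCharacter θ)]
    exact_mod_cast h2
  have hndvd : ¬ p ∣ charDegree (θ : N → ℂ) := by
    intro hdvd
    have h1 := Helper80.IsIrrCharacter.charDegree_dvd_card θ.2
    have h2 : p ∣ Nat.card N := hdvd.trans h1
    have h3 := Nat.Coprime.eq_one_of_dvd hcop.symm h2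
    exact hp.out.one_lt.ne' h3
  rw [hdeg, Nat.ordCompl_pow_mul_of_not_dvd j hp.out hndvd]

/-- Degrees of `G ⧸ N'` are powers of `p` when `N` is normal of `p`-power index. -/
theorem degree_quotient_ppow (p : ℕ) [hp : Fact p.Prime] (N : Subgroup G) [hN : N.Normal]
    {k : ℕ} (hidx : N.index = p ^ k) (ψ : IrrCharacter (G ⧸ ⁅N, N⁆)) :
    ∃ j : ℕ, charDegree (ψ : G ⧸ ⁅N, N⁆ → ℂ) = p ^ j := by
  classical
  have : Fintype (G ⧸ ⁅N, N⁆) := Fintype.ofFinite _
  obtain ⟨Nb, hNb⟩ : ∃ Nb : Subgroup (G ⧸ ⁅N, N⁆), Nb = N.map (QuotientGroup.mk' ⁅N, N⁆) :=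
    ⟨_, rfl⟩
  have hNbn : Nb.Normal := by
    rw [hNb]
    exact hN.map _ (QuotientGroup.mk'_surjective _)
  have : Fintype Nb := Fintype.ofFinite _
  have hcomm : IsMulCommutative Nb := by
    rw [isMulCommutative_iff]
    rintro ⟨a, ha⟩ ⟨b, hb⟩
    apply Subtype.ext
    rw [hNb] at ha hb
    obtain ⟨x, hx, rfl⟩ := ha
    obtain ⟨y, hy, rfl⟩ := hb
    show (QuotientGroup.mk' ⁅N, N⁆) x * (QuotientGroup.mk' ⁅N, N⁆) y =
      (QuotientGroup.mk' ⁅N, N⁆) y * (QuotientGroup.mk' ⁅N, N⁆) x
    rw [← map_mul, ← map_mul, QuotientGroup.mk'_apply, QuotientGroup.mk'_apply, QuotientGroup.eq]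
    have h1 : (x * y)⁻¹ * (y * x) = ⁅y⁻¹, x⁻¹⁆ := by
      rw [commutatorElement_def]; group
    rw [h1]
    exact Subgroup.commutator_mem_commutator (N.inv_mem hy) (N.inv_mem hx)
  obtain ⟨θ, b, -, hdeg, hbd⟩ := Helper80.DegGraph.exists_constituent_ratio Nb ψ
  have hθ1 : charDegree (θ : Nb → ℂ) = 1 := Helper80.IsIrrCharacter.charDegree_eq_one_of_comm θ.2
  rw [hθ1, mul_one] at hdeg
  have hidx' : Nb.index = p ^ k := by
    rw [hNb, Subgroup.index_map_eq N (QuotientGroup.mk'_surjective _), hidx]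
    rw [QuotientGroup.ker_mk']
    exact Subgroup.commutator_le_right N N
  rw [hidx'] at hbd
  obtain ⟨j, -, hj⟩ := (Nat.dvd_prime_pow hp.out).mp hbd
  exact ⟨j, by rw [hdeg, hj]⟩

/-- Pushing the derived series of `G` into that of `N` through the quotient `G ⧸ N'`. -/
theorem derivedSeries_le_map_of_quotient (N : Subgroup G) [hN : N.Normal] (a : ℕ)
    (ha : derivedSeries (G ⧸ ⁅N, N⁆) a = ⊥) (i : ℕ) :
    derivedSeries G (a + i) ≤ (derivedSeries N (1 + i)).map N.subtype := by
  induction i with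
  | zero =>
    have h1 : (derivedSeries G a).map (QuotientGroup.mk' ⁅N, N⁆) = ⊥ := by
      rw [map_derivedSeries_eq (QuotientGroup.mk'_surjective _), ha]
    have h2 : derivedSeries G a ≤ ⁅N, N⁆ := by
      have := (Subgroup.map_eq_bot_iff _).mp h1
      rwa [QuotientGroup.ker_mk'] at this
    have h3 : (derivedSeries N 1).map N.subtype = ⁅N, N⁆ := by
      rw [derivedSeries_one, commutator_def, Subgroup.map_commutator, ← MonoidHom.range_eq_map,
        Subgroup.range_subtype]
    rw [add_zero, add_zero, h3]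
    exact h2
  | succ i ih =>
    rw [← add_assoc, ← add_assoc, derivedSeries_succ, derivedSeries_succ, Subgroup.map_commutator]
    exact Subgroup.commutator_mono ih ih

end pcomplement

section noncoprime

variable {G : Type u} [Group G] [Finite G]

theorem charDegree_irrQuotientEquiv (K : Subgroup G) [K.Normal] (ψ : IrrCharacter (G ⧸ K)) :
    charDegree ((Helper80.irrQuotientEquiv K ψ).1 : G → ℂ) =
      charDegree (ψ : G ⧸ K → ℂ) := by
  unfold charDegree
  rw [Helper80.irrQuotientEquiv_apply]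
  rfl

/-- **The case of a common prime divisor.**  If `p` divides both nonlinear degrees `m ≠ n` of `G`
and the theorem is known for proper subgroups, then the third derived subgroup is trivial. -/
theorem noncoprime_case (p : ℕ) [hp : Fact p.Prime] {m n : ℕ}
    (hcd : ∀ χ : IrrCharacter G, charDegree (χ : G → ℂ) = 1 ∨ charDegree (χ : G → ℂ) = m ∨
      charDegree (χ : G → ℂ) = n)
    (hm : ∃ χ : IrrCharacter G, charDegree (χ : G → ℂ) = m)
    (hn : ∃ χ : IrrCharacter G, charDegree (χ : G → ℂ) = n) (hmn : m ≠ n)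
    (hpm : p ∣ m) (hpn : p ∣ n)
    (IH : ∀ N : Subgroup G, Nat.card N < Nat.card G → ∀ m' n' : ℕ,
      (∀ θ : IrrCharacter N, charDegree (θ : N → ℂ) = 1 ∨ charDegree (θ : N → ℂ) = m' ∨
        charDegree (θ : N → ℂ) = n') → derivedSeries N 3 = ⊥) :
    derivedSeries G 3 = ⊥ := by
  classical
  have := Fintype.ofFinite G
  have hm0 : 0 < m := by
    obtain ⟨χ, hχ⟩ := hm
    rw [← hχ]
    exact Helper80.IsIrrCharacter.charDegree_pos χ.2
  have hn0 : 0 < n := by
    obtain ⟨χ, hχ⟩ := hn
    rw [← hχ]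
    exact Helper80.IsIrrCharacter.charDegree_pos χ.2
  have h1m : 1 < m := lt_of_lt_of_le hp.out.one_lt (Nat.le_of_dvd hm0 hpm)
  have h1n : 1 < n := lt_of_lt_of_le hp.out.one_lt (Nat.le_of_dvd hn0 hpn)
  have hdeg : ∀ χ : IrrCharacter G, charDegree (χ : G → ℂ) ≠ 1 →
      p ∣ charDegree (χ : G → ℂ) := by
    intro χ hχ
    rcases hcd χ with h | h | h
    · exact absurd h hχ
    · rw [h]; exact hpm
    · rw [h]; exact hpn
  obtain ⟨N, hNdef⟩ : ∃ N : Subgroup G, N = Cfsg.pResidual p G := ⟨_, rfl⟩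
  have hN : N.Normal := by
    rw [hNdef]
    exact Cfsg.Agent.Lib.pResidual_normal p
  have hcopN : (Nat.card N).Coprime p := by
    rw [hNdef]
    exact Helper74.coprime_card_pResidual_of_degrees p hdeg
  obtain ⟨k, hidx⟩ : ∃ k : ℕ, N.index = p ^ k := by
    rw [hNdef]
    exact Cfsg.Agent.Lib.index_pResidual p
  -- degrees of `N`
  have hNdeg : ∀ θ : IrrCharacter N, charDegree (θ : N → ℂ) = 1 ∨
      charDegree (θ : N → ℂ) = ordCompl[p] m ∨ charDegree (θ : N → ℂ) = ordCompl[p] n := by
    intro θ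
    obtain ⟨χ, hχ⟩ := degree_normal_ordCompl p N hidx hcopN θ
    rcases hcd χ with h | h | h
    · left
      rw [hχ, h]
      simp
    · right; left
      rw [hχ, h]
    · right; right
      rw [hχ, h]
  -- degrees of `G ⧸ N'`
  have hQdeg : ∀ ψ : IrrCharacter (G ⧸ ⁅N, N⁆),
      (∃ j : ℕ, charDegree (ψ : G ⧸ ⁅N, N⁆ → ℂ) = p ^ j) ∧
      (charDegree (ψ : G ⧸ ⁅N, N⁆ → ℂ) = 1 ∨ charDegree (ψ : G ⧸ ⁅N, N⁆ → ℂ) = m ∨
        charDegree (ψ : G ⧸ ⁅N, N⁆ → ℂ) = n) := by
    intro ψ
    refine ⟨degree_quotient_ppow p N hidx ψ, ?_⟩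
    rw [← charDegree_irrQuotientEquiv]
    exact hcd _
  -- `N` is a proper subgroup
  have hNlt : Nat.card N < Nat.card G := by
    have hpG : p ∣ Nat.card G := by
      obtain ⟨χ, hχ⟩ := hm
      exact hpm.trans (hχ ▸ Helper80.IsIrrCharacter.charDegree_dvd_card χ.2)
    refine lt_of_le_of_ne (Subgroup.card_le_card_group N) ?_
    intro heq
    rw [← heq] at hpG
    have h3 := Nat.Coprime.eq_one_of_dvd hcopN.symm hpG
    exact hp.out.one_lt.ne' h3
  have hbot : ∀ j : ℕ, derivedSeries N j = ⊥ → (derivedSeries N j).map N.subtype = ⊥ := by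
    intro j hj
    rw [hj, Subgroup.map_bot]
  by_cases hmP : ∃ j : ℕ, m = p ^ j
  · by_cases hnP : ∃ j : ℕ, n = p ^ j
    · -- both are powers of `p`: `N` is abelian and `G` is an M-group
      obtain ⟨jm, hjm⟩ := hmP
      obtain ⟨jn, hjn⟩ := hnP
      have hlin : ∀ θ : IrrCharacter N, charDegree (θ : N → ℂ) = 1 := by
        intro θ
        rcases hNdeg θ with h | h | h
        · exact h
        · rw [h, hjm, Nat.ordCompl_self_pow hp.out]
        · rw [h, hjn, Nat.ordCompl_self_pow hp.out]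
      have hab : ∀ a ∈ N, ∀ b ∈ N, a * b = b * a := by
        intro a ha b hb
        have h1 := derivedSeries_one_eq_bot_of_linear hlin
        have h2 : ⁅(⟨a, ha⟩ : N), ⟨b, hb⟩⁆ ∈ derivedSeries N 1 := by
          rw [derivedSeries_one]
          exact Subgroup.commutator_mem_commutator (Subgroup.mem_top _) (Subgroup.mem_top _)
        rw [h1, Subgroup.mem_bot, commutatorElement_eq_one_iff_commute] at h2
        exact congrArg Subtype.val h2
      have hM : ∀ χ : G → ℂ, IsIrrCharacter G χ →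
          ∃ (H : Subgroup G) (lam : H →* ℂˣ), χ = indFun H (fun h => ((lam h : ℂˣ) : ℂ)) :=
        fun χ hχ => isMonomial_of_abelian_normal N hab hidx χ hχ
      rcases lt_or_gt_of_ne hmn with h | h
      · exact taketa_three_lt hM h1m h hcd
      · exact taketa_three_lt hM h1n h (fun χ => by
          rcases hcd χ with h' | h' | h'
          · exact Or.inl h'
          · exact Or.inr (Or.inr h')
          · exact Or.inr (Or.inl h'))
    · -- only `m` is a power of `p`
      obtain ⟨jm, hjm⟩ := hmP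
      have hQ2 : ∀ ψ : IrrCharacter (G ⧸ ⁅N, N⁆), charDegree (ψ : G ⧸ ⁅N, N⁆ → ℂ) = 1 ∨
          charDegree (ψ : G ⧸ ⁅N, N⁆ → ℂ) = m := by
        intro ψ
        obtain ⟨⟨j, hj⟩, h | h | h⟩ := hQdeg ψ
        · exact Or.inl h
        · exact Or.inr h
        · exact absurd ⟨j, h ▸ hj⟩ hnP
      have ha := derivedSeries_two_eq_bot_of_two_degrees m hQ2
      have hN2 : ∀ θ : IrrCharacter N, charDegree (θ : N → ℂ) = 1 ∨
          charDegree (θ : N → ℂ) = ordCompl[p] n := by
        intro θ
        rcases hNdeg θ with h | h | h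
        · exact Or.inl h
        · left
          rw [h, hjm, Nat.ordCompl_self_pow hp.out]
        · exact Or.inr h
      have hb := derivedSeries_two_eq_bot_of_two_degrees _ hN2
      have h3 := derivedSeries_le_map_of_quotient N 2 ha 1
      rw [hbot 2 hb] at h3
      exact le_bot_iff.mp h3
  · by_cases hnP : ∃ j : ℕ, n = p ^ j
    · -- only `n` is a power of `p`
      obtain ⟨jn, hjn⟩ := hnP
      have hQ2 : ∀ ψ : IrrCharacter (G ⧸ ⁅N, N⁆), charDegree (ψ : G ⧸ ⁅N, N⁆ → ℂ) = 1 ∨
          charDegree (ψ : G ⧸ ⁅N, N⁆ → ℂ) = n := by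
        intro ψ
        obtain ⟨⟨j, hj⟩, h | h | h⟩ := hQdeg ψ
        · exact Or.inl h
        · exact absurd ⟨j, h ▸ hj⟩ hmP
        · exact Or.inr h
      have ha := derivedSeries_two_eq_bot_of_two_degrees n hQ2
      have hN2 : ∀ θ : IrrCharacter N, charDegree (θ : N → ℂ) = 1 ∨
          charDegree (θ : N → ℂ) = ordCompl[p] m := by
        intro θ
        rcases hNdeg θ with h | h | h
        · exact Or.inl h
        · exact Or.inr h
        · left
          rw [h, hjn, Nat.ordCompl_self_pow hp.out]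
      have hb := derivedSeries_two_eq_bot_of_two_degrees _ hN2
      have h3 := derivedSeries_le_map_of_quotient N 2 ha 1
      rw [hbot 2 hb] at h3
      exact le_bot_iff.mp h3
    · -- neither is a power of `p`
      have hQ1 : ∀ ψ : IrrCharacter (G ⧸ ⁅N, N⁆), charDegree (ψ : G ⧸ ⁅N, N⁆ → ℂ) = 1 := by
        intro ψ
        obtain ⟨⟨j, hj⟩, h | h | h⟩ := hQdeg ψ
        · exact h
        · exact absurd ⟨j, h ▸ hj⟩ hmP
        · exact absurd ⟨j, h ▸ hj⟩ hnP
      have ha := derivedSeries_one_eq_bot_of_linear hQ1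
      have hb := IH N hNlt _ _ hNdeg
      have h3 := derivedSeries_le_map_of_quotient N 1 ha 2
      rw [hbot 3 hb] at h3
      exact le_bot_iff.mp h3

end noncoprime

end Cfsg.Agent.Helper74.ThreeDeg
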