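import Cfsg.Agent.Helper57.BP.PartI

/-!
# S4705 (helper16's farm): (P14) moving the third argument of `tsum` to the first place
-/

set_option autoImplicit false

namespace Cfsg.Agent.Helper74.B66

open Cfsg Cfsg.Agent.Helper16 Cfsg.Agent.Helper16.DefOne Cfsg.Agent.Helper82.DefOne
  Cfsg.Agent.Helper77.DefOne Cfsg.Agent.Helper57.BH Cfsg.Agent.Helper57.BP
open scoped ComplexConjugate

universe u

variable {G : Type u} [Group G] [Fintype G] {p : ℕ} [Fact p.Prime] (P : Sylow p G)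

/-- (P14) moving the third argument of `tsum` to the first place -/
theorem tsum_eq_conj (S : Set (IrrCharacter G)) (u v w : G) :
    tsum S u v w = conj (tsum S w u⁻¹ v) := by
  haveI : Finite (IrrCharacter G) := Helper79.irr_finite'
  unfold Cfsg.Agent.Helper57.BP.tsum
  have hfin : S.Finite := Set.toFinite S
  rw [show conj (∑ᶠ χ ∈ S, (χ : G → ℂ) w * (χ : G → ℂ) u⁻¹ * conj ((χ : G → ℂ) v) /
      (χ : G → ℂ) 1) = (starRingEnd ℂ).toAddMonoidHom (∑ᶠ χ ∈ S, (χ : G → ℂ) w *
      (χ : G → ℂ) u⁻¹ * conj ((χ : G → ℂ) v) / (χ : G → ℂ) 1) from rfl,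
    AddMonoidHom.map_finsum_mem _ _ hfin]
  refine finsum_mem_congr rfl (fun χ _ => ?_)
  show _ = conj _
  have hc : IsCharacter G (χ : G → ℂ) := Helper74.isCharacter_of_isIrr χ.2
  have h1 : conj ((χ : G → ℂ) 1) = (χ : G → ℂ) 1 := by
    rw [Helper79.irr_one, Complex.conj_natCast]
  have h2 : conj ((χ : G → ℂ) u⁻¹) = (χ : G → ℂ) u := by
    rw [Helper74.char_inv hc u, Complex.conj_conj]
  rw [map_div₀, map_mul, map_mul, Complex.conj_conj, h1, h2]
  ring

end Cfsg.Agent.Helper74.B66
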