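import Cfsg.Agent.Helper57.BP.PartI
import Cfsg.Agent.S4701
import Cfsg.Agent.Helper5.PSL2

/-!
# S4705 (helper16's farm): (P29) the quotient by the centre is `SL(2, 2^a)`
-/

set_option autoImplicit false

namespace Cfsg.Agent.Helper74.B66

open Cfsg Cfsg.Agent.Helper16 Cfsg.Agent.Helper16.DefOne Cfsg.Agent.Helper82.DefOne
  Cfsg.Agent.Helper77.DefOne Cfsg.Agent.Helper57.BH Cfsg.Agent.Helper57.BP
open scoped ComplexConjugate

universe u

variable {G : Type u} [Group G] [Fintype G] {p : ℕ} [Fact p.Prime] (P : Sylow p G)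

/-- a central element whose `p`-th power is `1` is trivial -/
theorem P29_eq_one_of_pow (hZreg : ∀ z : G, z ∈ Subgroup.center G → ¬ p ∣ orderOf z) (z : G)
    (hz : z ∈ Subgroup.center G) (hzp : z ^ p = 1) : z = 1 := by
  have hp : p.Prime := Fact.out
  have hdvd : orderOf z ∣ p := orderOf_dvd_of_pow_eq_one hzp
  rcases (Nat.dvd_prime hp).mp hdvd with h | h
  · exact orderOf_eq_one_iff.mp h
  · exact absurd (h ▸ dvd_refl _) (hZreg z hz)

/-- elements of `P` have `p`-th power `1` -/
theorem P29_pow_eq_one (hP : Nat.card P = p) (x : G) (hx : x ∈ (P : Subgroup G)) : x ^ p = 1 := by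
  have h := pow_card_eq_one' (G := (P : Subgroup G)) (x := ⟨x, hx⟩)
  have h2 : Nat.card (P : Subgroup G) = p := hP
  rw [h2] at h
  exact congrArg Subtype.val h

/-- the image of `P` in `G / Z(G)` is not normal -/
theorem P29_not_normal (hP : Nat.card P = p) (hnn : ¬ (P : Subgroup G).Normal)
    (hZreg : ∀ z : G, z ∈ Subgroup.center G → ¬ p ∣ orderOf z) :
    ¬ ((P : Subgroup G).map (QuotientGroup.mk' (Subgroup.center G))).Normal := by
  intro hN
  apply hnn
  refine ⟨fun x hx g => ?_⟩
  have h1 : QuotientGroup.mk' (Subgroup.center G) (g * x * g⁻¹) ∈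
      (P : Subgroup G).map (QuotientGroup.mk' (Subgroup.center G)) := by
    rw [map_mul, map_mul, map_inv]
    exact hN.conj_mem _ (Subgroup.mem_map_of_mem _ hx) _
  obtain ⟨y, hy, hyx⟩ := Subgroup.mem_map.mp h1
  have hz : y⁻¹ * (g * x * g⁻¹) ∈ Subgroup.center G := by
    rw [← QuotientGroup.ker_mk' (Subgroup.center G), MonoidHom.mem_ker, map_mul, map_inv, hyx,
      inv_mul_cancel]
  set z := y⁻¹ * (g * x * g⁻¹) with hzdef
  have hgx : g * x * g⁻¹ = y * z := by rw [hzdef]; group
  have hpow : (g * x * g⁻¹) ^ p = 1 := by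
    rw [conj_pow, P29_pow_eq_one P hP x hx]; group
  have hcomm : Commute y z := Subgroup.mem_center_iff.mp hz y
  have hzp : z ^ p = 1 := by
    rw [hgx, hcomm.mul_pow, P29_pow_eq_one P hP y hy, one_mul] at hpow
    exact hpow
  have hz1 : z = 1 := P29_eq_one_of_pow hZreg z hz hzp
  rw [hgx, hz1, mul_one]
  exact hy

/-- `G / Z(G)` has no normal subgroup of order `2` -/
theorem P29_no_normal_two (hP : Nat.card P = p) (hp2 : 2 < p)
    (hcent : ∀ c : cen P, ¬ p ∣ orderOf c → (c : G) ∈ Subgroup.center G)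
    (hZreg : ∀ z : G, z ∈ Subgroup.center G → ¬ p ∣ orderOf z)
    (N : Subgroup (G ⧸ Subgroup.center G)) (hN : N.Normal) : Nat.card N ≠ 2 := by
  have hp : p.Prime := Fact.out
  intro hcard
  -- the nontrivial element of `N`
  obtain ⟨⟨b, hbN⟩, hb, huniq⟩ := (Nat.card_eq_two_iff' (1 : N)).mp hcard
  have hb1 : b ≠ 1 := fun h => hb (Subtype.ext h)
  -- every element of `N` is `1` or `b`
  have hNb : ∀ c ∈ N, c = 1 ∨ c = b := by
    intro c hc
    by_cases h1 : c = 1
    · exact Or.inl h1
    · right
      have := huniq ⟨c, hc⟩ (fun h => h1 (congrArg Subtype.val h))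
      exact congrArg Subtype.val this
  -- `b` is central and `b * b = 1`
  have hbc : ∀ k : G ⧸ Subgroup.center G, k * b * k⁻¹ = b := by
    intro k
    rcases hNb _ (hN.conj_mem b hbN k) with h | h
    · exfalso
      apply hb1
      have : b = k⁻¹ * (k * b * k⁻¹) * k := by group
      rw [this, h]; group
    · exact h
  have hbb : b * b = 1 := by
    rcases hNb _ (N.mul_mem hbN hbN) with h | h
    · exact h
    · exfalso
      apply hb1
      have : b = b⁻¹ * (b * b) := by group
      rw [this, h]; group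
  obtain ⟨a, rfl⟩ := QuotientGroup.mk_surjective b
  -- `a * a` is central
  have haa : a * a ∈ Subgroup.center G := by
    rw [← QuotientGroup.eq_one_iff]
    exact hbb
  -- `a` centralizes `P`
  have haC : a ∈ cen P := by
    rw [Subgroup.mem_centralizer_iff]
    intro x hx
    have hz : a * x * a⁻¹ * x⁻¹ ∈ Subgroup.center G := by
      rw [← QuotientGroup.eq_one_iff]
      have := hbc (QuotientGroup.mk x)
      have h2 : ((a * x * a⁻¹ * x⁻¹ : G) : G ⧸ Subgroup.center G) =
          (QuotientGroup.mk a * QuotientGroup.mk x * (QuotientGroup.mk a)⁻¹) *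
            (QuotientGroup.mk x)⁻¹ := by
        simp [QuotientGroup.mk_mul, QuotientGroup.mk_inv]
      rw [h2]
      have h3 : (QuotientGroup.mk a : G ⧸ Subgroup.center G) * QuotientGroup.mk x *
          (QuotientGroup.mk a)⁻¹ = QuotientGroup.mk x := by
        have h4 : (QuotientGroup.mk x : G ⧸ Subgroup.center G) * QuotientGroup.mk a *
          (QuotientGroup.mk x)⁻¹ = QuotientGroup.mk a := this
        have h5 : (QuotientGroup.mk x : G ⧸ Subgroup.center G) * QuotientGroup.mk a =
            QuotientGroup.mk a * QuotientGroup.mk x := mul_inv_eq_iff_eq_mul.mp h4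
        rw [← h5, mul_inv_cancel_right]
      rw [h3, mul_inv_cancel]
    set z := a * x * a⁻¹ * x⁻¹ with hzdef
    have hax : a * x * a⁻¹ = z * x := by rw [hzdef]; group
    have hpow : (a * x * a⁻¹) ^ p = 1 := by
      rw [conj_pow, P29_pow_eq_one P hP x hx]; group
    have hcomm : Commute z x := (Subgroup.mem_center_iff.mp hz x).symm
    have hzp : z ^ p = 1 := by
      rw [hax, hcomm.mul_pow, P29_pow_eq_one P hP x hx, mul_one] at hpow
      exact hpow
    have hz1 : z = 1 := P29_eq_one_of_pow hZreg z hz hzp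
    rw [hz1, one_mul] at hax
    have : a * x = x * a := by
      have := congrArg (· * a) hax
      simpa using this
    exact this.symm
  -- `a` is `p`-regular
  have hreg : ¬ p ∣ orderOf a := by
    intro hdvd
    have h1 : orderOf a ∣ 2 * orderOf (a * a) := by
      apply orderOf_dvd_of_pow_eq_one
      rw [pow_mul, pow_two]
      exact pow_orderOf_eq_one _
    have h2 : p ∣ 2 * orderOf (a * a) := hdvd.trans h1
    rcases (Nat.Prime.dvd_mul hp).mp h2 with h | h
    · have := Nat.le_of_dvd (by norm_num) h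
      omega
    · exact hZreg _ haa h
  have hac : a ∈ Subgroup.center G := by
    have := hcent ⟨a, haC⟩ (by rwa [Subgroup.orderOf_mk])
    exact this
  exact hb1 ((QuotientGroup.eq_one_iff a).mpr hac)

/-- (P29) the quotient by the centre is `SL(2, 2^a)` -/
theorem exists_sl2 (hp5 : 5 < p) (hP : Nat.card P = p) (hnn : ¬ (P : Subgroup G).Normal)
    (hcent : ∀ c : cen P, ¬ p ∣ orderOf c → (c : G) ∈ Subgroup.center G)
    (hZreg : ∀ z : G, z ∈ Subgroup.center G → ¬ p ∣ orderOf z)
    (hsup : commutator G ⊔ Subgroup.center G = ⊤)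
    (hcard : Nat.card G = p * (p - 1) * (p - 2) * Nat.card (Subgroup.center G)) :
    ∃ (a : ℕ) (F : Type) (_ : Field F) (_ : Fintype F), p = 2 ^ a + 1 ∧
      Fintype.card F = 2 ^ a ∧
      Nonempty (G ⧸ Subgroup.center G ≃* Matrix.SpecialLinearGroup (Fin 2) F) := by
  have hp : p.Prime := Fact.out
  -- the order of the quotient
  have hK : Nat.card (G ⧸ Subgroup.center G) = p * (p - 1) * (p - 2) := by
    have h1 := Subgroup.card_eq_card_quotient_mul_card_subgroup (Subgroup.center G)
    rw [hcard] at h1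
    have hpos : 0 < Nat.card (Subgroup.center G) := Nat.card_pos
    exact (Nat.eq_of_mul_eq_mul_right hpos h1).symm
  -- the quotient is perfect
  have hperf : commutator (G ⧸ Subgroup.center G) = ⊤ := by
    have hsurj : Function.Surjective (QuotientGroup.mk' (Subgroup.center G)) :=
      QuotientGroup.mk'_surjective _
    have h1 : (commutator G).map (QuotientGroup.mk' (Subgroup.center G)) =
        commutator (G ⧸ Subgroup.center G) := by
      rw [commutator_def, commutator_def, Subgroup.map_commutator,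
        Subgroup.map_top_of_surjective _ hsurj]
    have h2 : (commutator G ⊔ Subgroup.center G).map (QuotientGroup.mk' (Subgroup.center G)) =
        ⊤ := by
      rw [hsup, Subgroup.map_top_of_surjective _ hsurj]
    rw [Subgroup.map_sup] at h2
    have h3 : (Subgroup.center G).map (QuotientGroup.mk' (Subgroup.center G)) = ⊥ := by
      rw [Subgroup.map_eq_bot_iff, QuotientGroup.ker_mk']
    rw [h3, sup_bot_eq, h1] at h2
    exact h2
  have hdvd : p ∣ Nat.card (G ⧸ Subgroup.center G) := by
    rw [hK, mul_assoc]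
    exact dvd_mul_right _ _
  have hbig : Nat.card (G ⧸ Subgroup.center G) < p ^ 3 := by
    rw [hK]
    have h1 : p - 1 < p := by omega
    have h2 : p - 2 < p := by omega
    calc p * (p - 1) * (p - 2) < p * p * p := by
          apply Nat.mul_lt_mul_of_lt_of_le' _ h2.le (by omega)
          exact Nat.mul_lt_mul_of_pos_left h1 (by omega)
      _ = p ^ 3 := by ring
  let Q : Sylow p (G ⧸ Subgroup.center G) :=
    P.mapSurjective (QuotientGroup.mk'_surjective (Subgroup.center G))
  have hQ : ¬ (Q : Subgroup (G ⧸ Subgroup.center G)).Normal := P29_not_normal P hP hnn hZreg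
  rcases Cfsg.Agent.S4701.result hperf p hdvd hbig Q hQ
      (fun N hN => P29_no_normal_two P hP (by omega) hcent hZreg N hN) with
    ⟨F, iF, iFt, hF, -, ⟨e⟩⟩ | ⟨m, F, iF, iFt, hF, hpm, -, hiso⟩
  · exfalso
    have hodd : Odd (Fintype.card F) := by
      rw [hF]
      exact hp.odd_of_ne_two (by omega)
    have h2 : (2 : F) ≠ 0 := Cfsg.Agent.Helper5.two_ne_zero_of_odd_card hodd
    have h3 := Cfsg.Agent.Helper5.card_PSL2_mul (F := F)
    rw [Cfsg.Agent.Helper5.card_center_SL2_of_two_ne_zero h2, hF, ← Nat.card_congr e.toEquiv,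
      hK] at h3
    -- `p (p-1)(p-2) * 2 = p (p^2 - 1)` forces `p = 5`
    obtain ⟨k, rfl⟩ : ∃ k, p = k + 6 := ⟨p - 6, by omega⟩
    have h4 : (k + 6) ^ 2 - 1 = (k + 5) * (k + 7) := by
      have : (k + 6) ^ 2 = (k + 5) * (k + 7) + 1 := by ring
      omega
    rw [h4] at h3
    have h5 : k + 6 - 1 = k + 5 := by omega
    have h6 : k + 6 - 2 = k + 4 := by omega
    rw [h5, h6] at h3
    nlinarith
  · exact ⟨m, F, iF, iFt, hpm, hF, hiso⟩

end Cfsg.Agent.Helper74.B66
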