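import Cfsg.Agent.Helper16.PC.Defs
import Cfsg.Agent.Helper74.CharCount
import Cfsg.Agent.Helper79.Linear
import Cfsg.Agent.S0961

/-!
# Piece (III) of helper16's S4427 farm: ranks of idempotents in a representation (helper74)
-/

set_option autoImplicit false
set_option linter.unusedSectionVars false
set_option linter.unusedVariables false

namespace Cfsg.Agent.Helper74.PC

open Cfsg Cfsg.Agent.Helper16 Cfsg.Agent.Helper16.PC Polynomial
open scoped ComplexConjugate

universe u v

section classOpMul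

variable {G : Type u} [Group G] [Fintype G]
variable {V : Type v} [AddCommGroup V] [Module ℂ V]

/-- `classOp` turns convolution into composition. -/
theorem classOp_conv (s t : G → ℂ) (ρ : Representation ℂ G V) :
    classOp (conv s t) ρ = classOp s ρ ∘ₗ classOp t ρ := by
  ext v
  rw [LinearMap.comp_apply, classOp_apply, classOp_apply]
  have h1 : ∀ g : G, conv s t g • ρ g v = ∑ x : G, (s x * t (x⁻¹ * g)) • ρ g v := by
    intro g
    rw [conv_apply, Finset.sum_smul]
  have h2 : ∀ x : G, s x • ρ x (classOp t ρ v) = ∑ g : G, (s x * t (x⁻¹ * g)) • ρ g v := by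
    intro x
    rw [classOp_apply, map_sum, Finset.smul_sum]
    refine Fintype.sum_equiv (Equiv.mulLeft x) _ _ (fun h => ?_)
    rw [Equiv.coe_mulLeft, map_smul, smul_smul, inv_mul_cancel_left, map_mul,
      Module.End.mul_apply]
  simp only [h1, h2]
  exact Finset.sum_comm

/-- `classOp` on a product in the convolution algebra. -/
theorem classOp_mul (a b : CAlg G) (ρ : Representation ℂ G V) :
    classOp (CAlg.fn (a * b)) ρ = classOp (CAlg.fn a) ρ ∘ₗ classOp (CAlg.fn b) ρ := by
  rw [CAlg.fn_mul]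
  exact classOp_conv _ _ ρ

end classOpMul

variable {G : Type u} [Group G] [Fintype G]

/-- the trace of an idempotent endomorphism of a finite dimensional space is its rank -/
theorem trace_eq_finrank_range_of_idem {V : Type v} [AddCommGroup V] [Module ℂ V]
    [FiniteDimensional ℂ V] (E : V →ₗ[ℂ] V) (hE : E ∘ₗ E = E) :
    LinearMap.trace ℂ V E = (Module.finrank ℂ (LinearMap.range E) : ℂ) := by
  have hidem : IsIdempotentElem E := hE
  exact (LinearMap.IsIdempotentElem.isProj_range E hidem).trace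

/-- (III) ranks of idempotents in a representation. -/
theorem PC_III {m : ℕ} (ρ : Representation ℂ G (Fin m → ℂ)) (f e₁ e₂ g₁ g₂ : CAlg G)
    (hf : f * f = f) (h₁ : e₁ * e₁ = e₁) (h₂ : e₂ * e₂ = e₂) (hf₁ : e₁ * f = f)
    (hf₂ : f = g₁ * e₂ * g₂) :
    ∃ mf m₁ m₂ : ℕ, pair f ρ.character = mf ∧ pair e₁ ρ.character = m₁ ∧
      pair e₂ ρ.character = m₂ ∧ mf ≤ m₁ ∧ mf ≤ m₂ := by
  classical
  have hpair : ∀ a : CAlg G, pair a ρ.character =
      LinearMap.trace ℂ (Fin m → ℂ) (classOp (CAlg.fn a) ρ) := by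
    intro a
    rw [trace_classOp]
    rfl
  have hidem : ∀ a : CAlg G, a * a = a →
      classOp (CAlg.fn a) ρ ∘ₗ classOp (CAlg.fn a) ρ = classOp (CAlg.fn a) ρ := by
    intro a ha
    rw [← classOp_mul, ha]
  refine ⟨Module.finrank ℂ (LinearMap.range (classOp (CAlg.fn f) ρ)),
    Module.finrank ℂ (LinearMap.range (classOp (CAlg.fn e₁) ρ)),
    Module.finrank ℂ (LinearMap.range (classOp (CAlg.fn e₂) ρ)), ?_, ?_, ?_, ?_, ?_⟩
  · rw [hpair]
    exact trace_eq_finrank_range_of_idem _ (hidem f hf)
  · rw [hpair]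
    exact trace_eq_finrank_range_of_idem _ (hidem e₁ h₁)
  · rw [hpair]
    exact trace_eq_finrank_range_of_idem _ (hidem e₂ h₂)
  · apply Submodule.finrank_mono
    have h : classOp (CAlg.fn f) ρ = classOp (CAlg.fn e₁) ρ ∘ₗ classOp (CAlg.fn f) ρ := by
      rw [← classOp_mul, hf₁]
    rw [h]
    exact LinearMap.range_comp_le_range _ _
  · have h : classOp (CAlg.fn f) ρ =
        (classOp (CAlg.fn g₁) ρ ∘ₗ classOp (CAlg.fn e₂) ρ) ∘ₗ classOp (CAlg.fn g₂) ρ := by
      conv_lhs => rw [hf₂]
      rw [classOp_mul, classOp_mul]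
    have h1 : LinearMap.range (classOp (CAlg.fn f) ρ) ≤
        Submodule.map (classOp (CAlg.fn g₁) ρ) (LinearMap.range (classOp (CAlg.fn e₂) ρ)) := by
      rw [h, ← LinearMap.range_comp]
      exact LinearMap.range_comp_le_range _ _
    exact (Submodule.finrank_mono h1).trans (Submodule.finrank_map_le _ _)

end Cfsg.Agent.Helper74.PC
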