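import Cfsg.Agent.Helper16.PC.Defs
import Cfsg.Agent.Helper74.CharCount
import Cfsg.Agent.Helper79.Linear
import Cfsg.Agent.S0961

/-!
# Piece (IVb) of helper16's S4427 farm: the number of `(Q, R)` double cosets via characters
(helper74)
-/

set_option autoImplicit false
set_option linter.unusedSectionVars false
set_option linter.unusedVariables false

namespace Cfsg.Agent.Helper74.PC

open Cfsg Cfsg.Agent.Helper16 Cfsg.Agent.Helper16.PC Polynomial
open scoped ComplexConjugate

universe u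

variable {G : Type u} [Group G] [Fintype G] {M : Ideal AlgInt} {p : ℕ}

/-- the pairing of a subgroup idempotent with a function -/
theorem pair_eSub (H : Subgroup G) [Fintype H] (χ : G → ℂ) :
    pair (eSub H) χ = (Nat.card H : ℂ)⁻¹ * ∑ h : H, χ (h : G) := by
  unfold pair eSub
  rw [CAlg.fn_of]
  exact sum_subgroupIdem_mul H χ

/-- elements of coprime prime power order that are conjugate are trivial -/
theorem eq_one_of_isConj_of_coprime (Q R : Subgroup G) (q r : ℕ) (hq : q.Prime)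
    (hr : r.Prime) (hqr : q ≠ r) (b c : ℕ) (hQ : Nat.card Q = q ^ b) (hR : Nat.card R = r ^ c)
    (x : Q) (y : R) (h : IsConj (x : G) (y : G)) : (x : G) = 1 ∧ (y : G) = 1 := by
  have hord : orderOf (x : G) = orderOf (y : G) := by
    obtain ⟨g, hg⟩ := isConj_iff.mp h
    rw [← hg]
    exact (orderOf_injective (MulAut.conj g).toMonoidHom (MulAut.conj g).injective (x : G)).symm
  have hx : orderOf (x : G) ∣ q ^ b := by
    rw [← hQ, Subgroup.orderOf_coe]
    exact orderOf_dvd_natCard x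
  have hy : orderOf (y : G) ∣ r ^ c := by
    rw [← hR, Subgroup.orderOf_coe]
    exact orderOf_dvd_natCard y
  have hcop : Nat.Coprime (q ^ b) (r ^ c) :=
    Nat.Coprime.pow _ _ ((Nat.coprime_primes hq hr).mpr hqr)
  have h1 : orderOf (x : G) = 1 := by
    have h2 : orderOf (x : G) ∣ Nat.gcd (q ^ b) (r ^ c) :=
      Nat.dvd_gcd hx (hord ▸ hy)
    rw [hcop] at h2
    exact Nat.dvd_one.mp h2
  refine ⟨orderOf_eq_one_iff.mp h1, ?_⟩
  rw [hord] at h1
  exact orderOf_eq_one_iff.mp h1

/-- (IVb) the number of `(Q, R)` double cosets via characters. -/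
theorem PC_IVb [Fintype (IrrCharacter G)] (Q R : Subgroup G) (q r : ℕ) (hq : q.Prime)
    (hr : r.Prime) (hqr : q ≠ r) (b c : ℕ) (hQ : Nat.card Q = q ^ b) (hR : Nat.card R = r ^ c)
    (P : ℕ) (hG : Nat.card G = P * q ^ b * r ^ c) :
    ∑ χ : IrrCharacter G, pair (eSub Q) (χ : G → ℂ) * conj (pair (eSub R) (χ : G → ℂ)) = P := by
  classical
  have hQ0 : (Nat.card Q : ℂ) ≠ 0 := by exact_mod_cast Nat.card_pos.ne'
  have hR0 : (Nat.card R : ℂ) ≠ 0 := by exact_mod_cast Nat.card_pos.ne'
  -- rewrite each term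
  have hterm : ∀ χ : IrrCharacter G,
      pair (eSub Q) (χ : G → ℂ) * conj (pair (eSub R) (χ : G → ℂ)) =
        (Nat.card Q : ℂ)⁻¹ * (Nat.card R : ℂ)⁻¹ *
          ∑ x : Q, ∑ y : R, (χ : G → ℂ) (x : G) * conj ((χ : G → ℂ) (y : G)) := by
    intro χ
    rw [pair_eSub, pair_eSub, map_mul, map_inv₀, Complex.conj_natCast, map_sum]
    have : (∑ h : Q, (χ : G → ℂ) (h : G)) * ∑ y : R, conj ((χ : G → ℂ) (y : G)) =
        ∑ x : Q, ∑ y : R, (χ : G → ℂ) (x : G) * conj ((χ : G → ℂ) (y : G)) :=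
      Finset.sum_mul_sum _ _ _ _
    rw [← this]
    ring
  simp only [hterm]
  rw [← Finset.mul_sum, Finset.sum_comm]
  have hinner : ∀ x : Q, ∑ χ : IrrCharacter G,
      ∑ y : R, (χ : G → ℂ) (x : G) * conj ((χ : G → ℂ) (y : G)) =
        if (x : G) = 1 then (Nat.card G : ℂ) else 0 := by
    intro x
    rw [Finset.sum_comm]
    have h2 : ∀ y : R, ∑ χ : IrrCharacter G, (χ : G → ℂ) (x : G) * conj ((χ : G → ℂ) (y : G)) =
        if (x : G) = 1 ∧ (y : G) = 1 then (Nat.card G : ℂ) else 0 := by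
      intro y
      rw [Cfsg.Agent.Helper74.second_orthogonality]
      by_cases hc : IsConj (x : G) (y : G)
      · obtain ⟨hx1, hy1⟩ := eq_one_of_isConj_of_coprime Q R q r hq hr hqr b c hQ hR x y hc
        rw [if_pos hc, if_pos ⟨hx1, hy1⟩, hy1]
        have : Subgroup.centralizer ({(1 : G)} : Set G) = ⊤ := by
          ext g
          simp [Subgroup.mem_centralizer_iff]
        rw [this, Subgroup.card_top]
      · rw [if_neg hc, if_neg]
        rintro ⟨hx1, hy1⟩
        apply hc
        rw [hx1, hy1]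
    simp only [h2]
    by_cases hx1 : (x : G) = 1
    · rw [if_pos hx1]
      rw [Finset.sum_eq_single (1 : R)]
      · rw [if_pos ⟨hx1, rfl⟩]
      · intro y _ hy
        rw [if_neg]
        rintro ⟨-, hy1⟩
        exact hy (Subtype.ext hy1)
      · intro h; exact absurd (Finset.mem_univ _) h
    · rw [if_neg hx1]
      apply Finset.sum_eq_zero
      intro y _
      rw [if_neg]
      rintro ⟨h, -⟩
      exact hx1 h
  simp only [hinner]
  rw [Finset.sum_eq_single (1 : Q)]
  · rw [if_pos (show ((1 : Q) : G) = 1 from rfl), hG, hQ, hR]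
    have hq0 : ((q ^ b : ℕ) : ℂ) ≠ 0 := by
      rw [← hQ]; exact hQ0
    have hr0 : ((r ^ c : ℕ) : ℂ) ≠ 0 := by
      rw [← hR]; exact hR0
    push_cast at hq0 hr0 ⊢
    field_simp
  · intro x _ hx
    rw [if_neg]
    intro h
    exact hx (Subtype.ext h)
  · intro h; exact absurd (Finset.mem_univ _) h

end Cfsg.Agent.Helper74.PC
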