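import Mathlib
import Cfsg.Agent.Helper21.A6Defs
import Cfsg.Agent.Helper76.PConjugate

/-!
# (GB3) of helper21's S3341 plan: `χ(1) + 4 χ(x) + 4 χ(xy) ∈ 9ℕ`

`N_G(T) = T ⋊ ⟨j⟩` with `j x j⁻¹ = y`, `j y j⁻¹ = x⁻¹`: the eight nonidentity elements of
`T = ⟨x⟩ × ⟨y⟩` fall into the two `⟨j⟩`-orbits `{x, y, x⁻¹, y⁻¹}` and
`{xy, x⁻¹y, x⁻¹y⁻¹, xy⁻¹}`, so `Σ_{t ∈ T} χ(t) = χ(1) + 4χ(x) + 4χ(xy)`, and the left side is
`|T| [χ|_T, 1_T]`.
-/

set_option autoImplicit false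
open Cfsg

namespace Cfsg.Agent.Helper74.A6

open Cfsg.Agent.Helper21.A6

universe u

variable {G : Type u} [Group G] [Finite G]

/-- (GB3) -/
theorem int9 (T : Subgroup G) (hT : Hyp T) (x y j : G) (hd : NData4 T x y j)
    (χ : G → ℂ) (hχ : IsCharacter G χ) :
    ∃ k : ℕ, χ 1 + 4 * χ x + 4 * χ (x * y) = 9 * (k : ℂ) := by
  classical
  haveI : Fintype G := Fintype.ofFinite G
  haveI : Fintype T := Fintype.ofFinite T
  obtain ⟨k, hk⟩ := Cfsg.Agent.Helper76.exists_sum_subgroup_eq T χ hχ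
  refine ⟨k, ?_⟩
  rw [hT.cardT] at hk
  push_cast at hk
  rw [← hk]
  -- class function
  have hcl : ∀ g h : G, χ (h * g * h⁻¹) = χ g := by
    obtain ⟨n, ρ, rfl⟩ := hχ
    intro g h
    exact Representation.char_conj ρ g h
  -- squares are inverses
  have hx2 : x ^ 2 = x⁻¹ := by
    apply eq_inv_of_mul_eq_one_left
    rw [← pow_succ]; exact hd.x3
  have hy2 : y ^ 2 = y⁻¹ := by
    apply eq_inv_of_mul_eq_one_left
    rw [← pow_succ]; exact hd.y3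
  have hcomm1 : y * x⁻¹ = x⁻¹ * y := by
    have := hd.comm
    calc y * x⁻¹ = x⁻¹ * (x * y) * x⁻¹ := by group
      _ = x⁻¹ * (y * x) * x⁻¹ := by rw [this]
      _ = x⁻¹ * y := by group
  have hcomm2 : y⁻¹ * x⁻¹ = x⁻¹ * y⁻¹ := by
    rw [← mul_inv_rev, ← mul_inv_rev, hd.comm]
  have hcomm3 : y⁻¹ * x = x * y⁻¹ := by
    have := hd.comm
    calc y⁻¹ * x = y⁻¹ * (x * y) * y⁻¹ := by group
      _ = y⁻¹ * (y * x) * y⁻¹ := by rw [this]
      _ = x * y⁻¹ := by group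
  -- the two orbits
  have h1 : χ y = χ x := by
    have := hcl x j
    rwa [hd.jx] at this
  have h2 : χ x⁻¹ = χ x := by
    have := hcl y j
    rw [hd.jy] at this
    rw [this, h1]
  have h3 : χ y⁻¹ = χ x := by
    have e : j * x⁻¹ * j⁻¹ = y⁻¹ := by
      rw [← hd.jx]; group
    have := hcl x⁻¹ j
    rw [e] at this
    rw [this, h2]
  have h4 : χ (x⁻¹ * y) = χ (x * y) := by
    have e : j * (x * y) * j⁻¹ = x⁻¹ * y := by
      calc j * (x * y) * j⁻¹ = (j * x * j⁻¹) * (j * y * j⁻¹) := by group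
        _ = x⁻¹ * y := by rw [hd.jx, hd.jy, hcomm1]
    have := hcl (x * y) j
    rwa [e] at this
  have h5 : χ (x⁻¹ * y⁻¹) = χ (x * y) := by
    have e : j * (x⁻¹ * y) * j⁻¹ = x⁻¹ * y⁻¹ := by
      calc j * (x⁻¹ * y) * j⁻¹ = (j * x * j⁻¹)⁻¹ * (j * y * j⁻¹) := by group
        _ = x⁻¹ * y⁻¹ := by rw [hd.jx, hd.jy, hcomm2]
    have := hcl (x⁻¹ * y) j
    rw [e] at this
    rw [this, h4]
  have h6 : χ (x * y⁻¹) = χ (x * y) := by
    have e : j * (x⁻¹ * y⁻¹) * j⁻¹ = x * y⁻¹ := by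
      calc j * (x⁻¹ * y⁻¹) * j⁻¹ = (j * x * j⁻¹)⁻¹ * (j * y * j⁻¹)⁻¹ := by group
        _ = x * y⁻¹ := by rw [hd.jx, hd.jy, inv_inv, hcomm3]
    have := hcl (x⁻¹ * y⁻¹) j
    rw [e] at this
    rw [this, h5]
  -- parametrize `T`
  let f : Fin 3 × Fin 3 → T := fun p =>
    ⟨x ^ (p.1 : ℕ) * y ^ (p.2 : ℕ), T.mul_mem (T.pow_mem hd.xT _) (T.pow_mem hd.yT _)⟩
  have hsurj : Function.Surjective f := by
    intro t
    obtain ⟨i, k, hik⟩ := hd.memT t t.2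
    refine ⟨(⟨i % 3, Nat.mod_lt _ (by norm_num)⟩, ⟨k % 3, Nat.mod_lt _ (by norm_num)⟩), ?_⟩
    apply Subtype.ext
    show x ^ (i % 3) * y ^ (k % 3) = (t : G)
    rw [hik]
    congr 1
    · conv_rhs => rw [← Nat.div_add_mod i 3, pow_add, pow_mul, hd.x3, one_pow, one_mul]
    · conv_rhs => rw [← Nat.div_add_mod k 3, pow_add, pow_mul, hd.y3, one_pow, one_mul]
  have hbij : Function.Bijective f := by
    rw [Fintype.bijective_iff_surjective_and_card]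
    refine ⟨hsurj, ?_⟩
    rw [← Nat.card_eq_fintype_card (α := T), hT.cardT]
    simp
  rw [← hbij.sum_comp (fun t : T => χ (t : G))]
  rw [Fintype.sum_prod_type]
  simp only [f, Fin.sum_univ_three]
  simp only [Fin.val_zero, Fin.val_one, Fin.val_two, pow_zero, pow_one, one_mul, mul_one,
    hx2, hy2, h1, h2, h3, h4, h5, h6]
  ring

end Cfsg.Agent.Helper74.A6
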