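import Mathlib
import Cfsg.Agent.Helper21.A6Defs
import Cfsg.Agent.Helper89.S3S3G2

/-!
# (GD) of helper21's S3341 plan: `|G : N_G(T)| ≡ 1 (mod 9)`

`T` a Sylow 3-subgroup, abelian of order 9, with `C_G(s) = T` for all `s ∈ T#`.  Then `T` is a
TI-subgroup, so `T` acts on `Syl_3(G)` by conjugation with the single fixed point `T` and
all other orbits regular; hence `|Syl_3(G)| = |G : N_G(T)| ≡ 1 (mod 9)`.
-/

set_option autoImplicit false

namespace Cfsg.Agent.Helper74.A6

open Cfsg.Agent.Helper21.A6

universe u

/-- A finite group acting with one fixed point and regular orbits elsewhere: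
`|X| = 1 + |H| m`. -/
theorem exists_card_eq_one_add_mul {H X : Type*} [Group H] [Finite H] [MulAction H X] [Finite X]
    (x₀ : X) (hfix : ∀ h : H, h • x₀ = x₀)
    (hfree : ∀ x : X, x ≠ x₀ → ∀ h : H, h • x = x → h = 1) :
    ∃ m : ℕ, Nat.card X = 1 + Nat.card H * m := by
  classical
  haveI : Fintype H := Fintype.ofFinite H
  haveI : Fintype X := Fintype.ofFinite X
  haveI : Fintype (Quotient (MulAction.orbitRel H X)) := Fintype.ofFinite _
  have hcard := MulAction.card_eq_sum_card_group_div_card_stabilizer H X
  -- the representative of the class of `x₀` is `x₀`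
  have hout : ∀ ω : Quotient (MulAction.orbitRel H X), ω.out = x₀ ↔
      ω = (Quotient.mk'' x₀ : Quotient (MulAction.orbitRel H X)) := by
    intro ω
    constructor
    · intro h
      rw [← h]
      exact (Quotient.out_eq' ω).symm
    · intro h
      subst h
      have h1 : (Quotient.mk'' x₀ : Quotient (MulAction.orbitRel H X)).out ∈
          MulAction.orbit H x₀ := by
        have := Quotient.mk_out (s := MulAction.orbitRel H X) x₀
        exact this
      obtain ⟨h, hh⟩ := h1
      rw [← hh]
      exact hfix h
  have hterm : ∀ ω : Quotient (MulAction.orbitRel H X),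
      Fintype.card H / Fintype.card (MulAction.stabilizer H ω.out) =
        if ω = (Quotient.mk'' x₀ : Quotient (MulAction.orbitRel H X)) then 1
        else Fintype.card H := by
    intro ω
    split_ifs with h
    · have h' := (hout ω).2 h
      have htop : MulAction.stabilizer H ω.out = ⊤ := by
        rw [eq_top_iff]
        intro g _
        rw [MulAction.mem_stabilizer_iff, h']
        exact hfix g
      have : Fintype.card (MulAction.stabilizer H ω.out) = Fintype.card H := by
        rw [← Nat.card_eq_fintype_card, ← Nat.card_eq_fintype_card, htop, Subgroup.card_top]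
      rw [this]
      exact Nat.div_self Fintype.card_pos
    · have h' : ω.out ≠ x₀ := fun hh => h ((hout ω).1 hh)
      have hbot : MulAction.stabilizer H ω.out = ⊥ := by
        rw [eq_bot_iff]
        intro g hg
        rw [MulAction.mem_stabilizer_iff] at hg
        rw [Subgroup.mem_bot]
        exact hfree _ h' g hg
      have : Fintype.card (MulAction.stabilizer H ω.out) = 1 := by
        rw [← Nat.card_eq_fintype_card, hbot, Subgroup.card_bot]
      rw [this, Nat.div_one]
  rw [Nat.card_eq_fintype_card, Nat.card_eq_fintype_card, hcard]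
  simp_rw [hterm]
  rw [Finset.sum_ite, Finset.sum_const, Finset.sum_const, Finset.filter_eq']
  simp only [Finset.mem_univ, if_true, Finset.card_singleton, smul_eq_mul, mul_one]
  exact ⟨_, by rw [mul_comm]⟩

variable {G : Type u} [Group G] [Finite G]

/-- (GD) -/
theorem index_mod_nine (T : Sylow 3 G) (hT : Hyp (T : Subgroup G)) :
    ∃ n : ℕ, Nat.card G = Nat.card (Subgroup.normalizer ((T : Subgroup G) : Set G)) * n ∧
      n % 9 = 1 := by
  classical
  haveI : Fact (Nat.Prime 3) := ⟨Nat.prime_three⟩
  refine ⟨(Subgroup.normalizer ((T : Subgroup G) : Set G)).index,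
    (Subgroup.card_mul_index _).symm, ?_⟩
  have hidx : Nat.card (Sylow 3 G) =
      (Subgroup.normalizer ((T : Subgroup G) : Set G)).index := Sylow.card_eq_index_normalizer T
  rw [← hidx]
  obtain ⟨m, hm⟩ := exists_card_eq_one_add_mul (H := (T : Subgroup G)) (X := Sylow 3 G) T
    (by
      intro h
      rw [Subgroup.smul_def, Sylow.smul_eq_iff_mem_normalizer]
      exact Subgroup.le_normalizer h.2)
    (by
      intro Q hQ h hh
      by_contra h1
      apply hQ
      -- `Q = g • T`
      obtain ⟨g, rfl⟩ := MulAction.exists_smul_eq G T Q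
      rw [Subgroup.smul_def, Sylow.smul_eq_iff_mem_normalizer] at hh
      -- `h ∈ T ∩ N(Q) = T ∩ Q`
      have hhQ : (h : G) ∈ ((g • T : Sylow 3 G) : Subgroup G) := by
        have := IsPGroup.inf_normalizer_sylow T.isPGroup' (g • T)
        have h2 : (h : G) ∈ (T : Subgroup G) ⊓
            Subgroup.normalizer ((g • T : Sylow 3 G) : Set G) := ⟨h.2, hh⟩
        rw [this] at h2
        exact h2.2
      rw [Sylow.coe_subgroup_smul, Subgroup.mem_pointwise_smul_iff_inv_smul_mem] at hhQ
      have hhQ' : g⁻¹ * (h : G) * g ∈ (T : Subgroup G) := by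
        simpa [MulAut.smul_def, mul_assoc] using hhQ
      have hne : g⁻¹ * (h : G) * g ≠ 1 := by
        intro h0
        apply h1
        have : (h : G) = 1 := by
          have : (h : G) = g * (g⁻¹ * (h : G) * g) * g⁻¹ := by group
          rw [this, h0]; group
        exact Subtype.ext this
      have hg : g ∈ Subgroup.normalizer ((T : Subgroup G) : Set G) := by
        have := Cfsg.Agent.Helper89.S3S3.mem_normalizer_of_conj_mem T hT.commT hT.centralizer_le
          g (g⁻¹ * (h : G) * g) hhQ' hne
          (by
            have : g * (g⁻¹ * (h : G) * g) * g⁻¹ = (h : G) := by group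
            rw [this]; exact h.2)
        exact this
      exact Sylow.smul_eq_iff_mem_normalizer.2 hg)
  rw [hm, hT.cardT]
  omega

end Cfsg.Agent.Helper74.A6
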