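import Cfsg.Agent.Helper6.SPweil1

/-!
# (W5), (W5') of helper6's Weil-representation plan (S2347), core forms

The operators commuting with all the Heisenberg operators are the scalars, and two intertwiners
for the same `g` differ by a non-zero scalar.  The spanning statement (W3b) is a hypothesis here.
-/

set_option autoImplicit false

namespace Cfsg.Agent.Helper74.SPweil

open Matrix Module Cfsg.Agent.Helper6.SPweil

variable {F : Type*} [Field F] [Fintype F] {n : ℕ}

/-- (W5), core form -/
theorem scalar_of_commute_of_span (ψ : AddChar F ℂ)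
    (hspan : Submodule.span ℂ (Set.range (fun v : Fin n ⊕ Fin n → F => heis ψ v)) = ⊤)
    (A : Module.End ℂ ((Fin n → F) → ℂ)) (hA : ∀ v, A * heis ψ v = heis ψ v * A) :
    ∃ c : ℂ, A = c • 1 := by
  have hall : ∀ B : Module.End ℂ ((Fin n → F) → ℂ), A * B = B * A := by
    intro B
    have hB : B ∈ Submodule.span ℂ (Set.range (fun v : Fin n ⊕ Fin n → F => heis ψ v)) := by
      rw [hspan]; exact Submodule.mem_top
    induction hB using Submodule.span_induction with
    | mem x hx =>
      obtain ⟨v, rfl⟩ := hx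
      exact hA v
    | zero => rw [mul_zero, zero_mul]
    | add x y _ _ hx hy => rw [mul_add, add_mul, hx, hy]
    | smul a x _ hx => rw [mul_smul_comm, smul_mul_assoc, hx]
  have hcen : A ∈ Subalgebra.center ℂ (Module.End ℂ ((Fin n → F) → ℂ)) := by
    rw [Subalgebra.mem_center_iff]
    intro B
    exact (hall B).symm
  rw [Algebra.IsCentral.center_eq_bot, Algebra.mem_bot] at hcen
  obtain ⟨c, hc⟩ := hcen
  exact ⟨c, by rw [← hc, Algebra.algebraMap_eq_smul_one]⟩

/-- (W5'), core form -/
theorem intertwiner_unique_of_span (ψ : AddChar F ℂ)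
    (hspan : Submodule.span ℂ (Set.range (fun v : Fin n ⊕ Fin n → F => heis ψ v)) = ⊤)
    (g : Matrix.symplecticGroup (Fin n) F)
    (T T' : ((Fin n → F) → ℂ) ≃ₗ[ℂ] ((Fin n → F) → ℂ)) (hT : Intertwines ψ g T)
    (hT' : Intertwines ψ g T') : ∃ c : ℂ, c ≠ 0 ∧ ∀ f, T' f = c • T f := by
  set A : Module.End ℂ ((Fin n → F) → ℂ) := T.symm.toLinearMap ∘ₗ T'.toLinearMap with hAdef
  have hsymm : ∀ (v : Fin n ⊕ Fin n → F) (k : (Fin n → F) → ℂ),
      T.symm (heis ψ ((g : Matrix (Fin n ⊕ Fin n) (Fin n ⊕ Fin n) F) *ᵥ v) k) =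
        heis ψ v (T.symm k) := by
    intro v k
    have := hT v (T.symm k)
    rw [LinearEquiv.apply_symm_apply] at this
    rw [← this, LinearEquiv.symm_apply_apply]
  have hA : ∀ v, A * heis ψ v = heis ψ v * A := by
    intro v
    apply LinearMap.ext
    intro f
    show T.symm (T' (heis ψ v f)) = heis ψ v (T.symm (T' f))
    rw [hT' v f, hsymm]
  obtain ⟨c, hc⟩ := scalar_of_commute_of_span ψ hspan A hA
  have hTT : ∀ f, T' f = c • T f := by
    intro f
    have h1 : A f = c • f := by rw [hc]; rfl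
    have h2 : T (A f) = T' f := by
      show T (T.symm (T' f)) = T' f
      rw [LinearEquiv.apply_symm_apply]
    rw [← h2, h1, map_smul]
  refine ⟨c, ?_, hTT⟩
  intro hc0
  have h1 := hTT (fun _ => (1 : ℂ))
  rw [hc0, zero_smul] at h1
  have h2 : (fun _ : Fin n → F => (1 : ℂ)) = 0 := by
    have := congrArg T'.symm h1
    rwa [LinearEquiv.symm_apply_apply, map_zero] at this
  have h3 := congrFun h2 0
  simp at h3

end Cfsg.Agent.Helper74.SPweil
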