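/-
Coprime action and normal subgroups (Isaacs 13.27-13.31): compatibility of the Glauberman
correspondence of a p-group of operators with invariant normal subgroups, and the theorem that an
invariant irreducible character of an invariant normal subgroup lies under an invariant irreducible
character, for a solvable group of operators of coprime order.
-/
import Cfsg.Agent.Helper74.DegreeRatio
import Cfsg.Agent.Helper15.Clifford
import Cfsg.Agent.Helper15.CliffordCorr
import Cfsg.Agent.Helper16.Covering3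
import Cfsg.Agent.Helper81.GlaubStep
import Cfsg.Agent.Helper81.GlaubSolv
import Cfsg.Agent.Helper81.GlaubP5

set_option autoImplicit false

namespace Cfsg.Agent.Helper74

open Cfsg
open scoped ComplexConjugate

universe u v w

/-- The multiplicity of an irreducible character of a normal subgroup in the restriction of an
irreducible character divides the index. -/
theorem inner_restrict_dvd_index {G : Type u} [Group G] [Fintype G] (N : Subgroup G) [hN : N.Normal]
    [Fintype N] {χ : G → ℂ} (hχ : IsIrrCharacter G χ) {θ : N → ℂ} (hθ : IsIrrCharacter N θ)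
    (e : ℕ) (he : classInner (fun n : N => χ n) θ = e) (he0 : e ≠ 0) : e ∣ N.index := by
  classical
  have hcon : classInner (fun n : N => χ n) θ ≠ 0 := by
    rw [he]
    exact_mod_cast he0
  obtain ⟨b, hb, hbdvd⟩ := degree_ratio_dvd N hχ hθ hcon
  have hcl := Helper15.clifford_restrict N hχ hθ hcon
  have h1 := congrFun hcl 1
  simp only [Pi.smul_apply, Finset.sum_apply, smul_eq_mul] at h1
  have h2 : ∑ φ ∈ Helper15.conjOrbit N θ, φ 1 = ((Helper15.conjOrbit N θ).card : ℂ) * θ 1 := by
    rw [Finset.sum_congr rfl (g := fun _ => θ 1), Finset.sum_const, nsmul_eq_mul]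
    intro φ hφ
    obtain ⟨g, rfl⟩ := (Helper15.mem_conjOrbit N).mp hφ
    exact Helper15.conjFun_apply_one N g θ
  have h3 : ((1 : N) : G) = 1 := rfl
  rw [h3, hb, h2, he] at h1
  have hθ1 : θ 1 ≠ 0 := Helper80.IsIrrCharacter.map_one_ne_zero hθ
  have h4 : (b : ℂ) = (e : ℂ) * ((Helper15.conjOrbit N θ).card : ℂ) := by
    apply mul_right_cancel₀ hθ1
    rw [h1]
    ring
  have h5 : b = e * (Helper15.conjOrbit N θ).card := by exact_mod_cast h4
  exact Dvd.dvd.trans ⟨_, h5⟩ hbdvd

section general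

/-- The action on an invariant subgroup. -/
@[reducible] def invSubgroupAction {S : Type w} {G : Type u} [Group S] [Group G]
    [MulDistribMulAction S G] (N : Subgroup G) (hN : ∀ (s : S), ∀ n ∈ N, s • n ∈ N) :
    MulDistribMulAction S N where
  smul s n := ⟨s • (n : G), hN s n n.2⟩
  one_smul n := Subtype.ext (one_smul S (n : G))
  mul_smul s t n := Subtype.ext (mul_smul s t (n : G))
  smul_mul s a b := Subtype.ext (smul_mul' s (a : G) b)
  smul_one s := Subtype.ext (smul_one s)

/-- An irreducible character composed with an automorphism. -/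
def irrComp {G : Type u} [Group G] (χ : IrrCharacter G) (e : G ≃* G) : IrrCharacter G :=
  ⟨fun g => (χ : G → ℂ) (e g),
    Helper80.IsIrrCharacter.comp_surjective χ.2 e.toMonoidHom e.surjective⟩

theorem irrComp_apply {G : Type u} [Group G] (χ : IrrCharacter G) (e : G ≃* G) (g : G) :
    (irrComp χ e : G → ℂ) g = (χ : G → ℂ) (e g) := rfl

theorem mult_irrComp {G : Type u} [Group G] [Fintype G] {C : Type v} [Group C] [Fintype C]
    (ι : C →* G) (eG : G ≃* G) (eC : C ≃* C) (h : ∀ c, ι (eC c) = eG (ι c))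
    (χ : IrrCharacter G) (β : IrrCharacter C) :
    Helper81.mult ι (irrComp χ eG) (irrComp β eC) = Helper81.mult ι χ β := by
  apply Nat.cast_injective (R := ℂ)
  rw [← Helper81.mult_spec, ← Helper81.mult_spec]
  have h1 : ((irrComp χ eG : G → ℂ) ∘ ι) = ((χ : G → ℂ) ∘ ι) ∘ eC.toEquiv := by
    funext c
    change (χ : G → ℂ) (eG (ι c)) = (χ : G → ℂ) (ι (eC c))
    rw [h]
  have h2 : (irrComp β eC : C → ℂ) = (β : C → ℂ) ∘ eC.toEquiv := rfl
  rw [h1, h2]
  exact Helper81.classInner_comp_equiv eC.toEquiv _ _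

/-- Decomposing the restriction of a character along the irreducible characters. -/
theorem classInner_comp_eq_sum {H : Type v} {K : Type u} [Group H] [Fintype H] [Group K] [Fintype K]
    [Fintype (IrrCharacter K)] (f : H →* K) {ψ : K → ℂ} (hψ : IsCharacter K ψ) (φ : H → ℂ) :
    classInner (ψ ∘ f) φ =
      ∑ κ : IrrCharacter K, classInner ψ (κ : K → ℂ) * classInner ((κ : K → ℂ) ∘ f) φ := by
  have h1 : ψ ∘ f = ∑ κ : IrrCharacter K, classInner ψ (κ : K → ℂ) • ((κ : K → ℂ) ∘ f) := by
    conv_lhs => rw [isCharacter_eq_sum_irr hψ]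
    funext x
    simp only [Function.comp_apply, Finset.sum_apply, Pi.smul_apply]
  rw [h1, classInner_sum_left]
  refine Finset.sum_congr rfl fun κ _ => ?_
  rw [classInner_smul_left]

/-- Transitivity of multiplicities. -/
theorem mult_comp_eq_sum {A : Type v} {B : Type u} {G : Type u} [Group A] [Fintype A] [Group B] [Fintype B]
    [Group G] [Fintype G] [Fintype (IrrCharacter B)] (f : A →* B) (g : B →* G)
    (χ : IrrCharacter G) (φ : IrrCharacter A) :
    Helper81.mult (g.comp f) χ φ = ∑ κ : IrrCharacter B, Helper81.mult g χ κ * Helper81.mult f κ φ := by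
  apply Nat.cast_injective (R := ℂ)
  rw [← Helper81.mult_spec]
  have h1 : ((χ : G → ℂ) ∘ (g.comp f)) = ((χ : G → ℂ) ∘ g) ∘ f := rfl
  rw [h1, classInner_comp_eq_sum f (isCharacter_comp g (irr_isCharacter χ))]
  push_cast
  refine Finset.sum_congr rfl fun κ _ => ?_
  rw [Helper81.mult_spec, Helper81.mult_spec]

theorem natCast_sum_eq_sum_fixedPoints {p : ℕ} [hp : Fact p.Prime] {S : Type*} {X : Type*} [Group S]
    [Fintype X] [MulAction S X] (hS : IsPGroup p S) (f : X → ℕ)
    [DecidablePred (· ∈ MulAction.fixedPoints S X)] (hf : ∀ (s : S) (x : X), f (s • x) = f x) :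
    ((∑ x, f x : ℕ) : ZMod p) = ((∑ x with x ∈ MulAction.fixedPoints S X, f x : ℕ) : ZMod p) := by
  have h := Helper81.sum_intModEq_sum_fixedPoints hS (fun x => (f x : ℂ))
    (fun s x => by simp only [hf]) (fun x => by
      have := isIntegral_algebraMap (R := ℤ) (A := ℂ) (x := (f x : ℤ))
      simpa using this)
  apply Helper81.IntModEq.natCast_zmod_eq hp.out.ne_zero
  push_cast
  exact h

end general

section pstep

variable {R : Type w} [Group R] {G : Type u} [Group G] [MulDistribMulAction R G]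

/-- The inclusion of `N ∩ C` (as a subgroup of `C`) into `N`. -/
def fixIncl (N C : Subgroup G) : ↥(N.subgroupOf C) →* ↥N :=
  (C.subtype.comp (N.subgroupOf C).subtype).codRestrict N (fun x => x.2)

theorem fixIncl_coe (N C : Subgroup G) (x : N.subgroupOf C) :
    ((fixIncl N C x : N) : G) = ((x : C) : G) := rfl

theorem fixIncl_injective (N C : Subgroup G) : Function.Injective (fixIncl N C) := by
  intro x y h
  apply Subtype.ext
  apply Subtype.ext
  have := congrArg (fun z : N => (z : G)) h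
  exact this

theorem fix_range' (g : G) :
    g ∈ Set.range (FixedPoints.subgroup R G).subtype ↔ ∀ r : R, r • g = g := by
  rw [Subgroup.coe_subtype, Subtype.range_coe]
  rfl

theorem fixIncl_range (N : Subgroup G) (hNR : ∀ (r : R), ∀ n ∈ N, r • n ∈ N) (n : N) :
    n ∈ Set.range (fixIncl N (FixedPoints.subgroup R G)) ↔
      ∀ r : R, (letI := invSubgroupAction N hNR; r • n : N) = n := by
  constructor
  · rintro ⟨x, rfl⟩ r
    apply Subtype.ext
    exact x.1.2 r
  · intro h
    refine ⟨⟨⟨(n : G), fun r => congrArg Subtype.val (h r)⟩, n.2⟩, rfl⟩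

section congr

variable [Fintype G] {p : ℕ} [hp : Fact p.Prime]

theorem glauberman_normal_congr (hR : IsPGroup p R) (hpG : ¬ p ∣ Nat.card G)
    (N : Subgroup G) [Fintype N] (hNR : ∀ (r : R), ∀ n ∈ N, r • n ∈ N)
    [Fintype (FixedPoints.subgroup R G)] [Fintype (N.subgroupOf (FixedPoints.subgroup R G))]
    (χ : IrrCharacter G) (hχ : ∀ (r : R) (g : G), (χ : G → ℂ) (r • g) = (χ : G → ℂ) g)
    (θ : IrrCharacter N)
    (hθ : ∀ (r : R) (n : N), (θ : N → ℂ) ⟨r • (n : G), hNR r n n.2⟩ = (θ : N → ℂ) n)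
    (β : IrrCharacter (FixedPoints.subgroup R G))
    (hβ : ¬ p ∣ Helper81.mult (FixedPoints.subgroup R G).subtype χ β)
    (φ : IrrCharacter (N.subgroupOf (FixedPoints.subgroup R G)))
    (hφ : ¬ p ∣ Helper81.mult (fixIncl N (FixedPoints.subgroup R G)) θ φ) :
    ((Helper81.mult (FixedPoints.subgroup R G).subtype χ β *
        Helper81.mult (N.subgroupOf (FixedPoints.subgroup R G)).subtype β φ : ℕ) : ZMod p) =
      ((Helper81.mult N.subtype χ θ *
        Helper81.mult (fixIncl N (FixedPoints.subgroup R G)) θ φ : ℕ) : ZMod p) := by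
  classical
  let actN : MulDistribMulAction R N := invSubgroupAction N hNR
  let _ := irrFintype (FixedPoints.subgroup R G)
  let _ := irrFintype N
  let _ := irrFintype (N.subgroupOf (FixedPoints.subgroup R G))
  have hinj : Function.Injective (FixedPoints.subgroup R G).subtype := Subtype.val_injective
  have hfix := fix_range' (R := R) (G := G)
  have hinjN := fixIncl_injective N (FixedPoints.subgroup R G)
  have hfixN := fixIncl_range (R := R) N hNR
  have hpN : ¬ p ∣ Nat.card N := fun h => hpG (h.trans (Subgroup.card_subgroup_dvd_card N))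
  -- the two decompositions
  have hA := mult_comp_eq_sum (N.subgroupOf (FixedPoints.subgroup R G)).subtype
    (FixedPoints.subgroup R G).subtype χ φ
  have hB := mult_comp_eq_sum (fixIncl N (FixedPoints.subgroup R G)) N.subtype χ φ
  have hcomp : (FixedPoints.subgroup R G).subtype.comp
      (N.subgroupOf (FixedPoints.subgroup R G)).subtype =
      N.subtype.comp (fixIncl N (FixedPoints.subgroup R G)) := rfl
  rw [hcomp, hB] at hA
  have hA' := congrArg (Nat.cast : ℕ → ZMod p) hA
  -- left side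
  have hL : ((∑ κ : IrrCharacter (FixedPoints.subgroup R G),
      Helper81.mult (FixedPoints.subgroup R G).subtype χ κ *
        Helper81.mult (N.subgroupOf (FixedPoints.subgroup R G)).subtype κ φ : ℕ) : ZMod p) =
      ((Helper81.mult (FixedPoints.subgroup R G).subtype χ β *
        Helper81.mult (N.subgroupOf (FixedPoints.subgroup R G)).subtype β φ : ℕ) : ZMod p) := by
    push_cast
    rw [Finset.sum_eq_single β]
    · intro κ _ hne
      rw [Helper81.mult_zmod_eq_zero_of_ne _ hR hinj hfix hpG χ hχ hβ hne, zero_mul]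
    · intro h
      exact absurd (Finset.mem_univ β) h
  -- right side
  let actIrr : MulAction R (IrrCharacter N) := Helper81.irrSMulAction R N
  have hfixed : ∀ θ' : IrrCharacter N, θ' ∈ MulAction.fixedPoints R (IrrCharacter N) ↔
      ∀ (r : R) (n : N), (θ' : N → ℂ) (r • n) = (θ' : N → ℂ) n := fun θ' =>
    Helper81.irrSMul_eq_self_iff θ'
  have hR1 : ((∑ κ : IrrCharacter N, Helper81.mult N.subtype χ κ *
        Helper81.mult (fixIncl N (FixedPoints.subgroup R G)) κ φ : ℕ) : ZMod p) =
      ((∑ κ with κ ∈ MulAction.fixedPoints R (IrrCharacter N), Helper81.mult N.subtype χ κ *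
        Helper81.mult (fixIncl N (FixedPoints.subgroup R G)) κ φ : ℕ) : ZMod p) := by
    apply natCast_sum_eq_sum_fixedPoints hR
    intro r κ
    congr 1
    · -- invariance of χ
      have h1 := mult_irrComp N.subtype (MulDistribMulAction.toMulEquiv G r⁻¹)
        (MulDistribMulAction.toMulEquiv N r⁻¹) (fun c => rfl) χ κ
      have h2 : irrComp χ (MulDistribMulAction.toMulEquiv G r⁻¹) = χ := by
        apply Subtype.ext
        funext g
        exact hχ r⁻¹ g
      rw [h2] at h1
      exact h1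
    · exact Helper81.mult_smul _ hR hinjN hfixN r κ φ
  have hR2 : ((∑ κ with κ ∈ MulAction.fixedPoints R (IrrCharacter N),
        Helper81.mult N.subtype χ κ *
        Helper81.mult (fixIncl N (FixedPoints.subgroup R G)) κ φ : ℕ) : ZMod p) =
      ((Helper81.mult N.subtype χ θ *
        Helper81.mult (fixIncl N (FixedPoints.subgroup R G)) θ φ : ℕ) : ZMod p) := by
    push_cast
    rw [Finset.sum_eq_single θ]
    · intro κ hκ hne
      have hκ' := (hfixed κ).mp (Finset.mem_filter.mp hκ).2
      have hdvd : p ∣ Helper81.mult (fixIncl N (FixedPoints.subgroup R G)) κ φ := by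
        by_contra hnd
        exact hne (Helper81.corr_injective _ hR hinjN hfixN hpN κ θ hκ' hθ hnd hφ)
      rw [(ZMod.natCast_eq_zero_iff _ _).mpr hdvd, mul_zero]
    · intro h
      exfalso
      apply h
      rw [Finset.mem_filter]
      exact ⟨Finset.mem_univ _, (hfixed θ).mpr hθ⟩
  rw [← hL, ← hR2, ← hR1]
  exact hA'.symm

theorem inner_ne_zero_of_glauberman (hR : IsPGroup p R) (hpG : ¬ p ∣ Nat.card G)
    (N : Subgroup G) [hN : N.Normal] [Fintype N] (hNR : ∀ (r : R), ∀ n ∈ N, r • n ∈ N)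
    [Fintype (FixedPoints.subgroup R G)] [Fintype (N.subgroupOf (FixedPoints.subgroup R G))]
    (χ : IrrCharacter G) (hχ : ∀ (r : R) (g : G), (χ : G → ℂ) (r • g) = (χ : G → ℂ) g)
    (θ : IrrCharacter N)
    (hθ : ∀ (r : R) (n : N), (θ : N → ℂ) ⟨r • (n : G), hNR r n n.2⟩ = (θ : N → ℂ) n)
    (β : IrrCharacter (FixedPoints.subgroup R G))
    (hβ : ¬ p ∣ Helper81.mult (FixedPoints.subgroup R G).subtype χ β)
    (φ : IrrCharacter (N.subgroupOf (FixedPoints.subgroup R G)))
    (hφ : ¬ p ∣ Helper81.mult (fixIncl N (FixedPoints.subgroup R G)) θ φ)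
    (hβφ : classInner (fun x : N.subgroupOf (FixedPoints.subgroup R G) =>
      (β : FixedPoints.subgroup R G → ℂ) x) (φ : N.subgroupOf (FixedPoints.subgroup R G) → ℂ) ≠ 0) :
    classInner (fun n : N => (χ : G → ℂ) n) (θ : N → ℂ) ≠ 0 := by
  have hcongr := glauberman_normal_congr hR hpG N hNR χ hχ θ hθ β hβ φ hφ
  have hb := Helper81.mult_spec (N.subgroupOf (FixedPoints.subgroup R G)).subtype β φ
  have hc := Helper81.mult_spec N.subtype χ θ
  have hb0 : Helper81.mult (N.subgroupOf (FixedPoints.subgroup R G)).subtype β φ ≠ 0 := by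
    intro h0
    apply hβφ
    rw [h0, Nat.cast_zero] at hb
    exact hb
  have hbdvd := inner_restrict_dvd_index (N.subgroupOf (FixedPoints.subgroup R G)) β.2 φ.2 _ hb hb0
  have hpb : ¬ p ∣ Helper81.mult (N.subgroupOf (FixedPoints.subgroup R G)).subtype β φ := by
    intro h
    apply hpG
    exact ((h.trans hbdvd).trans (Subgroup.index_dvd_card _)).trans
      (Subgroup.card_subgroup_dvd_card _)
  have hab : ((Helper81.mult (FixedPoints.subgroup R G).subtype χ β *
        Helper81.mult (N.subgroupOf (FixedPoints.subgroup R G)).subtype β φ : ℕ) : ZMod p) ≠ 0 := by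
    rw [Ne, ZMod.natCast_eq_zero_iff]
    intro h
    rcases (Nat.Prime.dvd_mul hp.out).mp h with h | h
    · exact hβ h
    · exact hpb h
  rw [hcongr] at hab
  intro h0
  apply hab
  have hc0 : Helper81.mult N.subtype χ θ = 0 := by
    have : ((Helper81.mult N.subtype χ θ : ℕ) : ℂ) = 0 := by
      rw [← hc]
      exact h0
    exact_mod_cast this
  rw [hc0, zero_mul, Nat.cast_zero]

end congr

end pstep


section step

variable {S : Type w} [Group S] {G : Type u} [Group G] [Fintype G] [MulDistribMulAction S G]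
  (R : Subgroup S) [hRn : R.Normal] {p : ℕ} [hp : Fact p.Prime]

theorem exists_invariant_glauberman_above (hR : IsPGroup p R) (hpG : ¬ p ∣ Nat.card G)
    [Fintype (FixedPoints.subgroup R G)]
    (β : IrrCharacter (FixedPoints.subgroup R G))
    (hβ : ∀ (q : S ⧸ R) (c : FixedPoints.subgroup R G),
      (β : FixedPoints.subgroup R G → ℂ) (q • c) = (β : FixedPoints.subgroup R G → ℂ) c) :
    ∃ χ : IrrCharacter G, (∀ (s : S) (g : G), (χ : G → ℂ) (s • g) = (χ : G → ℂ) g) ∧
      ¬ p ∣ Helper81.mult (FixedPoints.subgroup R G).subtype χ β := by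
  classical
  let _ := irrFintype G
  let _ := irrFintype (FixedPoints.subgroup R G)
  have hinj : Function.Injective (FixedPoints.subgroup R G).subtype := Subtype.val_injective
  have hfix := Helper81.fix_range (G := G) R
  obtain ⟨χ, hχR, hχβ⟩ := Helper81.corr_surjective _ hR hinj hfix hpG β
  refine ⟨χ, ?_, hχβ⟩
  apply (Helper81.irrSMul_eq_self_iff χ).mp
  intro s
  have h1 := Helper81.mult_smul_smul R s χ β
  have h2 : (letI := Helper81.irrSMulAction (S ⧸ R) (FixedPoints.subgroup R G); (s : S ⧸ R) • β :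
        IrrCharacter (FixedPoints.subgroup R G)) = β :=
    (Helper81.irrSMul_eq_self_iff β).mpr hβ (s : S ⧸ R)
  rw [h2] at h1
  have h3 : ¬ p ∣ Helper81.mult (FixedPoints.subgroup R G).subtype
      (letI := Helper81.irrSMulAction S G; s • χ : IrrCharacter G) β := by
    rw [h1]
    exact hχβ
  exact Helper81.corr_injective _ hR hinj hfix hpG _ χ (Helper81.invIrrSMul R s ⟨χ, hχR⟩).2 hχR h3 hχβ

theorem exists_glauberman_below (hR : IsPGroup p R) (hpG : ¬ p ∣ Nat.card G)
    (N : Subgroup G) [Fintype N] (hNS : ∀ (s : S), ∀ n ∈ N, s • n ∈ N)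
    [Fintype (FixedPoints.subgroup R G)] [Fintype (N.subgroupOf (FixedPoints.subgroup R G))]
    (hCN : ∀ (q : S ⧸ R), ∀ x ∈ N.subgroupOf (FixedPoints.subgroup R G),
      q • x ∈ N.subgroupOf (FixedPoints.subgroup R G))
    (θ : IrrCharacter N)
    (hθ : ∀ (s : S) (n : N), (θ : N → ℂ) ⟨s • (n : G), hNS s n n.2⟩ = (θ : N → ℂ) n) :
    ∃ φ : IrrCharacter (N.subgroupOf (FixedPoints.subgroup R G)),
      ¬ p ∣ Helper81.mult (fixIncl N (FixedPoints.subgroup R G)) θ φ ∧
      ∀ (q : S ⧸ R) (x : N.subgroupOf (FixedPoints.subgroup R G)),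
        (φ : N.subgroupOf (FixedPoints.subgroup R G) → ℂ) ⟨q • x.1, hCN q x.1 x.2⟩ =
          (φ : N.subgroupOf (FixedPoints.subgroup R G) → ℂ) x := by
  classical
  have hNR : ∀ (r : R), ∀ n ∈ N, r • n ∈ N := fun r n hn => hNS (r : S) n hn
  let actRN : MulDistribMulAction R N := invSubgroupAction N hNR
  let _ := irrFintype N
  let _ := irrFintype (N.subgroupOf (FixedPoints.subgroup R G))
  have hinjN := fixIncl_injective N (FixedPoints.subgroup R G)
  have hfixN := fixIncl_range (R := R) N hNR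
  have hpN : ¬ p ∣ Nat.card N := fun h => hpG (h.trans (Subgroup.card_subgroup_dvd_card N))
  have hθR : ∀ (r : R) (n : N), (θ : N → ℂ) (r • n) = (θ : N → ℂ) n := fun r n => hθ (r : S) n
  obtain ⟨φ, hφ⟩ := Helper81.exists_mult_not_dvd _ hR hinjN hfixN hpN θ hθR
  refine ⟨φ, hφ, ?_⟩
  intro q x
  obtain ⟨s, rfl⟩ := QuotientGroup.mk_surjective q
  let actN : MulDistribMulAction S N := invSubgroupAction N hNS
  let actCN : MulDistribMulAction (S ⧸ R) (N.subgroupOf (FixedPoints.subgroup R G)) :=
    invSubgroupAction _ hCN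
  have h1 := mult_irrComp (fixIncl N (FixedPoints.subgroup R G))
    (MulDistribMulAction.toMulEquiv N s)
    (MulDistribMulAction.toMulEquiv (N.subgroupOf (FixedPoints.subgroup R G)) (s : S ⧸ R))
    (fun c => rfl) θ φ
  have h2 : irrComp θ (MulDistribMulAction.toMulEquiv N s) = θ := by
    apply Subtype.ext
    funext n
    exact hθ s n
  rw [h2] at h1
  have h3 : ¬ p ∣ Helper81.mult (fixIncl N (FixedPoints.subgroup R G)) θ
      (irrComp φ (MulDistribMulAction.toMulEquiv (N.subgroupOf (FixedPoints.subgroup R G))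
        (s : S ⧸ R))) := by
    rw [h1]
    exact hφ
  have h4 := Helper81.mult_unique _ hR hinjN hfixN hpN θ hθR hφ h3
  have h5 := congrArg (fun ψ : IrrCharacter (N.subgroupOf (FixedPoints.subgroup R G)) =>
    (ψ : N.subgroupOf (FixedPoints.subgroup R G) → ℂ) x) h4
  exact h5

end step

theorem exists_invariant_over_coprime_aux (k : ℕ) :
    ∀ (S : Type w) [Group S] [Finite S] (G : Type u) [Group G] [Fintype G]
      [MulDistribMulAction S G] (N : Subgroup G) [N.Normal] [Fintype N]
      (hNS : ∀ (s : S), ∀ n ∈ N, s • n ∈ N),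
      Nat.card S = k → Group.IsSolvable S → (Nat.card G).Coprime (Nat.card S) →
      ∀ θ : IrrCharacter N,
        (∀ (s : S) (n : N), (θ : N → ℂ) ⟨s • (n : G), hNS s n n.2⟩ = (θ : N → ℂ) n) →
      ∃ χ : IrrCharacter G, classInner (fun n : N => (χ : G → ℂ) n) (θ : N → ℂ) ≠ 0 ∧
        ∀ (s : S) (g : G), (χ : G → ℂ) (s • g) = (χ : G → ℂ) g := by
  induction k using Nat.strong_induction_on with
  | _ k ih =>
  intro S _ _ G _ _ _ N _ _ hNS hk hsolv hcop θ hθ
  classical
  by_cases htriv : Subsingleton S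
  · obtain ⟨χ, hχ⟩ := Helper16.exists_irr_over N θ
    exact ⟨χ, hχ, fun s g => by rw [Subsingleton.elim s 1, one_smul]⟩
  · have : Nontrivial S := not_subsingleton_iff_nontrivial.mp htriv
    have := hsolv
    obtain ⟨p, hp, R, hRn, hRbot, hR⟩ := Helper1.exists_normal_pSubgroup S
    have : Fact p.Prime := ⟨hp⟩
    have hRcard : 1 < Nat.card R := R.one_lt_card_iff_ne_bot.mpr hRbot
    have hmul : Nat.card S = Nat.card (S ⧸ R) * Nat.card R :=
      Subgroup.card_eq_card_quotient_mul_card_subgroup R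
    have hpS : p ∣ Nat.card S := by
      obtain ⟨j, hj⟩ := hR.exists_card_eq
      have hj0 : j ≠ 0 := by
        rintro rfl
        rw [pow_zero] at hj
        omega
      rw [hmul, hj]
      exact Dvd.dvd.mul_left (dvd_pow_self p hj0) _
    have hpG : ¬ p ∣ Nat.card G := fun h => by
      have := Nat.dvd_gcd h hpS
      rw [hcop] at this
      exact hp.one_lt.ne' (Nat.dvd_one.mp this)
    have := Fintype.ofFinite (FixedPoints.subgroup R G)
    have := Fintype.ofFinite (N.subgroupOf (FixedPoints.subgroup R G))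
    have hCN : ∀ (q : S ⧸ R), ∀ x ∈ N.subgroupOf (FixedPoints.subgroup R G),
        q • x ∈ N.subgroupOf (FixedPoints.subgroup R G) := by
      intro q x hx
      obtain ⟨s, rfl⟩ := QuotientGroup.mk_surjective q
      exact hNS s (x : G) hx
    obtain ⟨φ, hφ, hφinv⟩ := exists_glauberman_below R hR hpG N hNS hCN θ hθ
    have hqpos : 0 < Nat.card (S ⧸ R) := Nat.card_pos
    obtain ⟨β, hβφ, hβinv⟩ := ih (Nat.card (S ⧸ R)) (by rw [← hk, hmul]; nlinarith) (S ⧸ R)
      (FixedPoints.subgroup R G) (N.subgroupOf (FixedPoints.subgroup R G)) hCN rfl inferInstance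
      (by
        refine Nat.Coprime.coprime_dvd_left (Subgroup.card_subgroup_dvd_card _) ?_
        exact Nat.Coprime.coprime_dvd_right ⟨_, hmul⟩ hcop) φ hφinv
    obtain ⟨χ, hχinv, hχβ⟩ := exists_invariant_glauberman_above R hR hpG β hβinv
    refine ⟨χ, ?_, hχinv⟩
    exact inner_ne_zero_of_glauberman hR hpG N (fun r n hn => hNS (r : S) n hn) χ
      (fun r g => hχinv (r : S) g) θ (fun r n => hθ (r : S) n) β hχβ φ hφ hβφ

/-- If the finite solvable group `S` acts coprimely on the finite group `G` and stabilises the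
normal subgroup `N`, then every `S`-invariant irreducible character of `N` lies under an
`S`-invariant irreducible character of `G`. -/
theorem exists_invariant_over_coprime (S : Type w) [Group S] [Finite S] (G : Type u) [Group G]
    [Fintype G] [MulDistribMulAction S G] (N : Subgroup G) [N.Normal] [Fintype N]
    (hNS : ∀ (s : S), ∀ n ∈ N, s • n ∈ N) (hsolv : Group.IsSolvable S)
    (hcop : (Nat.card G).Coprime (Nat.card S)) (θ : IrrCharacter N)
    (hθ : ∀ (s : S) (n : N), (θ : N → ℂ) ⟨s • (n : G), hNS s n n.2⟩ = (θ : N → ℂ) n) :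
    ∃ χ : IrrCharacter G, classInner (fun n : N => (χ : G → ℂ) n) (θ : N → ℂ) ≠ 0 ∧
      ∀ (s : S) (g : G), (χ : G → ℂ) (s • g) = (χ : G → ℂ) g :=
  exists_invariant_over_coprime_aux _ S G N hNS rfl hsolv hcop θ hθ


/-- Ambient form of `exists_invariant_over_coprime`. -/
theorem exists_invariant_over_coprime_ambient {Γ : Type u} [Group Γ] [Fintype Γ] (G S N : Subgroup Γ)
    [Fintype G] [Fintype N] (hnorm : ∀ s ∈ S, ∀ g ∈ G, s * g * s⁻¹ ∈ G) (hNG : N ≤ G)
    (hNnormal : ∀ g ∈ G, ∀ n ∈ N, g * n * g⁻¹ ∈ N) (hNS : ∀ s ∈ S, ∀ n ∈ N, s * n * s⁻¹ ∈ N)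
    (hcop : (Nat.card G).Coprime (Nat.card S)) (hsolv : Group.IsSolvable S)
    (θ : IrrCharacter N)
    (hinv : ∀ s ∈ S, ∀ g g' : N, (g' : Γ) = s * g * s⁻¹ → (θ : N → ℂ) g' = (θ : N → ℂ) g) :
    ∃ χ : IrrCharacter G,
      classInner (fun n : N => (χ : G → ℂ) ⟨n, hNG n.2⟩) (θ : N → ℂ) ≠ 0 ∧
      (∀ s ∈ S, ∀ g g' : G, (g' : Γ) = s * g * s⁻¹ → (χ : G → ℂ) g' = (χ : G → ℂ) g) := by
  classical
  let act : MulDistribMulAction S G := Helper81.conjMulDistribMulAction G S hnorm
  have hN' : (N.subgroupOf G).Normal := by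
    constructor
    intro n hn g
    exact hNnormal g g.2 n hn
  have := Fintype.ofFinite (N.subgroupOf G)
  have hN'S : ∀ (s : S), ∀ n ∈ N.subgroupOf G, s • n ∈ N.subgroupOf G := by
    intro s n hn
    exact hNS s s.2 n hn
  let θ' : IrrCharacter (N.subgroupOf G) :=
    ⟨Helper15.toSub N G hNG (θ : N → ℂ), Helper15.isIrrCharacter_toSub N G hNG θ.2⟩
  have hθ' : ∀ (s : S) (n : N.subgroupOf G),
      (θ' : N.subgroupOf G → ℂ) ⟨s • (n : G), hN'S s n n.2⟩ = (θ' : N.subgroupOf G → ℂ) n := by
    intro s n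
    exact hinv s s.2 ⟨((n : G) : Γ), n.2⟩ ⟨((s • (n : G) : G) : Γ), hN'S s n n.2⟩ rfl
  obtain ⟨χ, hχ, hχinv⟩ := exists_invariant_over_coprime S G (N.subgroupOf G) hN'S hsolv hcop θ' hθ'
  refine ⟨χ, ?_, ?_⟩
  · rw [Helper15.restrict_subgroupOf N G hNG] at hχ
    rw [Helper15.classInner_toSub] at hχ
    exact hχ
  · exact (Helper81.invariant_iff G S hnorm χ).mpr hχinv

end Cfsg.Agent.Helper74
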