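import Cfsg.Agent.Helper74.InvConstituent
import Cfsg.Agent.Helper74.LinTwist
import Cfsg.Agent.Helper74.FSCount
import Cfsg.Agent.Helper15.Gallagher
import Cfsg.Agent.Helper15.IndChar
import Cfsg.Agent.Helper80.OneChar
import Cfsg.Agent.Helper16.Covering3

/-!
# Invariant characters lying over an invariant character (Isaacs 13.28-type)

* `exists_twist_of_restrict_inner_ne_zero`: if `G/N` is abelian and `χ, χ' ∈ Irr(G)` have
  non-orthogonal restrictions to `N`, then `χ' = μ χ` for a linear character `μ` of `G/N`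
* `twistPermHom`: twisting by linear characters as a hom `(G →* ℂˣ) →* Perm (Irr G)`
* `exists_invariant_over_of_abelian`: going up over an abelian section (Glauberman's lemma with
  the linear characters of `G/N` acting transitively on `Irr(G | θ)`)
* `dser`: derived series of a subgroup inside the ambient group; `commutator_sup_le`
* `inner_restrict_ne_zero_trans`: transitivity of "lies over"
* `exists_invariant_over`: `G/N` solvable, `(|G:N|, |S|) = 1`, `θ ∈ Irr(N)` `S`-invariant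
  ⇒ some `S`-invariant `χ ∈ Irr(G)` lies over `θ`
-/

set_option autoImplicit false

namespace Cfsg.Agent.Helper74

open Cfsg
open scoped ComplexConjugate
open scoped commutatorElement

universe u

/-- If `G/N` is abelian and the irreducible characters `χ`, `χ'` of `G` have non-orthogonal
restrictions to `N`, then `χ' = μ χ` for a linear character `μ` of `G/N`. -/
theorem exists_twist_of_restrict_inner_ne_zero {G : Type u} [Group G] [Fintype G]
    (N : Subgroup G) [hN : N.Normal] [Fintype N] (hab : commutator G ≤ N) (χ χ' : IrrCharacter G)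
    (h : classInner (fun n : N => (χ : G → ℂ) n) (fun n : N => (χ' : G → ℂ) n) ≠ 0) :
    ∃ μ : G →* ℂˣ, (∀ n ∈ N, μ n = 1) ∧ twist μ χ = χ' := by
  classical
  let _ := irrFintype G
  have hχ'cf : IsClassFunction G (χ' : G → ℂ) := irr_isClassFunction χ'
  have hχcf : IsClassFunction G (χ : G → ℂ) := irr_isClassFunction χ
  set Ψ : G → ℂ := indFun N (fun _ : N => (1 : ℂ)) with hΨ
  have hΨc : IsCharacter G Ψ :=
    Helper15.isCharacter_indFun N (isCharacter_of_isIrr (Helper15.isIrrCharacter_one N))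
  have h1 : classInner (Ψ * (χ : G → ℂ)) (χ' : G → ℂ) ≠ 0 := by
    have h2 : Ψ * (χ : G → ℂ) = indFun N (fun n : N => (χ : G → ℂ) n) := by
      rw [hΨ, ← Helper15.indFun_mul_restrict N _ _ hχcf]
      congr 1
      funext n
      simp
    rw [h2, Helper15.frobenius_reciprocity N _ _ hχ'cf]
    exact h
  have hdec := isCharacter_eq_sum_irr hΨc
  have h3 : Ψ * (χ : G → ℂ) = ∑ β : IrrCharacter G, classInner Ψ (β : G → ℂ) •
      ((β : G → ℂ) * (χ : G → ℂ)) := by
    conv_lhs => rw [hdec]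
    rw [Finset.sum_mul]
    refine Finset.sum_congr rfl (fun β _ => ?_)
    rw [smul_mul_assoc]
  rw [h3, Helper15.classInner_finset_sum_left] at h1
  obtain ⟨β, -, hβ⟩ := Finset.exists_ne_zero_of_sum_ne_zero h1
  rw [Helper15.classInner_smul_left] at hβ
  have hc : classInner Ψ (β : G → ℂ) ≠ 0 := left_ne_zero_of_mul hβ
  have hβχ : classInner ((β : G → ℂ) * (χ : G → ℂ)) (χ' : G → ℂ) ≠ 0 := right_ne_zero_of_mul hβ
  -- `β` lies over the trivial character of `N`
  have hβ1 : classInner (fun n : N => (β : G → ℂ) n) (fun _ => (1 : ℂ)) ≠ 0 := by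
    rw [hΨ, Helper15.frobenius_reciprocity N _ _ (irr_isClassFunction β)] at hc
    rw [← Helper15.classInner_conj_symm]
    intro h0
    apply hc
    have := congrArg conj h0
    simpa using this
  have hker : ∀ n : N, (β : G → ℂ) n = (β : G → ℂ) 1 := by
    intro n
    have := Helper15.normal_mul_of_inner_one_ne_zero N β.2 hβ1 n 1
    simpa using this
  have hdeg : charDegree (β : G → ℂ) = 1 :=
    Helper80.IsIrrCharacter.charDegree_eq_one_of_commutator_le β.2
      (fun g hg => hker ⟨g, hab hg⟩)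
  have hβone : (β : G → ℂ) 1 = 1 := by
    rw [← charDegree_cast (irr_isCharacter β), hdeg]; simp
  obtain ⟨μ, hμ⟩ := Helper80.IsCharacter.exists_monoidHom (irr_isCharacter β) hβone
  refine ⟨μ, ?_, ?_⟩
  · intro n hn
    have h4 := hker ⟨n, hn⟩
    rw [hβone, hμ] at h4
    exact Units.ext h4
  · have h5 : ((β : G → ℂ) * (χ : G → ℂ)) = (twist μ χ : G → ℂ) := by
      funext g
      simp [hμ]
    rw [h5, irr_orthonormal] at hβχ
    by_contra hne
    rw [if_neg hne] at hβχ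
    exact hβχ rfl


/-- Twisting by linear characters, as a homomorphism into the permutations of `Irr(G)`. -/
noncomputable def twistPermHom (G : Type u) [Group G] [Fintype G] :
    (G →* ℂˣ) →* Equiv.Perm (IrrCharacter G) where
  toFun μ :=
    { toFun := twist μ
      invFun := twist μ⁻¹
      left_inv := fun χ => by
        have h : μ⁻¹ * μ = 1 := inv_mul_cancel μ
        rw [← twist_mul, h, twist_one]
      right_inv := fun χ => by
        have h : μ * μ⁻¹ = 1 := mul_inv_cancel μ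
        rw [← twist_mul, h, twist_one] }
  map_one' := by
    apply Equiv.ext
    intro χ
    exact twist_one χ
  map_mul' μ ν := by
    apply Equiv.ext
    intro χ
    exact twist_mul μ ν χ

theorem twistPermHom_apply {G : Type u} [Group G] [Fintype G] (μ : G →* ℂˣ)
    (χ : IrrCharacter G) : twistPermHom G μ χ = twist μ χ := rfl

/-- **Going up over an abelian section**: if `[G, G] ≤ N`, `S` normalizes `G` and `N`,
`(|G : N|, |S|) = 1` and `θ ∈ Irr(N)` is `S`-invariant, then some `S`-invariant `χ ∈ Irr(G)` lies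
over `θ`. -/
theorem exists_invariant_over_of_abelian {Γ : Type u} [Group Γ] [Fintype Γ] (G S N : Subgroup Γ)
    [Fintype G] [Fintype N]
    (hnorm : ∀ s ∈ S, ∀ g ∈ G, s * g * s⁻¹ ∈ G) (hNG : N ≤ G) (hab : ⁅G, G⁆ ≤ N)
    (hNS : ∀ s ∈ S, ∀ n ∈ N, s * n * s⁻¹ ∈ N) (hcop : (N.relIndex G).Coprime (Nat.card S))
    (θ : IrrCharacter N)
    (hinv : ∀ s ∈ S, ∀ g g' : N, (g' : Γ) = s * g * s⁻¹ → (θ : N → ℂ) g' = (θ : N → ℂ) g) :
    ∃ χ : IrrCharacter G, classInner (fun n : N => (χ : G → ℂ) ⟨n, hNG n.2⟩) (θ : N → ℂ) ≠ 0 ∧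
      (∀ s ∈ S, ∀ g g' : G, (g' : Γ) = s * g * s⁻¹ → (χ : G → ℂ) g' = (χ : G → ℂ) g) := by
  classical
  -- normality of `N` in `G`
  have hGN : ∀ g ∈ G, ∀ n ∈ N, g * n * g⁻¹ ∈ N := by
    intro g hg n hn
    have h1 : ⁅g, n⁆ ∈ N := hab (Subgroup.commutator_mem_commutator hg (hNG hn))
    have h2 : g * n * g⁻¹ = ⁅g, n⁆ * n := by rw [commutatorElement_def]; group
    rw [h2]; exact N.mul_mem h1 hn
  have hNn : (N.subgroupOf G).Normal := by
    refine ⟨fun n hn g => ?_⟩
    rw [Subgroup.mem_subgroupOf] at hn ⊢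
    exact hGN g g.2 n hn
  have habG : commutator G ≤ N.subgroupOf G := by
    rw [commutator_def, Subgroup.commutator_le]
    intro a _ b _
    rw [Subgroup.mem_subgroupOf]
    exact hab (Subgroup.commutator_mem_commutator a.2 b.2)
  let _ : Fintype (N.subgroupOf G) := Fintype.ofFinite _
  have hSMG : S ≤ Subgroup.normalizer (G : Set Γ) := by
    intro s hs
    rw [Subgroup.mem_normalizer_iff]
    intro h
    constructor
    · exact hnorm s hs h
    · intro hh
      have := hnorm s⁻¹ (S.inv_mem hs) _ hh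
      simpa [mul_assoc] using this
  have hSMN : S ≤ Subgroup.normalizer (N : Set Γ) := by
    intro s hs
    rw [Subgroup.mem_normalizer_iff]
    intro h
    constructor
    · exact hNS s hs h
    · intro hh
      have := hNS s⁻¹ (S.inv_mem hs) _ hh
      simpa [mul_assoc] using this
  let fS : S →* Equiv.Perm (IrrCharacter G) := (normPermHom G).comp (Subgroup.inclusion hSMG)
  have hfS : ∀ (s : S) (χ : IrrCharacter G) (g : G),
      (fS s χ : G → ℂ) g = (χ : G → ℂ) ⟨(s : Γ)⁻¹ * g * s, by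
        have := hnorm (s : Γ)⁻¹ (S.inv_mem s.2) g g.2; simpa using this⟩ := fun s χ g => rfl
  have hfSinv : ∀ (s : S) (χ : IrrCharacter G) (g : G),
      ((fS s)⁻¹ χ : G → ℂ) g = (χ : G → ℂ) ⟨(s : Γ) * g * (s : Γ)⁻¹, hnorm s s.2 g g.2⟩ :=
    fun s χ g => rfl
  -- linear characters trivial on `N`
  let Λ : Subgroup (G →* ℂˣ) :=
    { carrier := {μ | ∀ x : G, (x : Γ) ∈ N → μ x = 1}
      one_mem' := fun x _ => rfl
      mul_mem' := by
        intro a b ha hb x hx
        rw [MonoidHom.mul_apply, ha x hx, hb x hx, one_mul]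
      inv_mem' := by
        intro a ha x hx
        rw [MonoidHom.inv_apply, ha x hx, inv_one] }
  have hΛ : ∀ μ : G →* ℂˣ, μ ∈ Λ ↔ ∀ x : G, (x : Γ) ∈ N → μ x = 1 := fun μ => Iff.rfl
  let fΛ : Λ →* Equiv.Perm (IrrCharacter G) := (twistPermHom G).comp Λ.subtype
  have hfΛ : ∀ (μ : Λ) (χ : IrrCharacter G), fΛ μ χ = twist (μ : G →* ℂˣ) χ := fun μ χ => rfl
  have hfin : Finite (IrrCharacter G) := irr_finite
  set resN : IrrCharacter G → N → ℂ := fun χ n => (χ : G → ℂ) ⟨n, hNG n.2⟩ with hresN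
  have hθ' : IsIrrCharacter (N.subgroupOf G) (Helper15.toSub N G hNG (θ : N → ℂ)) :=
    Helper15.isIrrCharacter_toSub N G hNG θ.2
  have hres : ∀ χ : IrrCharacter G, (fun x : N.subgroupOf G => (χ : G → ℂ) x)
      = Helper15.toSub N G hNG (resN χ) := fun χ => Helper15.restrict_subgroupOf N G hNG _
  have hinner : ∀ χ : IrrCharacter G, classInner (fun x : N.subgroupOf G => (χ : G → ℂ) x)
      (Helper15.toSub N G hNG (θ : N → ℂ)) = classInner (resN χ) (θ : N → ℂ) := by
    intro χ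
    rw [hres, Helper15.classInner_toSub]
  set T : Set (IrrCharacter G) := {χ | classInner (resN χ) (θ : N → ℂ) ≠ 0} with hT
  have hTne : T.Nonempty := by
    obtain ⟨χ, hχ⟩ := Helper16.exists_irr_over (N.subgroupOf G) ⟨_, hθ'⟩
    refine ⟨χ, ?_⟩
    show classInner (resN χ) (θ : N → ℂ) ≠ 0
    rw [← hinner]; exact hχ
  have hTK : ∀ k ∈ fΛ.range, ∀ ω ∈ T, k • ω ∈ T := by
    rintro _ ⟨μ, rfl⟩ ω hω
    show classInner (resN (fΛ μ ω)) (θ : N → ℂ) ≠ 0
    have : resN (fΛ μ ω) = resN ω := by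
      funext n
      simp only [hresN, hfΛ, twist_apply]
      rw [μ.2 ⟨n, hNG n.2⟩ n.2]
      simp
    rw [this]; exact hω
  have hTA : ∀ a ∈ fS.range, ∀ ω ∈ T, a • ω ∈ T := by
    rintro _ ⟨s, rfl⟩ ω hω
    show classInner (resN (fS s ω)) (θ : N → ℂ) ≠ 0
    set c : N ≃* N := (normConjEquiv N (Subgroup.inclusion hSMN s)).symm with hc
    have h1 : resN (fS s ω) = fun n => resN ω (c n) := by
      funext n
      simp only [hresN, hfS]
      rfl
    have h2 : (θ : N → ℂ) = fun n => (θ : N → ℂ) (c n) := by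
      funext n
      symm
      refine hinv (s : Γ)⁻¹ (S.inv_mem s.2) n _ ?_
      simp [hc]
    rw [h1, h2, Helper15.classInner_comp_mulEquiv c (resN ω) (θ : N → ℂ)]
    exact hω
  have htrans : ∀ ω ∈ T, ∀ ω' ∈ T, ∃ k ∈ fΛ.range, k • ω = ω' := by
    intro ω hω ω' hω'
    have h1 : classInner (fun x : N.subgroupOf G => (ω : G → ℂ) x)
        (fun x : N.subgroupOf G => (ω' : G → ℂ) x) ≠ 0 := by
      refine Helper15.inner_ne_zero_of_common_constituent
        (isCharacter_restrict (N.subgroupOf G) (irr_isCharacter ω))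
        (isCharacter_restrict (N.subgroupOf G) (irr_isCharacter ω')) ⟨_, hθ'⟩ ?_ ?_
      · rw [hinner]; exact hω
      · rw [hinner]; exact hω'
    obtain ⟨μ, hμN, hμ⟩ := exists_twist_of_restrict_inner_ne_zero (N.subgroupOf G) habG ω ω' h1
    have hμΛ : μ ∈ Λ := fun x hx => hμN x (Subgroup.mem_subgroupOf.mpr hx)
    exact ⟨fΛ ⟨μ, hμΛ⟩, ⟨⟨μ, hμΛ⟩, rfl⟩, hμ⟩
  -- `fS.range` normalizes `fΛ.range`
  have hAK : fS.range ≤ Subgroup.normalizer (fΛ.range : Set (Equiv.Perm (IrrCharacter G))) := by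
    have key : ∀ (t : S) (μ : Λ), fS t * fΛ μ * (fS t)⁻¹ ∈ fΛ.range := by
      intro t μ
      set c : G ≃* G := (normConjEquiv G (Subgroup.inclusion hSMG t)).symm with hc
      have hν : (μ : G →* ℂˣ).comp c.toMonoidHom ∈ Λ := by
        intro x hx
        apply μ.2
        have := hNS (t : Γ)⁻¹ (S.inv_mem t.2) x hx
        simpa [hc] using this
      refine ⟨⟨_, hν⟩, ?_⟩
      apply Equiv.ext
      intro χ
      apply Subtype.ext
      funext g
      rw [hfΛ, twist_apply, Equiv.Perm.mul_apply, Equiv.Perm.mul_apply, hfS, hfΛ, twist_apply,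
        hfSinv]
      congr 1
      refine congrArg (χ : G → ℂ) (Subtype.ext ?_)
      simp [mul_assoc]
    rintro _ ⟨s, rfl⟩
    rw [Subgroup.mem_normalizer_iff]
    intro k
    constructor
    · rintro ⟨μ, rfl⟩
      exact key s μ
    · intro hk
      obtain ⟨μ, hμ⟩ := hk
      have h1 := key s⁻¹ μ
      rw [hμ, map_inv] at h1
      have h2 : (fS s)⁻¹ * (fS s * k * (fS s)⁻¹) * (fS s)⁻¹⁻¹ = k := by group
      rw [h2] at h1
      exact h1
  -- coprimality
  have hpow : ∀ μ : Λ, μ ^ (N.relIndex G) = 1 := by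
    intro μ
    apply Subtype.ext
    ext g
    have h1 : g ^ (N.subgroupOf G).index ∈ N.subgroupOf G := Subgroup.pow_index_mem _ g
    have h2 := μ.2 (g ^ (N.subgroupOf G).index) (Subgroup.mem_subgroupOf.mp h1)
    rw [map_pow] at h2
    simp only [Subgroup.coe_pow, MonoidHom.pow_apply, Subgroup.coe_one, MonoidHom.one_apply]
    rw [Subgroup.relIndex]
    rw [h2]
  have hcop' : (Nat.card fS.range).Coprime (Nat.card fΛ.range) := by
    rw [Nat.coprime_iff_gcd_eq_one]
    by_contra hne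
    obtain ⟨q, hq, hqd⟩ := Nat.exists_prime_and_dvd hne
    have hqA : q ∣ Nat.card fS.range := hqd.trans (Nat.gcd_dvd_left _ _)
    have hqK : q ∣ Nat.card fΛ.range := hqd.trans (Nat.gcd_dvd_right _ _)
    have : Fact q.Prime := ⟨hq⟩
    obtain ⟨x, hx⟩ := exists_prime_orderOf_dvd_card' q hqK
    obtain ⟨_, μ, rfl⟩ := x
    have h1 : (⟨fΛ μ, ⟨μ, rfl⟩⟩ : fΛ.range) ^ (N.relIndex G) = 1 := by
      apply Subtype.ext
      rw [Subgroup.coe_pow, Subgroup.coe_one, ← map_pow, hpow, map_one]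
    have h2 : q ∣ N.relIndex G := hx ▸ orderOf_dvd_of_pow_eq_one h1
    have h3 : q ∣ Nat.card S := hqA.trans (Subgroup.card_range_dvd fS)
    have h4 := Nat.eq_one_of_dvd_coprimes hcop h2 h3
    exact hq.one_lt.ne' h4
  have hsolv' : Group.IsSolvable fS.range ∨ Group.IsSolvable fΛ.range := by
    right
    apply Group.isSolvable_of_comm
    rintro ⟨_, μ, rfl⟩ ⟨_, ν, rfl⟩
    apply Subtype.ext
    show fΛ μ * fΛ ν = fΛ ν * fΛ μ
    rw [← map_mul, ← map_mul, mul_comm]
  obtain ⟨⟨ω, hωT, hfix⟩, -⟩ := Helper1.glauberman_ambient (Ω := IrrCharacter G) fS.range fΛ.range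
    hAK hcop' hsolv' T hTne hTK hTA htrans
  refine ⟨ω, hωT, ?_⟩
  intro s hs g g' hgg'
  have h1 : fS ⟨s, hs⟩ ω = ω := hfix (fS ⟨s, hs⟩) ⟨⟨s, hs⟩, rfl⟩
  have h2 : (fS ⟨s, hs⟩ ω : G → ℂ) g' = (ω : G → ℂ) g' := by rw [h1]
  rw [hfS] at h2
  rw [← h2]
  refine congrArg (ω : G → ℂ) (Subtype.ext ?_)
  simp [hgg', mul_assoc]


section chain

variable {Γ : Type u} [Group Γ]

/-- The derived series of a subgroup, computed inside the ambient group. -/
def dser (G : Subgroup Γ) : ℕ → Subgroup Γ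
  | 0 => G
  | k + 1 => ⁅dser G k, dser G k⁆

theorem dser_zero (G : Subgroup Γ) : dser G 0 = G := rfl

theorem dser_succ (G : Subgroup Γ) (k : ℕ) : dser G (k + 1) = ⁅dser G k, dser G k⁆ := rfl

theorem dser_le (G : Subgroup Γ) (k : ℕ) : dser G k ≤ G := by
  induction k with
  | zero => exact le_rfl
  | succ k ih =>
    rw [dser_succ, Subgroup.commutator_le]
    intro a ha b hb
    rw [commutatorElement_def]
    exact G.mul_mem (G.mul_mem (G.mul_mem (ih ha) (ih hb)) (G.inv_mem (ih ha))) (G.inv_mem (ih hb))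

theorem dser_conj_mem (G : Subgroup Γ) (x : Γ) (hx : ∀ g ∈ G, x * g * x⁻¹ ∈ G) (k : ℕ) :
    ∀ d ∈ dser G k, x * d * x⁻¹ ∈ dser G k := by
  induction k with
  | zero => exact hx
  | succ k ih =>
    intro d hd
    have h1 : ⁅dser G k, dser G k⁆ ≤
        (⁅dser G k, dser G k⁆).comap (MulAut.conj x).toMonoidHom := by
      rw [Subgroup.commutator_le]
      intro a ha b hb
      rw [Subgroup.mem_comap, map_commutatorElement]
      refine Subgroup.commutator_mem_commutator ?_ ?_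
      · simpa using ih a ha
      · simpa using ih b hb
    have h2 : d ∈ (⁅dser G k, dser G k⁆).comap (MulAut.conj x).toMonoidHom := h1 hd
    rw [Subgroup.mem_comap] at h2
    show x * d * x⁻¹ ∈ ⁅dser G k, dser G k⁆
    simpa using h2

theorem dser_eq_map_derivedSeries (G : Subgroup Γ) (k : ℕ) :
    dser G k = (derivedSeries G k).map G.subtype := by
  induction k with
  | zero =>
    rw [dser_zero, derivedSeries_zero, ← MonoidHom.range_eq_map, Subgroup.range_subtype]
  | succ k ih => rw [dser_succ, ih, derivedSeries_succ, Subgroup.map_commutator]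

theorem exists_dser_le_of_isSolvable (G N : Subgroup Γ) [hNn : (N.subgroupOf G).Normal]
    (h : Group.IsSolvable (G ⧸ N.subgroupOf G)) : ∃ k, dser G k ≤ N := by
  obtain ⟨k, hk⟩ := h.solvable
  refine ⟨k, ?_⟩
  rw [dser_eq_map_derivedSeries]
  have h2 := map_derivedSeries_le_derivedSeries (QuotientGroup.mk' (N.subgroupOf G)) k
  rw [hk, le_bot_iff] at h2
  have h3 : derivedSeries G k ≤ N.subgroupOf G := by
    intro x hx
    have h4 : QuotientGroup.mk' (N.subgroupOf G) x ∈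
        (derivedSeries G k).map (QuotientGroup.mk' (N.subgroupOf G)) :=
      Subgroup.mem_map_of_mem _ hx
    rw [h2, Subgroup.mem_bot] at h4
    exact (QuotientGroup.eq_one_iff x).mp h4
  rintro _ ⟨x, hx, rfl⟩
  exact Subgroup.mem_subgroupOf.mp (h3 hx)

theorem commutator_sup_le (N D : Subgroup Γ) (hD : D ≤ Subgroup.normalizer (N : Set Γ)) :
    ⁅N ⊔ D, N ⊔ D⁆ ≤ N ⊔ ⁅D, D⁆ := by
  rw [Subgroup.commutator_le]
  intro x hx y hy
  have hx' : x ∈ ((N ⊔ D : Subgroup Γ) : Set Γ) := hx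
  have hy' : y ∈ ((N ⊔ D : Subgroup Γ) : Set Γ) := hy
  rw [Subgroup.coe_mul_of_right_le_normalizer_left N D hD] at hx' hy'
  obtain ⟨n, hn, d, hd, rfl⟩ := hx'
  obtain ⟨n', hn', d', hd', rfl⟩ := hy'
  have key : ⁅n * d, n' * d'⁆ = n * (d * n' * d⁻¹) * ⁅d, d'⁆ * (d' * n⁻¹ * d'⁻¹) * n'⁻¹ := by
    rw [commutatorElement_def, commutatorElement_def]; group
  rw [key]
  have h1 : d * n' * d⁻¹ ∈ N := (Subgroup.mem_normalizer_iff.mp (hD hd) n').mp hn'
  have h2 : d' * n⁻¹ * d'⁻¹ ∈ N :=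
    (Subgroup.mem_normalizer_iff.mp (hD hd') n⁻¹).mp (N.inv_mem hn)
  have hN : N ≤ N ⊔ ⁅D, D⁆ := le_sup_left
  have hDD : ⁅D, D⁆ ≤ N ⊔ ⁅D, D⁆ := le_sup_right
  exact Subgroup.mul_mem _ (Subgroup.mul_mem _ (Subgroup.mul_mem _ (Subgroup.mul_mem _ (hN hn)
    (hN h1)) (hDD (Subgroup.commutator_mem_commutator hd hd'))) (hN h2)) (hN (N.inv_mem hn'))

end chain

/-- Transitivity of "lies over" along `N ≤ M ≤ G`. -/
theorem inner_restrict_ne_zero_trans {Γ : Type u} [Group Γ] (N M G : Subgroup Γ) [Fintype N]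
    [Fintype M] [Fintype G] (hNM : N ≤ M) (hMG : M ≤ G) (χ : IrrCharacter G)
    (ψ : IrrCharacter M) (θ : IrrCharacter N)
    (h1 : classInner (fun m : M => (χ : G → ℂ) ⟨m, hMG m.2⟩) (ψ : M → ℂ) ≠ 0)
    (h2 : classInner (fun n : N => (ψ : M → ℂ) ⟨n, hNM n.2⟩) (θ : N → ℂ) ≠ 0) :
    classInner (fun n : N => (χ : G → ℂ) ⟨n, (hNM.trans hMG) n.2⟩) (θ : N → ℂ) ≠ 0 := by
  classical
  let _ := irrFintype M
  set χM : M → ℂ := fun m : M => (χ : G → ℂ) ⟨m, hMG m.2⟩ with hχM
  have hχMc : IsCharacter M χM := isCharacter_comp (Subgroup.inclusion hMG) (irr_isCharacter χ)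
  have hdec := isCharacter_eq_sum_irr hχMc
  choose a ha using fun ξ : IrrCharacter M => isCharacter_inner_irr_nat hχMc ξ
  choose f hf using fun ξ : IrrCharacter M =>
    isCharacter_inner_irr_nat (Helper15.isCharacter_resTo N M hNM (irr_isCharacter ξ)) θ
  have h3 : (fun n : N => (χ : G → ℂ) ⟨n, (hNM.trans hMG) n.2⟩) = Helper15.resTo N M hNM χM := rfl
  rw [h3, hdec, Helper15.resTo_finset_sum, Helper15.classInner_finset_sum_left]
  have h4 : ∀ ξ : IrrCharacter M,
      classInner (Helper15.resTo N M hNM (classInner χM (ξ : M → ℂ) • (ξ : M → ℂ))) (θ : N → ℂ)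
        = ((a ξ * f ξ : ℕ) : ℂ) := by
    intro ξ
    rw [Helper15.resTo_smul, Helper15.classInner_smul_left, ha ξ, hf ξ]
    push_cast; rfl
  rw [Finset.sum_congr rfl (fun ξ _ => h4 ξ), ← Nat.cast_sum]
  have ha0 : a ψ ≠ 0 := by
    intro h0; apply h1; rw [ha ψ, h0]; simp
  have hf0 : f ψ ≠ 0 := by
    intro h0; apply h2
    have h5 := hf ψ
    rw [h0, Nat.cast_zero] at h5
    exact h5
  have hpos : 0 < ∑ ξ : IrrCharacter M, a ξ * f ξ :=
    lt_of_lt_of_le (Nat.mul_pos (Nat.pos_of_ne_zero ha0) (Nat.pos_of_ne_zero hf0))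
      (Finset.single_le_sum (f := fun ξ => a ξ * f ξ) (fun _ _ => Nat.zero_le _)
        (Finset.mem_univ ψ))
  exact_mod_cast hpos.ne'

/-- Going up along a chain with abelian factors. -/
theorem exists_invariant_over_of_dser {Γ : Type u} [Group Γ] [Fintype Γ] (S : Subgroup Γ)
    (k : ℕ) : ∀ (G N : Subgroup Γ) [Fintype G] [Fintype N]
      (_hnorm : ∀ s ∈ S, ∀ g ∈ G, s * g * s⁻¹ ∈ G) (hNG : N ≤ G)
      (_hGN : ∀ g ∈ G, ∀ n ∈ N, g * n * g⁻¹ ∈ N)
      (_hNS : ∀ s ∈ S, ∀ n ∈ N, s * n * s⁻¹ ∈ N) (_hcop : (N.relIndex G).Coprime (Nat.card S))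
      (_hk : dser G k ≤ N) (θ : IrrCharacter N)
      (_hinv : ∀ s ∈ S, ∀ g g' : N, (g' : Γ) = s * g * s⁻¹ → (θ : N → ℂ) g' = (θ : N → ℂ) g),
      ∃ χ : IrrCharacter G,
        classInner (fun n : N => (χ : G → ℂ) ⟨n, hNG n.2⟩) (θ : N → ℂ) ≠ 0 ∧
        (∀ s ∈ S, ∀ g g' : G, (g' : Γ) = s * g * s⁻¹ → (χ : G → ℂ) g' = (χ : G → ℂ) g) := by
  induction k with
  | zero =>
    intro G N instG instN hnorm hNG hGN hNS hcop hk θ hinv
    have hEq : N = G := le_antisymm hNG hk
    subst hEq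
    obtain rfl : instG = instN := Subsingleton.elim _ _
    refine ⟨θ, ?_, hinv⟩
    have : (fun n : N => (θ : N → ℂ) ⟨n, hNG n.2⟩) = (θ : N → ℂ) := rfl
    rw [this, irr_inner_self]
    exact one_ne_zero
  | succ k ih =>
    intro G N _ _ hnorm hNG hGN hNS hcop hk θ hinv
    classical
    have hDG : dser G k ≤ G := dser_le G k
    have hMG : N ⊔ dser G k ≤ G := sup_le hNG hDG
    have hNM : N ≤ N ⊔ dser G k := le_sup_left
    let _ : Fintype (N ⊔ dser G k : Subgroup Γ) := Fintype.ofFinite _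
    have hGnormN : G ≤ Subgroup.normalizer (N : Set Γ) := by
      intro g hg
      rw [Subgroup.mem_normalizer_iff]
      intro h
      constructor
      · exact hGN g hg h
      · intro hh
        have := hGN g⁻¹ (G.inv_mem hg) _ hh
        simpa [mul_assoc] using this
    have hDnorm : dser G k ≤ Subgroup.normalizer (N : Set Γ) := hDG.trans hGnormN
    have habM : ⁅N ⊔ dser G k, N ⊔ dser G k⁆ ≤ N :=
      (commutator_sup_le N (dser G k) hDnorm).trans (sup_le le_rfl hk)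
    have hconjM : ∀ x : Γ, (∀ n ∈ N, x * n * x⁻¹ ∈ N) → (∀ g ∈ G, x * g * x⁻¹ ∈ G) →
        ∀ m ∈ N ⊔ dser G k, x * m * x⁻¹ ∈ N ⊔ dser G k := by
      intro x hxN hxG m hm
      have h1 : N ⊔ dser G k ≤ (N ⊔ dser G k).comap (MulAut.conj x).toMonoidHom := by
        refine sup_le ?_ ?_
        · intro n hn
          rw [Subgroup.mem_comap]
          exact hNM (by simpa using hxN n hn)
        · intro d hd
          rw [Subgroup.mem_comap]
          have := dser_conj_mem G x hxG k d hd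
          exact (le_sup_right : dser G k ≤ N ⊔ dser G k) (by simpa using this)
      have h2 := h1 hm
      simpa using h2
    have hMS : ∀ s ∈ S, ∀ m ∈ N ⊔ dser G k, s * m * s⁻¹ ∈ N ⊔ dser G k :=
      fun s hs => hconjM s (hNS s hs) (hnorm s hs)
    have hGM : ∀ g ∈ G, ∀ m ∈ N ⊔ dser G k, g * m * g⁻¹ ∈ N ⊔ dser G k :=
      fun g hg => hconjM g (hGN g hg)
        (fun h hh => G.mul_mem (G.mul_mem hg hh) (G.inv_mem hg))
    have hmul := Subgroup.relIndex_mul_relIndex _ _ _ hNM hMG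
    have hcop1 : (N.relIndex (N ⊔ dser G k)).Coprime (Nat.card S) :=
      Nat.Coprime.coprime_dvd_left (Dvd.intro _ hmul) hcop
    have hcop2 : ((N ⊔ dser G k).relIndex G).Coprime (Nat.card S) :=
      Nat.Coprime.coprime_dvd_left (Dvd.intro_left _ hmul) hcop
    obtain ⟨ψ, hψθ, hψinv⟩ := exists_invariant_over_of_abelian (N ⊔ dser G k) S N hMS hNM habM hNS
      hcop1 θ hinv
    obtain ⟨χ, hχψ, hχinv⟩ := ih G (N ⊔ dser G k) hnorm hMG hGM hMS hcop2 le_sup_right ψ hψinv
    exact ⟨χ, inner_restrict_ne_zero_trans N (N ⊔ dser G k) G hNM hMG χ ψ θ hχψ hψθ, hχinv⟩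

/-- **Isaacs 13.28-type theorem**: if `G/N` is solvable, `(|G : N|, |S|) = 1` and `θ ∈ Irr(N)` is
`S`-invariant, then `θ^G` has an `S`-invariant irreducible constituent. -/
theorem exists_invariant_over {Γ : Type u} [Group Γ] [Fintype Γ] (G S N : Subgroup Γ)
    [Fintype G] [Fintype N]
    (hnorm : ∀ s ∈ S, ∀ g ∈ G, s * g * s⁻¹ ∈ G) (hNG : N ≤ G) [hNn : (N.subgroupOf G).Normal]
    (hNS : ∀ s ∈ S, ∀ n ∈ N, s * n * s⁻¹ ∈ N) (hcop : (N.relIndex G).Coprime (Nat.card S))
    (hsolv : Group.IsSolvable (G ⧸ N.subgroupOf G)) (θ : IrrCharacter N)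
    (hinv : ∀ s ∈ S, ∀ g g' : N, (g' : Γ) = s * g * s⁻¹ → (θ : N → ℂ) g' = (θ : N → ℂ) g) :
    ∃ χ : IrrCharacter G,
      classInner (fun n : N => (χ : G → ℂ) ⟨n, hNG n.2⟩) (θ : N → ℂ) ≠ 0 ∧
      (∀ s ∈ S, ∀ g g' : G, (g' : Γ) = s * g * s⁻¹ → (χ : G → ℂ) g' = (χ : G → ℂ) g) := by
  have hGN : ∀ g ∈ G, ∀ n ∈ N, g * n * g⁻¹ ∈ N := by
    intro g hg n hn
    have := hNn.conj_mem ⟨n, hNG hn⟩ (Subgroup.mem_subgroupOf.mpr hn) ⟨g, hg⟩
    exact Subgroup.mem_subgroupOf.mp this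
  obtain ⟨k, hk⟩ := exists_dser_le_of_isSolvable G N hsolv
  exact exists_invariant_over_of_dser S k G N hnorm hNG hGN hNS hcop hk θ hinv

end Cfsg.Agent.Helper74
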