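/-
The linear case of Isaacs 13.31-type theorems: for M ≤ G normal in Gamma with coprime indices and a
Gamma-invariant linear character nu of M, some Gamma-invariant irreducible character of G lies over nu.
Ingredients: splitting nu into parts of coprime orders, the canonical extension (S0865), passing to
the quotient by the kernel, Schur-Zassenhaus, and the coprime-action theorems.
-/
import Cfsg.Agent.Helper74.GlaubNormal
import Cfsg.Agent.Helper74.InvOver
import Cfsg.Agent.Helper74.LinTwist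
import Cfsg.Agent.S0865

set_option autoImplicit false

namespace Cfsg.Agent.Helper74

open Cfsg
open scoped ComplexConjugate

universe u

/-- Splitting a number according to two coprime numbers. -/
theorem exists_coprime_split (r t : ℕ) (hrt : Nat.Coprime r t) :
    ∀ n : ℕ, 0 < n → ∃ a b : ℕ, n = a * b ∧ Nat.Coprime a b ∧ Nat.Coprime a r ∧ Nat.Coprime b t := by
  intro n
  induction n using Nat.strong_induction_on with
  | _ n ih =>
  intro hn
  by_cases hc : Nat.Coprime n r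
  · exact ⟨n, 1, (mul_one n).symm, Nat.coprime_one_right n, hc, Nat.coprime_one_left t⟩
  · set g := Nat.gcd n r with hg
    have hg1 : g ≠ 1 := hc
    have hgpos : 0 < g := Nat.gcd_pos_of_pos_left r hn
    have hgn : g ∣ n := Nat.gcd_dvd_left n r
    have hgr : g ∣ r := Nat.gcd_dvd_right n r
    obtain ⟨n', hn'⟩ := hgn
    have hn'pos : 0 < n' := by
      rcases Nat.eq_zero_or_pos n' with h | h
      · rw [h, mul_zero] at hn'; omega
      · exact h
    have hlt : n' < n := by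
      rw [hn']
      have : 1 < g := by omega
      nlinarith
    obtain ⟨a, b, hab, hcab, har, hbt⟩ := ih n' hlt hn'pos
    refine ⟨a, g * b, ?_, ?_, har, ?_⟩
    · rw [hn', hab]; ring
    · exact Nat.Coprime.mul_right (Nat.Coprime.coprime_dvd_right hgr har) hcab
    · exact Nat.Coprime.mul_left (Nat.Coprime.coprime_dvd_left hgr hrt) hbt

/-- Splitting a linear character. -/
theorem exists_linear_split {M : Type u} [Group M] [Finite M] (ν : M →* ℂˣ) (r t : ℕ)
    (hrt : Nat.Coprime r t) :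
    ∃ (a b : ℕ) (k₁ k₂ : ℕ), Nat.Coprime a r ∧ Nat.Coprime b t ∧ (∀ m, (ν m ^ k₁) ^ a = 1) ∧
      (∀ m, (ν m ^ k₂) ^ b = 1) ∧ ∀ m, ν m ^ k₁ * ν m ^ k₂ = ν m := by
  have hn : 0 < Nat.card M := Nat.card_pos
  obtain ⟨a, b, hab, hcab, har, hbt⟩ := exists_coprime_split r t hrt (Nat.card M) hn
  have hνn : ∀ m, ν m ^ (Nat.card M) = 1 := by
    intro m
    rw [← map_pow, pow_card_eq_one', map_one]
  -- k₁ ≡ 0 mod b, k₁ ≡ 1 mod a ; k₂ ≡ 0 mod a, k₂ ≡ 1 mod b
  obtain ⟨k₁, hk₁a, hk₁b⟩ := Nat.chineseRemainder hcab 1 0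
  obtain ⟨k₂, hk₂a, hk₂b⟩ := Nat.chineseRemainder hcab 0 1
  refine ⟨a, b, k₁, k₂, har, hbt, ?_, ?_, ?_⟩
  · intro m
    have hb : b ∣ k₁ := (Nat.modEq_zero_iff_dvd).mp hk₁b
    obtain ⟨c, hc⟩ := hb
    rw [← pow_mul, hc, mul_comm b c, mul_assoc, mul_comm b a, ← hab, mul_comm, pow_mul, hνn, one_pow]
  · intro m
    have ha : a ∣ k₂ := (Nat.modEq_zero_iff_dvd).mp hk₂a
    obtain ⟨c, hc⟩ := ha
    rw [← pow_mul, hc, mul_comm a c, mul_assoc, ← hab, mul_comm, pow_mul, hνn, one_pow]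
  · intro m
    rw [← pow_add]
    have h1 : k₁ + k₂ ≡ 1 [MOD a] := by
      have := Nat.ModEq.add hk₁a hk₂a
      simpa using this
    have h2 : k₁ + k₂ ≡ 1 [MOD b] := by
      have := Nat.ModEq.add hk₁b hk₂b
      simpa using this
    have h3 : k₁ + k₂ ≡ 1 [MOD a * b] := (Nat.modEq_and_modEq_iff_modEq_mul hcab).mp ⟨h1, h2⟩
    rw [← hab] at h3
    -- ν m ^ (k₁ + k₂) = ν m ^ 1
    have h4 : ν m ^ (k₁ + k₂) = ν m ^ 1 := by
      rw [pow_eq_pow_iff_modEq]
      exact h3.of_dvd (orderOf_dvd_of_pow_eq_one (hνn m))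
    rw [h4, pow_one]

/-- Composition with a bijection preserves the order of a function. -/
theorem orderOf_comp_equiv {A : Type u} (e : A ≃ A) (f : A → ℂ) :
    orderOf (fun a => f (e a)) = orderOf f := by
  let F : (A → ℂ) →* (A → ℂ) :=
    { toFun := fun h => fun a => h (e a)
      map_one' := rfl
      map_mul' := fun _ _ => rfl }
  have hF : Function.Injective F := by
    intro h₁ h₂ h
    funext a
    have := congrFun h (e.symm a)
    simpa [F] using this
  exact orderOf_injective F hF f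

/-- The canonical extension of an invariant linear character of order prime to the index is
invariant. -/
theorem exists_invariant_linear_extension {Γ : Type u} [Group Γ] [Finite Γ] (G M : Subgroup Γ)
    [hG : G.Normal] [hM : M.Normal] (hMG : M ≤ G) (ν₁ : M →* ℂˣ)
    (hinv : ∀ (x : Γ) (m : M), ν₁ ⟨x * m * x⁻¹, hM.conj_mem m m.2 x⟩ = ν₁ m)
    (a : ℕ) (ha : ∀ m, ν₁ m ^ a = 1) (hcop : Nat.Coprime a (M.relIndex G)) :
    ∃ μ : G →* ℂˣ, (∀ m : M, μ ⟨m, hMG m.2⟩ = ν₁ m) ∧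
      ∀ (x : Γ) (g : G), μ ⟨x * g * x⁻¹, hG.conj_mem g g.2 x⟩ = μ g := by
  classical
  let φ : M.subgroupOf G →* ℂˣ := ν₁.comp (Subgroup.subgroupOfEquivOfLe hMG).toMonoidHom
  have hφ : ∀ m' : M.subgroupOf G, φ m' = ν₁ ⟨((m' : G) : Γ), m'.2⟩ := fun m' => rfl
  set lam : M.subgroupOf G → ℂ := fun m' => ((φ m' : ℂˣ) : ℂ) with hlam_def
  have hlam : IsCharacter (M.subgroupOf G) lam ∧ lam 1 = 1 := by
    refine ⟨isCharacter_of_isIrr (Helper80.isIrrCharacter_of_monoidHom φ), ?_⟩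
    simp [hlam_def]
  have hN' : (M.subgroupOf G).Normal := inferInstance
  have hinv' : ∀ (g : G) (n : M.subgroupOf G),
      lam ⟨g * n * g⁻¹, hN'.conj_mem (n : G) n.2 g⟩ = lam n := by
    intro g n
    simp only [hlam_def, hφ]
    congr 1
    exact hinv (g : Γ) ⟨((n : G) : Γ), n.2⟩
  have hord : orderOf lam ∣ a := by
    apply orderOf_dvd_of_pow_eq_one
    funext m'
    simp only [Pi.pow_apply, Pi.one_apply, hlam_def, hφ]
    rw [← Units.val_pow_eq_pow_val, ha, Units.val_one]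
  have hcop' : Nat.Coprime (M.subgroupOf G).index (orderOf lam) :=
    (Nat.Coprime.coprime_dvd_left hord hcop).symm
  obtain ⟨μ₀, ⟨hμ₀, hμ₀1, hμ₀N, hμ₀ord⟩, huniq⟩ :=
    Cfsg.Agent.S0865.result (M.subgroupOf G) lam hlam hinv' hcop'
  obtain ⟨μ, hμ⟩ := Helper80.IsCharacter.exists_monoidHom hμ₀ hμ₀1
  refine ⟨μ, ?_, ?_⟩
  · intro m
    have h1 := hμ₀N ⟨⟨m, hMG m.2⟩, m.2⟩
    rw [hμ] at h1
    apply Units.ext
    rw [h1]
    rfl
  · intro x g
    set e : G ≃* G := MulAut.conjNormal x with he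
    have hcomp : (fun g : G => μ₀ (e g)) = μ₀ := by
      apply huniq
      · refine ⟨Helper80.IsCharacter.comp_hom hμ₀ e.toMonoidHom, ?_⟩
        show μ₀ (e 1) = 1
        rw [map_one, hμ₀1]
      · intro n
        have hmem : (e (n : G) : G) ∈ M.subgroupOf G := by
          rw [Subgroup.mem_subgroupOf]
          have : ((e (n : G) : G) : Γ) = x * ((n : G) : Γ) * x⁻¹ := MulAut.conjNormal_apply x (n : G)
          rw [this]
          exact hM.conj_mem _ n.2 x
        have h1 := hμ₀N ⟨e (n : G), hmem⟩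
        show μ₀ (e (n : G)) = lam n
        rw [h1]
        simp only [hlam_def, hφ]
        congr 1
        have h2 := hinv x ⟨((n : G) : Γ), n.2⟩
        rw [← h2]
        congr 1
      · have h5 := orderOf_comp_equiv e.toEquiv μ₀
        have h6 : (fun a : G => μ₀ (e.toEquiv a)) = fun g : G => μ₀ (e g) := rfl
        rw [h6] at h5
        rw [h5, hμ₀ord]
        exact hcop'
    have h3 := congrFun hcomp g
    simp only [hμ] at h3
    apply Units.ext
    rw [← h3]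
    congr 2

/-- An invariant linear character lying under an irreducible character: the restriction is a
multiple of it. -/
theorem linear_restrict_of_invariant {Γ : Type u} [Group Γ] (G M : Subgroup Γ) [Fintype G]
    [Fintype M] (hMG : M ≤ G) (hnormal : ∀ g ∈ G, ∀ m ∈ M, g * m * g⁻¹ ∈ M)
    (β : IrrCharacter G) (ν : M → ℂ) (hν : IsIrrCharacter M ν) (hν1 : ν 1 = 1)
    (hinv : ∀ g ∈ G, ∀ m m' : M, (m' : Γ) = g * m * g⁻¹ → ν m' = ν m)
    (hcon : classInner (fun m : M => (β : G → ℂ) ⟨m, hMG m.2⟩) ν ≠ 0) :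
    ∀ m : M, (β : G → ℂ) ⟨m, hMG m.2⟩ = (β : G → ℂ) 1 * ν m := by
  classical
  have hN' : (M.subgroupOf G).Normal := by
    constructor
    intro n hn g
    exact hnormal g g.2 n hn
  have := Fintype.ofFinite (M.subgroupOf G)
  have hθ' := Helper15.isIrrCharacter_toSub M G hMG hν
  have hcon' : classInner (fun x : M.subgroupOf G => (β : G → ℂ) x)
      (Helper15.toSub M G hMG ν) ≠ 0 := by
    rw [Helper15.restrict_subgroupOf M G hMG, Helper15.classInner_toSub]
    exact hcon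
  have hinv' : ∀ g : G, Helper15.conjFun (M.subgroupOf G) g (Helper15.toSub M G hMG ν) =
      Helper15.toSub M G hMG ν := by
    intro g
    funext x
    exact hinv g g.2 ⟨((x : G) : Γ), x.2⟩ ⟨(g : Γ) * ((x : G) : Γ) * (g : Γ)⁻¹,
      hnormal g g.2 _ x.2⟩ rfl
  have h := Helper15.restrict_eq_smul_of_invariant (M.subgroupOf G) β.2 hθ' hcon' hinv'
  -- evaluate at `1`
  have h1 := congrFun h 1
  simp only [Pi.smul_apply, smul_eq_mul] at h1
  have h2 : Helper15.toSub M G hMG ν 1 = 1 := by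
    rw [Helper15.toSub_apply]
    have : (⟨(((1 : M.subgroupOf G) : G) : Γ), (1 : M.subgroupOf G).2⟩ : M) = 1 := rfl
    rw [this, hν1]
  rw [h2, mul_one] at h1
  intro m
  have h3 := congrFun h ⟨⟨m, hMG m.2⟩, m.2⟩
  simp only [Pi.smul_apply, smul_eq_mul] at h3
  rw [← h1] at h3
  exact h3

/-- The linear case, when the order of the linear character is prime to `|Γ : G|`. -/
theorem exists_invariant_over_linear_aux {Γ : Type u} [Group Γ] [Fintype Γ] (G M : Subgroup Γ)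
    [hG : G.Normal] [hM : M.Normal] [Fintype G] [Fintype M] (hMG : M ≤ G)
    (hcop : (G.index).Coprime (M.relIndex G))
    (hsolv : Group.IsSolvable (Γ ⧸ G) ∨ Group.IsSolvable (G ⧸ M.subgroupOf G))
    (ν₂ : M →* ℂˣ)
    (hinv : ∀ (x : Γ) (m : M), ν₂ ⟨x * m * x⁻¹, hM.conj_mem m m.2 x⟩ = ν₂ m)
    (b : ℕ) (hb : ∀ m, ν₂ m ^ b = 1) (hbt : Nat.Coprime b G.index) :
    ∃ β : IrrCharacter G,
      (∀ m : M, (β : G → ℂ) ⟨m, hMG m.2⟩ = (β : G → ℂ) 1 * ((ν₂ m : ℂˣ) : ℂ)) ∧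
      ∀ (x : Γ) (g : G), (β : G → ℂ) ⟨x * g * x⁻¹, hG.conj_mem g g.2 x⟩ = (β : G → ℂ) g := by
  classical
  -- the kernel of `ν₂` as a normal subgroup of `Γ`
  set K : Subgroup Γ := (ν₂.ker).map M.subtype with hK
  have hmemK : ∀ y : Γ, y ∈ K ↔ ∃ h : y ∈ M, ν₂ ⟨y, h⟩ = 1 := by
    intro y
    constructor
    · rintro ⟨m, hm, rfl⟩
      exact ⟨m.2, hm⟩
    · rintro ⟨h, hy⟩
      exact ⟨⟨y, h⟩, hy, rfl⟩
  have hKn : K.Normal := by
    constructor
    intro k hk x
    obtain ⟨h, hy⟩ := (hmemK k).mp hk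
    rw [hmemK]
    refine ⟨hM.conj_mem k h x, ?_⟩
    rw [hinv x ⟨k, h⟩, hy]
  have hKM : K ≤ M := fun y hy => ((hmemK y).mp hy).1
  have hKG : K ≤ G := hKM.trans hMG
  set q : Γ →* Γ ⧸ K := QuotientGroup.mk' K with hq
  have hqsurj : Function.Surjective q := QuotientGroup.mk'_surjective K
  have hqker : q.ker = K := QuotientGroup.ker_mk' K
  have hq1 : ∀ y : Γ, q y = 1 ↔ y ∈ K := fun y => by rw [← MonoidHom.mem_ker, hqker]
  have : Fintype (Γ ⧸ K) := Fintype.ofFinite _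
  set Gt : Subgroup (Γ ⧸ K) := G.map q with hGt
  set Mt : Subgroup (Γ ⧸ K) := M.map q with hMt
  have hMtGt : Mt ≤ Gt := Subgroup.map_mono hMG
  have hGtn : Gt.Normal := Subgroup.Normal.map hG q hqsurj
  have hMtn : Mt.Normal := Subgroup.Normal.map hM q hqsurj
  have : Fintype Gt := Fintype.ofFinite _
  have : Fintype Mt := Fintype.ofFinite _
  set φG : G →* Gt := q.subgroupMap G with hφG
  set φM : M →* Mt := q.subgroupMap M with hφM
  have hφGsurj : Function.Surjective φG := MonoidHom.subgroupMap_surjective q G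
  have hφMsurj : Function.Surjective φM := MonoidHom.subgroupMap_surjective q M
  have hφGcoe : ∀ g : G, ((φG g : Gt) : Γ ⧸ K) = q g := fun g => rfl
  have hφMcoe : ∀ m : M, ((φM m : Mt) : Γ ⧸ K) = q m := fun m => rfl
  -- indices
  have hidxG : Gt.index = G.index := Subgroup.index_map_eq G hqsurj (by rw [hqker]; exact hKG)
  have hidxM : Mt.index = M.index := Subgroup.index_map_eq M hqsurj (by rw [hqker]; exact hKM)
  have hrel : Mt.relIndex Gt = M.relIndex G := by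
    have h1 := Subgroup.relIndex_mul_index hMtGt
    have h2 := Subgroup.relIndex_mul_index hMG
    rw [hidxG, hidxM, ← h2] at h1
    have hne : G.index ≠ 0 := Subgroup.index_ne_zero_of_finite
    exact Nat.eq_of_mul_eq_mul_right (Nat.pos_of_ne_zero hne) h1
  -- `|Mt|` is coprime to `|Γ : G|`
  have hcopM : Nat.Coprime (Nat.card Mt) G.index := by
    rw [Nat.coprime_iff_gcd_eq_one]
    by_contra hne
    obtain ⟨p, hp, hpd⟩ := Nat.exists_prime_and_dvd hne
    have hp1 : p ∣ Nat.card Mt := hpd.trans (Nat.gcd_dvd_left _ _)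
    have hp2 : p ∣ G.index := hpd.trans (Nat.gcd_dvd_right _ _)
    have : Fact p.Prime := ⟨hp⟩
    obtain ⟨y, hy⟩ := exists_prime_orderOf_dvd_card' p hp1
    obtain ⟨m, rfl⟩ := hφMsurj y
    have h1 : (φM m) ^ p = 1 := by rw [← hy]; exact pow_orderOf_eq_one _
    have h2 : q ((m : Γ) ^ p) = 1 := by
      have := congrArg (fun z : Mt => (z : Γ ⧸ K)) h1
      simpa [hφMcoe] using this
    obtain ⟨hmem, h3⟩ := (hmemK _).mp ((hq1 _).mp h2)
    have h4 : ν₂ m ^ p = 1 := by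
      rw [← map_pow]
      rw [← h3]
      congr 1
    have hcop_pb : Nat.Coprime p b := (Nat.Coprime.coprime_dvd_right hp2 hbt).symm
    have h5 : ν₂ m = 1 := by
      have h6 : orderOf (ν₂ m) ∣ p := orderOf_dvd_of_pow_eq_one h4
      have h7 : orderOf (ν₂ m) ∣ b := orderOf_dvd_of_pow_eq_one (hb m)
      have h8 : orderOf (ν₂ m) ∣ Nat.gcd p b := Nat.dvd_gcd h6 h7
      rw [hcop_pb, Nat.dvd_one] at h8
      exact orderOf_eq_one_iff.mp h8
    have h9 : φM m = 1 := by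
      apply Subtype.ext
      rw [hφMcoe]
      exact (hq1 _).mpr ((hmemK _).mpr ⟨m.2, h5⟩)
    rw [h9, orderOf_one] at hy
    exact hp.one_lt.ne' hy.symm
  have hcardG : Nat.card Gt = Mt.relIndex Gt * Nat.card Mt := by
    have h1 := Subgroup.card_mul_index (Mt.subgroupOf Gt)
    have h2 : Nat.card (Mt.subgroupOf Gt) = Nat.card Mt :=
      Nat.card_congr (Subgroup.subgroupOfEquivOfLe hMtGt).toEquiv
    rw [h2] at h1
    rw [← h1, Subgroup.relIndex, mul_comm]
  have hcopG : Nat.Coprime (Nat.card Gt) Gt.index := by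
    rw [hcardG, hidxG, hrel]
    exact Nat.Coprime.mul_left hcop.symm hcopM
  obtain ⟨St, hSt⟩ := Subgroup.exists_right_complement'_of_coprime hcopG
  have hcardS : Nat.card St = Gt.index := (hSt.symm.index_eq_card).symm
  -- decomposition of elements
  have hdecomp : ∀ z : Γ ⧸ K, ∃ g ∈ Gt, ∃ s ∈ St, z = g * s := by
    intro z
    obtain ⟨⟨a, c⟩, hac, -⟩ := (Subgroup.isComplement'_def.mp hSt).existsUnique z
    exact ⟨a.1, a.2, c.1, c.2, hac.symm⟩
  -- the descended linear character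
  have hν₂irr : IsIrrCharacter M (fun m => ((ν₂ m : ℂˣ) : ℂ)) :=
    Helper80.isIrrCharacter_of_monoidHom ν₂
  obtain ⟨νt, hνt, hνtval⟩ := Helper80.IsIrrCharacter.exists_descend hν₂irr φM hφMsurj (by
    intro m hm
    have h1 : q (m : Γ) = 1 := by
      have := congrArg (fun z : Mt => (z : Γ ⧸ K)) hm
      simpa [hφMcoe] using this
    obtain ⟨hmem, h3⟩ := (hmemK _).mp ((hq1 _).mp h1)
    have h4 : ν₂ m = 1 := h3
    simp only [h4, map_one])
  have hνt1 : νt 1 = 1 := by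
    have := hνtval 1
    rw [map_one, map_one] at this
    rw [← this]
    simp
  have hνtinv : ∀ z : Γ ⧸ K, ∀ g g' : Mt, (g' : Γ ⧸ K) = z * g * z⁻¹ → νt g' = νt g := by
    intro z g g' hgg'
    obtain ⟨x, rfl⟩ := hqsurj z
    obtain ⟨m, rfl⟩ := hφMsurj g
    have h1 : g' = φM ⟨x * m * x⁻¹, hM.conj_mem m m.2 x⟩ := by
      apply Subtype.ext
      rw [hgg', hφMcoe, hφMcoe]
      simp only [map_mul, map_inv]
    rw [h1, ← hνtval, ← hνtval, hinv]
  -- apply the coprime theorems upstairs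
  have hnorm : ∀ s ∈ St, ∀ g ∈ Gt, s * g * s⁻¹ ∈ Gt := fun s _ g hg => hGtn.conj_mem g hg s
  have hNnormal : ∀ g ∈ Gt, ∀ n ∈ Mt, g * n * g⁻¹ ∈ Mt := fun g _ n hn => hMtn.conj_mem n hn g
  have hNS : ∀ s ∈ St, ∀ n ∈ Mt, s * n * s⁻¹ ∈ Mt := fun s _ n hn => hMtn.conj_mem n hn s
  have hup : ∃ βt : IrrCharacter Gt,
      classInner (fun n : Mt => (βt : Gt → ℂ) ⟨n, hMtGt n.2⟩) νt ≠ 0 ∧
      (∀ s ∈ St, ∀ g g' : Gt, (g' : Γ ⧸ K) = s * g * s⁻¹ → (βt : Gt → ℂ) g' = (βt : Gt → ℂ) g) := by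
    rcases hsolv with hs | hs
    · -- `St ≃ Γ/G` is solvable
      have e1 : (Γ ⧸ K) ⧸ Gt ≃* St := hSt.symm.QuotientMulEquiv
      have e2 : (Γ ⧸ K) ⧸ Gt ≃* Γ ⧸ G := QuotientGroup.quotientQuotientEquivQuotient K G hKG
      have hsolvS : Group.IsSolvable St :=
        Group.isSolvable_of_isSolvable_injective (f := (e2.toMonoidHom.comp e1.symm.toMonoidHom))
          (by
            intro a c hac
            have := e2.injective hac
            exact e1.symm.injective this)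
      exact exists_invariant_over_coprime_ambient Gt St Mt hnorm hMtGt hNnormal hNS
        (by rw [hcardS]; exact hcopG) hsolvS ⟨νt, hνt⟩
        (fun s _ g g' hgg' => hνtinv s g g' hgg')
    · have hNn' : (Mt.subgroupOf Gt).Normal := inferInstance
      have hle : M.subgroupOf G ≤ (Mt.subgroupOf Gt).comap φG := by
        intro g hg
        rw [Subgroup.mem_comap, Subgroup.mem_subgroupOf, hφGcoe]
        exact Subgroup.mem_map_of_mem q hg
      have hsurjQ : Function.Surjective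
          (QuotientGroup.map (M.subgroupOf G) (Mt.subgroupOf Gt) φG hle) := by
        intro z
        obtain ⟨y, rfl⟩ := QuotientGroup.mk_surjective z
        obtain ⟨g, rfl⟩ := hφGsurj y
        exact ⟨QuotientGroup.mk g, rfl⟩
      have hsolvQ : Group.IsSolvable (Gt ⧸ Mt.subgroupOf Gt) :=
        Group.isSolvable_of_surjective hsurjQ
      exact exists_invariant_over Gt St Mt hnorm hMtGt hNS
        (by rw [hcardS, hrel, hidxG]; exact hcop.symm) hsolvQ ⟨νt, hνt⟩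
        (fun s _ g g' hgg' => hνtinv s g g' hgg')
  obtain ⟨βt, hβtcon, hβtinv⟩ := hup
  -- `βt` is invariant under all of `Γ ⧸ K`
  have hβtcf : IsClassFunction Gt (βt : Gt → ℂ) := irr_isClassFunction βt
  have hβtall : ∀ z : Γ ⧸ K, ∀ g g' : Gt, (g' : Γ ⧸ K) = z * g * z⁻¹ →
      (βt : Gt → ℂ) g' = (βt : Gt → ℂ) g := by
    intro z g g' hgg'
    obtain ⟨a, ha, s, hs, rfl⟩ := hdecomp z
    set g₁ : Gt := ⟨s * g * s⁻¹, hnorm s hs g g.2⟩ with hg₁
    have h1 : (βt : Gt → ℂ) g₁ = (βt : Gt → ℂ) g := hβtinv s hs g g₁ rfl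
    have h2 : g' = (⟨a, ha⟩ : Gt) * g₁ * (⟨a, ha⟩ : Gt)⁻¹ := by
      apply Subtype.ext
      rw [hgg']
      simp only [hg₁, Subgroup.coe_mul, Subgroup.coe_inv, mul_inv_rev]
      group
    rw [h2, hβtcf, h1]
  -- multiples of `νt` on `Mt`
  have hβtM := linear_restrict_of_invariant Gt Mt hMtGt hNnormal βt νt hνt hνt1
    (fun g _ m m' hmm' => hνtinv g m m' hmm') hβtcon
  -- descend
  refine ⟨⟨fun g => (βt : Gt → ℂ) (φG g),
    Helper80.IsIrrCharacter.comp_surjective βt.2 φG hφGsurj⟩, ?_, ?_⟩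
  · intro m
    show (βt : Gt → ℂ) (φG ⟨m, hMG m.2⟩) = (βt : Gt → ℂ) (φG 1) * ((ν₂ m : ℂˣ) : ℂ)
    have h1 : φG ⟨m, hMG m.2⟩ = ⟨(φM m : Γ ⧸ K), hMtGt (φM m).2⟩ := rfl
    rw [h1, hβtM (φM m), map_one, ← hνtval]
  · intro x g
    show (βt : Gt → ℂ) (φG ⟨x * g * x⁻¹, hG.conj_mem g g.2 x⟩) = (βt : Gt → ℂ) (φG g)
    apply hβtall (q x)
    rw [hφGcoe, hφGcoe]
    simp only [map_mul, map_inv]

/-- **The linear case**: `M ≤ G` normal in `Γ`, `(|Γ : G|, |G : M|) = 1`, `Γ/G` or `G/M` solvable,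
`ν` a `Γ`-invariant linear character of `M`: some `Γ`-invariant `β ∈ Irr(G)` lies over `ν`. -/
theorem exists_invariant_over_linear {Γ : Type u} [Group Γ] [Fintype Γ] (G M : Subgroup Γ)
    [hG : G.Normal] [hM : M.Normal] [Fintype G] [Fintype M] (hMG : M ≤ G)
    (hcop : (G.index).Coprime (M.relIndex G))
    (hsolv : Group.IsSolvable (Γ ⧸ G) ∨ Group.IsSolvable (G ⧸ M.subgroupOf G))
    (ν : M →* ℂˣ)
    (hinv : ∀ (x : Γ) (m : M), ν ⟨x * m * x⁻¹, hM.conj_mem m m.2 x⟩ = ν m) :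
    ∃ β : IrrCharacter G,
      (∀ m : M, (β : G → ℂ) ⟨m, hMG m.2⟩ = (β : G → ℂ) 1 * ((ν m : ℂˣ) : ℂ)) ∧
      ∀ (x : Γ) (g : G), (β : G → ℂ) ⟨x * g * x⁻¹, hG.conj_mem g g.2 x⟩ = (β : G → ℂ) g := by
  classical
  obtain ⟨a, b, k₁, k₂, har, hbt, h1, h2, h3⟩ :=
    exists_linear_split ν (M.relIndex G) G.index hcop.symm
  set ν₁ : M →* ℂˣ := (powMonoidHom k₁).comp ν with hν₁
  set ν₂ : M →* ℂˣ := (powMonoidHom k₂).comp ν with hν₂
  have hν₁a : ∀ m, ν₁ m = ν m ^ k₁ := fun m => rfl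
  have hν₂a : ∀ m, ν₂ m = ν m ^ k₂ := fun m => rfl
  obtain ⟨μ, hμM, hμinv⟩ := exists_invariant_linear_extension G M hMG ν₁
    (fun x m => by rw [hν₁a, hν₁a, hinv]) a (fun m => by rw [hν₁a]; exact h1 m) har
  obtain ⟨β₀, hβ₀M, hβ₀inv⟩ := exists_invariant_over_linear_aux G M hMG hcop hsolv ν₂
    (fun x m => by rw [hν₂a, hν₂a, hinv]) b (fun m => by rw [hν₂a]; exact h2 m) hbt
  refine ⟨twist μ β₀, ?_, ?_⟩
  · intro m
    rw [twist_apply, twist_apply, map_one, Units.val_one, one_mul, hμM, hβ₀M, hν₁a, hν₂a]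
    have h4 := h3 m
    have h5 : ((ν m : ℂˣ) : ℂ) = ((ν m ^ k₁ : ℂˣ) : ℂ) * ((ν m ^ k₂ : ℂˣ) : ℂ) := by
      rw [← Units.val_mul, h4]
    rw [h5]
    ring
  · intro x g
    rw [twist_apply, twist_apply, hμinv, hβ₀inv]

end Cfsg.Agent.Helper74
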