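/-
Reduction to linear characters by a finite central extension (character triple argument), and the
general theorem (Isaacs 13.31): for N ≤ G normal in Gamma with (|Gamma:G|, |G:N|) = 1 and Gamma/G or
G/N solvable, every Gamma-invariant irreducible character of N lies under a Gamma-invariant
irreducible character of G.
-/
import Cfsg.Agent.Helper74.LinCase
import Cfsg.Agent.Helper74.DegreeRatio

set_option autoImplicit false

namespace Cfsg.Agent.Helper74

open Cfsg
open scoped ComplexConjugate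

universe u

section scalar

variable {G : Type u} [Group G] (N : Subgroup G) [hN : N.Normal] {d : ℕ}
  (Y : Representation ℂ N (Fin d → ℂ))

/-- Elements of the extension group lying over `N` differ from `Y` by a scalar. -/
theorem exists_scalar_of_extProj_mem (hY : Y.IsIrreducible) (a : extGroup N Y (Nat.card N))
    (ha : extProj N Y (Nat.card N) a ∈ N) :
    ∃ c : ℂ, extRep N Y (Nat.card N) a = c • Y ⟨extProj N Y (Nat.card N) a, ha⟩ := by
  set n : N := ⟨extProj N Y (Nat.card N) a, ha⟩ with hn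
  set z : extGroup N Y (Nat.card N) := (extIncl N Y n)⁻¹ * a with hz
  have hzker : extProj N Y (Nat.card N) z = 1 := by
    rw [hz, map_mul, map_inv, extProj_extIncl]
    exact inv_mul_cancel _
  obtain ⟨c, hc⟩ := exists_scalar_of_extProj_eq_one N Y hY _ z hzker
  refine ⟨c, ?_⟩
  have haz : a = extIncl N Y n * z := by rw [hz, mul_inv_cancel_left]
  rw [haz, map_mul, extRep_extIncl, hc]
  rw [mul_smul_comm, mul_one]

omit hN in
theorem rep_ne_zero (hY : Y.IsIrreducible) (n : N) : Y n ≠ 0 := by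
  have hnt := nontrivial_of_isIrreducible Y hY
  intro h0
  have h1 : Y n * Y n⁻¹ = 1 := by rw [← map_mul, mul_inv_cancel, map_one]
  rw [h0, zero_mul] at h1
  have : (1 : Module.End ℂ (Fin d → ℂ)) ≠ 0 := one_ne_zero
  exact this h1.symm

/-- The scalar by which an element over `N` differs from `Y`. -/
noncomputable def extScalar (hY : Y.IsIrreducible)
    (a : N.comap (extProj N Y (Nat.card N))) : ℂ :=
  Classical.choose (exists_scalar_of_extProj_mem N Y hY a.1 a.2)

theorem extScalar_spec (hY : Y.IsIrreducible) (a : N.comap (extProj N Y (Nat.card N))) :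
    extRep N Y (Nat.card N) a.1 = extScalar N Y hY a • Y ⟨extProj N Y (Nat.card N) a.1, a.2⟩ :=
  Classical.choose_spec (exists_scalar_of_extProj_mem N Y hY a.1 a.2)

theorem extScalar_unique (hY : Y.IsIrreducible) (a : N.comap (extProj N Y (Nat.card N))) (c : ℂ)
    (n : N) (hn : (n : G) = extProj N Y (Nat.card N) a.1)
    (h : extRep N Y (Nat.card N) a.1 = c • Y n) : extScalar N Y hY a = c := by
  have h1 := extScalar_spec N Y hY a
  have h2 : (⟨extProj N Y (Nat.card N) a.1, a.2⟩ : N) = n := Subtype.ext hn.symm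
  rw [h2, h] at h1
  exact (smul_left_injective ℂ (rep_ne_zero N Y hY n) h1).symm

/-- `extScalar` as a monoid homomorphism. -/
noncomputable def extScalarHom (hY : Y.IsIrreducible) :
    N.comap (extProj N Y (Nat.card N)) →* ℂ where
  toFun := extScalar N Y hY
  map_one' := by
    apply extScalar_unique N Y hY 1 1 1
    · simp
    · simp
  map_mul' a b := by
    apply extScalar_unique N Y hY (a * b) _
      (⟨extProj N Y (Nat.card N) a.1, a.2⟩ * ⟨extProj N Y (Nat.card N) b.1, b.2⟩)
    · simp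
    · rw [Subgroup.coe_mul, map_mul, extScalar_spec N Y hY a, extScalar_spec N Y hY b, map_mul,
        smul_mul_smul_comm]

theorem extScalarHom_apply (hY : Y.IsIrreducible) (a : N.comap (extProj N Y (Nat.card N))) :
    extScalarHom N Y hY a = extScalar N Y hY a := rfl

theorem extIncl_mem_comap (n : N) : extIncl N Y n ∈ N.comap (extProj N Y (Nat.card N)) := by
  rw [Subgroup.mem_comap, extProj_extIncl]
  exact n.2

theorem extScalar_extIncl (hY : Y.IsIrreducible) (n : N) :
    extScalar N Y hY ⟨extIncl N Y n, extIncl_mem_comap N Y n⟩ = 1 := by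
  apply extScalar_unique N Y hY _ 1 n
  · rfl
  · rw [one_smul]
    exact extRep_extIncl N Y n

theorem extScalar_conj (hY : Y.IsIrreducible) (x : extGroup N Y (Nat.card N))
    (a : N.comap (extProj N Y (Nat.card N)))
    (hmem : x * a.1 * x⁻¹ ∈ N.comap (extProj N Y (Nat.card N))) :
    extScalar N Y hY ⟨x * a.1 * x⁻¹, hmem⟩ = extScalar N Y hY a := by
  apply extScalar_unique N Y hY _ _
    (MulAut.conjNormal (extProj N Y (Nat.card N) x) ⟨extProj N Y (Nat.card N) a.1, a.2⟩)
  · rw [MulAut.conjNormal_apply]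
    simp
  · show extRep N Y (Nat.card N) (x * a.1 * x⁻¹) = _
    rw [map_mul, map_mul, extScalar_spec N Y hY a, mul_smul_comm, extRep_mul_eq, smul_mul_assoc,
      mul_assoc, ← map_mul, mul_inv_cancel, map_one, mul_one]

theorem extRep_character_of_mem (hY : Y.IsIrreducible)
    (a : N.comap (extProj N Y (Nat.card N))) :
    (extRep N Y (Nat.card N)).character a.1 =
      extScalar N Y hY a * Y.character ⟨extProj N Y (Nat.card N) a.1, a.2⟩ := by
  unfold Representation.character
  rw [extScalar_spec N Y hY a, map_smul, smul_eq_mul]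

end scalar

/-- **Isaacs 13.31-type theorem**: `N ≤ G` normal in `Γ`, `(|Γ : G|, |G : N|) = 1`, `Γ/G` or `G/N`
solvable, `θ ∈ Irr(N)` invariant in `Γ`: some `Γ`-invariant `χ ∈ Irr(G)` lies over `θ`. -/
theorem exists_invariant_over_general {Γ : Type u} [Group Γ] [Fintype Γ] (G N : Subgroup Γ)
    [hG : G.Normal] [hN : N.Normal] [Fintype G] [Fintype N] (hNG : N ≤ G)
    (hcop : (G.index).Coprime (N.relIndex G))
    (hsolv : Group.IsSolvable (Γ ⧸ G) ∨ Group.IsSolvable (G ⧸ N.subgroupOf G))
    (θ : IrrCharacter N)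
    (hinv : ∀ (x : Γ) (n : N), (θ : N → ℂ) ⟨x * n * x⁻¹, hN.conj_mem n n.2 x⟩ = (θ : N → ℂ) n) :
    ∃ χ : IrrCharacter G,
      classInner (fun n : N => (χ : G → ℂ) ⟨n, hNG n.2⟩) (θ : N → ℂ) ≠ 0 ∧
      ∀ (x : Γ) (g : G), (χ : G → ℂ) ⟨x * g * x⁻¹, hG.conj_mem g g.2 x⟩ = (χ : G → ℂ) g := by
  classical
  obtain ⟨θf, hθ⟩ := θ
  obtain ⟨d, Y, hY, rfl⟩ := hθ
  have hYirr : Y.IsIrreducible := hY
  have hfinE : Finite (extGroup N Y (Nat.card N)) := finite_extGroup N Y hYirr _ Nat.card_pos
  let _ : Fintype (extGroup N Y (Nat.card N)) := Fintype.ofFinite _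
  have hinv' : ∀ (g : Γ) (n : N), Y.character (MulAut.conjNormal g n) = Y.character n := by
    intro g n
    have h1 := hinv g n
    have h2 : (MulAut.conjNormal g n : N) = ⟨g * n * g⁻¹, hN.conj_mem n n.2 g⟩ :=
      Subtype.ext (MulAut.conjNormal_apply g n)
    rw [h2]
    exact h1
  have hsurj := extProj_surjective N Y hYirr hinv' (Nat.card N)
  set π : extGroup N Y (Nat.card N) →* Γ := extProj N Y (Nat.card N) with hπ
  set Gh : Subgroup (extGroup N Y (Nat.card N)) := G.comap π with hGh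
  set Mh : Subgroup (extGroup N Y (Nat.card N)) := N.comap π with hMh
  have hGhn : Gh.Normal := Subgroup.Normal.comap hG π
  have hMhn : Mh.Normal := Subgroup.Normal.comap hN π
  have hle : Mh ≤ Gh := Subgroup.comap_mono hNG
  have : Fintype Gh := Fintype.ofFinite _
  have : Fintype Mh := Fintype.ofFinite _
  have hidx : Gh.index = G.index := Subgroup.index_comap_of_surjective G hsurj
  have hrel : Mh.relIndex Gh = N.relIndex G := by
    rw [hMh, Subgroup.relIndex_comap, hGh, Subgroup.map_comap_eq_self_of_surjective hsurj]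
  have hcop' : (Gh.index).Coprime (Mh.relIndex Gh) := by rw [hidx, hrel]; exact hcop
  set π' : Gh →* G := π.subgroupComap G with hπ'
  have hsurj' : Function.Surjective π' := MonoidHom.subgroupComap_surjective_of_surjective π G hsurj
  have hπ'coe : ∀ g : Gh, ((π' g : G) : Γ) = π g.1 := fun g => rfl
  have hsolv' : Group.IsSolvable (extGroup N Y (Nat.card N) ⧸ Gh) ∨
      Group.IsSolvable (Gh ⧸ Mh.subgroupOf Gh) := by
    rcases hsolv with hs | hs
    · left
      refine Group.isSolvable_of_isSolvable_injective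
        (f := QuotientGroup.map Gh G π le_rfl) ?_
      rw [injective_iff_map_eq_one]
      intro z hz
      obtain ⟨x, rfl⟩ := QuotientGroup.mk_surjective z
      rw [QuotientGroup.map_mk, QuotientGroup.eq_one_iff] at hz
      rw [QuotientGroup.eq_one_iff]
      exact hz
    · right
      have hle2 : Mh.subgroupOf Gh ≤ (N.subgroupOf G).comap π' := by
        intro g hg
        exact hg
      refine Group.isSolvable_of_isSolvable_injective
        (f := QuotientGroup.map (Mh.subgroupOf Gh) (N.subgroupOf G) π' hle2) ?_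
      rw [injective_iff_map_eq_one]
      intro z hz
      obtain ⟨x, rfl⟩ := QuotientGroup.mk_surjective z
      rw [QuotientGroup.map_mk, QuotientGroup.eq_one_iff] at hz
      rw [QuotientGroup.eq_one_iff]
      exact hz
  -- the linear character
  set κ : Mh →* ℂˣ := (extScalarHom N Y hYirr).toHomUnits with hκ
  have hκval : ∀ m : Mh, ((κ m : ℂˣ) : ℂ) = extScalar N Y hYirr m := fun m => rfl
  set ν : Mh →* ℂˣ := κ⁻¹ with hν
  have hνinv : ∀ (x : extGroup N Y (Nat.card N)) (m : Mh),
      ν ⟨x * m * x⁻¹, hMhn.conj_mem m m.2 x⟩ = ν m := by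
    intro x m
    rw [hν, MonoidHom.inv_apply, MonoidHom.inv_apply, inv_inj]
    apply Units.ext
    rw [hκval, hκval]
    exact extScalar_conj N Y hYirr x m _
  obtain ⟨β, hβM, hβinv⟩ := exists_invariant_over_linear Gh Mh hle hcop' hsolv' ν hνinv
  have hβ1 : (β : Gh → ℂ) 1 ≠ 0 := Helper80.IsIrrCharacter.map_one_ne_zero β.2
  -- the copy of `N` inside `Gh`
  have hinclmem : ∀ n : N, extIncl N Y n ∈ Gh := fun n => hle (extIncl_mem_comap N Y n)
  set incl' : N →* Gh := (extIncl N Y).codRestrict Gh hinclmem with hincl'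
  set N₁ : Subgroup Gh := incl'.range with hN₁
  have hN₁n : N₁.Normal := by
    refine ⟨?_⟩
    rintro _ ⟨n, rfl⟩ x
    refine ⟨MulAut.conjNormal (π x.1) n, ?_⟩
    apply Subtype.ext
    apply Subtype.ext
    apply Prod.ext
    · show ((MulAut.conjNormal (π x.1) n : N) : Γ) = π x.1 * (n : Γ) * (π x.1)⁻¹
      exact MulAut.conjNormal_apply _ _
    · apply Units.ext
      show extRep N Y _ (extIncl N Y (MulAut.conjNormal (π x.1) n))
        = extRep N Y _ (x.1 * extIncl N Y n * x.1⁻¹)
      rw [extRep_extIncl, map_mul, map_mul, extRep_extIncl, extRep_mul_eq, mul_assoc, ← map_mul,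
        mul_inv_cancel, map_one, mul_one]
  have : Fintype N₁ := Fintype.ofFinite _
  -- the extension of `θ`
  set ρ : Representation ℂ Gh (Fin d → ℂ) := (extRep N Y (Nat.card N)).comp Gh.subtype with hρ
  have hρincl : ∀ n : N, ρ (incl' n) = Y n := fun n => extRep_extIncl N Y n
  have hρirr : ρ.IsIrreducible := by
    rw [Helper80.isIrreducible_iff] at hYirr ⊢
    refine ⟨hYirr.1, fun U hU => hYirr.2 U (fun n v hv => ?_)⟩
    have h1 := hU (incl' n) v hv
    rwa [hρincl] at h1
  have hθh : IsIrrCharacter Gh ρ.character := ⟨d, ρ, hρirr, rfl⟩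
  have hθhN : IsIrrCharacter N₁ (fun x : N₁ => ρ.character x) := by
    refine ⟨d, ρ.comp N₁.subtype, ?_, rfl⟩
    have hYirr' : Y.IsIrreducible := hY
    show Representation.IsIrreducible _
    rw [Helper80.isIrreducible_iff] at hYirr' ⊢
    refine ⟨hYirr'.1, fun U hU => hYirr'.2 U (fun n v hv => ?_)⟩
    have h1 := hU ⟨incl' n, ⟨n, rfl⟩⟩ v hv
    have h2 : (ρ.comp N₁.subtype) ⟨incl' n, ⟨n, rfl⟩⟩ = Y n := hρincl n
    rwa [h2] at h1
  -- `β` is constant on `N₁`
  have hβN₁ : ∀ n : N, (β : Gh → ℂ) (incl' n) = (β : Gh → ℂ) 1 := by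
    intro n
    have h1 := hβM ⟨extIncl N Y n, extIncl_mem_comap N Y n⟩
    have h2 : ((ν ⟨extIncl N Y n, extIncl_mem_comap N Y n⟩ : ℂˣ) : ℂ) = 1 := by
      rw [hν, MonoidHom.inv_apply, Units.val_inv_eq_inv_val, hκval, extScalar_extIncl, inv_one]
    rw [h2, mul_one] at h1
    exact h1
  have hβcf : IsClassFunction Gh (β : Gh → ℂ) := irr_isClassFunction β
  have hβind : classInner (indFun N₁ (fun _ : N₁ => (1 : ℂ))) (β : Gh → ℂ) ≠ 0 := by
    rw [Helper15.frobenius_reciprocity N₁ _ _ hβcf]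
    have h1 : (fun n : N₁ => (β : Gh → ℂ) n) = fun _ => (β : Gh → ℂ) 1 := by
      funext x
      obtain ⟨x, n, rfl⟩ := x
      exact hβN₁ n
    rw [h1, classInner_def]
    simp only [one_mul, Finset.sum_const, Finset.card_univ, nsmul_eq_mul]
    rw [← Nat.card_eq_fintype_card, ← mul_assoc, inv_mul_cancel₀, one_mul]
    · intro h0
      apply hβ1
      have := congrArg conj h0
      simpa using this
    · exact_mod_cast Nat.card_pos.ne'
  have hψirr : IsIrrCharacter Gh ((β : Gh → ℂ) * ρ.character) :=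
    ((Helper15.gallagher_bijOn N₁ hθh hθhN).mapsTo ⟨β.2, hβind⟩).1
  -- the kernel
  have hd : ρ.character 1 = (d : ℂ) := by
    rw [Representation.char_one, Module.finrank_fin_fun]
  have hYd : Y.character 1 = (d : ℂ) := by
    rw [Representation.char_one, Module.finrank_fin_fun]
  have hker : ∀ g : Gh, π' g = 1 → ((β : Gh → ℂ) * ρ.character) g = ((β : Gh → ℂ) * ρ.character) 1 := by
    intro g hg
    have hg1 : π g.1 = 1 := by
      have := congrArg (fun z : G => (z : Γ)) hg
      simpa [hπ'coe] using this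
    have hgM : g.1 ∈ Mh := by
      rw [hMh, Subgroup.mem_comap, hg1]
      exact N.one_mem
    have h1 := hβM ⟨g.1, hgM⟩
    have h2 : (⟨((⟨g.1, hgM⟩ : Mh) : extGroup N Y (Nat.card N)), hle hgM⟩ : Gh) = g := rfl
    rw [h2] at h1
    have h3 : ρ.character g = extScalar N Y hYirr ⟨g.1, hgM⟩ * Y.character ⟨π g.1, hgM⟩ :=
      extRep_character_of_mem N Y hYirr ⟨g.1, hgM⟩
    have h4 : (⟨π g.1, hgM⟩ : N) = 1 := Subtype.ext hg1
    rw [h4, hYd] at h3
    simp only [Pi.mul_apply]
    rw [h1, h3, hd, hν, MonoidHom.inv_apply, Units.val_inv_eq_inv_val, hκval]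
    have hne : extScalar N Y hYirr ⟨g.1, hgM⟩ ≠ 0 := by
      rw [← hκval]
      exact Units.ne_zero _
    field_simp
  obtain ⟨χ, hχirr, hχval⟩ := Helper80.IsIrrCharacter.exists_descend hψirr π' hsurj' hker
  refine ⟨⟨χ, hχirr⟩, ?_, ?_⟩
  · -- lies over `θ`
    have h1 : (fun n : N => χ ⟨n, hNG n.2⟩) = (β : Gh → ℂ) 1 • Y.character := by
      funext n
      have h2 : π' (incl' n) = ⟨n, hNG n.2⟩ := rfl
      rw [← h2, ← hχval]
      simp only [Pi.mul_apply, Pi.smul_apply, smul_eq_mul]
      rw [hβN₁]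
      congr 1
    show classInner (fun n : N => χ ⟨n, hNG n.2⟩) Y.character ≠ 0
    rw [h1, classInner_smul_left]
    have h3 := irr_inner_self (⟨Y.character, ⟨d, Y, hY, rfl⟩⟩ : IrrCharacter N)
    rw [h3, mul_one]
    exact hβ1
  · intro x g
    obtain ⟨xh, rfl⟩ := hsurj x
    obtain ⟨gh, rfl⟩ := hsurj' g
    have hmem : xh * gh.1 * xh⁻¹ ∈ Gh := hGhn.conj_mem gh.1 gh.2 xh
    have h1 : (⟨π xh * ((π' gh : G) : Γ) * (π xh)⁻¹, hG.conj_mem _ (π' gh).2 (π xh)⟩ : G) =
        π' ⟨xh * gh.1 * xh⁻¹, hmem⟩ := by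
      apply Subtype.ext
      show π xh * ((π' gh : G) : Γ) * (π xh)⁻¹ = π (xh * gh.1 * xh⁻¹)
      rw [map_mul, map_mul, map_inv]
      rfl
    show χ ⟨π xh * ((π' gh : G) : Γ) * (π xh)⁻¹, _⟩ = χ (π' gh)
    rw [h1, ← hχval, ← hχval]
    simp only [Pi.mul_apply]
    rw [hβinv xh gh]
    congr 1
    show (extRep N Y (Nat.card N)).character (xh * gh.1 * xh⁻¹) = (extRep N Y (Nat.card N)).character gh.1
    exact Representation.char_conj _ _ _

end Cfsg.Agent.Helper74
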