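import Cfsg.Agent.Helper16.Quotient
import Cfsg.Agent.Helper16.Idempotent
import Cfsg.Agent.Helper78.IrrTransport
import Cfsg.Agent.Helper80.CharLevel
import Cfsg.Agent.Helper80.Pullback
import Cfsg.Agent.S0967

/-!
# Transfer of blocks (helper74)

* `sameBlock_mul_left`: multiplying by a character of `p'`-degree preserves `SameBlock`;
* `sameBlock_of_comp_surjective`: deflation along a surjection with kernel of `p'`-order.
-/

set_option autoImplicit false

namespace Cfsg.Agent.Helper74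

open Cfsg

universe u

section
variable {E : Type u} [Group E] [Fintype E] {p : ℕ} [hp : Fact p.Prime] {M : Ideal AlgInt}

theorem centralChar_mul (Ψ γ : E → ℂ) (g : E) :
    centralChar (γ * Ψ) g = (Ψ g / Ψ 1) * centralChar γ g := by
  unfold centralChar
  simp only [Pi.mul_apply]
  rw [mul_comm (γ 1) (Ψ 1)]
  rw [show ((Subgroup.centralizer ({g} : Set E)).index : ℂ) * (γ g * Ψ g) / (Ψ 1 * γ 1)
      = ((Subgroup.centralizer ({g} : Set E)).index : ℂ) * ((γ g * Ψ g) / (Ψ 1 * γ 1)) from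
        mul_div_assoc _ _ _]
  rw [mul_comm (γ g) (Ψ g), mul_div_mul_comm]
  rw [mul_div_assoc]
  ring

/-- Multiplying by a character of degree prime to `p` preserves blocks. -/
theorem sameBlock_mul_left (hM : IsPModular p M) {Ψ : E → ℂ} (hΨ : IsCharacter E Ψ) (d : ℕ)
    (hd : Ψ 1 = d) (hpd : ¬ p ∣ d) {γ₁ γ₂ : E → ℂ} (h : SameBlock M γ₁ γ₂) :
    SameBlock M (γ₁ * Ψ) (γ₂ * Ψ) := by
  have hMp : M.IsPrime := Helper16.IsPModular.isPrime hM
  intro g
  rw [centralChar_mul, centralChar_mul, ← mul_sub]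
  apply Helper16.memLocalIdeal_mul_left _ (h g)
  rw [hd, div_eq_mul_inv]
  exact Helper16.memLocalRing_mul
    (Helper16.memLocalRing_of_isIntegral (Helper80.IsCharacter.isIntegral hΨ g))
    (Helper16.memLocalRing_inv_natCast hM hpd)

/-- Deflation along a surjection whose kernel has order prime to `p`. -/
theorem sameBlock_of_comp_surjective {G : Type*} [Group G] [Finite G] (hM : IsPModular p M)
    (π : E →* G)
    (hπ : Function.Surjective π) (hker : ¬ p ∣ Nat.card π.ker) (χ₁ χ₂ : IrrCharacter G)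
    (h : SameBlock M (fun x : E => (χ₁ : G → ℂ) (π x)) (fun x : E => (χ₂ : G → ℂ) (π x))) :
    SameBlock M (χ₁ : G → ℂ) (χ₂ : G → ℂ) := by
  classical
  let e : E ⧸ π.ker ≃* G := QuotientGroup.quotientKerEquivOfSurjective π hπ
  have he : ∀ x : E, e (QuotientGroup.mk x) = π x := fun x => rfl
  have hmk : ∀ (χ : IrrCharacter G) (x : E),
      ((Helper78.irrMap e.symm χ : IrrCharacter (E ⧸ π.ker)) : E ⧸ π.ker → ℂ) (QuotientGroup.mk x)
        = (χ : G → ℂ) (π x) := by
    intro χ x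
    rw [Helper78.irrMap_apply, MulEquiv.symm_symm, he]
  have hψirr : IsIrrCharacter E (fun x : E => (χ₂ : G → ℂ) (π x)) :=
    Helper80.IsIrrCharacter.comp_surjective χ₂.2 π hπ
  have hψ : (⟨_, hψirr⟩ : IrrCharacter E) ∈ blockOf M
      (((Helper78.irrMap e.symm χ₁ : IrrCharacter (E ⧸ π.ker)) : E ⧸ π.ker → ℂ) ∘
        QuotientGroup.mk) := by
    show SameBlock M _ _
    have : (((Helper78.irrMap e.symm χ₁ : IrrCharacter (E ⧸ π.ker)) : E ⧸ π.ker → ℂ) ∘
        QuotientGroup.mk) = fun x : E => (χ₁ : G → ℂ) (π x) := by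
      funext x
      exact hmk χ₁ x
    rw [this]
    exact h
  obtain ⟨ψ', hψ'eq, hψ'sb⟩ := Cfsg.Agent.S0967.result p M hM π.ker hker
    (Helper78.irrMap e.symm χ₁) ⟨_, hψirr⟩ hψ
  have hψ'fun : (ψ' : E ⧸ π.ker → ℂ)
      = ((Helper78.irrMap e.symm χ₂ : IrrCharacter (E ⧸ π.ker)) : E ⧸ π.ker → ℂ) := by
    funext q
    obtain ⟨x, rfl⟩ := QuotientGroup.mk_surjective q
    rw [hmk χ₂ x]
    have := congrFun hψ'eq x
    exact this.symm
  rw [hψ'fun] at hψ'sb
  have hfin := (Helper78.sameBlock_comp_symm_iff M e.symm (χ₁ : G → ℂ) (χ₂ : G → ℂ)).mp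
  apply hfin
  exact hψ'sb

end

end Cfsg.Agent.Helper74
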