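import Cfsg.Agent.Helper74.FongMain
import Cfsg.Agent.Helper22.PComponent
import Cfsg.Agent.Helper78.FirstMain
import Cfsg.Agent.Helper78.BlockBasic
import Cfsg.Agent.Helper16.Covering3
import Cfsg.Agent.S0921
import Cfsg.Agent.S0970
import Cfsg.Agent.S0908
import Cfsg.Agent.S0906
import Cfsg.Agent.S0914
import Cfsg.Agent.Lib.Cores

/-!
# Fong's theorem for `O_{p'}(G)` of a `p`-solvable group (helper74)

The irreducible characters of a `p`-solvable group `G` over a `G`-invariant irreducible character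
of `O_{p'}(G)` form one `p`-block, whose defect groups are the Sylow `p`-subgroups of `G`.
-/

set_option autoImplicit false

namespace Cfsg.Agent.Helper74

open Cfsg

universe u

theorem fong_pPrimeCore_block {G : Type u} [Group G] [Fintype G] (p : ℕ) [hp : Fact p.Prime]
    (M : Ideal AlgInt) (hM : IsPModular p M) (hsolv : IsPSolvable p G) (N : Subgroup G)
    [hN : N.Normal] [Fintype N] (hNdef : N = pPrimeCore p G) (θ : IrrCharacter N)
    (hinv : ∀ (g : G) (n : N),
      (θ : N → ℂ) ⟨g * n * g⁻¹, hN.conj_mem n n.2 g⟩ = (θ : N → ℂ) n) :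
    ∃ B : Set (IrrCharacter G), IsPBlock M B ∧
      (∀ χ : IrrCharacter G,
        χ ∈ B ↔ classInner (fun n : N => (χ : G → ℂ) n) (θ : N → ℂ) ≠ 0) ∧
      (∀ P : Sylow p G, IsDefectGroup p M B (P : Subgroup G)) ∧
      ∀ D : Subgroup G, IsDefectGroup p M B D → ∃ P : Sylow p G, D = (P : Subgroup G) := by
  classical
  subst hNdef
  have hMp : M.IsPrime := Helper16.IsPModular.isPrime hM
  have hNp : ¬ p ∣ Nat.card (pPrimeCore p G) :=
    (Nat.Prime.coprime_iff_not_dvd hp.out).mp (Cfsg.Agent.Lib.card_pPrimeCore_coprime p).symm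
  have hsolv' : IsPSolvable p (G ⧸ pPrimeCore p G) :=
    Helper11.isPSolvable_quotient (pPrimeCore p G) hsolv
  have hcore : pPrimeCore p (G ⧸ pPrimeCore p G) = ⊥ := Helper22.pPrimeCore_quotient_eq_bot p
  obtain ⟨χ₀, hχ₀⟩ := Helper16.exists_irr_over (pPrimeCore p G) θ
  have hinv' : ∀ g : G, Helper15.conjFun (pPrimeCore p G) g (θ : pPrimeCore p G → ℂ)
      = (θ : pPrimeCore p G → ℂ) := by
    intro g
    funext n
    rw [Helper15.conjFun_apply]
    exact hinv g n
  have hover : ∀ χ : IrrCharacter G,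
      classInner (fun n : pPrimeCore p G => (χ : G → ℂ) n) (θ : pPrimeCore p G → ℂ) ≠ 0 →
      SameBlock M (χ₀ : G → ℂ) (χ : G → ℂ) := fun χ hχ =>
    sameBlock_of_over_invariant hM (pPrimeCore p G) hNp hsolv' hcore θ hinv' χ₀ χ hχ₀ hχ
  have hB : IsPBlock M (blockOf M (χ₀ : G → ℂ)) := ⟨χ₀, rfl⟩
  have hmem : ∀ χ : IrrCharacter G, χ ∈ blockOf M (χ₀ : G → ℂ) ↔
      classInner (fun n : pPrimeCore p G => (χ : G → ℂ) n) (θ : pPrimeCore p G → ℂ) ≠ 0 := by
    intro χ
    constructor
    · intro h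
      exact (Cfsg.Agent.S0921.result p M hM χ₀ χ h θ).mp hχ₀
    · intro h
      exact hover χ h
  -- the block of `θ` is `{θ}`
  have hbθ : blockOf M (θ : pPrimeCore p G → ℂ) = {θ} := by
    rw [← Cfsg.Agent.S0914.result p M hM θ]
    intro h
    exact hNp (h.trans (Nat.div_dvd_of_dvd (charDegree_dvd_card θ)))
  -- the defect of the block is full
  have hfac : (Nat.card (pPrimeCore p G)).factorization p = 0 :=
    Nat.factorization_eq_zero_of_not_dvd hNp
  have hdefB : blockDefect p (blockOf M (χ₀ : G → ℂ)) = (Nat.card G).factorization p := by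
    obtain ⟨g, hg⟩ := Cfsg.Agent.S0906.result p M hM _ hB
    obtain ⟨Q⟩ : Nonempty (Sylow p (Subgroup.centralizer ({g} : Set G))) := inferInstance
    have hD : IsDefectGroup p M (blockOf M (χ₀ : G → ℂ))
        ((Q : Subgroup _).map (Subgroup.centralizer ({g} : Set G)).subtype) := ⟨g, hg, Q, rfl⟩
    have h970 := (Cfsg.Agent.S0970.result p M hM (pPrimeCore p G)
      (blockOf M (θ : pPrimeCore p G → ℂ)) ⟨θ, rfl⟩ ?_ (blockOf M (χ₀ : G → ℂ)) hB
      ⟨χ₀, Helper16.sameBlock_refl _, θ, Helper16.sameBlock_refl _, hχ₀⟩ ?_ _ hD).2.2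
    · rw [h970]
      have h0 : blockDefect p (blockOf M (θ : pPrimeCore p G → ℂ)) = 0 := by
        unfold blockDefect
        rw [hfac]
        exact Nat.zero_sub _
      rw [h0, zero_add]
      have hmul := (pPrimeCore p G).card_mul_index
      have hne1 : Nat.card (pPrimeCore p G) ≠ 0 := Nat.card_pos.ne'
      have hne2 : (pPrimeCore p G).index ≠ 0 := Subgroup.index_ne_zero_of_finite
      rw [← hmul, Nat.factorization_mul hne1 hne2, Finsupp.add_apply, hfac, zero_add]
    · intro g θ' hθ' θ'' hθ''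
      rw [hbθ] at hθ' ⊢
      rw [Set.mem_singleton_iff] at hθ' ⊢
      subst hθ'
      apply Subtype.ext
      funext n
      rw [hθ'' n]
      exact hinv g n
    · intro B' hB' hcov
      obtain ⟨χ, hχB', θ', hθ', hχθ'⟩ := hcov
      rw [hbθ, Set.mem_singleton_iff] at hθ'
      subst hθ'
      have hχB : χ ∈ blockOf M (χ₀ : G → ℂ) := (hmem χ).mpr hχθ'
      rw [Helper78.isPBlock_eq_of_mem_of_mem hMp hB' hB hχB' hχB]
  have hsyl : ∀ D : Subgroup G, IsDefectGroup p M (blockOf M (χ₀ : G → ℂ)) D →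
      Nat.card D = p ^ (Nat.card G).factorization p := by
    intro D hD
    rw [Cfsg.Agent.S0908.result p M hM _ hB D hD, hdefB]
  refine ⟨blockOf M (χ₀ : G → ℂ), hB, hmem, ?_, ?_⟩
  · intro P
    obtain ⟨g, hg⟩ := Cfsg.Agent.S0906.result p M hM _ hB
    obtain ⟨Q⟩ : Nonempty (Sylow p (Subgroup.centralizer ({g} : Set G))) := inferInstance
    have hD : IsDefectGroup p M (blockOf M (χ₀ : G → ℂ))
        ((Q : Subgroup _).map (Subgroup.centralizer ({g} : Set G)).subtype) := ⟨g, hg, Q, rfl⟩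
    set D₀ := (Q : Subgroup _).map (Subgroup.centralizer ({g} : Set G)).subtype with hD₀
    have hcard := hsyl D₀ hD
    obtain ⟨x, hx⟩ := MulAction.exists_smul_eq G (Sylow.ofCard D₀ hcard) P
    have hconj := Helper78.isDefectGroup_map_conj χ₀ hD x
    have heq : (P : Subgroup G) = D₀.map (MulAut.conj x).toMonoidHom := by
      rw [← hx]
      rfl
    rw [heq]
    exact hconj
  · intro D hD
    exact ⟨Sylow.ofCard D (hsyl D hD), rfl⟩

end Cfsg.Agent.Helper74
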