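import Cfsg.Agent.Helper74.FongHtInv
import Cfsg.Agent.Helper74.FongFinal
import Cfsg.Agent.Helper77.PIndexNilpotent
import Cfsg.Agent.Helper77.MaxPair
import Cfsg.Agent.Helper16.QuotientDefect2
import Cfsg.Agent.S4435
import Cfsg.Agent.S4436
import Cfsg.Agent.S4176

/-!
# Fong's height bound for `p`-solvable groups (helper74)

`fong_height_le`: in a `p`-solvable group the height of every character of a block with defect
group `P` is at most `ν_p |P : Z(P)|`.  Proof: Fong–Reynolds reduction (S4435/S4436) to the case of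
an invariant character of `O_{p'}(G)`, where the block is `Irr(G | θ)` with Sylow defect groups
(`fong_pPrimeCore_block`) and the relative Ito theorem applies.
-/

set_option autoImplicit false

namespace Cfsg.Agent.Helper74

open Cfsg

universe u

theorem exists_isDefectGroup {G : Type u} [Group G] [Finite G] {p : ℕ} [Fact p.Prime]
    {M : Ideal AlgInt} (hM : IsPModular p M) {B : Set (IrrCharacter G)} (hB : IsPBlock M B) :
    ∃ D : Subgroup G, IsDefectGroup p M B D := by
  obtain ⟨g, hg⟩ := Cfsg.Agent.S0906.result p M hM B hB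
  obtain ⟨Q⟩ : Nonempty (Sylow p (Subgroup.centralizer ({g} : Set G))) := inferInstance
  exact ⟨_, g, hg, Q, rfl⟩

theorem blockOf_eq_singleton_of_not_dvd {N : Type u} [Group N] [Fintype N] {p : ℕ}
    [hp : Fact p.Prime] {M : Ideal AlgInt} (hM : IsPModular p M) (hNp : ¬ p ∣ Nat.card N)
    (θ : IrrCharacter N) : blockOf M (θ : N → ℂ) = {θ} := by
  rw [← Cfsg.Agent.S0914.result p M hM θ]
  intro h
  exact hNp (h.trans (Nat.div_dvd_of_dvd (charDegree_dvd_card θ)))

theorem card_lt_of_ne_top {G : Type u} [Group G] [Finite G] {T : Subgroup G} (hT : T ≠ ⊤) :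
    Nat.card T < Nat.card G := by
  have h1 := T.card_mul_index
  have h2 : T.index ≠ 1 := fun h => hT (Subgroup.index_eq_one.mp h)
  have h3 : T.index ≠ 0 := Subgroup.index_ne_zero_of_finite
  have h4 : 2 ≤ T.index := by omega
  have h5 : 0 < Nat.card T := Nat.card_pos
  nlinarith

theorem fong_height_le (p : ℕ) [hp : Fact p.Prime] (M : Ideal AlgInt) (hM : IsPModular p M) :
    ∀ (n : ℕ) (G : Type u) [Group G] [Fintype G], Nat.card G = n → IsPSolvable p G →
      ∀ (B : Set (IrrCharacter G)), IsPBlock M B → ∀ (P : Subgroup G), IsDefectGroup p M B P →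
      ∀ χ : IrrCharacter G, χ ∈ B →
        blockHeight p B (χ : G → ℂ) ≤ ((Subgroup.center P).index).factorization p := by
  intro n
  induction n using Nat.strong_induction_on with
  | _ n ih =>
  intro G _ _ hcard hsolv B hB P hP χ hχ
  classical
  have hMp : M.IsPrime := Helper16.IsPModular.isPrime hM
  let _ : Fintype (pPrimeCore p G) := Fintype.ofFinite _
  obtain ⟨θ, hθ⟩ := Helper77.exists_constituent_res (pPrimeCore p G) χ
  by_cases hinv : ∀ g : G, Helper15.conjFun (pPrimeCore p G) g (θ : pPrimeCore p G → ℂ)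
      = (θ : pPrimeCore p G → ℂ)
  · -- invariant case
    obtain ⟨B₀, hB₀, hmem, _, hsyl⟩ := fong_pPrimeCore_block p M hM hsolv (pPrimeCore p G) rfl θ
      (fun g n => by
        have := congrFun (hinv g) n
        rwa [Helper15.conjFun_apply] at this)
    have hχB₀ : χ ∈ B₀ := (hmem χ).mpr hθ
    have hBB : B = B₀ := Helper78.isPBlock_eq_of_mem_of_mem hMp hB hB₀ hχ hχB₀
    subst hBB
    obtain ⟨P', rfl⟩ := hsyl P hP
    unfold blockHeight
    exact (Nat.sub_le _ _).trans (factorization_degree_le_of_invariant hsolv θ hinv χ hθ P')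
  · -- Fong–Reynolds reduction
    have hNp : ¬ p ∣ Nat.card (pPrimeCore p G) :=
      (Nat.Prime.coprime_iff_not_dvd hp.out).mp (Cfsg.Agent.Lib.card_pPrimeCore_coprime p).symm
    have hbθ : blockOf M (θ : pPrimeCore p G → ℂ) = {θ} :=
      blockOf_eq_singleton_of_not_dvd hM hNp θ
    obtain ⟨T, hTdef⟩ : ∃ T : Subgroup G,
        T = Helper15.inertia (pPrimeCore p G) (θ : pPrimeCore p G → ℂ) := ⟨_, rfl⟩
    have hNT : pPrimeCore p G ≤ T := hTdef ▸
      Helper15.le_inertia (pPrimeCore p G) (isClassFunction_of_isCharacter (irr_isCharacter θ))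
    have hTne : T ≠ ⊤ := by
      intro h
      apply hinv
      intro g
      have : g ∈ T := h ▸ Subgroup.mem_top g
      rw [hTdef] at this
      exact (Helper15.mem_inertia (pPrimeCore p G) _ g).mp this
    let _ : Fintype T := Fintype.ofFinite T
    have hT : ∀ g : G, g ∈ T ↔ ∀ θ' ∈ blockOf M (θ : pPrimeCore p G → ℂ),
        ∀ θ'' : IrrCharacter (pPrimeCore p G),
          (∀ n : pPrimeCore p G, (θ'' : pPrimeCore p G → ℂ) n = (θ' : pPrimeCore p G → ℂ)
            ⟨g * n * g⁻¹, (pPrimeCore_normal p G).conj_mem n n.2 g⟩) →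
          θ'' ∈ blockOf M (θ : pPrimeCore p G → ℂ) := by
      intro g
      rw [hbθ, hTdef]
      constructor
      · intro hg θ' hθ' θ'' h
        rw [Set.mem_singleton_iff] at hθ' ⊢
        subst hθ'
        apply Subtype.ext
        funext n
        rw [h n]
        exact congrFun ((Helper15.mem_inertia (pPrimeCore p G) _ g).mp hg) n
      · intro h
        have := h θ rfl (Helper16.irrConj (pPrimeCore p G) g θ) (fun n => rfl)
        rw [Set.mem_singleton_iff] at this
        exact (Helper15.mem_inertia (pPrimeCore p G) _ g).mpr (congrArg Subtype.val this)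
    have hb : IsPBlock M (blockOf M (θ : pPrimeCore p G → ℂ)) := ⟨θ, rfl⟩
    have hcovB : ∃ χ' ∈ B, ∃ θ' ∈ blockOf M (θ : pPrimeCore p G → ℂ),
        classInner (fun n : pPrimeCore p G => (χ' : G → ℂ) n) (θ' : pPrimeCore p G → ℂ) ≠ 0 :=
      ⟨χ, hχ, θ, Helper16.sameBlock_refl _, hθ⟩
    obtain ⟨h_i, _, h_iii⟩ := Cfsg.Agent.S4435.result p M hM (pPrimeCore p G) _ hb T hT hNT
    obtain ⟨B', hB', hcov', hind⟩ := h_iii B hB hcovB
    obtain ⟨B₂, hind₂, _, _, hmemB₂⟩ := h_i B' hB' hcov'
    have hBB₂ : B = B₂ := Helper77.isInducedBlock_unique T hind hind₂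
    obtain ⟨ψ, hψB', hχψ⟩ := (hmemB₂ χ).mp (hBB₂ ▸ hχ)
    obtain ⟨hdef, hht⟩ :=
      Cfsg.Agent.S4436.result p M hM (pPrimeCore p G) _ hb T hT hNT B' hB' hcov' B hind
    obtain ⟨χ', hχ'B, hχ'ψ, hheight⟩ := hht ψ hψB'
    have h1 : blockHeight p B (χ : G → ℂ) = blockHeight p B' (ψ : T → ℂ) := by
      rw [hχψ, ← hχ'ψ]; exact hheight
    rw [h1]
    obtain ⟨D', hD'⟩ := exists_isDefectGroup hM hB'
    have hlt : Nat.card T < n := by
      rw [← hcard]
      exact card_lt_of_ne_top hTne
    have hIH := ih (Nat.card T) hlt T rfl (Cfsg.Agent.S4176.isPSolvable_subgroup T hsolv)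
      B' hB' D' hD' ψ hψB'
    refine hIH.trans (le_of_eq ?_)
    have hDG := hdef D' hD'
    obtain ⟨g, hg⟩ := Helper16.exists_conj_eq_of_isDefectGroup hM hB hDG hP
    subst hg
    congr 2
    let e1 : D' ≃* D'.map T.subtype := D'.equivMapOfInjective T.subtype T.subtype_injective
    let e2 : (D'.map T.subtype) ≃* ((D'.map T.subtype).map (MulAut.conj g).toMonoidHom) :=
      Subgroup.equivMapOfInjective _ _ (MulAut.conj g).injective
    exact index_center_congr (e1.trans e2)

end Cfsg.Agent.Helper74
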