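import Mathlib
import Cfsg.Agent.Helper30.HallSym.Defs

/-!
# Hall subgroups of `A_n` (helper30, #6463): piece (A-5)

A primitive subgroup of odd index in `A_n` (`n ≥ 5`) is 2-transitive: it contains a conjugate of
the Klein four group on four points, and Jordan's criterion applies.
-/

set_option autoImplicit false

open Equiv Equiv.Perm MulAction Subgroup Cfsg Cfsg.Agent.Helper30.HallSym
open scoped Nat Pointwise

universe u

namespace Cfsg.Agent.Helper74.HallSym

/-- The Klein four group in `Perm (Fin 4)`. -/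
def klein4 : Subgroup (Perm (Fin 4)) where
  carrier := {g | g = 1 ∨ g = swap 0 1 * swap 2 3 ∨ g = swap 0 2 * swap 1 3 ∨
    g = swap 0 3 * swap 1 2}
  mul_mem' := by
    rintro a b (rfl | rfl | rfl | rfl) (rfl | rfl | rfl | rfl) <;>
      simp only [Set.mem_setOf_eq] <;> decide
  one_mem' := Or.inl rfl
  inv_mem' := by
    rintro a (rfl | rfl | rfl | rfl) <;> simp only [Set.mem_setOf_eq] <;> decide

theorem mem_klein4 (g : Perm (Fin 4)) : g ∈ klein4 ↔ g = 1 ∨ g = swap 0 1 * swap 2 3 ∨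
    g = swap 0 2 * swap 1 3 ∨ g = swap 0 3 * swap 1 2 := Iff.rfl

theorem perm_inv_apply_self {β : Type*} (f : Perm β) (x : β) : f⁻¹ (f x) = x :=
  f.symm_apply_apply x

theorem perm_apply_inv_self {β : Type*} (f : Perm β) (x : β) : f (f⁻¹ x) = x :=
  f.apply_symm_apply x

theorem klein4_sq (g : Perm (Fin 4)) (hg : g ∈ klein4) : g ^ 2 = 1 := by
  rcases hg with rfl | rfl | rfl | rfl <;> decide

theorem klein4_sign (g : Perm (Fin 4)) (hg : g ∈ klein4) : sign g = 1 := by
  rcases hg with rfl | rfl | rfl | rfl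
  · simp
  · rw [Perm.sign_mul, sign_swap (by decide), sign_swap (by decide)]; rfl
  · rw [Perm.sign_mul, sign_swap (by decide), sign_swap (by decide)]; rfl
  · rw [Perm.sign_mul, sign_swap (by decide), sign_swap (by decide)]; rfl

theorem klein4_trans (i j : Fin 4) : ∃ g ∈ klein4, g i = j := by
  have h0 : ∀ j : Fin 4, ∃ g ∈ klein4, g 0 = j := by
    intro j
    fin_cases j
    · exact ⟨1, Or.inl rfl, rfl⟩
    · exact ⟨swap 0 1 * swap 2 3, Or.inr (Or.inl rfl), by decide⟩
    · exact ⟨swap 0 2 * swap 1 3, Or.inr (Or.inr (Or.inl rfl)), by decide⟩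
    · exact ⟨swap 0 3 * swap 1 2, Or.inr (Or.inr (Or.inr rfl)), by decide⟩
  obtain ⟨g, hg, hgi⟩ := h0 i
  obtain ⟨h, hh, hhj⟩ := h0 j
  refine ⟨h * g⁻¹, mul_mem hh (inv_mem hg), ?_⟩
  rw [← hgi, Perm.mul_apply, perm_inv_apply_self, hhj]

theorem klein4_isPGroup : IsPGroup 2 klein4 := by
  intro g
  refine ⟨1, ?_⟩
  apply Subtype.ext
  rw [pow_one]
  exact klein4_sq g g.2

/-- (A-5) -/
theorem alt_two_transitive_of_sylow_two {α : Type u} [Fintype α] [DecidableEq α]
    (M : Subgroup (Perm α)) (hle : M ≤ alternatingGroup α) (hprim : IsPreprimitive M α)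
    (hd : 5 ≤ Fintype.card α) (h2 : ¬ 2 ∣ M.relIndex (alternatingGroup α)) :
    IsMultiplyPretransitive M α 2 := by
  classical
  -- an embedding of four points
  obtain ⟨ι⟩ : Nonempty (Fin 4 ↪ α) := by
    apply Function.Embedding.nonempty_of_card_le
    rw [Fintype.card_fin]; omega
  -- the Klein four group inside `A`
  let ψ : klein4 →* Perm α := (Equiv.Perm.viaEmbeddingHom ι).comp klein4.subtype
  have hψ : ∀ k : klein4, ψ k = Equiv.Perm.viaEmbedding (k : Perm (Fin 4)) ι := fun k => rfl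
  have hψA : ∀ k : klein4, ψ k ∈ alternatingGroup α := by
    intro k
    rw [Equiv.Perm.mem_alternatingGroup, hψ]
    unfold Equiv.Perm.viaEmbedding
    rw [Equiv.Perm.sign_extendDomain]
    exact klein4_sign k k.2
  let ψA : klein4 →* alternatingGroup α := ψ.codRestrict (alternatingGroup α) hψA
  let _ : MulAction klein4 (alternatingGroup α ⧸ M.subgroupOf (alternatingGroup α)) :=
    MulAction.compHom _ ψA
  have hodd : ¬ 2 ∣ Nat.card (alternatingGroup α ⧸ M.subgroupOf (alternatingGroup α)) := h2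
  obtain ⟨q, hq⟩ := klein4_isPGroup.nonempty_fixed_point_of_prime_not_dvd_card
    (alternatingGroup α ⧸ M.subgroupOf (alternatingGroup α)) hodd
  induction q using QuotientGroup.induction_on with
  | H g =>
  have hmem : ∀ k : klein4, (g : Perm α)⁻¹ * ψ k * g ∈ M := by
    intro k
    have h1 : ((ψA k⁻¹ * g : alternatingGroup α) :
        alternatingGroup α ⧸ M.subgroupOf (alternatingGroup α)) = g := hq k⁻¹
    rw [QuotientGroup.eq, Subgroup.mem_subgroupOf] at h1
    have h3 : (((ψA k⁻¹ * g)⁻¹ * g : alternatingGroup α) : Perm α) =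
        (g : Perm α)⁻¹ * ψ k * g := by
      rw [map_inv]
      push_cast
      show ((ψ k)⁻¹ * (g : Perm α))⁻¹ * g = _
      group
    rw [← h3]
    exact h1
  -- the four-set and its complement
  set T : Set α := Set.range (fun i : Fin 4 => (g : Perm α)⁻¹ (ι i)) with hT
  have hTinj : Function.Injective (fun i : Fin 4 => (g : Perm α)⁻¹ (ι i)) := by
    intro i j hij
    exact ι.injective ((g : Perm α)⁻¹.injective hij)
  have hTcard : T.ncard = 4 := by
    rw [hT, Set.ncard_range_of_injective hTinj]  -- hope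
    simp
  have hsn : (Tᶜ).ncard = (Fintype.card α - 5) + 1 := by
    rw [Set.ncard_compl, hTcard, Nat.card_eq_fintype_card]
    omega
  have hsn' : (Fintype.card α - 5) + 2 < Nat.card α := by
    rw [Nat.card_eq_fintype_card]; omega
  apply hprim.is_two_pretransitive hsn hsn'
  constructor
  rintro ⟨x, hx⟩ ⟨y, hy⟩
  rw [SubMulAction.mem_ofFixingSubgroup_iff, Set.notMem_compl_iff] at hx hy
  obtain ⟨i, rfl⟩ := hx
  obtain ⟨j, rfl⟩ := hy
  obtain ⟨k, hk, hkij⟩ := klein4_trans i j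
  have hfix : (⟨(g : Perm α)⁻¹ * ψ ⟨k, hk⟩ * g, hmem ⟨k, hk⟩⟩ : M) ∈ fixingSubgroup M Tᶜ := by
    rw [mem_fixingSubgroup_iff]
    intro z hz
    show ((g : Perm α)⁻¹ * ψ ⟨k, hk⟩ * g) z = z
    rw [Perm.mul_apply, Perm.mul_apply, hψ]
    have hgz : (g : Perm α) z ∉ Set.range ι := by
      rintro ⟨i', hi'⟩
      apply hz
      refine ⟨i', ?_⟩
      show (g : Perm α)⁻¹ (ι i') = z
      rw [hi', perm_inv_apply_self]
    rw [Equiv.Perm.viaEmbedding_apply_of_notMem _ _ _ hgz, perm_inv_apply_self]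
  refine ⟨⟨_, hfix⟩, ?_⟩
  apply Subtype.ext
  show ((g : Perm α)⁻¹ * ψ ⟨k, hk⟩ * g) ((g : Perm α)⁻¹ (ι i)) = (g : Perm α)⁻¹ (ι j)
  rw [Perm.mul_apply, Perm.mul_apply, perm_apply_inv_self, hψ, Equiv.Perm.viaEmbedding_apply]
  show (g : Perm α)⁻¹ (ι (k i)) = _
  rw [hkij]

end Cfsg.Agent.Helper74.HallSym
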