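import Mathlib
import Cfsg.Agent.Helper30.HallSym.Defs

/-!
# Hall subgroups of `A_n` (helper30, #6463): pieces (A-9) and (A-10)
-/

set_option autoImplicit false

open Equiv Equiv.Perm MulAction Subgroup Cfsg Cfsg.Agent.Helper30.HallSym
open scoped Nat Pointwise

universe u

namespace Cfsg.Agent.Helper74.HallSym

/-- (A-9) -/
theorem isPiHall_iff_isPiHallOf_map {G : Type u} [Group G] {π : Set ℕ} (A : Subgroup G)
    (M : Subgroup A) : IsPiHall π M ↔ IsPiHallOf π (M.map A.subtype) A := by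
  have hcard : Nat.card (M.map A.subtype) = Nat.card M :=
    Subgroup.card_map_of_injective A.subtype_injective
  have hrel : (M.map A.subtype).relIndex A = M.index := by
    unfold Subgroup.relIndex
    congr 1
    ext x
    rw [Subgroup.mem_subgroupOf, Subgroup.mem_map]
    constructor
    · rintro ⟨y, hy, hxy⟩
      have : y = x := Subtype.ext hxy
      rwa [← this]
    · intro hx
      exact ⟨x, hx, rfl⟩
  unfold IsPiHall IsPiHallOf
  rw [hcard, hrel]
  constructor
  · rintro ⟨h1, h2⟩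
    exact ⟨Subgroup.map_subtype_le M, h1, h2⟩
  · rintro ⟨_, h1, h2⟩
    exact ⟨h1, h2⟩

/-- (A-10) -/
theorem eq_inf_of_isPiHallOf_le {G : Type u} [Group G] [Finite G] {π : Set ℕ} {M X A : Subgroup G}
    (hM : IsPiHallOf π M A) (hX : ∀ p : ℕ, p.Prime → p ∣ Nat.card X → p ∈ π) (hle : M ≤ X) :
    M = X ⊓ A := by
  obtain ⟨hMA, _, hidx⟩ := hM
  have h1 : M ≤ X ⊓ A := le_inf hle hMA
  apply le_antisymm h1
  rw [← Subgroup.relIndex_eq_one]
  by_contra hne
  obtain ⟨p, hp, hpd⟩ := Nat.exists_prime_and_dvd hne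
  have h2 : M.relIndex (X ⊓ A) * (X ⊓ A).relIndex A = M.relIndex A :=
    Subgroup.relIndex_mul_relIndex M (X ⊓ A) A h1 inf_le_right
  have h3 : p ∣ M.relIndex A := by
    rw [← h2]; exact Dvd.dvd.mul_right hpd _
  have h4 : p ∣ Nat.card X := by
    have h5 : M.relIndex (X ⊓ A) ∣ Nat.card (X ⊓ A : Subgroup G) := Subgroup.relIndex_dvd_card _ _
    have h6 : Nat.card (X ⊓ A : Subgroup G) ∣ Nat.card X := Subgroup.card_dvd_of_le inf_le_left
    exact hpd.trans (h5.trans h6)
  exact hidx p hp (hX p hp h4) h3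

end Cfsg.Agent.Helper74.HallSym
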