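import Mathlib
import Cfsg.Agent.Helper21.Fitting
import Cfsg.Agent.Helper11.CoprimeComm
import Cfsg.Agent.Helper48.CoprimeGen

/-!
# Group-theoretic parts of Kazarin's theorem (helper74)

* `exists_mul_of_index_eq_pow`: if `C` has `p`-power index and `P` is a Sylow `p`-subgroup then
  `G = P C`.
* `isSolvable_biSup`: a join of solvable subgroups of `H`, each normalized by `H`, is solvable.
* `isSolvable_normalClosure_of_pElement`: a `p`-element with a class of `p`-power size has a
  `p`-group as normal closure.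
-/

set_option autoImplicit false

namespace Cfsg.Agent.Helper74.Kazarin

open scoped commutatorElement

variable {G : Type*} [Group G]

/-- If `C` has `p`-power index and `P` is a Sylow `p`-subgroup then `G = P C`. -/
theorem exists_mul_of_index_eq_pow [Finite G] {p : ℕ} [hp : Fact p.Prime] (P : Sylow p G)
    (C : Subgroup G) {b : ℕ} (hC : C.index = p ^ b) :
    ∀ g : G, ∃ t ∈ (P : Subgroup G), ∃ c ∈ C, g = t * c := by
  apply Helper11.exists_mul_of_card_le
  set I : Subgroup G := (P : Subgroup G) ⊓ C with hI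
  have hIP : I ≤ (P : Subgroup G) := inf_le_left
  have hIC : I ≤ C := inf_le_right
  have h1 : I.relIndex (P : Subgroup G) * (P : Subgroup G).index = I.index :=
    Subgroup.relIndex_mul_index hIP
  have h2 : I.relIndex C * C.index = I.index := Subgroup.relIndex_mul_index hIC
  have hcop : Nat.Coprime (p ^ b) (P : Subgroup G).index :=
    Nat.Coprime.pow_left b ((Nat.Prime.coprime_iff_not_dvd hp.out).2 P.not_dvd_index)
  have hdvd : p ^ b ∣ I.relIndex (P : Subgroup G) := by
    apply hcop.dvd_of_dvd_mul_right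
    rw [h1, ← h2, hC]
    exact dvd_mul_left _ _
  have hpos : 0 < I.relIndex (P : Subgroup G) := by
    rw [Nat.pos_iff_ne_zero]
    intro h0
    rw [h0, zero_mul] at h1
    have : I.index ≠ 0 := Subgroup.index_ne_zero_of_finite
    exact this h1.symm
  have hle : p ^ b ≤ I.relIndex (P : Subgroup G) := Nat.le_of_dvd hpos hdvd
  have hcardP : Nat.card I * I.relIndex (P : Subgroup G) = Nat.card (P : Subgroup G) := by
    have h3 := Subgroup.card_mul_index (I.subgroupOf (P : Subgroup G))
    have h4 : Nat.card (I.subgroupOf (P : Subgroup G)) = Nat.card I :=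
      Nat.card_congr (Subgroup.subgroupOfEquivOfLe hIP).toEquiv
    rw [h4] at h3
    exact h3
  have hcardG : Nat.card C * C.index = Nat.card G := Subgroup.card_mul_index C
  calc Nat.card G * Nat.card I = Nat.card C * (p ^ b * Nat.card I) := by
        rw [← hcardG, hC]; ring
    _ ≤ Nat.card C * (I.relIndex (P : Subgroup G) * Nat.card I) := by gcongr
    _ = Nat.card (P : Subgroup G) * Nat.card C := by rw [← hcardP]; ring

/-- A finite join of solvable subgroups of `H`, each normalized by `H`, is solvable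
(and again a subgroup of `H` normalized by `H`). -/
theorem isSolvable_biSup_aux {ι : Type*} (s : Finset ι) (A : ι → Subgroup G) (H : Subgroup G)
    (hle : ∀ i ∈ s, A i ≤ H) (hn : ∀ i ∈ s, H ≤ Subgroup.normalizer (A i : Set G))
    (hs : ∀ i ∈ s, Group.IsSolvable (A i)) :
    Group.IsSolvable ↥(⨆ i ∈ s, A i) ∧ (⨆ i ∈ s, A i) ≤ H ∧
      H ≤ Subgroup.normalizer ((⨆ i ∈ s, A i : Subgroup G) : Set G) := by
  classical
  induction s using Finset.induction_on with
  | empty =>
    have h0 : (⨆ i ∈ (∅ : Finset ι), A i) = ⊥ := by simp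
    rw [h0]
    refine ⟨inferInstance, bot_le, ?_⟩
    intro h _
    rw [Subgroup.mem_normalizer_iff]
    intro x
    simp only [Subgroup.mem_bot]
    constructor
    · rintro rfl; simp
    · intro hx
      have := congrArg (fun t => h⁻¹ * t * h) hx
      simpa [mul_assoc] using this
  | insert a s ha ih =>
    obtain ⟨ih1, ih2, ih3⟩ := ih (fun i hi => hle i (Finset.mem_insert_of_mem hi))
      (fun i hi => hn i (Finset.mem_insert_of_mem hi))
      (fun i hi => hs i (Finset.mem_insert_of_mem hi))
    rw [Finset.iSup_insert]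
    have hAa : A a ≤ H := hle a (Finset.mem_insert_self a s)
    refine ⟨?_, sup_le hAa ih2, ?_⟩
    · exact Helper21.isSolvable_sup (hs a (Finset.mem_insert_self a s)) ih1 (hAa.trans ih3)
    · exact Helper21.le_normalizer_sup (hn a (Finset.mem_insert_self a s)) ih3

theorem isSolvable_iSup [Finite G] {ι : Type*} [Finite ι] (A : ι → Subgroup G) (H : Subgroup G)
    (hle : ∀ i, A i ≤ H) (hn : ∀ i, H ≤ Subgroup.normalizer (A i : Set G))
    (hs : ∀ i, Group.IsSolvable (A i)) :
    Group.IsSolvable ↥(⨆ i, A i) := by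
  classical
  have : Fintype ι := Fintype.ofFinite ι
  have h := (isSolvable_biSup_aux Finset.univ A H (fun i _ => hle i) (fun i _ => hn i)
    (fun i _ => hs i)).1
  have e : (⨆ i ∈ (Finset.univ : Finset ι), A i) = ⨆ i, A i := by simp
  rw [e] at h
  exact h

/-- A subgroup of a solvable subgroup is solvable. -/
theorem isSolvable_of_le {A B : Subgroup G} (h : A ≤ B) (hB : Group.IsSolvable B) :
    Group.IsSolvable A :=
  Group.isSolvable_of_isSolvable_injective (Subgroup.inclusion_injective h)

/-- A finite `p`-group is solvable. -/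
theorem isSolvable_of_isPGroup {p : ℕ} [Fact p.Prime] {H : Type*} [Group H] [Finite H]
    (h : IsPGroup p H) : Group.IsSolvable H := by
  have : Group.IsNilpotent H := h.isNilpotent
  infer_instance

/-- A `p`-element whose class has `p`-power size: its normal closure lies in a Sylow
`p`-subgroup. -/
theorem normalClosure_le_sylow [Finite G] {p : ℕ} [hp : Fact p.Prime] (x : G) (P : Sylow p G)
    (hx : x ∈ (P : Subgroup G)) {a : ℕ}
    (h : (Subgroup.centralizer ({x} : Set G)).index = p ^ a) :
    Subgroup.normalClosure ({x} : Set G) ≤ (P : Subgroup G) := by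
  rw [Subgroup.normalClosure, Subgroup.closure_le]
  intro y hy
  rw [Group.mem_conjugatesOfSet_iff] at hy
  obtain ⟨z, hz, hzy⟩ := hy
  rw [Set.mem_singleton_iff] at hz
  subst hz
  rw [isConj_iff] at hzy
  obtain ⟨g, rfl⟩ := hzy
  obtain ⟨t, ht, c, hc, rfl⟩ := exists_mul_of_index_eq_pow P _ h g
  rw [Subgroup.mem_centralizer_singleton_iff] at hc
  have : t * c * z * (t * c)⁻¹ = t * z * t⁻¹ := by
    rw [mul_inv_rev, mul_assoc t c z, hc]
    group
  rw [SetLike.mem_coe, this]
  exact (P : Subgroup G).mul_mem ((P : Subgroup G).mul_mem ht hx) ((P : Subgroup G).inv_mem ht)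

theorem isSolvable_normalClosure_of_pElement [Finite G] {p : ℕ} [hp : Fact p.Prime] (x : G)
    {f : ℕ} (hxo : orderOf x = p ^ f) {a : ℕ}
    (h : (Subgroup.centralizer ({x} : Set G)).index = p ^ a) :
    Group.IsSolvable ↥(Subgroup.normalClosure ({x} : Set G)) := by
  have hz : IsPGroup p (Subgroup.zpowers x) := by
    apply IsPGroup.of_card (n := f)
    rw [Nat.card_zpowers, hxo]
  obtain ⟨P, hP⟩ := hz.exists_le_sylow
  have hxP : x ∈ (P : Subgroup G) := hP (Subgroup.mem_zpowers x)
  exact isSolvable_of_le (normalClosure_le_sylow x P hxP h) (isSolvable_of_isPGroup P.2)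

/-- For a normal subgroup `R`, the relative index `|R : R ∩ Y|` divides `|G : Y|`. -/
theorem relIndex_dvd_index_of_normal_right [Finite G] (R Y : Subgroup G) [R.Normal] :
    Y.relIndex R ∣ Y.index := by
  have hYH : Y ≤ Y ⊔ R := le_sup_left
  have h1 := Subgroup.relIndex_mul_index hYH
  have hρ : R.relIndex (Y ⊔ R) = (Y ⊓ R).relIndex Y := by
    rw [Subgroup.relIndex_sup_right, inf_comm, Subgroup.inf_relIndex_right]
  have c1 := Subgroup.relIndex_mul_relIndex (Y ⊓ R) R (Y ⊔ R) inf_le_right le_sup_right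
  have c2 := Subgroup.relIndex_mul_relIndex (Y ⊓ R) Y (Y ⊔ R) inf_le_left le_sup_left
  rw [Subgroup.inf_relIndex_right, hρ] at c1
  have hne : (Y ⊓ R).relIndex Y ≠ 0 := by
    rw [Subgroup.relIndex]; exact Subgroup.index_ne_zero_of_finite
  have : Y.relIndex R = Y.relIndex (Y ⊔ R) := by
    have h3 : (Y ⊓ R).relIndex Y * Y.relIndex R = (Y ⊓ R).relIndex Y * Y.relIndex (Y ⊔ R) := by
      rw [c2, mul_comm, c1]
    exact Nat.eq_of_mul_eq_mul_left (Nat.pos_of_ne_zero hne) h3
  rw [this, ← h1]
  exact dvd_mul_right _ _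

/-- The centralizer of an element of a subgroup, computed in the subgroup. -/
theorem centralizer_subtype_eq (H : Subgroup G) (x : G) (hx : x ∈ H) :
    Subgroup.centralizer ({(⟨x, hx⟩ : H)} : Set H) =
      (Subgroup.centralizer ({x} : Set G)).subgroupOf H := by
  ext c
  rw [Subgroup.mem_centralizer_singleton_iff, Subgroup.mem_subgroupOf,
    Subgroup.mem_centralizer_singleton_iff]
  constructor
  · intro h
    exact congrArg Subtype.val h
  · intro h
    exact Subtype.ext h

/-- `p`-power class size passes to normal subgroups. -/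
theorem exists_index_centralizer_subtype [Finite G] {p : ℕ} (hp : p.Prime) (H : Subgroup G)
    [H.Normal] (x : G) (hx : x ∈ H) {a : ℕ}
    (h : (Subgroup.centralizer ({x} : Set G)).index = p ^ a) :
    ∃ b : ℕ, (Subgroup.centralizer ({(⟨x, hx⟩ : H)} : Set H)).index = p ^ b := by
  rw [centralizer_subtype_eq]
  have h1 : (Subgroup.centralizer ({x} : Set G)).relIndex H ∣ p ^ a := by
    rw [← h]
    exact relIndex_dvd_index_of_normal_right H _
  obtain ⟨b, -, hb⟩ := (Nat.dvd_prime_pow hp).1 h1
  exact ⟨b, hb⟩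

/-- `p`-power class size passes to powers. -/
theorem exists_index_centralizer_pow {p : ℕ} (hp : p.Prime) (x : G) (k : ℕ) {a : ℕ}
    (h : (Subgroup.centralizer ({x} : Set G)).index = p ^ a) :
    ∃ b : ℕ, (Subgroup.centralizer ({x ^ k} : Set G)).index = p ^ b := by
  have hle : Subgroup.centralizer ({x} : Set G) ≤ Subgroup.centralizer ({x ^ k} : Set G) := by
    intro c hc
    rw [Subgroup.mem_centralizer_singleton_iff] at hc ⊢
    exact ((Commute.pow_right (show Commute c x from hc) k)).eq
  have h1 := Subgroup.index_dvd_of_le hle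
  rw [h] at h1
  obtain ⟨b, -, hb⟩ := (Nat.dvd_prime_pow hp).1 h1
  exact ⟨b, hb⟩

/-- Descent to a normal subgroup containing `x`. -/
theorem isSolvable_normalClosure_of_normal [Finite G] (H : Subgroup G) [hH : H.Normal] (x : G)
    (hx : x ∈ H)
    (hIH : Group.IsSolvable ↥(Subgroup.normalClosure ({(⟨x, hx⟩ : H)} : Set H))) :
    Group.IsSolvable ↥(Subgroup.normalClosure ({x} : Set G)) := by
  set S₀ : Subgroup H := Subgroup.normalClosure ({(⟨x, hx⟩ : H)} : Set H) with hS₀
  set S' : Subgroup G := S₀.map H.subtype with hS'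
  have hS'H : S' ≤ H := by
    rintro _ ⟨s, -, rfl⟩
    exact s.2
  have hxS' : x ∈ S' := ⟨⟨x, hx⟩, Subgroup.subset_normalClosure (Set.mem_singleton _), rfl⟩
  -- `S'` is stable under conjugation by `H`
  have hconj : ∀ h ∈ H, ∀ s ∈ S', h * s * h⁻¹ ∈ S' := by
    rintro h hh _ ⟨s, hs, rfl⟩
    refine ⟨⟨h, hh⟩ * s * ⟨h, hh⟩⁻¹, ?_, rfl⟩
    exact (Subgroup.normalClosure_normal).conj_mem s hs ⟨h, hh⟩
  let A : G → Subgroup G := fun g => S'.map (MulAut.conj g).toMonoidHom
  have hmemA : ∀ g y, y ∈ A g ↔ g⁻¹ * y * g ∈ S' := by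
    intro g y
    constructor
    · rintro ⟨s, hs, rfl⟩
      simpa [mul_assoc] using hs
    · intro h
      exact ⟨g⁻¹ * y * g, h, by simp [mul_assoc]⟩
  have hAle : ∀ g, A g ≤ H := by
    intro g y hy
    rw [hmemA] at hy
    have := hH.conj_mem _ (hS'H hy) g
    simpa [mul_assoc] using this
  have hAn : ∀ g, H ≤ Subgroup.normalizer (A g : Set G) := by
    intro g h hh
    rw [Subgroup.mem_normalizer_iff]
    intro y
    rw [hmemA, hmemA]
    have hh' : g⁻¹ * h * g ∈ H := by
      have := hH.conj_mem h hh g⁻¹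
      simpa using this
    have hh'' : (g⁻¹ * h * g)⁻¹ ∈ H := H.inv_mem hh'
    constructor
    · intro hy
      have := hconj _ hh' _ hy
      have e : g⁻¹ * h * g * (g⁻¹ * y * g) * (g⁻¹ * h * g)⁻¹ = g⁻¹ * (h * y * h⁻¹) * g := by
        group
      rwa [e] at this
    · intro hy
      have := hconj _ hh'' _ hy
      have e : (g⁻¹ * h * g)⁻¹ * (g⁻¹ * (h * y * h⁻¹) * g) * (g⁻¹ * h * g)⁻¹⁻¹ = g⁻¹ * y * g := by
        group
      rwa [e] at this
  have hAs : ∀ g, Group.IsSolvable (A g) := by
    intro g
    have h1 : Group.IsSolvable S' :=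
      Group.isSolvable_of_surjective (f := H.subtype.subgroupMap S₀)
        (MonoidHom.subgroupMap_surjective _ _)
    exact Group.isSolvable_of_surjective
      (f := (MulAut.conj g).toMonoidHom.subgroupMap S')
      (MonoidHom.subgroupMap_surjective _ _)
  have hsup := isSolvable_iSup A H hAle hAn hAs
  refine isSolvable_of_le ?_ hsup
  rw [Subgroup.normalClosure, Subgroup.closure_le]
  intro y hy
  rw [Group.mem_conjugatesOfSet_iff] at hy
  obtain ⟨z, hz, hzy⟩ := hy
  rw [Set.mem_singleton_iff] at hz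
  subst hz
  rw [isConj_iff] at hzy
  obtain ⟨g, rfl⟩ := hzy
  apply Subgroup.mem_iSup_of_mem g
  rw [hmemA]
  simpa [mul_assoc] using hxS'

/-- Coprime decomposition. -/
theorem normalClosure_le_sup_of_coprime (x : G) {m n : ℕ} (h : Nat.Coprime m n) :
    Subgroup.normalClosure ({x} : Set G) ≤
      Subgroup.normalClosure ({x ^ m} : Set G) ⊔ Subgroup.normalClosure ({x ^ n} : Set G) := by
  apply Subgroup.normalClosure_le_normal
  rw [Set.singleton_subset_iff, SetLike.mem_coe]
  have hb := Int.gcd_eq_gcd_ab m n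
  have hg : Int.gcd (m : ℤ) (n : ℤ) = 1 := by
    rw [Int.gcd_natCast_natCast]; exact h
  rw [hg] at hb
  have hx : x = (x ^ m) ^ (Int.gcdA m n) * (x ^ n) ^ (Int.gcdB m n) := by
    rw [← zpow_natCast x m, ← zpow_natCast x n, ← zpow_mul, ← zpow_mul, ← zpow_add, ← hb]
    simp
  have key : (x ^ m) ^ (Int.gcdA m n) * (x ^ n) ^ (Int.gcdB m n) ∈
      Subgroup.normalClosure ({x ^ m} : Set G) ⊔ Subgroup.normalClosure ({x ^ n} : Set G) :=
    Subgroup.mul_mem _
      (Subgroup.mem_sup_left (Subgroup.zpow_mem _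
        (Subgroup.subset_normalClosure (Set.mem_singleton _)) _))
      (Subgroup.mem_sup_right (Subgroup.zpow_mem _
        (Subgroup.subset_normalClosure (Set.mem_singleton _)) _))
  rw [← hx] at key
  exact key

/-- A subgroup containing the commutator subgroup is normal. -/
theorem normal_of_commutator_le {U : Subgroup G} (h : commutator G ≤ U) : U.Normal := by
  constructor
  intro n hn g
  have h1 : ⁅g, n⁆ ∈ commutator G := by
    rw [commutator_def]
    exact Subgroup.commutator_mem_commutator (Subgroup.mem_top g) (Subgroup.mem_top n)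
  have h2 : g * n * g⁻¹ = ⁅g, n⁆ * n := by
    rw [commutatorElement_def]; group
  rw [h2]
  exact U.mul_mem (h h1) hn

/-- If the normal closure of `x` is everything then `G = G' ⟨x⟩`. -/
theorem commutator_sup_zpowers_eq_top (x : G)
    (htop : Subgroup.normalClosure ({x} : Set G) = ⊤) :
    commutator G ⊔ Subgroup.zpowers x = ⊤ := by
  have hn : (commutator G ⊔ Subgroup.zpowers x).Normal := normal_of_commutator_le le_sup_left
  rw [eq_top_iff, ← htop]
  apply Subgroup.normalClosure_le_normal
  rw [Set.singleton_subset_iff]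
  exact Subgroup.mem_sup_right (Subgroup.mem_zpowers x)

/-- If the normal closure of `x` is everything then `|G : G'|` divides the order of `x`. -/
theorem index_commutator_dvd_orderOf (x : G)
    (htop : Subgroup.normalClosure ({x} : Set G) = ⊤) :
    (commutator G).index ∣ orderOf x := by
  have h1 : (commutator G).relIndex (commutator G ⊔ Subgroup.zpowers x) =
      (commutator G).relIndex (Subgroup.zpowers x) := Subgroup.relIndex_sup_left _ _
  rw [commutator_sup_zpowers_eq_top x htop, Subgroup.relIndex_top_right] at h1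
  rw [h1, ← Nat.card_zpowers]
  exact Subgroup.relIndex_dvd_card _ _

/-- The final step of Kazarin's theorem: `G = G'⟨x⟩` with `G'` a `q'`-group and `x` a `q`-element
with a class of `p`-power size forces `G` to be solvable. -/
theorem isSolvable_of_coprime_commutator [Finite G] {p q : ℕ} [hp : Fact p.Prime]
    [hq : Fact q.Prime] (x : G) {f : ℕ} (hxo : orderOf x = q ^ f) {a : ℕ}
    (hidx : (Subgroup.centralizer ({x} : Set G)).index = p ^ a)
    (htop : Subgroup.normalClosure ({x} : Set G) = ⊤)
    (hcop : ¬ q ∣ Nat.card (commutator G)) : Group.IsSolvable G := by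
  set K : Subgroup G := commutator G with hK
  have hAq : IsPGroup q (Subgroup.zpowers x) := by
    apply IsPGroup.of_card (n := f)
    rw [Nat.card_zpowers, hxo]
  have hAK : Subgroup.zpowers x ≤ Subgroup.normalizer (K : Set G) := by
    rw [Subgroup.normalizer_eq_top]; exact le_top
  obtain ⟨T, hT⟩ := Helper48.exists_invariant_sylow K (Subgroup.zpowers x) hAK hAq hcop p
  -- factorization of `K`
  have h1 : (Subgroup.centralizer ({x} : Set G)).relIndex K ∣ p ^ a := by
    rw [← hidx]
    exact relIndex_dvd_index_of_normal_right K _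
  obtain ⟨b, -, hb⟩ := (Nat.dvd_prime_pow hp.out).1 h1
  have hfac := exists_mul_of_index_eq_pow T ((Subgroup.centralizer ({x} : Set G)).subgroupOf K) hb
  set T' : Subgroup G := (T : Subgroup K).map K.subtype with hT'
  have hT'K : T' ≤ K := by
    rintro _ ⟨t, -, rfl⟩
    exact t.2
  -- invariance
  have hinv : ∀ z ∈ Subgroup.zpowers x, ∀ t ∈ T', z * t * z⁻¹ ∈ T' := by
    rintro z hz _ ⟨t, ht, rfl⟩
    have hmem : z * (t : G) * z⁻¹ ∈ K :=
      (inferInstance : K.Normal).conj_mem _ t.2 z
    exact ⟨⟨z * (t : G) * z⁻¹, hmem⟩, hT z hz t ht hmem, rfl⟩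
  have hZn : Subgroup.zpowers x ≤ Subgroup.normalizer (T' : Set G) := by
    intro z hz
    rw [Subgroup.mem_normalizer_iff]
    intro y
    constructor
    · exact hinv z hz y
    · intro hy
      have := hinv z⁻¹ (Subgroup.inv_mem _ hz) _ hy
      simpa [mul_assoc] using this
  set L : Subgroup G := Subgroup.zpowers x ⊔ T' with hL
  have hLs : Group.IsSolvable L := by
    apply Helper21.isSolvable_sup _ _ hZn
    · infer_instance
    · have : IsPGroup p T' := T.2.map K.subtype
      exact isSolvable_of_isPGroup this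
  have hxL : x ∈ L := Subgroup.mem_sup_left (Subgroup.mem_zpowers x)
  have hTL : T' ≤ L := le_sup_right
  -- all conjugates of `x` lie in `L`
  have hconj : ∀ g : G, g * x * g⁻¹ ∈ L := by
    intro g
    have hg : g ∈ ((K ⊔ Subgroup.zpowers x : Subgroup G) : Set G) := by
      rw [hK, commutator_sup_zpowers_eq_top x htop]; trivial
    rw [Subgroup.normal_mul, Set.mem_mul] at hg
    obtain ⟨k, hk, z, hz, rfl⟩ := hg
    obtain ⟨t, ht, c, hc, hktc⟩ := hfac ⟨k, hk⟩
    rw [Subgroup.mem_subgroupOf, Subgroup.mem_centralizer_singleton_iff] at hc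
    have hk' : k = (t : G) * (c : G) := by
      have := congrArg Subtype.val hktc
      simpa using this
    have hzx : z * x = x * z := by
      obtain ⟨i, rfl⟩ := Subgroup.mem_zpowers_iff.1 hz
      exact ((Commute.refl x).zpow_left i).eq
    have e : k * z * x * (k * z)⁻¹ = (t : G) * (x * (t : G)⁻¹ * x⁻¹) * x := by
      rw [hk', mul_inv_rev, mul_assoc ((t : G) * (c : G)) z x, hzx]
      have : (t : G) * (c : G) * (x * z) * (z⁻¹ * ((t : G) * (c : G))⁻¹) =
          (t : G) * ((c : G) * x) * (c : G)⁻¹ * (t : G)⁻¹ := by group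
      rw [this, hc]
      group
    rw [e]
    have htT' : (t : G) ∈ T' := ⟨t, ht, rfl⟩
    exact L.mul_mem (L.mul_mem (hTL htT')
      (hTL (hinv x (Subgroup.mem_zpowers x) _ (T'.inv_mem htT')))) hxL
  have hLtop : L = ⊤ := by
    rw [eq_top_iff, ← htop, Subgroup.normalClosure, Subgroup.closure_le]
    intro y hy
    rw [Group.mem_conjugatesOfSet_iff] at hy
    obtain ⟨z, hz, hzy⟩ := hy
    rw [Set.mem_singleton_iff] at hz
    subst hz
    rw [isConj_iff] at hzy
    obtain ⟨g, rfl⟩ := hzy
    exact hconj g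
  rw [hLtop] at hLs
  exact Group.isSolvable_of_isSolvable_injective (f := (Subgroup.topEquiv (G := G)).symm.toMonoidHom)
    (Subgroup.topEquiv (G := G)).symm.injective

end Cfsg.Agent.Helper74.Kazarin
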