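import Mathlib
import Cfsg.Agent.Helper74.KazarinGroup
import Cfsg.Agent.Helper76.ClassSizeSylow

/-!
# Groups all of whose conjugacy class sizes are squarefree (helper74, S4130): basic definitions

* `SF G`: every class size `|G : C_G(x)|` is squarefree;
* `SF.quotient`, `SF.subgroup_normal`: inheritance by quotients and normal subgroups;
* `SF.not_sq_dvd`: no `p ^ 2` divides a class size.
-/

set_option autoImplicit false

namespace Cfsg.Agent.Helper74.Sqf

universe u

/-- All conjugacy class sizes of `G` are squarefree. -/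
def SF (G : Type*) [Group G] : Prop :=
  ∀ x : G, Squarefree (Subgroup.centralizer ({x} : Set G)).index

variable {G : Type*} [Group G]

theorem SF.not_sq_dvd (h : SF G) {p : ℕ} (hp : p.Prime) (x : G) :
    ¬ p ^ 2 ∣ (Subgroup.centralizer ({x} : Set G)).index := by
  intro hd
  have h1 := h x p (by rwa [← sq])
  exact hp.one_lt.ne' (Nat.isUnit_iff.mp h1)

theorem SF.of_surjective [Finite G] {H : Type*} [Group H] (f : G →* H)
    (hf : Function.Surjective f) (h : SF G) : SF H := by
  intro y
  obtain ⟨x, rfl⟩ := hf y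
  exact (h x).squarefree_of_dvd (Helper76.index_centralizer_map_dvd f hf x)

theorem SF.quotient [Finite G] (N : Subgroup G) [N.Normal] (h : SF G) : SF (G ⧸ N) :=
  h.of_surjective (QuotientGroup.mk' N) (QuotientGroup.mk'_surjective N)

theorem SF.subgroup_normal [Finite G] (N : Subgroup G) [N.Normal] (h : SF G) : SF N := by
  rintro ⟨x, hx⟩
  rw [Kazarin.centralizer_subtype_eq]
  exact (h x).squarefree_of_dvd (Kazarin.relIndex_dvd_index_of_normal_right N _)

/-- The `p ^ 2`-free hypothesis passes to quotients. -/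
theorem not_sq_dvd_of_surjective [Finite G] {H : Type*} [Group H] (f : G →* H)
    (hf : Function.Surjective f) {p : ℕ}
    (h : ∀ x : G, ¬ p ^ 2 ∣ (Subgroup.centralizer ({x} : Set G)).index) :
    ∀ y : H, ¬ p ^ 2 ∣ (Subgroup.centralizer ({y} : Set H)).index := by
  intro y hd
  obtain ⟨x, rfl⟩ := hf y
  exact h x (hd.trans (Helper76.index_centralizer_map_dvd f hf x))

/-- The `p ^ 2`-free hypothesis passes to normal subgroups. -/
theorem not_sq_dvd_subgroup_normal [Finite G] (N : Subgroup G) [N.Normal] {p : ℕ}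
    (h : ∀ x : G, ¬ p ^ 2 ∣ (Subgroup.centralizer ({x} : Set G)).index) :
    ∀ y : N, ¬ p ^ 2 ∣ (Subgroup.centralizer ({y} : Set N)).index := by
  rintro ⟨x, hx⟩ hd
  rw [Kazarin.centralizer_subtype_eq] at hd
  exact h x (hd.trans (Kazarin.relIndex_dvd_index_of_normal_right N _))

end Cfsg.Agent.Helper74.Sqf
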