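import Mathlib

/-!
# Product lemma for Vaughan-Lee's breadth theorem (S3777, STEP 4)

`G = ⟨x_1, …, x_d⟩` nilpotent, `P ⊴ G`. Then every element of `⁅P, G⁆` is an ordered product
`∏ ⁅u_i, x_i⁆` with `u_i ∈ P`; hence `|⁅P, G⁆| ≤ ∏ |P : C_P(x_i)|`.
-/

namespace Cfsg.Agent.Helper74

open Subgroup Pointwise
open scoped commutatorElement

variable {G : Type*} [Group G]

/-- the set of ordered products `∏ ⁅u_i, g_i⁆` with `u_i ∈ P`, for the list `g_1, g_2, …`. -/
def vlT (P : Subgroup G) : List G → Set G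
  | [] => {1}
  | g :: l => {y | ∃ u ∈ P, ∃ t ∈ vlT P l, y = ⁅u, g⁆ * t}

theorem vlT_nil (P : Subgroup G) : vlT P [] = {1} := rfl

theorem mem_vlT_cons {P : Subgroup G} {g : G} {l : List G} {y : G} :
    y ∈ vlT P (g :: l) ↔ ∃ u ∈ P, ∃ t ∈ vlT P l, y = ⁅u, g⁆ * t := Iff.rfl

theorem one_mem_vlT (P : Subgroup G) (l : List G) : (1 : G) ∈ vlT P l := by
  induction l with
  | nil => simp [vlT_nil]
  | cons g l ih =>
    exact mem_vlT_cons.2 ⟨1, P.one_mem, 1, ih, by simp⟩

theorem vlT_mono {P P' : Subgroup G} (h : P ≤ P') (l : List G) : vlT P l ⊆ vlT P' l := by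
  induction l with
  | nil => simp [vlT_nil]
  | cons g l ih =>
    rintro y ⟨u, hu, t, ht, rfl⟩
    exact ⟨u, h hu, t, ih ht, rfl⟩

theorem map_mem_vlT {H : Type*} [Group H] (f : G →* H) {P : Subgroup G} {l : List G} {t : G}
    (ht : t ∈ vlT P l) : f t ∈ vlT (P.map f) (l.map f) := by
  induction l generalizing t with
  | nil =>
    simp only [vlT_nil, Set.mem_singleton_iff] at ht
    simp [ht, vlT_nil]
  | cons g l ih =>
    obtain ⟨u, hu, t', ht', rfl⟩ := ht
    refine mem_vlT_cons.2 ⟨f u, Subgroup.mem_map_of_mem f hu, f t', ih ht', ?_⟩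
    simp [map_commutatorElement]

theorem exists_of_mem_vlT_map {H : Type*} [Group H] (f : G →* H) {P : Subgroup G} {l : List G}
    {s : H} (hs : s ∈ vlT (P.map f) (l.map f)) : ∃ t ∈ vlT P l, f t = s := by
  induction l generalizing s with
  | nil =>
    simp only [List.map_nil, vlT_nil, Set.mem_singleton_iff] at hs
    exact ⟨1, by simp [vlT_nil], by simp [hs]⟩
  | cons g l ih =>
    rw [List.map_cons] at hs
    obtain ⟨u, hu, s', hs', rfl⟩ := hs
    obtain ⟨u0, hu0, rfl⟩ := Subgroup.mem_map.1 hu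
    obtain ⟨t', ht', rfl⟩ := ih hs'
    exact ⟨⁅u0, g⁆ * t', ⟨u0, hu0, t', ht', rfl⟩, by simp [map_commutatorElement]⟩

theorem commutator_mem_vlT {Q : Subgroup G} {l : List G} {q g : G} (hq : q ∈ Q) (hg : g ∈ l) :
    ⁅q, g⁆ ∈ vlT Q l := by
  induction l with
  | nil => simp at hg
  | cons a l ih =>
    rcases List.mem_cons.1 hg with rfl | h
    · exact ⟨q, hq, 1, one_mem_vlT Q l, by simp⟩
    · exact ⟨1, Q.one_mem, ⁅q, g⁆, ih h, by simp⟩

section central

variable {Q : Subgroup G} (hc : ∀ q ∈ Q, ∀ g : G, ⁅q, g⁆ ∈ center G)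
include hc

theorem vlT_subset_center (l : List G) : vlT Q l ⊆ center G := by
  induction l with
  | nil => simp [vlT_nil, Subgroup.one_mem]
  | cons g l ih =>
    rintro y ⟨u, hu, t, ht, rfl⟩
    exact (center G).mul_mem (hc u hu g) (ih ht)

theorem commutator_mul_of_central {u v : G} (hv : v ∈ Q) (g : G) :
    ⁅u * v, g⁆ = ⁅u, g⁆ * ⁅v, g⁆ := by
  have h1 : ⁅u * v, g⁆ = u * ⁅v, g⁆ * u⁻¹ * ⁅u, g⁆ := by
    simp only [commutatorElement_def]; group
  have h2 : u * ⁅v, g⁆ = ⁅v, g⁆ * u := (Subgroup.mem_center_iff.1 (hc v hv g) u)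
  rw [h1, h2, mul_assoc ⁅v, g⁆ u, mul_inv_cancel, mul_one]
  exact ((Subgroup.mem_center_iff.1 (hc v hv g) ⁅u, g⁆)).symm

theorem vlT_mul {P : Subgroup G} (hQP : Q ≤ P) {l : List G} {t s : G}
    (ht : t ∈ vlT P l) (hs : s ∈ vlT Q l) : t * s ∈ vlT P l := by
  induction l generalizing t s with
  | nil =>
    simp only [vlT_nil, Set.mem_singleton_iff] at ht hs
    simp [ht, hs, vlT_nil]
  | cons g l ih =>
    obtain ⟨u, hu, t', ht', rfl⟩ := ht
    obtain ⟨v, hv, s', hs', rfl⟩ := hs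
    refine ⟨u * v, P.mul_mem hu (hQP hv), t' * s', ih ht' hs', ?_⟩
    rw [commutator_mul_of_central hc hv g]
    have h2 : t' * ⁅v, g⁆ = ⁅v, g⁆ * t' := (Subgroup.mem_center_iff.1 (hc v hv g) t')
    calc ⁅u, g⁆ * t' * (⁅v, g⁆ * s') = ⁅u, g⁆ * (t' * ⁅v, g⁆) * s' := by group
      _ = ⁅u, g⁆ * (⁅v, g⁆ * t') * s' := by rw [h2]
      _ = ⁅u, g⁆ * ⁅v, g⁆ * (t' * s') := by group

theorem vlT_inv {l : List G} {s : G} (hs : s ∈ vlT Q l) : s⁻¹ ∈ vlT Q l := by
  induction l generalizing s with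
  | nil =>
    simp only [vlT_nil, Set.mem_singleton_iff] at hs
    simp [hs, vlT_nil]
  | cons g l ih =>
    obtain ⟨v, hv, s', hs', rfl⟩ := hs
    refine ⟨v⁻¹, Q.inv_mem hv, s'⁻¹, ih hs', ?_⟩
    have h1 : ⁅v⁻¹, g⁆ * ⁅v, g⁆ = 1 := by
      rw [← commutator_mul_of_central hc hv g]; simp
    have h3 : ⁅v⁻¹, g⁆ = ⁅v, g⁆⁻¹ := eq_inv_of_mul_eq_one_left h1
    have h2 : s'⁻¹ * ⁅v, g⁆⁻¹ = ⁅v, g⁆⁻¹ * s'⁻¹ :=
      (Subgroup.mem_center_iff.1 ((center G).inv_mem (hc v hv g)) s'⁻¹)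
    rw [mul_inv_rev, h3, h2]

/-- if `⁅Q, G⁆` is central and `l` generates `G`, every element of `⁅Q, G⁆` is an ordered product -/
theorem commutator_subset_vlT [Q.Normal] {l : List G}
    (hl : Subgroup.closure {g | g ∈ l} = ⊤) :
    ((⁅Q, (⊤ : Subgroup G)⁆ : Subgroup G) : Set G) ⊆ vlT Q l := by
  -- the subgroup with carrier `vlT Q l`
  let S : Subgroup G :=
    { carrier := vlT Q l
      mul_mem' := fun ha hb => vlT_mul hc le_rfl ha hb
      one_mem' := one_mem_vlT Q l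
      inv_mem' := fun ha => vlT_inv hc ha }
  have key : ∀ q ∈ Q, ∀ h : G, ⁅q, h⁆ ∈ S := by
    intro q hq h
    have hh : h ∈ Subgroup.closure {g | g ∈ l} := by rw [hl]; trivial
    induction hh using Subgroup.closure_induction with
    | mem x hx => exact commutator_mem_vlT hq hx
    | one => simpa using S.one_mem
    | mul x y _ _ hx hy =>
      have : ⁅q, x * y⁆ = ⁅q, x⁆ * ⁅q, y⁆ := by
        have h1 : ⁅q, x * y⁆ = ⁅q, x⁆ * (x * ⁅q, y⁆) * x⁻¹ := by
          simp only [commutatorElement_def]; group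
        have h2 : x * ⁅q, y⁆ = ⁅q, y⁆ * x := (Subgroup.mem_center_iff.1 (hc q hq y) x)
        rw [h1, h2]; group
      rw [this]; exact S.mul_mem hx hy
    | inv x _ hx =>
      have : ⁅q, x⁻¹⁆ = ⁅q, x⁆⁻¹ := by
        have h1 : ⁅q, x⁻¹⁆ = x⁻¹ * ⁅q, x⁆⁻¹ * x := by
          simp only [commutatorElement_def]; group
        have h2 : x⁻¹ * ⁅q, x⁆⁻¹ = ⁅q, x⁆⁻¹ * x⁻¹ :=
          (Subgroup.mem_center_iff.1 ((center G).inv_mem (hc q hq x)) x⁻¹)
        rw [h1, h2]; group
      rw [this]; exact S.inv_mem hx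
  have : ⁅Q, (⊤ : Subgroup G)⁆ ≤ S := by
    rw [Subgroup.commutator_le]
    intro q hq h _
    exact key q hq h
  exact this

end central

/-- the inductive step: pass to `G ⧸ ⁅⁅Q,G⁆,G⁆`. -/
theorem vlT_step {P Q : Subgroup G} [Q.Normal] (hQP : Q ≤ P) {l : List G}
    (hl : Subgroup.closure {g | g ∈ l} = ⊤)
    (h : ((⁅P, (⊤ : Subgroup G)⁆ : Subgroup G) : Set G) ⊆
      vlT P l * ((⁅Q, (⊤ : Subgroup G)⁆ : Subgroup G) : Set G)) :
    ((⁅P, (⊤ : Subgroup G)⁆ : Subgroup G) : Set G) ⊆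
      vlT P l * ((⁅⁅Q, (⊤ : Subgroup G)⁆, (⊤ : Subgroup G)⁆ : Subgroup G) : Set G) := by
  set R : Subgroup G := ⁅⁅Q, (⊤ : Subgroup G)⁆, (⊤ : Subgroup G)⁆ with hR
  haveI : R.Normal := by rw [hR]; infer_instance
  let π : G →* G ⧸ R := QuotientGroup.mk' R
  have hπ : Function.Surjective π := QuotientGroup.mk'_surjective R
  haveI : (Q.map π).Normal := Subgroup.Normal.map inferInstance π hπ
  have hc : ∀ q ∈ Q.map π, ∀ g : G ⧸ R, ⁅q, g⁆ ∈ center (G ⧸ R) := by
    rintro _ ⟨q0, hq0, rfl⟩ g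
    obtain ⟨g0, rfl⟩ := hπ g
    rw [Subgroup.mem_center_iff]
    intro k
    obtain ⟨k0, rfl⟩ := hπ k
    rw [← map_commutatorElement, ← map_mul, ← map_mul]
    show (QuotientGroup.mk (k0 * ⁅q0, g0⁆) : G ⧸ R) = QuotientGroup.mk (⁅q0, g0⁆ * k0)
    rw [QuotientGroup.eq]
    have h1 : (k0 * ⁅q0, g0⁆)⁻¹ * (⁅q0, g0⁆ * k0) = ⁅⁅q0, g0⁆⁻¹, k0⁻¹⁆ := by
      simp only [commutatorElement_def]; group
    rw [h1]
    exact Subgroup.commutator_mem_commutator
      (Subgroup.inv_mem _ (Subgroup.commutator_mem_commutator hq0 (Subgroup.mem_top g0)))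
      (Subgroup.mem_top _)
  have hl' : Subgroup.closure {g | g ∈ l.map π} = ⊤ := by
    have : {g | g ∈ l.map π} = π '' {g | g ∈ l} := by
      ext g; simp [List.mem_map]
    rw [this, ← MonoidHom.map_closure, hl, Subgroup.map_top_of_surjective π hπ]
  intro y hy
  obtain ⟨t, ht, w, hw, rfl⟩ := Set.mem_mul.1 (h hy)
  have hw' : π w ∈ vlT (Q.map π) (l.map π) := by
    apply commutator_subset_vlT hc hl'
    have : π w ∈ (⁅Q, (⊤ : Subgroup G)⁆).map π := Subgroup.mem_map_of_mem π hw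
    rw [Subgroup.map_commutator, Subgroup.map_top_of_surjective π hπ] at this
    exact this
  have ht' : π t ∈ vlT (P.map π) (l.map π) := map_mem_vlT π ht
  have hy' : π (t * w) ∈ vlT (P.map π) (l.map π) := by
    rw [map_mul]
    exact vlT_mul hc (Subgroup.map_mono hQP) ht' hw'
  obtain ⟨t1, ht1, ht1y⟩ := exists_of_mem_vlT_map π hy'
  refine Set.mem_mul.2 ⟨t1, ht1, t1⁻¹ * (t * w), ?_, by group⟩
  have : (QuotientGroup.mk t1 : G ⧸ R) = QuotientGroup.mk (t * w) := ht1y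
  exact QuotientGroup.eq.1 this

/-- the chain `P, ⁅P,G⁆, ⁅⁅P,G⁆,G⁆, …` -/
def vlChain (P : Subgroup G) : ℕ → Subgroup G
  | 0 => P
  | n + 1 => ⁅vlChain P n, (⊤ : Subgroup G)⁆

instance vlChain_normal (P : Subgroup G) [P.Normal] (n : ℕ) : (vlChain P n).Normal := by
  induction n with
  | zero => exact (inferInstance : P.Normal)
  | succ n ih => exact (Subgroup.commutator_normal _ _)

theorem vlChain_le_lcs (P : Subgroup G) (n : ℕ) :
    vlChain P n ≤ Subgroup.lowerCentralSeries (⊤ : Subgroup G) n := by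
  induction n with
  | zero => exact le_top
  | succ n ih => exact Subgroup.commutator_mono ih le_rfl

theorem vlChain_succ_le (P : Subgroup G) [P.Normal] (n : ℕ) : vlChain P (n + 1) ≤ vlChain P n :=
  Subgroup.commutator_le_left _ _

theorem vlChain_le (P : Subgroup G) [P.Normal] (n : ℕ) : vlChain P n ≤ P := by
  induction n with
  | zero => exact le_rfl
  | succ n ih => exact (vlChain_succ_le P n).trans ih

theorem commutator_subset_vlT_mul_chain (P : Subgroup G) [P.Normal] {l : List G}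
    (hl : Subgroup.closure {g | g ∈ l} = ⊤) (n : ℕ) :
    ((⁅P, (⊤ : Subgroup G)⁆ : Subgroup G) : Set G) ⊆
      vlT P l * ((vlChain P (n + 1) : Subgroup G) : Set G) := by
  induction n with
  | zero =>
    intro y hy
    exact Set.mem_mul.2 ⟨1, one_mem_vlT P l, y, hy, one_mul y⟩
  | succ n ih =>
    exact vlT_step (Q := vlChain P n) (vlChain_le P n) hl ih

/-- **Product lemma (set form).** -/
theorem commutator_subset_vlT_of_nilpotent [Group.IsNilpotent G] (P : Subgroup G) [P.Normal]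
    {l : List G} (hl : Subgroup.closure {g | g ∈ l} = ⊤) :
    ((⁅P, (⊤ : Subgroup G)⁆ : Subgroup G) : Set G) ⊆ vlT P l := by
  obtain ⟨n, hn⟩ := Subgroup.nilpotent_iff_lowerCentralSeries.1 (inferInstance : Group.IsNilpotent G)
  have h1 : vlChain P (n + 1) = ⊥ := by
    have := (vlChain_succ_le P n).trans (vlChain_le_lcs P n)
    rw [hn] at this
    exact le_bot_iff.1 this
  intro y hy
  obtain ⟨t, ht, w, hw, rfl⟩ := Set.mem_mul.1 (commutator_subset_vlT_mul_chain P hl n hy)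
  rw [h1] at hw
  have : w = 1 := by simpa using hw
  rw [this, mul_one]; exact ht


/-! ### cardinalities -/

theorem natCard_image_commutator_le [Finite G] (P : Subgroup G) (g : G) :
    Nat.card ((fun u => ⁅u, g⁆) '' (P : Set G)) ≤ (Subgroup.centralizer {g}).relIndex P := by
  classical
  set K : Subgroup P := (Subgroup.centralizer {g}).subgroupOf P with hK
  let f : P ⧸ K → G := fun c => Quotient.liftOn' c (fun u : P => ⁅(u : G), g⁆) (by
    intro a b hab
    have hab' : a⁻¹ * b ∈ K := QuotientGroup.leftRel_apply.1 hab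
    have h1 : ((a : G))⁻¹ * (b : G) ∈ Subgroup.centralizer {g} := by
      simpa [hK, Subgroup.mem_subgroupOf] using hab'
    have h2 : g * ((a : G)⁻¹ * (b : G)) = (a : G)⁻¹ * (b : G) * g :=
      (Subgroup.mem_centralizer_singleton_iff.1 h1).symm
    show ⁅(a : G), g⁆ = ⁅(b : G), g⁆
    have hb : (b : G) = (a : G) * ((a : G)⁻¹ * (b : G)) := by group
    rw [hb]
    simp only [commutatorElement_def]
    have h3 : (a : G) * ((a : G)⁻¹ * (b : G)) * g * ((a : G) * ((a : G)⁻¹ * (b : G)))⁻¹ * g⁻¹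
        = (a : G) * (((a : G)⁻¹ * (b : G)) * g) * ((a : G)⁻¹ * (b : G))⁻¹ * (a : G)⁻¹ * g⁻¹ := by
      group
    rw [h3, ← h2]; group)
  have hsub : (fun u => ⁅u, g⁆) '' (P : Set G) ⊆ Set.range f := by
    rintro _ ⟨u, hu, rfl⟩
    exact ⟨QuotientGroup.mk (⟨u, hu⟩ : P), rfl⟩
  calc Nat.card ((fun u => ⁅u, g⁆) '' (P : Set G)) ≤ Nat.card (Set.range f) :=
        Nat.card_mono (Set.toFinite _) hsub
    _ ≤ Nat.card (P ⧸ K) := Finite.card_range_le f
    _ = (Subgroup.centralizer {g}).relIndex P := rfl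

theorem natCard_vlT_le [Finite G] (P : Subgroup G) (l : List G) :
    Nat.card (vlT P l) ≤ (l.map fun g => (Subgroup.centralizer {g}).relIndex P).prod := by
  induction l with
  | nil => simp [vlT_nil]
  | cons g l ih =>
    have hsub : vlT P (g :: l) ⊆ ((fun u => ⁅u, g⁆) '' (P : Set G)) * vlT P l := by
      rintro y ⟨u, hu, t, ht, rfl⟩
      exact Set.mem_mul.2 ⟨⁅u, g⁆, ⟨u, hu, rfl⟩, t, ht, rfl⟩
    calc Nat.card (vlT P (g :: l))
        ≤ Nat.card (((fun u => ⁅u, g⁆) '' (P : Set G)) * vlT P l : Set G) :=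
          Nat.card_mono (Set.toFinite _) hsub
      _ ≤ Nat.card ((fun u => ⁅u, g⁆) '' (P : Set G)) * Nat.card (vlT P l) := Set.natCard_mul_le
      _ ≤ (Subgroup.centralizer {g}).relIndex P *
            (l.map fun g => (Subgroup.centralizer {g}).relIndex P).prod :=
          Nat.mul_le_mul (natCard_image_commutator_le P g) ih
      _ = ((g :: l).map fun g => (Subgroup.centralizer {g}).relIndex P).prod := by
          simp

/-- **Product lemma, list form**: `G = ⟨l⟩` finite nilpotent, `P ⊴ G`; then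
`|⁅P, G⁆| ≤ ∏_{g ∈ l} |P : C_P(g)|`. -/
theorem card_commutator_le_list_prod_relIndex [Finite G] [Group.IsNilpotent G]
    (P : Subgroup G) [P.Normal] {l : List G} (hl : Subgroup.closure {g | g ∈ l} = ⊤) :
    Nat.card (⁅P, (⊤ : Subgroup G)⁆ : Subgroup G) ≤
      (l.map fun g => (Subgroup.centralizer {g}).relIndex P).prod := by
  have h1 : Nat.card (⁅P, (⊤ : Subgroup G)⁆ : Subgroup G) ≤ Nat.card (vlT P l) :=
    Nat.card_mono (Set.toFinite _) (commutator_subset_vlT_of_nilpotent P hl)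
  exact h1.trans (natCard_vlT_le P l)

/-- **Product lemma, `Fin d` form** (STEP 4 of helper38's proof of S3777). -/
theorem card_commutator_le_prod_relIndex [Finite G] [Group.IsNilpotent G] {d : ℕ}
    (x : Fin d → G) (hx : Subgroup.closure (Set.range x) = ⊤) (P : Subgroup G) [P.Normal] :
    Nat.card (⁅P, (⊤ : Subgroup G)⁆ : Subgroup G) ≤
      ∏ i, (Subgroup.centralizer {x i}).relIndex P := by
  have hl : Subgroup.closure {g | g ∈ List.ofFn x} = ⊤ := by
    have : {g | g ∈ List.ofFn x} = Set.range x := by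
      ext g; simp [List.mem_ofFn]
    rw [this, hx]
  have := card_commutator_le_list_prod_relIndex P hl
  rwa [List.map_ofFn, List.prod_ofFn] at this

/-- **Product lemma, `Fintype`-indexed form.** -/
theorem card_commutator_le_prod_relIndex' [Finite G] [Group.IsNilpotent G] {ι : Type*}
    [Fintype ι] (x : ι → G) (hx : Subgroup.closure (Set.range x) = ⊤) (P : Subgroup G)
    [P.Normal] :
    Nat.card (⁅P, (⊤ : Subgroup G)⁆ : Subgroup G) ≤
      ∏ i, (Subgroup.centralizer {x i}).relIndex P := by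
  classical
  let e : Fin (Fintype.card ι) ≃ ι := (Fintype.equivFin ι).symm
  have hx' : Subgroup.closure (Set.range (x ∘ e)) = ⊤ := by
    rw [Set.range_comp, e.range_eq_univ, Set.image_univ, hx]
  have := card_commutator_le_prod_relIndex (x ∘ e) hx' P
  rw [Fintype.prod_equiv e (fun i => (Subgroup.centralizer {(x ∘ e) i}).relIndex P)
    (fun i => (Subgroup.centralizer {x i}).relIndex P) (fun i => rfl)] at this
  exact this

end Cfsg.Agent.Helper74
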