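import Mathlib
import Cfsg.Prelude.Def_Characters
import Cfsg.Agent.Helper12.Orbital
import Cfsg.Agent.Helper74.CharComplete

/-!
# Double coset sums of irreducible characters (helper74)

For an irreducible character `χ` of `G`, a subgroup `P` and `k : G`, the sum
`∑ u ∈ P, χ (u k)` is `|P ∩ k P k⁻¹|` times an algebraic integer (integrality of the traces of
the Hecke algebra of `P` in `G`).  Also sums of right-`P`-invariant functions over `G`.
-/

set_option autoImplicit false

namespace Cfsg.Agent.Helper74.GreenHecke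

open Cfsg
open scoped ComplexConjugate

variable {G : Type*} [Group G] [Fintype G]

open Classical in
/-- The sum over `G` of a right-`P`-invariant function is `|P|` times the sum over coset
representatives. -/
theorem sum_eq_card_mul_sum_out (P : Subgroup G) (F : G → ℂ)
    (hF : ∀ x : G, ∀ v ∈ P, F (x * v) = F x) :
    ∑ x : G, F x = (Nat.card P : ℂ) * ∑ q : G ⧸ P, F q.out := by
  rw [← Finset.sum_fiberwise (s := Finset.univ) (g := fun x : G => (QuotientGroup.mk x : G ⧸ P))
    (f := F), Finset.mul_sum]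
  refine Finset.sum_congr rfl fun q _ => ?_
  have h1 : ∀ x ∈ Finset.univ.filter (fun x : G => (QuotientGroup.mk x : G ⧸ P) = q),
      F x = F q.out := by
    intro x hx
    rw [Finset.mem_filter] at hx
    have h2 : (QuotientGroup.mk q.out : G ⧸ P) = QuotientGroup.mk x := by
      rw [hx.2]
      exact QuotientGroup.out_eq' q
    rw [QuotientGroup.eq] at h2
    have h3 := hF q.out _ h2
    rw [mul_inv_cancel_left] at h3
    exact h3
  rw [Finset.sum_congr rfl h1, Finset.sum_const, nsmul_eq_mul]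
  congr 1
  have hcard : (Finset.univ.filter (fun x : G => (QuotientGroup.mk x : G ⧸ P) = q)).card =
      Nat.card P := by
    rw [Nat.card_eq_fintype_card, ← Finset.card_univ (α := P)]
    symm
    refine Finset.card_bij (fun v _ => q.out * (v : G)) ?_ ?_ ?_
    · intro v _
      rw [Finset.mem_filter]
      refine ⟨Finset.mem_univ _, ?_⟩
      have : ((q.out * (v : G) : G) : G ⧸ P) = (q.out : G ⧸ P) := by
        rw [eq_comm, QuotientGroup.eq, inv_mul_cancel_left]
        exact v.2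
      rw [this]
      exact QuotientGroup.out_eq' q
    · intro v _ w _ h
      exact Subtype.ext (mul_left_cancel h)
    · intro x hx
      rw [Finset.mem_filter] at hx
      have h2 : (QuotientGroup.mk q.out : G ⧸ P) = QuotientGroup.mk x := by
        rw [hx.2]
        exact QuotientGroup.out_eq' q
      rw [QuotientGroup.eq] at h2
      exact ⟨⟨_, h2⟩, Finset.mem_univ _, mul_inv_cancel_left _ _⟩
  rw [hcard]

/-- Sums of right-`P`-invariant functions with algebraic integer values are divisible by `|P|`. -/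
theorem exists_isIntegral_sum_eq (P : Subgroup G) (F : G → ℂ)
    (hF : ∀ x : G, ∀ v ∈ P, F (x * v) = F x) (hint : ∀ x, IsIntegral ℤ (F x)) :
    ∃ α : ℂ, IsIntegral ℤ α ∧ ∑ x : G, F x = (Nat.card P : ℂ) * α := by
  classical
  exact ⟨_, IsIntegral.sum _ (fun q _ => hint _), sum_eq_card_mul_sum_out P F hF⟩

/-- Membership of `z` in the double coset `P k P`. -/
def InDC (P : Subgroup G) (k z : G) : Prop := ∃ v ∈ P, ∃ w ∈ P, v * k * w = z

/-- The subgroup `P ∩ k P k⁻¹`. -/
abbrev interConj (P : Subgroup G) (k : G) : Subgroup G :=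
  P ⊓ P.map (MulAut.conj k).toMonoidHom

theorem mem_map_conj_iff (P : Subgroup G) (k t : G) :
    t ∈ P.map (MulAut.conj k).toMonoidHom ↔ k⁻¹ * t * k ∈ P := by
  rw [Subgroup.mem_map]
  constructor
  · rintro ⟨y, hy, rfl⟩
    simpa [MulAut.conj_apply, mul_assoc] using hy
  · intro h
    refine ⟨_, h, ?_⟩
    simp [MulAut.conj_apply, mul_assoc]

open Classical in
/-- The fibres of `(v, w) ↦ v k w` on `P × P` have `|P ∩ k P k⁻¹|` elements. -/
theorem card_fiber_dc (P : Subgroup G) (k z : G) :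
    ((Finset.univ : Finset (P × P)).filter
      (fun vw => (vw.1 : G) * k * (vw.2 : G) = z)).card =
      if InDC P k z then Nat.card (interConj P k) else 0 := by
  split_ifs with h
  · obtain ⟨v₀, hv₀, w₀, hw₀, hz⟩ := h
    rw [Nat.card_eq_fintype_card, ← Finset.card_univ (α := interConj P k)]
    symm
    refine Finset.card_bij
      (fun t _ => ((⟨v₀ * (t : G)⁻¹, ?_⟩ : P), (⟨k⁻¹ * (t : G) * k * w₀, ?_⟩ : P))) ?_ ?_ ?_
    · exact P.mul_mem hv₀ (P.inv_mem (Subgroup.mem_inf.mp t.2).1)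
    · exact P.mul_mem ((mem_map_conj_iff P k _).mp (Subgroup.mem_inf.mp t.2).2) hw₀
    · intro t _
      rw [Finset.mem_filter]
      refine ⟨Finset.mem_univ _, ?_⟩
      show v₀ * (t : G)⁻¹ * k * (k⁻¹ * (t : G) * k * w₀) = z
      rw [← hz]
      group
    · intro t _ t' _ h
      have h1 := congrArg (fun x : P × P => (x.1 : G)) h
      simp only at h1
      have h2 : (t : G)⁻¹ = (t' : G)⁻¹ := mul_left_cancel h1
      exact Subtype.ext (inv_injective h2)
    · intro vw hvw
      rw [Finset.mem_filter] at hvw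
      have hvw2 : (vw.1 : G) * k * (vw.2 : G) = v₀ * k * w₀ := hvw.2.trans hz.symm
      have ht : (vw.1 : G)⁻¹ * v₀ ∈ interConj P k := by
        refine Subgroup.mem_inf.mpr ⟨P.mul_mem (P.inv_mem vw.1.2) hv₀, ?_⟩
        rw [mem_map_conj_iff]
        have : k⁻¹ * ((vw.1 : G)⁻¹ * v₀) * k = (vw.2 : G) * w₀⁻¹ := by
          have h3 : v₀ * k = (vw.1 : G) * k * (vw.2 : G) * w₀⁻¹ := by
            rw [hvw2]; group
          calc k⁻¹ * ((vw.1 : G)⁻¹ * v₀) * k = k⁻¹ * (vw.1 : G)⁻¹ * (v₀ * k) := by group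
            _ = k⁻¹ * (vw.1 : G)⁻¹ * ((vw.1 : G) * k * (vw.2 : G) * w₀⁻¹) := by rw [h3]
            _ = (vw.2 : G) * w₀⁻¹ := by group
        rw [this]
        exact P.mul_mem vw.2.2 (P.inv_mem hw₀)
      refine ⟨⟨_, ht⟩, Finset.mem_univ _, ?_⟩
      apply Prod.ext
      · apply Subtype.ext
        show v₀ * ((vw.1 : G)⁻¹ * v₀)⁻¹ = (vw.1 : G)
        group
      · apply Subtype.ext
        show k⁻¹ * ((vw.1 : G)⁻¹ * v₀) * k * w₀ = (vw.2 : G)
        calc k⁻¹ * ((vw.1 : G)⁻¹ * v₀) * k * w₀ = k⁻¹ * (vw.1 : G)⁻¹ * (v₀ * k * w₀) := by group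
          _ = k⁻¹ * (vw.1 : G)⁻¹ * ((vw.1 : G) * k * (vw.2 : G)) := by rw [hvw2]
          _ = (vw.2 : G) := by group
  · rw [Finset.card_eq_zero, Finset.filter_eq_empty_iff]
    intro vw _ hvw
    exact h ⟨vw.1, vw.1.2, vw.2, vw.2.2, hvw⟩

open Classical in
/-- Summing over pairs in `P × P` versus summing over the double coset. -/
theorem sum_pairs_eq (P : Subgroup G) (k : G) (f : G → ℂ) :
    ∑ v : P, ∑ w : P, f ((v : G) * k * (w : G)) =
      (Nat.card (interConj P k) : ℂ) * ∑ z : G, if InDC P k z then f z else 0 := by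
  rw [← Finset.sum_product' (f := fun (v w : P) => f ((v : G) * k * (w : G))),
    Finset.univ_product_univ,
    ← Finset.sum_fiberwise (s := Finset.univ) (g := fun vw : P × P => (vw.1 : G) * k * (vw.2 : G)),
    Finset.mul_sum]
  refine Finset.sum_congr rfl fun z _ => ?_
  have h1 : ∀ vw ∈ (Finset.univ : Finset (P × P)).filter
      (fun vw => (vw.1 : G) * k * (vw.2 : G) = z), f ((vw.1 : G) * k * (vw.2 : G)) = f z := by
    intro vw hvw
    rw [Finset.mem_filter] at hvw
    rw [hvw.2]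
  rw [Finset.sum_congr rfl h1, Finset.sum_const, nsmul_eq_mul, card_fiber_dc]
  split_ifs with h
  · rfl
  · simp

theorem inDC_conj_iff (P : Subgroup G) (k z v : G) (hv : v ∈ P) :
    InDC P k (v⁻¹ * z * v) ↔ InDC P k z := by
  constructor
  · rintro ⟨a, ha, b, hb, h⟩
    refine ⟨v * a, P.mul_mem hv ha, b * v⁻¹, P.mul_mem hb (P.inv_mem hv), ?_⟩
    calc v * a * k * (b * v⁻¹) = v * (a * k * b) * v⁻¹ := by group
      _ = v * (v⁻¹ * z * v) * v⁻¹ := by rw [h]
      _ = z := by group
  · rintro ⟨a, ha, b, hb, h⟩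
    refine ⟨v⁻¹ * a, P.mul_mem (P.inv_mem hv) ha, b * v, P.mul_mem hb hv, ?_⟩
    rw [← h]
    group

open Classical in
theorem orbRel_iff_inDC (P : Subgroup G) (k g a : G) :
    Helper12.Orbital.orbRel G ((1 : G) : G ⧸ P) ((k : G) : G ⧸ P) ((a : G) : G ⧸ P)
      (g • ((a : G) : G ⧸ P)) ↔ InDC P k (a⁻¹ * g * a) := by
  constructor
  · rintro ⟨h, h1, h2⟩
    have h1' : ((h * 1 : G) : G ⧸ P) = ((a : G) : G ⧸ P) := h1
    have h2' : ((h * k : G) : G ⧸ P) = ((g * a : G) : G ⧸ P) := h2
    rw [mul_one, eq_comm, QuotientGroup.eq] at h1'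
    rw [QuotientGroup.eq] at h2'
    refine ⟨a⁻¹ * h, h1', (h * k)⁻¹ * (g * a), h2', ?_⟩
    group
  · rintro ⟨v, hv, w, hw, h⟩
    refine ⟨a * v, ?_, ?_⟩
    · show ((a * v * 1 : G) : G ⧸ P) = ((a : G) : G ⧸ P)
      rw [mul_one, eq_comm, QuotientGroup.eq, inv_mul_cancel_left]
      exact hv
    · show ((a * v * k : G) : G ⧸ P) = ((g * a : G) : G ⧸ P)
      rw [QuotientGroup.eq]
      have : (a * v * k)⁻¹ * (g * a) = w := by
        calc (a * v * k)⁻¹ * (g * a) = k⁻¹ * v⁻¹ * (a⁻¹ * g * a) := by group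
          _ = k⁻¹ * v⁻¹ * (v * k * w) := by rw [h]
          _ = w := by group
      rw [this]
      exact hw

open Classical in
/-- The orbital class function of the double coset `P k P` on `G ⧸ P`. -/
theorem theta_eq (P : Subgroup G) (k g : G) :
    Helper12.Orbital.theta (G := G)
        (Helper12.Orbital.orbRel G ((1 : G) : G ⧸ P) ((k : G) : G ⧸ P)) g =
      (Nat.card P : ℂ)⁻¹ * ∑ a : G, if InDC P k (a⁻¹ * g * a) then (1 : ℂ) else 0 := by
  have hP : (Nat.card P : ℂ) ≠ 0 := by exact_mod_cast Nat.card_pos.ne'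
  have hF : ∀ x : G, ∀ v ∈ P,
      (if InDC P k ((x * v)⁻¹ * g * (x * v)) then (1 : ℂ) else 0) =
        if InDC P k (x⁻¹ * g * x) then (1 : ℂ) else 0 := by
    intro x v hv
    have : (x * v)⁻¹ * g * (x * v) = v⁻¹ * (x⁻¹ * g * x) * v := by group
    rw [this]
    simp only [inDC_conj_iff P k _ v hv]
  rw [sum_eq_card_mul_sum_out P _ hF, ← mul_assoc, inv_mul_cancel₀ hP, one_mul]
  unfold Helper12.Orbital.theta
  rw [Finset.card_filter, Nat.cast_sum]
  refine Finset.sum_congr rfl fun q _ => ?_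
  have hq : ((q.out : G) : G ⧸ P) = q := QuotientGroup.out_eq' q
  have := orbRel_iff_inDC P k g q.out
  rw [hq] at this
  simp only [this]
  split_ifs <;> simp

open Classical in
/-- The inner product of the orbital class function with a class function. -/
theorem classInner_theta_eq (P : Subgroup G) (k : G) {χ : G → ℂ} (hχ : IsClassFunction G χ) :
    classInner (Helper12.Orbital.theta (G := G)
        (Helper12.Orbital.orbRel G ((1 : G) : G ⧸ P) ((k : G) : G ⧸ P))) χ =
      (Nat.card P : ℂ)⁻¹ * ∑ z : G, if InDC P k z then conj (χ z) else 0 := by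
  have hG : (Nat.card G : ℂ) ≠ 0 := by exact_mod_cast Nat.card_pos.ne'
  unfold classInner
  simp only [theta_eq]
  have h1 : ∑ g : G, ((Nat.card P : ℂ)⁻¹ *
      ∑ a : G, if InDC P k (a⁻¹ * g * a) then (1 : ℂ) else 0) * conj (χ g) =
      (Nat.card P : ℂ)⁻¹ * ∑ a : G, ∑ g : G,
        if InDC P k (a⁻¹ * g * a) then conj (χ g) else 0 := by
    rw [Finset.sum_comm, Finset.mul_sum]
    refine Finset.sum_congr rfl fun g _ => ?_
    rw [mul_assoc, Finset.sum_mul]
    congr 1
    refine Finset.sum_congr rfl fun a _ => ?_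
    split_ifs <;> simp
  have h2 : ∀ a : G, (∑ g : G, if InDC P k (a⁻¹ * g * a) then conj (χ g) else 0) =
      ∑ z : G, if InDC P k z then conj (χ z) else 0 := by
    intro a
    refine Fintype.sum_equiv (MulAut.conj a⁻¹).toEquiv _ _ fun g => ?_
    have h3 : (MulAut.conj a⁻¹).toEquiv g = a⁻¹ * g * a := by
      simp
    rw [h3]
    have h4 : χ (a⁻¹ * g * a) = χ g := by
      have := hχ g a⁻¹
      simpa using this
    rw [h4]
  rw [h1, Finset.sum_congr rfl (fun a _ => h2 a), Finset.sum_const, Finset.card_univ,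
    nsmul_eq_mul, ← Nat.card_eq_fintype_card]
  field_simp

open Classical in
/-- **Integrality of Hecke algebra traces**: `∑ u ∈ P, χ (u k)` is `|P ∩ k P k⁻¹|` times an
algebraic integer. -/
theorem exists_isIntegral_sum_mul_eq (P : Subgroup G) (k : G) (χ : IrrCharacter G) :
    ∃ β : ℂ, IsIntegral ℤ β ∧
      ∑ u : P, (χ : G → ℂ) ((u : G) * k) = (Nat.card (interConj P k) : ℂ) * β := by
  have hcl : IsClassFunction G (χ : G → ℂ) := Helper74.irr_isClassFunction χ
  have hP : (Nat.card P : ℂ) ≠ 0 := by exact_mod_cast Nat.card_pos.ne'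
  have hint := Helper12.Orbital.isIntegral_classInner_theta (G := G)
    (Helper12.Orbital.orbRel G ((1 : G) : G ⧸ P) ((k : G) : G ⧸ P))
    (fun g x y => Helper12.Orbital.orbRel_smul _ _ g x y) χ.2
  refine ⟨conj (classInner (Helper12.Orbital.theta (G := G)
        (Helper12.Orbital.orbRel G ((1 : G) : G ⧸ P) ((k : G) : G ⧸ P))) (χ : G → ℂ)),
    map_isIntegral_int (starRingEnd ℂ) hint, ?_⟩
  rw [classInner_theta_eq P k hcl]
  have h1 := sum_pairs_eq P k (fun z => conj ((χ : G → ℂ) z))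
  -- the pair sum in terms of the single sum
  have h2 : ∑ v : P, ∑ w : P, (χ : G → ℂ) ((v : G) * k * (w : G)) =
      (Nat.card P : ℂ) * ∑ u : P, (χ : G → ℂ) ((u : G) * k) := by
    rw [Finset.sum_comm]
    have h3 : ∀ w : P, ∑ v : P, (χ : G → ℂ) ((v : G) * k * (w : G)) =
        ∑ u : P, (χ : G → ℂ) ((u : G) * k) := by
      intro w
      refine Fintype.sum_equiv (Equiv.mulLeft w) _ _ fun v => ?_
      have h4 := hcl ((v : G) * k * (w : G)) (w : G)
      rw [← h4]
      congr 1
      simp only [Equiv.coe_mulLeft, Subgroup.coe_mul]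
      group
    rw [Finset.sum_congr rfl (fun w _ => h3 w), Finset.sum_const, Finset.card_univ, nsmul_eq_mul,
      ← Nat.card_eq_fintype_card]
  have h5 : conj (∑ v : P, ∑ w : P, conj ((χ : G → ℂ) ((v : G) * k * (w : G)))) =
      ∑ v : P, ∑ w : P, (χ : G → ℂ) ((v : G) * k * (w : G)) := by
    simp only [map_sum, Complex.conj_conj]
  rw [h1] at h5
  rw [h2] at h5
  have h6 : (Nat.card P : ℂ) * ∑ u : P, (χ : G → ℂ) ((u : G) * k) =
      (Nat.card P : ℂ) * ((Nat.card (interConj P k) : ℂ) *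
        conj ((Nat.card P : ℂ)⁻¹ * ∑ z : G, if InDC P k z then conj ((χ : G → ℂ) z) else 0)) := by
    rw [← h5]
    simp only [map_mul, map_natCast, map_inv₀]
    field_simp
  exact mul_left_cancel₀ hP h6

end Cfsg.Agent.Helper74.GreenHecke
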