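import Mathlib
import Cfsg.Prelude.Def_Characters
import Cfsg.Prelude.Def_Blocks
import Cfsg.Agent.Helper74.GreenHecke
import Cfsg.Agent.Helper74.CharBasic
import Cfsg.Agent.Helper74.DegreeRatio
import Cfsg.Agent.Helper16.NormalAverage
import Cfsg.Agent.Helper16.SecondMainVanish
import Cfsg.Agent.Helper16.QuotientDefect2
import Cfsg.Agent.Helper16.SylowIn
import Cfsg.Agent.Helper16.Idempotent
import Cfsg.Agent.Helper77.BlockOrth
import Cfsg.Agent.Helper77.DefectOrder
import Cfsg.Agent.Helper15.Gallagher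
import Cfsg.Agent.Helper78.BlockBasic

/-!
# Green's theorem for blocks with a normal defect group (helper74)

If the defect group `D` of the block `B` is normal in `G` and `P` is a Sylow `p`-subgroup, then
some element `k` of a defect class of `B` has `P ∩ k P k⁻¹ = D`.
-/

set_option autoImplicit false

namespace Cfsg.Agent.Helper74.GreenNormal

open Cfsg
open scoped ComplexConjugate

variable {G : Type*} [Group G] [Fintype G] {M : Ideal AlgInt} {p : ℕ}

/-- Some character of a block with normal defect group `D` has `D` in its kernel. -/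
theorem exists_mem_ker (hM : IsPModular p M) {B : Set (IrrCharacter G)} (hB : IsPBlock M B)
    (D : Subgroup G) [D.Normal] (hDp : IsPGroup p D) (g : G)
    (hg0 : blockCoeff B g ≠ 0) (hDC : D ≤ Subgroup.centralizer ({g} : Set G)) :
    ∃ χ ∈ B, ∀ d ∈ D, (χ : G → ℂ) d = (χ : G → ℂ) 1 := by
  classical
  have hp : p.Prime := hM.1
  haveI : Fact p.Prime := ⟨hp⟩
  by_contra hcon
  have hcon : ∀ χ ∈ B, ¬ ∀ d ∈ D, (χ : G → ℂ) d = (χ : G → ℂ) 1 :=
    fun χ hχ h => hcon ⟨χ, hχ, h⟩
  have hgreg : ¬ p ∣ orderOf g := by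
    intro h
    exact hg0 (Helper77.blockCoeff_eq_zero_of_dvd_orderOf hM hB g h)
  -- the coefficients at `d g`, `d ≠ 1`, vanish
  have h1 : ∑ d : D, blockCoeff B ((d : G) * g) = blockCoeff B g := by
    rw [Finset.sum_eq_single (1 : D)]
    · simp
    · intro d _ hd
      apply Helper77.blockCoeff_eq_zero_of_dvd_orderOf hM hB
      have hcomm : Commute (d : G) g := by
        have := hDC d.2
        rw [Subgroup.mem_centralizer_singleton_iff] at this
        exact this
      obtain ⟨j, hj⟩ := (IsPGroup.iff_orderOf.mp hDp) d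
      have hd1 : orderOf (d : G) ≠ 1 := by
        rw [Ne, orderOf_eq_one_iff]
        exact fun h => hd (Subtype.ext h)
      have hj0 : j ≠ 0 := by
        rintro rfl
        apply hd1
        rw [Subgroup.orderOf_coe, hj, pow_zero]
      have hcop : (orderOf (d : G)).Coprime (orderOf g) := by
        rw [Subgroup.orderOf_coe, hj]
        exact Nat.Coprime.pow_left _ ((Nat.Prime.coprime_iff_not_dvd hp).mpr hgreg)
      rw [hcomm.orderOf_mul_eq_mul_orderOf_of_coprime hcop, Subgroup.orderOf_coe, hj]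
      exact Dvd.dvd.mul_right (dvd_pow_self p hj0) _
    · intro h
      exact absurd (Finset.mem_univ _) h
  have h2 : ∑ d : D, blockCoeff B ((d : G) * g) = 0 := by
    simp only [Helper16.blockCoeff_eq_sum]
    rw [← Finset.mul_sum, Finset.sum_comm]
    have h3 : ∀ χ : IrrCharacter G, ∑ d : D, (if χ ∈ B then (1 : ℂ) else 0) * (χ : G → ℂ) 1 *
        conj ((χ : G → ℂ) ((d : G) * g)) = 0 := by
      intro χ
      by_cases hχ : χ ∈ B
      · rw [← Finset.mul_sum, ← map_sum,
          Helper16.sum_normal_translate_of_not_ker χ D (hcon χ hχ) g]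
        simp
      · simp [hχ]
    rw [Finset.sum_congr rfl (fun χ _ => h3 χ)]
    simp
  exact hg0 (h1.symm.trans h2)

/-- A character of a block with normal defect group `D` vanishes on the `p`-elements outside
`D`. -/
theorem eq_zero_of_not_mem [Fact p.Prime] (hM : IsPModular p M) {B : Set (IrrCharacter G)}
    (hB : IsPBlock M B) (D : Subgroup G) [hDn : D.Normal] (hD : IsDefectGroup p M B D)
    (χ : IrrCharacter G) (hχ : χ ∈ B) (u : G) (hu : ∃ j : ℕ, orderOf u = p ^ j) (huD : u ∉ D) :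
    (χ : G → ℂ) u = 0 := by
  have hp : p.Prime := hM.1
  haveI hMp : M.IsPrime := Helper16.IsPModular.isPrime hM
  have hBeq : B = blockOf M (χ : G → ℂ) := Helper78.isPBlock_eq_blockOf_of_mem hMp hB hχ
  refine Helper16.irr_eq_zero_of_pPart_not_mem_defectGroup hM χ u u
    ⟨1, mul_one u, Commute.one_right u, hu, ?_⟩ ?_
  · rw [orderOf_one]
    exact hp.not_dvd_one
  · intro D' hD' hmem
    rw [← hBeq] at hD'
    obtain ⟨t, ht⟩ := Helper16.exists_conj_eq_of_isDefectGroup hM hB hD hD'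
    rw [ht, Subgroup.mem_map] at hmem
    obtain ⟨y, hy, rfl⟩ := hmem
    apply huD
    simp only [MulEquiv.coe_toMonoidHom, MulAut.conj_apply]
    exact hDn.conj_mem y hy t

open Classical in
/-- The sum over a Sylow subgroup of a character with the normal defect group in its kernel. -/
theorem sum_sylow_eq [Fact p.Prime] (hM : IsPModular p M) {B : Set (IrrCharacter G)}
    (hB : IsPBlock M B) (D : Subgroup G) [hDn : D.Normal] (hD : IsDefectGroup p M B D)
    (P : Sylow p G) (hDP : D ≤ (P : Subgroup G))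
    (χ : IrrCharacter G) (hχ : χ ∈ B) (hker : ∀ d ∈ D, (χ : G → ℂ) d = (χ : G → ℂ) 1) :
    ∑ u : (P : Subgroup G), (χ : G → ℂ) (u : G) = (Nat.card D : ℂ) * (χ : G → ℂ) 1 := by
  classical
  rw [Helper16.sum_subgroup_eq_sum_ite (P : Subgroup G) (fun x => (χ : G → ℂ) x)]
  have h1 : ∀ g : G, (if g ∈ (P : Subgroup G) then (1 : ℂ) else 0) * (χ : G → ℂ) g =
      (if g ∈ D then (1 : ℂ) else 0) * (χ : G → ℂ) g := by
    intro g
    by_cases hgD : g ∈ D
    · rw [if_pos hgD, if_pos (hDP hgD)]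
    · rw [if_neg hgD]
      by_cases hgP : g ∈ (P : Subgroup G)
      · have hord : ∃ j : ℕ, orderOf g = p ^ j := by
          obtain ⟨j, hj⟩ := (IsPGroup.iff_orderOf.mp P.isPGroup') ⟨g, hgP⟩
          exact ⟨j, by rw [← hj, Subgroup.orderOf_mk]⟩
        rw [if_pos hgP, eq_zero_of_not_mem hM hB D hD χ hχ g hord hgD, mul_zero, mul_zero]
      · rw [if_neg hgP]
  rw [Finset.sum_congr rfl (fun g _ => h1 g),
    ← Helper16.sum_subgroup_eq_sum_ite D (fun x => (χ : G → ℂ) x)]
  rw [Finset.sum_congr rfl (fun (d : D) _ => hker (d : G) d.2), Finset.sum_const, Finset.card_univ,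
    nsmul_eq_mul, Nat.card_eq_fintype_card]

/-- Degree arithmetic: for `χ ∈ B` with the normal defect group `D` in its kernel,
`χ(1) |D| = |P| m` with `m` prime to `p`. -/
theorem exists_degree_eq [Fact p.Prime] (hM : IsPModular p M) {B : Set (IrrCharacter G)}
    (hB : IsPBlock M B) (D : Subgroup G) [hDn : D.Normal] (hD : IsDefectGroup p M B D)
    (P : Sylow p G)
    (χ : IrrCharacter G) (hχ : χ ∈ B) (hker : ∀ d ∈ D, (χ : G → ℂ) d = (χ : G → ℂ) 1) :
    ∃ m : ℕ, ¬ p ∣ m ∧ (χ : G → ℂ) 1 * (Nat.card D : ℂ) = (Nat.card (P : Subgroup G) : ℂ) * m := by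
  classical
  have hp : p.Prime := hM.1
  have hchar : IsCharacter G (χ : G → ℂ) := Helper74.isCharacter_of_isIrr χ.2
  have hn : ((charDegree (χ : G → ℂ) : ℕ) : ℂ) = (χ : G → ℂ) 1 := Helper74.charDegree_cast hchar
  set n := charDegree (χ : G → ℂ) with hndef
  have hn0 : n ≠ 0 := Helper16.irr_charDegree_ne_zero χ
  set a := (Nat.card G).factorization p with ha
  set d := blockDefect p B with hd
  have hcardD : Nat.card D = p ^ d := Helper77.card_defectGroup hM hB D hD
  have hcardP : Nat.card (P : Subgroup G) = p ^ a := P.card_eq_multiplicity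
  have h1 : p ^ (a - d) ∣ n := Helper16.pow_dvd_charDegree_of_mem hχ
  -- `n ∣ [G : D]`
  have h2 : n ∣ D.index := by
    have hθ : IsIrrCharacter D (fun _ => (1 : ℂ)) := Helper15.isIrrCharacter_one D
    have hcon : classInner (fun d : D => (χ : G → ℂ) d) (fun _ => (1 : ℂ)) ≠ 0 := by
      unfold classInner
      have hD0 : (Nat.card D : ℂ) ≠ 0 := by exact_mod_cast Nat.card_pos.ne'
      have : ∑ g : D, (χ : G → ℂ) g * conj (1 : ℂ) = (Nat.card D : ℂ) * (χ : G → ℂ) 1 := by
        rw [Finset.sum_congr rfl (fun d _ => by rw [hker d d.2, map_one, mul_one]),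
          Finset.sum_const, Finset.card_univ, nsmul_eq_mul, Nat.card_eq_fintype_card]
      rw [this, ← mul_assoc, inv_mul_cancel₀ hD0, one_mul]
      exact Helper16.irr_one_ne_zero χ
    obtain ⟨b, hb, hbdvd⟩ := Helper74.degree_ratio_dvd D χ.2 hθ hcon
    have : n = b := by
      have : (n : ℂ) = (b : ℂ) := by rw [hn, hb, mul_one]
      exact_mod_cast this
    rw [this]
    exact hbdvd
  have hidx : Nat.card D * D.index = Nat.card G := Subgroup.card_mul_index D
  have hG0 : Nat.card G ≠ 0 := Nat.card_pos.ne'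
  have hidx0 : D.index ≠ 0 := fun h => hG0 (by rw [← hidx, h, mul_zero])
  have hda : d ≤ a := by
    have : p ^ d ∣ Nat.card G := by rw [← hcardD]; exact Subgroup.card_subgroup_dvd_card D
    exact (hp.pow_dvd_iff_le_factorization hG0).mp this
  have hfidx : D.index.factorization p = a - d := by
    have := congrArg (fun k => k.factorization p) hidx
    beta_reduce at this
    rw [Nat.factorization_mul Nat.card_pos.ne' hidx0, Finsupp.add_apply, hcardD,
      hp.factorization_pow, Finsupp.single_eq_same] at this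
    omega
  obtain ⟨m, hm⟩ := h1
  have hm0 : m ≠ 0 := by
    rintro rfl
    exact hn0 (by rw [hm, mul_zero])
  refine ⟨m, ?_, ?_⟩
  · intro hpm
    have h3 : p ^ (a - d + 1) ∣ n := by
      rw [hm, pow_succ]
      exact Nat.mul_dvd_mul_left _ hpm
    have h4 : p ^ (a - d + 1) ∣ D.index := h3.trans h2
    have := (hp.pow_dvd_iff_le_factorization hidx0).mp h4
    omega
  · rw [← hn, hcardD, hcardP, hm]
    push_cast
    rw [mul_assoc, mul_comm (m : ℂ), ← mul_assoc, ← pow_add, Nat.sub_add_cancel hda]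

theorem apply_mul_comm {χ : G → ℂ} (hcl : IsClassFunction G χ) (a b : G) :
    χ (a * b) = χ (b * a) := by
  have h := hcl (a * b) b
  rw [← h]
  congr 1
  group

open Classical in
/-- **Green's theorem, normal defect group**: some element `k` of a defect class has
`P ∩ k P k⁻¹ = D`. -/
theorem exists_inter_eq [Fact p.Prime] (hM : IsPModular p M) {B : Set (IrrCharacter G)}
    (hB : IsPBlock M B) (D : Subgroup G) [hDn : D.Normal] (hD : IsDefectGroup p M B D)
    (P : Sylow p G) :
    ∃ k : G, ¬ p ∣ orderOf k ∧ D ≤ Subgroup.centralizer ({k} : Set G) ∧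
      Nat.card D = p ^ (Nat.card (Subgroup.centralizer ({k} : Set G))).factorization p ∧
      GreenHecke.interConj (P : Subgroup G) k = D := by
  have hp : p.Prime := hM.1
  haveI hMp : M.IsPrime := Helper16.IsPModular.isPrime hM
  have hD' := hD
  obtain ⟨g, ⟨hg1, hg2, hg3⟩, S, hDS⟩ := hD'
  obtain ⟨hDC, hcardD⟩ :=
    (Helper16.sylowIn_iff p (Subgroup.centralizer ({g} : Set G)) D).mp ⟨S, hDS.symm⟩
  have hDp : IsPGroup p D := IsPGroup.of_card hcardD
  have hg0 : blockCoeff B g ≠ 0 := fun h => hg2 (h ▸ Helper16.memLocalIdeal_zero)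
  have hgreg : ¬ p ∣ orderOf g :=
    fun h => hg0 (Helper77.blockCoeff_eq_zero_of_dvd_orderOf hM hB g h)
  obtain ⟨χ, hχ, hker⟩ := exists_mem_ker hM hB D hDp g hg0 hDC
  have hω : ¬ MemLocalIdeal M (centralChar (χ : G → ℂ) g) := hg3 χ hχ
  have hDP : D ≤ (P : Subgroup G) := hDp.le_sylow_of_normal P
  have hsumP := sum_sylow_eq hM hB D hD P hDP χ hχ hker
  obtain ⟨m, hm, hdeg⟩ := exists_degree_eq hM hB D hD P χ hχ hker
  have hcl : IsClassFunction G (χ : G → ℂ) := Helper74.irr_isClassFunction χ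
  set C := Subgroup.centralizer ({g} : Set G) with hC
  -- the class sum identity
  have key1 : ∀ u : G, ∑ x : G, (χ : G → ℂ) (x⁻¹ * g * x * u) =
      (Nat.card C : ℂ) * (centralChar (χ : G → ℂ) g * (χ : G → ℂ) u) := by
    intro u
    rw [Helper16.sum_conj_eq_card_mul g (fun c => (χ : G → ℂ) (c * u))]
    congr 1
    have h := Helper16.irr_sum_mul_eq_omega χ (Helper16.isClassFunction_classInd g) u
    rw [Helper16.omega_classInd _ hcl] at h
    rw [← h]
    unfold Helper16.classInd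
    rw [Finset.sum_filter]
    refine Finset.sum_congr rfl fun x _ => ?_
    split_ifs <;> simp
  by_contra hcon
  push Not at hcon
  have hk : ∀ x : G, GreenHecke.interConj (P : Subgroup G) (x⁻¹ * g * x) ≠ D := by
    intro x
    apply hcon
    · have : x⁻¹ * g * x = (MulAut.conj x⁻¹) g := by simp [MulAut.conj_apply]
      rw [this, MulEquiv.orderOf_eq]
      exact hgreg
    · intro d hd
      rw [Subgroup.mem_centralizer_singleton_iff]
      have h1 : x * d * x⁻¹ ∈ D := hDn.conj_mem d hd x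
      have h2 := hDC h1
      rw [Subgroup.mem_centralizer_singleton_iff] at h2
      calc d * (x⁻¹ * g * x) = x⁻¹ * (x * d * x⁻¹ * g) * x := by group
        _ = x⁻¹ * (g * (x * d * x⁻¹)) * x := by rw [h2]
        _ = x⁻¹ * g * x * d := by group
    · have : x⁻¹ * g * x = x⁻¹ * g * (x⁻¹)⁻¹ := by rw [inv_inv]
      rw [this, Helper16.card_centralizer_conj g x⁻¹]
      exact hcardD
  have hDle : ∀ x : G, D ≤ GreenHecke.interConj (P : Subgroup G) (x⁻¹ * g * x) := by
    intro x d hd
    refine Subgroup.mem_inf.mpr ⟨hDP hd, ?_⟩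
    rw [GreenHecke.mem_map_conj_iff]
    apply hDP
    have := hDn.conj_mem d hd (x⁻¹ * g * x)⁻¹
    simpa [mul_assoc] using this
  have hdvd : ∀ x : G,
      p * Nat.card D ∣ Nat.card (GreenHecke.interConj (P : Subgroup G) (x⁻¹ * g * x)) := by
    intro x
    have hQp : IsPGroup p (GreenHecke.interConj (P : Subgroup G) (x⁻¹ * g * x)) :=
      P.isPGroup'.to_le inf_le_left
    obtain ⟨j, hj⟩ := IsPGroup.iff_card.mp hQp
    obtain ⟨d, hd⟩ := IsPGroup.iff_card.mp hDp
    have hlt : Nat.card D < Nat.card (GreenHecke.interConj (P : Subgroup G) (x⁻¹ * g * x)) := by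
      by_contra hnot
      exact hk x (Subgroup.eq_of_le_of_card_ge (hDle x) (not_lt.mp hnot)).symm
    rw [hj, hd] at hlt ⊢
    have hdj : d < j := (Nat.pow_lt_pow_iff_right hp.one_lt).mp hlt
    rw [← pow_succ']
    exact pow_dvd_pow p hdj
  have hp0 : (p : ℂ) ≠ 0 := by exact_mod_cast hp.ne_zero
  have hD0 : (Nat.card D : ℂ) ≠ 0 := by exact_mod_cast Nat.card_pos.ne'
  have hpD : ((p : ℂ) * (Nat.card D : ℂ)) ≠ 0 := mul_ne_zero hp0 hD0
  -- the function `F`
  let F : G → ℂ := fun x =>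
    (∑ u : (P : Subgroup G), (χ : G → ℂ) (x⁻¹ * g * x * (u : G))) / ((p : ℂ) * (Nat.card D : ℂ))
  have hFint : ∀ x, IsIntegral ℤ (F x) := by
    intro x
    obtain ⟨β, hβ, hsum⟩ := GreenHecke.exists_isIntegral_sum_mul_eq (P : Subgroup G) (x⁻¹ * g * x) χ
    obtain ⟨c, hc⟩ := hdvd x
    have h1 : ∑ u : (P : Subgroup G), (χ : G → ℂ) (x⁻¹ * g * x * (u : G)) =
        ∑ u : (P : Subgroup G), (χ : G → ℂ) ((u : G) * (x⁻¹ * g * x)) :=
      Finset.sum_congr rfl fun u _ => apply_mul_comm hcl _ _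
    have h2 : F x = (c : ℂ) * β := by
      show (∑ u : (P : Subgroup G), (χ : G → ℂ) (x⁻¹ * g * x * (u : G))) /
        ((p : ℂ) * (Nat.card D : ℂ)) = (c : ℂ) * β
      rw [h1, hsum, hc]
      push_cast
      field_simp
    rw [h2]
    exact IsIntegral.mul (isIntegral_natCast c) hβ
  have hFinv : ∀ x : G, ∀ v ∈ (P : Subgroup G), F (x * v) = F x := by
    intro x v hv
    show (∑ u : (P : Subgroup G), (χ : G → ℂ) ((x * v)⁻¹ * g * (x * v) * (u : G))) /
        ((p : ℂ) * (Nat.card D : ℂ)) =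
      (∑ u : (P : Subgroup G), (χ : G → ℂ) (x⁻¹ * g * x * (u : G))) / ((p : ℂ) * (Nat.card D : ℂ))
    congr 1
    refine Fintype.sum_equiv (MulAut.conj (⟨v, hv⟩ : (P : Subgroup G))).toEquiv _ _ fun u => ?_
    have h1 := hcl ((x * v)⁻¹ * g * (x * v) * (u : G)) v
    rw [← h1]
    congr 1
    simp only [MulEquiv.toEquiv_eq_coe, MulEquiv.coe_toEquiv, MulAut.conj_apply,
      Subgroup.coe_mul, Subgroup.coe_inv]
    group
  obtain ⟨α, hα, hsumF⟩ := GreenHecke.exists_isIntegral_sum_eq (P : Subgroup G) F hFinv hFint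
  -- the two evaluations of the double sum
  have hS1 : ∑ x : G, ∑ u : (P : Subgroup G), (χ : G → ℂ) (x⁻¹ * g * x * (u : G)) =
      (p : ℂ) * (Nat.card D : ℂ) * ((Nat.card (P : Subgroup G) : ℂ) * α) := by
    rw [← hsumF, Finset.mul_sum]
    refine Finset.sum_congr rfl fun x _ => ?_
    show _ = (p : ℂ) * (Nat.card D : ℂ) * ((∑ u : (P : Subgroup G),
      (χ : G → ℂ) (x⁻¹ * g * x * (u : G))) / ((p : ℂ) * (Nat.card D : ℂ)))
    field_simp
  have hS2 : ∑ x : G, ∑ u : (P : Subgroup G), (χ : G → ℂ) (x⁻¹ * g * x * (u : G)) =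
      (Nat.card C : ℂ) * (centralChar (χ : G → ℂ) g *
        ((Nat.card D : ℂ) * (χ : G → ℂ) 1)) := by
    rw [Finset.sum_comm,
      Finset.sum_congr rfl (fun (u : (P : Subgroup G)) _ => key1 (u : G)), ← Finset.mul_sum,
      ← Finset.mul_sum, hsumP]
  -- `|C| = |D| c'`
  have hC0 : Nat.card C ≠ 0 := Nat.card_pos.ne'
  have hCfac : Nat.card D * (Nat.card C / p ^ (Nat.card C).factorization p) = Nat.card C := by
    rw [hcardD]
    exact Nat.ordProj_mul_ordCompl_eq_self _ _
  have hc' : ¬ p ∣ Nat.card C / p ^ (Nat.card C).factorization p := Nat.not_dvd_ordCompl hp hC0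
  set c' := Nat.card C / p ^ (Nat.card C).factorization p with hc'def
  have hP0 : (Nat.card (P : Subgroup G) : ℂ) ≠ 0 := by exact_mod_cast Nat.card_pos.ne'
  have hfinal : ((c' * m : ℕ) : ℂ) * centralChar (χ : G → ℂ) g = (p : ℂ) * α := by
    have h1 := hS1.symm.trans hS2
    have h2 : (Nat.card C : ℂ) = (Nat.card D : ℂ) * (c' : ℂ) := by exact_mod_cast hCfac.symm
    rw [h2] at h1
    have h3 : (Nat.card D : ℂ) * (Nat.card (P : Subgroup G) : ℂ) *
        (((c' * m : ℕ) : ℂ) * centralChar (χ : G → ℂ) g) =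
        (Nat.card D : ℂ) * (Nat.card (P : Subgroup G) : ℂ) * ((p : ℂ) * α) := by
      push_cast
      have h4 : (Nat.card D : ℂ) * (χ : G → ℂ) 1 = (Nat.card (P : Subgroup G) : ℂ) * m := by
        rw [mul_comm]; exact hdeg
      calc (Nat.card D : ℂ) * (Nat.card (P : Subgroup G) : ℂ) *
            ((c' : ℂ) * (m : ℂ) * centralChar (χ : G → ℂ) g)
          = (Nat.card D : ℂ) * (c' : ℂ) * (centralChar (χ : G → ℂ) g *
              ((Nat.card (P : Subgroup G) : ℂ) * m)) := by ring
        _ = (Nat.card D : ℂ) * (c' : ℂ) * (centralChar (χ : G → ℂ) g *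
              ((Nat.card D : ℂ) * (χ : G → ℂ) 1)) := by rw [h4]
        _ = (p : ℂ) * (Nat.card D : ℂ) * ((Nat.card (P : Subgroup G) : ℂ) * α) := h1.symm
        _ = (Nat.card D : ℂ) * (Nat.card (P : Subgroup G) : ℂ) * ((p : ℂ) * α) := by ring
    exact mul_left_cancel₀ (mul_ne_zero hD0 hP0) h3
  apply hω
  have hcm : ¬ p ∣ c' * m := by
    intro h
    rcases (Nat.Prime.dvd_mul hp).mp h with h | h
    · exact hc' h
    · exact hm h
  have hcm0 : ((c' * m : ℕ) : ℂ) ≠ 0 := by
    have : c' * m ≠ 0 := fun h => hcm (h ▸ dvd_zero p)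
    exact_mod_cast this
  refine ⟨(p : AlgInt) * ⟨α, hα⟩, ((c' * m : ℕ) : AlgInt), M.mul_mem_right _ hM.2.2,
    Helper16.natCast_not_mem hM hcm, ?_⟩
  show (((p : AlgInt) * ⟨α, hα⟩ : AlgInt) : ℂ) / (((c' * m : ℕ) : AlgInt) : ℂ) =
    centralChar (χ : G → ℂ) g
  have h5 : (((p : AlgInt) * ⟨α, hα⟩ : AlgInt) : ℂ) = (p : ℂ) * α := by
    push_cast
    rfl
  have h6 : ((((c' * m : ℕ) : AlgInt) : AlgInt) : ℂ) = ((c' * m : ℕ) : ℂ) := by
    push_cast
    rfl
  rw [h5, h6, ← hfinal, mul_comm, mul_div_assoc, div_self hcm0, mul_one]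

end Cfsg.Agent.Helper74.GreenNormal
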