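import Mathlib
import Cfsg.Prelude.Def_Characters
import Cfsg.Prelude.Def_Blocks
import Cfsg.Agent.Helper74.GreenNormal
import Cfsg.Agent.S0920

/-!
# Green's theorem: defect groups are Sylow intersections (helper74)

Thompson's form: a defect group `D ≤ P` of a `p`-block is a Sylow `p`-subgroup of `C_G(x)` for a
`p`-regular `x` with `P ∩ x P x⁻¹ = D`.  Reduction to the normal case via Brauer's first main
theorem.
-/

set_option autoImplicit false

namespace Cfsg.Agent.Helper74.GreenFinal

open Cfsg

variable {G : Type*} [Group G] [Finite G] {p : ℕ}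

/-- In a finite `p`-group `Q`, a subgroup `D` with `N_Q(D) ≤ D` is all of `Q`. -/
theorem eq_of_inf_normalizer_le [Fact p.Prime] {Q D : Subgroup G} (hQ : IsPGroup p Q)
    (hDQ : D ≤ Q) (h : Q ⊓ Subgroup.normalizer (D : Set G) ≤ D) : Q = D := by
  haveI : Group.IsNilpotent Q := hQ.isNilpotent
  have hnc : NormalizerCondition Q := Group.normalizerCondition_of_isNilpotent
  rw [normalizerCondition_iff_only_full_group_self_normalizing] at hnc
  have h1 : Subgroup.normalizer ((D.subgroupOf Q : Subgroup Q) : Set Q) = D.subgroupOf Q := by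
    rw [← Subgroup.subgroupOf_normalizer_eq hDQ]
    apply le_antisymm
    · intro q hq
      rw [Subgroup.mem_subgroupOf] at hq ⊢
      exact h (Subgroup.mem_inf.mpr ⟨q.2, hq⟩)
    · intro q hq
      rw [Subgroup.mem_subgroupOf] at hq ⊢
      exact Subgroup.le_normalizer hq
  have h2 := hnc _ h1
  apply le_antisymm _ hDQ
  intro q hq
  have : (⟨q, hq⟩ : Q) ∈ D.subgroupOf Q := by rw [h2]; exact Subgroup.mem_top _
  exact Subgroup.mem_subgroupOf.mp this

/-- A `p`-subgroup of `K` has order at most the `p`-part of `|K|`. -/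
theorem card_le_of_isPGroup [Fact p.Prime] {T K : Subgroup G} (hT : IsPGroup p T) (hTK : T ≤ K) :
    Nat.card T ≤ p ^ (Nat.card K).factorization p := by
  have hp : p.Prime := Fact.out
  obtain ⟨j, hj⟩ := IsPGroup.iff_card.mp hT
  have h1 : Nat.card T ∣ Nat.card K := Subgroup.card_dvd_of_le hTK
  rw [hj] at h1 ⊢
  exact Nat.pow_le_pow_right hp.pos ((hp.pow_dvd_iff_le_factorization Nat.card_pos.ne').mp h1)

/-- **Green's theorem** (Thompson's form): defect groups are Sylow intersections. -/
theorem green [Fact p.Prime] (M : Ideal AlgInt) (hM : IsPModular p M)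
    (B : Set (IrrCharacter G)) (hB : IsPBlock M B) (D : Subgroup G)
    (hD : IsDefectGroup p M B D) (P : Sylow p G) (hDP : D ≤ P) :
    ∃ x : G, ¬ p ∣ orderOf x ∧
      (∃ S : Sylow p (Subgroup.centralizer ({x} : Set G)),
        (S : Subgroup (Subgroup.centralizer ({x} : Set G))).map
          (Subgroup.centralizer ({x} : Set G)).subtype = D) ∧
      (P : Subgroup G) ⊓ (P : Subgroup G).map (MulAut.conj x).toMonoidHom = D := by
  classical
  let _ : Fintype G := Fintype.ofFinite G
  have hp : p.Prime := hM.1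
  have hDp : IsPGroup p D := by
    obtain ⟨g, -, S, hDS⟩ := hD
    rw [hDS]
    exact S.isPGroup'.map _
  obtain ⟨b, ⟨hb, hbD, -⟩, -⟩ := (Cfsg.Agent.S0920.result p M hM D hDp).2 B hB hD
  set N := Subgroup.normalizer (D : Set G) with hN
  let _ : Fintype N := Fintype.ofFinite N
  haveI : (D.subgroupOf N).Normal := Subgroup.normal_in_normalizer
  have hDN : D ≤ N := Subgroup.le_normalizer
  have hP₀ : IsPGroup p ((P : Subgroup G).subgroupOf N) := P.isPGroup'.comap_subtype
  obtain ⟨P₁, hP₁⟩ := hP₀.exists_le_sylow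
  obtain ⟨k, hkreg, hkC, hkcard, hkinter⟩ :=
    GreenNormal.exists_inter_eq hM hb (D.subgroupOf N) hbD P₁
  refine ⟨(k : G), ?_, ?_, ?_⟩
  · rw [Subgroup.orderOf_coe]
    exact hkreg
  · -- `D` is a Sylow subgroup of `C_G(k)`
    set C := Subgroup.centralizer ({(k : G)} : Set G) with hC
    have hDC : D ≤ C := by
      intro d hd
      have h1 : (⟨d, hDN hd⟩ : N) ∈ D.subgroupOf N := Subgroup.mem_subgroupOf.mpr hd
      have h2 := hkC h1
      rw [Subgroup.mem_centralizer_singleton_iff] at h2 ⊢
      exact congrArg Subtype.val h2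
    have hDCp : IsPGroup p (D.subgroupOf C) := hDp.comap_subtype
    obtain ⟨S, hS⟩ := hDCp.exists_le_sylow
    have hS'p : IsPGroup p ((S : Subgroup C).map C.subtype) := S.isPGroup'.map _
    have hDS' : D ≤ (S : Subgroup C).map C.subtype := by
      intro d hd
      exact Subgroup.mem_map.mpr ⟨⟨d, hDC hd⟩, hS (Subgroup.mem_subgroupOf.mpr hd), rfl⟩
    have hS'C : (S : Subgroup C).map C.subtype ≤ C := Subgroup.map_subtype_le _
    have hclaim : (S : Subgroup C).map C.subtype ⊓ Subgroup.normalizer (D : Set G) ≤ D := by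
      set T : Subgroup N := ((S : Subgroup C).map C.subtype ⊓ N).subgroupOf N with hT
      have hTp : IsPGroup p T := (hS'p.to_le inf_le_left).comap_subtype
      have hTC : T ≤ Subgroup.centralizer ({k} : Set N) := by
        intro t ht
        rw [Subgroup.mem_centralizer_singleton_iff]
        have h1 : (t : G) ∈ C := hS'C (Subgroup.mem_inf.mp (Subgroup.mem_subgroupOf.mp ht)).1
        rw [Subgroup.mem_centralizer_singleton_iff] at h1
        exact Subtype.ext h1
      have hD'T : D.subgroupOf N ≤ T := by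
        intro d hd
        rw [Subgroup.mem_subgroupOf] at hd ⊢
        exact Subgroup.mem_inf.mpr ⟨hDS' hd, d.2⟩
      have hcard : Nat.card T ≤ Nat.card (D.subgroupOf N) := by
        rw [hkcard]
        exact card_le_of_isPGroup hTp hTC
      have hTeq : D.subgroupOf N = T := Subgroup.eq_of_le_of_card_ge hD'T hcard
      intro t ht
      have h1 : (⟨t, (Subgroup.mem_inf.mp ht).2⟩ : N) ∈ T := Subgroup.mem_subgroupOf.mpr ht
      rw [← hTeq] at h1
      exact Subgroup.mem_subgroupOf.mp h1
    exact ⟨S, eq_of_inf_normalizer_le hS'p hDS' hclaim⟩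
  · -- the Sylow intersection
    have hkN : (k : G) ∈ Subgroup.normalizer (D : Set G) := k.2
    have hQp : IsPGroup p ((P : Subgroup G) ⊓ (P : Subgroup G).map (MulAut.conj (k : G)).toMonoidHom :
        Subgroup G) := P.isPGroup'.to_le inf_le_left
    have hDQ : D ≤ (P : Subgroup G) ⊓ (P : Subgroup G).map (MulAut.conj (k : G)).toMonoidHom := by
      intro d hd
      refine Subgroup.mem_inf.mpr ⟨hDP hd, ?_⟩
      rw [GreenHecke.mem_map_conj_iff]
      apply hDP
      have h1 := (Subgroup.mem_normalizer_iff.mp (Subgroup.inv_mem _ hkN) d).mp hd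
      simpa using h1
    have hclaim : ((P : Subgroup G) ⊓ (P : Subgroup G).map (MulAut.conj (k : G)).toMonoidHom) ⊓
        Subgroup.normalizer (D : Set G) ≤ D := by
      intro t ht
      obtain ⟨ht1, htN⟩ := Subgroup.mem_inf.mp ht
      obtain ⟨htP, htc⟩ := Subgroup.mem_inf.mp ht1
      rw [GreenHecke.mem_map_conj_iff] at htc
      have h1 : (⟨t, htN⟩ : N) ∈ GreenHecke.interConj (P₁ : Subgroup N) k := by
        refine Subgroup.mem_inf.mpr ⟨hP₁ (Subgroup.mem_subgroupOf.mpr htP), ?_⟩
        rw [GreenHecke.mem_map_conj_iff]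
        apply hP₁
        rw [Subgroup.mem_subgroupOf]
        exact htc
      rw [hkinter] at h1
      exact Subgroup.mem_subgroupOf.mp h1
    exact eq_of_inf_normalizer_le hQp hDQ hclaim

end Cfsg.Agent.Helper74.GreenFinal
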