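import Mathlib
import Cfsg.Agent.Helper99.QSpEllDefs
import Cfsg.Agent.Helper99.QSpGlue
import Cfsg.Agent.Helper44.QTypeFpf
import Cfsg.Agent.Helper44.OrthRealizeC

/-!
# Piece (ME4c) of helper99's elliptic-subspace count (#6771): the number of elliptic frames

`card_qeFrame_of` takes (ME3) `card_epairs` as an explicit hypothesis (typed exactly as the skeleton statement for the
given `Q`, `ζ`).
-/

set_option autoImplicit false
set_option linter.unusedSectionVars false
set_option linter.unusedVariables false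
set_option linter.style.haveILetI false

namespace Cfsg.Agent.Helper74.QSpEll

open Module
open Cfsg.Agent.Helper99.SpStruct
open Cfsg.Agent.Helper44 Cfsg.Agent.Helper44.QType
open Cfsg.Agent.Helper99.QSp
open Cfsg.Agent.Helper94

universe u v

variable {F : Type u} [Field F] [Fintype F]
variable {V : Type v} [AddCommGroup V] [Module F V] [FiniteDimensional F V]

/-- the statement of (ME3) `card_epairs` for fixed `Q`, `ζ`, as a hypothesis -/
def ME3Stmt (Q : QuadraticForm F V) (ζ : F) : Prop :=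
  ∀ {X : Submodule F V}, Nd (pB Q) X → ∀ {g : ℕ}, 2 ≤ g → finrank F ↥X = 2 * g → ∀ {ε : ℤ},
    QType Q X g ε →
    (Nat.card {p : V × V // IsEPair Q ζ p ∧ p.1 ∈ X ∧ p.2 ∈ X} : ℤ) =
      (Fintype.card F : ℤ) ^ (2 * g - 2) * ((Fintype.card F : ℤ) ^ g - ε) *
        ((Fintype.card F : ℤ) ^ (g - 1) - ε)

/-- the equivalence with pairs (frame, elliptic pair in the orthogonal complement) -/
def qeFrameSigmaEquiv (Q : QuadraticForm F V) (ζ : F) (e : ℕ) :
    {x : (Fin e → V × V) × (V × V) // IsQEFrame Q ζ x} ≃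
      Σ s : {s : Fin e → V × V // IsQFrame Q s},
        {p : V × V // IsEPair Q ζ p ∧ p.1 ∈ (pB Q).orthogonal (Tn.hSpan (F := F) s.1) ∧
          p.2 ∈ (pB Q).orthogonal (Tn.hSpan (F := F) s.1)} where
  toFun x := ⟨⟨x.1.1, x.2.1⟩, ⟨x.1.2, x.2.2.2.2, x.2.2.1, x.2.2.2.1⟩⟩
  invFun y := ⟨(y.1.1, y.2.1), y.1.2, y.2.2.2.1, y.2.2.2.2, y.2.2.1⟩
  left_inv _ := rfl
  right_inv _ := rfl

/-- (ME4c) the number of elliptic frames, with (ME3) as a hypothesis -/
theorem card_qeFrame_of (Q : QuadraticForm F V) (hnd : (pB Q).Nondegenerate) {d : ℕ}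
    (hV : finrank F V = 2 * d) {εV : ℤ} (hT : QType Q ⊤ d εV) {ζ : F}
    (hζ : ∀ t : F, t ^ 2 + t + ζ ≠ 0) (hME3 : ME3Stmt Q ζ) (e : ℕ) (he : e + 2 ≤ d) :
    (Nat.card {x : (Fin e → V × V) × (V × V) // IsQEFrame Q ζ x} : ℤ) =
      (∏ k : Fin e, (((Fintype.card F : ℤ) ^ (d - k.val) - εV) *
        ((Fintype.card F : ℤ) ^ (d - k.val - 1) + εV) *
        (Fintype.card F : ℤ) ^ (2 * (d - k.val) - 2))) *
      ((Fintype.card F : ℤ) ^ (2 * (d - e) - 2) * ((Fintype.card F : ℤ) ^ (d - e) - εV) *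
        ((Fintype.card F : ℤ) ^ (d - e - 1) - εV)) := by
  classical
  haveI : Finite V := Module.finite_of_finite F
  haveI : Fintype {s : Fin e → V × V // IsQFrame Q s} := Fintype.ofFinite _
  rw [Nat.card_congr (qeFrameSigmaEquiv Q ζ e), Nat.card_sigma]
  have hfib : ∀ s : {s : Fin e → V × V // IsQFrame Q s},
      (Nat.card {p : V × V // IsEPair Q ζ p ∧ p.1 ∈ (pB Q).orthogonal (Tn.hSpan (F := F) s.1) ∧
          p.2 ∈ (pB Q).orthogonal (Tn.hSpan (F := F) s.1)} : ℤ) =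
        (Fintype.card F : ℤ) ^ (2 * (d - e) - 2) * ((Fintype.card F : ℤ) ^ (d - e) - εV) *
          ((Fintype.card F : ℤ) ^ (d - e - 1) - εV) := by
    intro s
    obtain ⟨hXnd, hXdim, hXty⟩ := Cfsg.Agent.Helper4.QSp.orth_hSpan_props Q hnd
      (fun W hW e hdim h => (Cfsg.Agent.Helper99.QSpGlue.hyp_iff_qType Q hW hdim).mp h) hV hT (by omega) s.2
    exact hME3 hXnd (by omega) hXdim hXty
  push_cast
  rw [Finset.sum_congr rfl (fun s _ => hfib s), Finset.sum_const, Finset.card_univ,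
    ← Nat.card_eq_fintype_card, nsmul_eq_mul, Cfsg.Agent.Helper99.QSpGlue.card_qFrame Q hnd hV hT e (by omega)]

end Cfsg.Agent.Helper74.QSpEll
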