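import Mathlib
import Cfsg.Agent.Helper9.Supersolvable

/-!
# Definitions for S3032 (supersolvability from H-subgroups of one fixed order)

`HypE E` is, verbatim, the hypothesis of S3032 on the normal subgroup `E`;
`resid q G` is the smallest normal subgroup of `G` with abelian quotient of exponent dividing
`q - 1` (the intersection of the kernels of all homomorphisms `G →* (ZMod q)ˣ`).
-/

set_option autoImplicit false

namespace Cfsg.Agent.Helper74.HS

/-- The hypothesis of S3032 on a subgroup `E` of `G`: every non-cyclic Sylow subgroup `P` of `E` has a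
subgroup `D`, `1 < |D| < |P|`, such that all subgroups `F` of `P` of order `|D|` (and of order `4`
if `|D| = 2`) satisfy `F^g ∩ N_G(F) ≤ F` for all `g`. -/
def HypE {G : Type*} [Group G] (E : Subgroup G) : Prop :=
  ∀ (p : ℕ), p.Prime → ∀ P : Subgroup G, P ≤ E → IsPGroup p P → ¬ p ∣ P.relIndex E → ¬ IsCyclic ↥P →
    ∃ D : Subgroup G, D ≤ P ∧ 1 < Nat.card D ∧ Nat.card D < Nat.card P ∧
      ∀ F : Subgroup G, F ≤ P → (Nat.card F = Nat.card D ∨ (Nat.card D = 2 ∧ Nat.card F = 4)) →
        ∀ g : G, F.map (MulAut.conj g).toMonoidHom ⊓ Subgroup.normalizer (F : Set G) ≤ F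

/-- The intersection of the kernels of all homomorphisms `G →* (ZMod q)ˣ`. -/
def resid (q : ℕ) (G : Type*) [Group G] : Subgroup G := ⨅ χ : G →* (ZMod q)ˣ, χ.ker

theorem mem_resid {q : ℕ} {G : Type*} [Group G] {b : G} :
    b ∈ resid q G ↔ ∀ χ : G →* (ZMod q)ˣ, χ b = 1 := by
  simp [resid, Subgroup.mem_iInf, MonoidHom.mem_ker]

instance resid_normal (q : ℕ) (G : Type*) [Group G] : (resid q G).Normal := by
  constructor
  intro n hn g
  rw [mem_resid] at hn ⊢
  intro χ
  rw [map_mul, map_mul, hn χ, mul_one, ← map_mul, mul_inv_cancel, map_one]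

theorem map_mem_resid {q : ℕ} {G H : Type*} [Group G] [Group H] (f : G →* H) {b : G}
    (hb : b ∈ resid q G) : f b ∈ resid q H := by
  rw [mem_resid] at hb ⊢
  intro χ
  exact hb (χ.comp f)

theorem commutator_mem_resid {q : ℕ} {G : Type*} [Group G] (x y : G) :
    x * y * x⁻¹ * y⁻¹ ∈ resid q G := by
  rw [mem_resid]
  intro χ
  simp only [map_mul, map_inv]
  rw [mul_comm (χ x) (χ y), mul_assoc (χ y), mul_inv_cancel, mul_one, mul_inv_cancel]

theorem pow_pred_mem_resid {q : ℕ} [Fact q.Prime] {G : Type*} [Group G] (x : G) :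
    x ^ (q - 1) ∈ resid q G := by
  rw [mem_resid]
  intro χ
  rw [map_pow]
  have h : Fintype.card (ZMod q)ˣ = q - 1 := by
    rw [ZMod.card_units_eq_totient, Nat.totient_prime Fact.out]
  rw [← h]
  exact pow_card_eq_one

end Cfsg.Agent.Helper74.HS
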