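import Cfsg.Agent.S4441
import Cfsg.Agent.S0087
import Cfsg.Agent.Helper74.DefectZero
import Cfsg.Agent.Helper74.DegP
import Cfsg.Agent.Helper78.BlockBasic
import Cfsg.Agent.Helper78.LocalRing
import Cfsg.Agent.Helper20.D8Main
import Cfsg.Agent.Helper82.DefOne.Glue

/-!
# (B3) of helper54's plan for S4501

The principal `3`-block of a simple (perfect) group with Sylow `3`-subgroups of order `3` contains
two characters of consecutive degrees `d, d + 1 ≥ 2`, both prime to `3`.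
-/

set_option autoImplicit false

namespace Cfsg.Agent.Helper74.K4

open Cfsg Cfsg.Agent.Helper74
open scoped ComplexConjugate

universe u

/-- the arithmetic of the degree relation -/
theorem consec_of_rel (s₁ s₂ s₃ : ℤ) (h1 : s₁ = 1 ∨ s₁ = -1) (h2 : s₂ = 1 ∨ s₂ = -1)
    (h3 : s₃ = 1 ∨ s₃ = -1) (d₁ d₂ : ℕ) (hd₁ : 2 ≤ d₁) (hd₂ : 2 ≤ d₂)
    (hrel : s₁ * (d₁ : ℤ) + s₂ * (d₂ : ℤ) = s₃) : d₁ = d₂ + 1 ∨ d₂ = d₁ + 1 := by
  rcases h1 with rfl | rfl <;> rcases h2 with rfl | rfl <;> rcases h3 with rfl | rfl <;> omega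

theorem not_three_dvd_of_modEq (d : ℕ) (s : ℤ) (hs : s = 1 ∨ s = -1)
    (h : (d : ℤ) ≡ s [ZMOD ((3 : ℕ) : ℤ)]) : ¬ 3 ∣ d := by
  intro hd
  have h3 : ((3 : ℕ) : ℤ) ∣ (d : ℤ) := by exact_mod_cast hd
  have h4 : ((3 : ℕ) : ℤ) ∣ s := (Int.ModEq.dvd_iff h).mp h3 |> fun x => x
  rcases hs with rfl | rfl
  · have : ((3 : ℕ) : ℤ) ∣ 1 := h4
    norm_num at this
  · have : ((3 : ℕ) : ℤ) ∣ -1 := h4
    norm_num at this

theorem not_three_dvd_of_modEq_two (d : ℕ) (s : ℤ) (hs : s = 1 ∨ s = -1)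
    (h : (d : ℤ) ≡ s * ((2 : ℕ) : ℤ) [ZMOD ((3 : ℕ) : ℤ)]) : ¬ 3 ∣ d := by
  intro hd
  have h3 : ((3 : ℕ) : ℤ) ∣ (d : ℤ) := by exact_mod_cast hd
  have h4 : ((3 : ℕ) : ℤ) ∣ s * ((2 : ℕ) : ℤ) := (Int.ModEq.dvd_iff h).mp h3
  rcases hs with rfl | rfl
  · norm_num at h4
  · norm_num at h4

variable {G : Type u} [Group G] [Fintype G]

/-- (B3) the principal `3`-block of a simple group with Sylow `3`-subgroups of order `3` -/
theorem exists_consec_degrees [IsSimpleGroup G] (hperf : commutator G = ⊤) (P : Sylow 3 G)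
    (hP : Nat.card P = 3) :
    ∃ ψ₁ ψ₂ : IrrCharacter G, charDegree (ψ₂ : G → ℂ) = charDegree (ψ₁ : G → ℂ) + 1 ∧
      2 ≤ charDegree (ψ₁ : G → ℂ) ∧ ¬ 3 ∣ charDegree (ψ₁ : G → ℂ) ∧
      ¬ 3 ∣ charDegree (ψ₂ : G → ℂ) := by
  classical
  obtain ⟨M, hM⟩ := exists_isPModular 3 Nat.prime_three
  have hMp : M.IsPrime := Helper78.isPrime_of_isPModular hM
  -- the inertial index
  have he2 : (Subgroup.centralizer ((P : Subgroup G) : Set G)).relIndex
      (Subgroup.normalizer ((P : Subgroup G) : Set G)) ∣ 2 := by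
    have := Helper82.DefOne.relIndex_cen_nor_dvd P hP
    rwa [Helper82.DefOne.nor_eq_normalizer P hP] at this
  have hne1 : (Subgroup.centralizer ((P : Subgroup G) : Set G)).relIndex
      (Subgroup.normalizer ((P : Subgroup G) : Set G)) ≠ 1 := by
    intro h1
    rw [Subgroup.relIndex_eq_one] at h1
    have hcop : Nat.Coprime (Nat.card (P : Subgroup G)) (P : Subgroup G).index :=
      P.card_coprime_index
    obtain ⟨N, hN, hcompl⟩ := Cfsg.Agent.S0087.result (P : Subgroup G) hcop h1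
    have hmul := hcompl.card_mul
    rcases hN.eq_bot_or_eq_top with h | h
    · -- `|G| = 3`: abelian, not perfect
      rw [h, Subgroup.card_bot, one_mul] at hmul
      have hG3 : Nat.card G = 3 := by rw [← hmul]; exact hP
      haveI : Fact (Nat.Prime 3) := ⟨Nat.prime_three⟩
      have hcyc : IsCyclic G := isCyclic_of_prime_card hG3
      have hcomm : ∀ a b : G, a * b = b * a := fun a b => hcyc.commutative.is_comm.comm a b
      have hbot : commutator G = ⊥ := by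
        rw [commutator_def, Subgroup.commutator_eq_bot_iff_le_centralizer]
        intro a _ b _
        exact hcomm b a
      rw [hbot] at hperf
      have : Nat.card (⊥ : Subgroup G) = Nat.card (⊤ : Subgroup G) := by rw [hperf]
      rw [Subgroup.card_bot, Subgroup.card_top, hG3] at this
      omega
    · rw [h, Subgroup.card_top] at hmul
      have h1 : Nat.card (P : Subgroup G) = 3 := hP
      have hpos : 0 < Nat.card G := Nat.card_pos
      rw [h1] at hmul
      nlinarith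
  have he : (Subgroup.centralizer ((P : Subgroup G) : Set G)).relIndex
      (Subgroup.normalizer ((P : Subgroup G) : Set G)) = 2 := by
    rcases (Nat.dvd_prime Nat.prime_two).mp he2 with h | h
    · exact absurd h hne1
    · exact h
  obtain ⟨X, Y, hB, hdisj, hcX, hcY, εX, ε, hX, hε, hYdeg, -, hrel⟩ :=
    Cfsg.Agent.S4441.result 3 M hM (by norm_num) P hP 2 he
  -- the principal character lies in the block
  have hprB : Helper79.principalIrr G ∈ X ∪ Y := by
    rw [← hB]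
    exact Helper78.sameBlock_refl hMp _
  -- `X = {χ₁, χ₂}`, `Y = {θ}`
  have hX2 : X.ncard = 2 := by rw [← Nat.card_coe_set_eq]; exact hcX
  have hY1 : Y.ncard = 1 := by
    rw [← Nat.card_coe_set_eq, hcY]
  obtain ⟨χ₁, χ₂, hne12, hXeq⟩ := Set.ncard_eq_two.mp hX2
  obtain ⟨θ, hYeq⟩ := Set.ncard_eq_one.mp hY1
  have h1X : χ₁ ∈ X := by rw [hXeq]; exact Set.mem_insert _ _
  have h2X : χ₂ ∈ X := by rw [hXeq]; exact Set.mem_insert_of_mem _ rfl
  have hθY : θ ∈ Y := by rw [hYeq]; exact Set.mem_singleton _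
  -- the degree relation
  have hdc : ∀ χ : IrrCharacter G, (χ : G → ℂ) 1 = (charDegree (χ : G → ℂ) : ℂ) :=
    fun χ => (charDegree_cast (irr_isCharacter χ)).symm
  have hrel1 := hrel θ hθY 1 (by rw [orderOf_one]; norm_num)
  rw [hXeq, finsum_mem_pair hne12, hdc, hdc, hdc] at hrel1
  have hrelZ : ε * (charDegree (θ : G → ℂ) : ℤ) =
      εX χ₁ * (charDegree (χ₁ : G → ℂ) : ℤ) + εX χ₂ * (charDegree (χ₂ : G → ℂ) : ℤ) := by
    have : ((ε * (charDegree (θ : G → ℂ) : ℤ) : ℤ) : ℂ) =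
        ((εX χ₁ * (charDegree (χ₁ : G → ℂ) : ℤ) +
          εX χ₂ * (charDegree (χ₂ : G → ℂ) : ℤ) : ℤ) : ℂ) := by
      push_cast
      exact hrel1
    exact_mod_cast this
  -- signs and non-divisibility
  obtain ⟨hs1, hm1, -⟩ := hX χ₁ h1X
  obtain ⟨hs2, hm2, -⟩ := hX χ₂ h2X
  have hmθ := hYdeg θ hθY
  have hn1 : ¬ 3 ∣ charDegree (χ₁ : G → ℂ) := not_three_dvd_of_modEq _ _ hs1 hm1
  have hn2 : ¬ 3 ∣ charDegree (χ₂ : G → ℂ) := not_three_dvd_of_modEq _ _ hs2 hm2
  have hnθ : ¬ 3 ∣ charDegree (θ : G → ℂ) := not_three_dvd_of_modEq_two _ _ hε hmθ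
  -- degrees of the nonprincipal characters
  have hdeg2 : ∀ χ : IrrCharacter G, χ ≠ Helper79.principalIrr G →
      2 ≤ charDegree (χ : G → ℂ) := by
    intro χ hne
    by_contra hlt
    push Not at hlt
    have hpos := charDegree_pos' χ
    have h1 : charDegree (χ : G → ℂ) = 1 := by omega
    apply hne
    apply Helper20.D8.eq_principal_of_degree_one hperf χ
    rw [hdc, h1, Nat.cast_one]
  have hdpr : charDegree ((Helper79.principalIrr G : IrrCharacter G) : G → ℂ) = 1 := by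
    have h1 : ((Helper79.principalIrr G : IrrCharacter G) : G → ℂ) 1 = 1 := rfl
    have h2 := hdc (Helper79.principalIrr G)
    rw [h1] at h2
    exact_mod_cast h2.symm
  have hθ1 : θ ≠ χ₁ := fun h => (Set.disjoint_left.mp hdisj h1X) (h ▸ hθY)
  have hθ2 : θ ≠ χ₂ := fun h => (Set.disjoint_left.mp hdisj h2X) (h ▸ hθY)
  -- final packaging
  have hfin : ∀ (a b : IrrCharacter G), ¬ 3 ∣ charDegree (a : G → ℂ) →
      ¬ 3 ∣ charDegree (b : G → ℂ) → 2 ≤ charDegree (a : G → ℂ) →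
      2 ≤ charDegree (b : G → ℂ) →
      (charDegree (a : G → ℂ) = charDegree (b : G → ℂ) + 1 ∨
        charDegree (b : G → ℂ) = charDegree (a : G → ℂ) + 1) →
      ∃ ψ₁ ψ₂ : IrrCharacter G, charDegree (ψ₂ : G → ℂ) = charDegree (ψ₁ : G → ℂ) + 1 ∧
        2 ≤ charDegree (ψ₁ : G → ℂ) ∧ ¬ 3 ∣ charDegree (ψ₁ : G → ℂ) ∧
        ¬ 3 ∣ charDegree (ψ₂ : G → ℂ) := by
    intro a b ha hb ha2 hb2 h
    rcases h with h | h
    · exact ⟨b, a, h, hb2, hb, ha⟩
    · exact ⟨a, b, h, ha2, ha, hb⟩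
  rcases hprB with hpr | hpr
  · -- the principal character is in `X`
    rw [hXeq] at hpr
    rcases hpr with hpr | hpr
    · -- `χ₁` is principal
      have hd1 : charDegree (χ₁ : G → ℂ) = 1 := by rw [← hpr]; exact hdpr
      have hsgn : εX χ₁ = 1 := by
        rcases hs1 with h | h
        · exact h
        · exfalso
          rw [hd1, h] at hm1
          have := hm1.dvd
          norm_num at this
      have h2 : 2 ≤ charDegree (χ₂ : G → ℂ) := hdeg2 χ₂ (fun h => hne12 (hpr ▸ h.symm))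
      have hθ : 2 ≤ charDegree (θ : G → ℂ) := hdeg2 θ (fun h => hθ1 (hpr ▸ h))
      rw [hd1, hsgn] at hrelZ
      have hrel' : ε * (charDegree (θ : G → ℂ) : ℤ) + (-εX χ₂) *
          (charDegree (χ₂ : G → ℂ) : ℤ) = 1 := by
        push_cast at hrelZ ⊢
        linarith
      have hs2' : -εX χ₂ = 1 ∨ -εX χ₂ = -1 := by
        rcases hs2 with h | h
        · right; rw [h]
        · left; rw [h]; norm_num
      exact hfin θ χ₂ hnθ hn2 hθ h2
        (consec_of_rel ε (-εX χ₂) 1 hε hs2' (Or.inl rfl) _ _ hθ h2 hrel')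
    · -- `χ₂` is principal
      have hpr' : Helper79.principalIrr G = χ₂ := hpr
      have hd2 : charDegree (χ₂ : G → ℂ) = 1 := by rw [← hpr']; exact hdpr
      have hsgn : εX χ₂ = 1 := by
        rcases hs2 with h | h
        · exact h
        · exfalso
          rw [hd2, h] at hm2
          have := hm2.dvd
          norm_num at this
      have h1 : 2 ≤ charDegree (χ₁ : G → ℂ) := hdeg2 χ₁ (fun h => hne12 (hpr' ▸ h))
      have hθ : 2 ≤ charDegree (θ : G → ℂ) := hdeg2 θ (fun h => hθ2 (hpr' ▸ h))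
      rw [hd2, hsgn] at hrelZ
      have hrel' : ε * (charDegree (θ : G → ℂ) : ℤ) + (-εX χ₁) *
          (charDegree (χ₁ : G → ℂ) : ℤ) = 1 := by
        push_cast at hrelZ ⊢
        linarith
      have hs1' : -εX χ₁ = 1 ∨ -εX χ₁ = -1 := by
        rcases hs1 with h | h
        · right; rw [h]
        · left; rw [h]; norm_num
      exact hfin θ χ₁ hnθ hn1 hθ h1
        (consec_of_rel ε (-εX χ₁) 1 hε hs1' (Or.inl rfl) _ _ hθ h1 hrel')
  · -- the principal character is `θ`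
    rw [hYeq] at hpr
    have hpr' : Helper79.principalIrr G = θ := hpr
    have hdθ : charDegree (θ : G → ℂ) = 1 := by rw [← hpr']; exact hdpr
    have h1 : 2 ≤ charDegree (χ₁ : G → ℂ) := hdeg2 χ₁ (fun h => hθ1 (hpr' ▸ h.symm))
    have h2 : 2 ≤ charDegree (χ₂ : G → ℂ) := hdeg2 χ₂ (fun h => hθ2 (hpr' ▸ h.symm))
    rw [hdθ] at hrelZ
    have hrel' : εX χ₁ * (charDegree (χ₁ : G → ℂ) : ℤ) +
        εX χ₂ * (charDegree (χ₂ : G → ℂ) : ℤ) = ε := by
      push_cast at hrelZ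
      linarith
    exact hfin χ₁ χ₂ hn1 hn2 h1 h2 (consec_of_rel _ _ ε hs1 hs2 hε _ _ h1 h2 hrel')

end Cfsg.Agent.Helper74.K4
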