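import Cfsg.Agent.Helper74.DegP3
import Cfsg.Agent.Helper79.Linear

/-!
# (PD2) of helper54's plan for S4501

A faithful irreducible character of prime degree `q` restricted to a `q`-subgroup `Q`: either `Q`
is abelian, or `Q` has a nontrivial central element `z` with `|χ(z)| = q`.
-/

set_option autoImplicit false

namespace Cfsg.Agent.Helper74.K4

open Cfsg Cfsg.Agent.Helper74
open scoped ComplexConjugate

universe u

variable {G : Type u} [Group G] [Fintype G]

/-- (PD2) -/
theorem comm_or_exists_center (q : ℕ) [Fact q.Prime] (χ : IrrCharacter G)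
    (hdeg : charDegree (χ : G → ℂ) = q)
    (hfaith : ∀ g : G, (χ : G → ℂ) g = (χ : G → ℂ) 1 → g = 1)
    (Q : Subgroup G) (hQ : IsPGroup q Q) :
    (∀ x ∈ Q, ∀ y ∈ Q, x * y = y * x) ∨
    (∃ z ∈ Q, z ≠ 1 ∧ (∀ x ∈ Q, x * z = z * x) ∧ ‖(χ : G → ℂ) z‖ = (q : ℝ)) := by
  classical
  have hq : q.Prime := Fact.out
  haveI : Fintype Q := Fintype.ofFinite Q
  haveI : Fintype (IrrCharacter Q) := irrFintype Q
  set ψ : Q → ℂ := fun h => (χ : G → ℂ) h with hψdef
  have hψ : IsCharacter Q ψ := isCharacter_restrict Q (irr_isCharacter χ)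
  have hdecomp := isCharacter_eq_sum_irr hψ
  have hm : ∀ φ : IrrCharacter Q, ∃ m : ℕ, classInner ψ (φ : Q → ℂ) = m :=
    fun φ => isCharacter_inner_irr_nat hψ φ
  choose m hm using hm
  have hχ1 : (χ : G → ℂ) 1 = (q : ℂ) := by
    rw [← charDegree_cast (irr_isCharacter χ), hdeg]
  have hval : ∀ c : Q, ψ c = ∑ φ : IrrCharacter Q, (m φ : ℂ) * (φ : Q → ℂ) c := by
    intro c
    have h1 := congrFun hdecomp c
    rw [Finset.sum_apply] at h1
    rw [h1]
    refine Finset.sum_congr rfl (fun φ _ => ?_)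
    rw [Pi.smul_apply, smul_eq_mul, hm φ]
  have hφ1 : ∀ φ : IrrCharacter Q, (φ : Q → ℂ) 1 = (charDegree (φ : Q → ℂ) : ℂ) :=
    fun φ => (charDegree_cast (irr_isCharacter φ)).symm
  -- the degree equation
  have hdegeq : q = ∑ φ : IrrCharacter Q, m φ * charDegree (φ : Q → ℂ) := by
    have h1 := hval 1
    have h2 : ψ 1 = (q : ℂ) := hχ1
    rw [h2] at h1
    have h3 : ((q : ℕ) : ℂ) =
        ((∑ φ : IrrCharacter Q, m φ * charDegree (φ : Q → ℂ) : ℕ) : ℂ) := by
      rw [h1]
      push_cast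
      refine Finset.sum_congr rfl (fun φ _ => ?_)
      rw [hφ1 φ]
    exact_mod_cast h3
  have hle : ∀ φ : IrrCharacter Q, m φ * charDegree (φ : Q → ℂ) ≤ q := by
    intro φ
    conv_rhs => rw [hdegeq]
    exact Finset.single_le_sum (f := fun φ : IrrCharacter Q => m φ * charDegree (φ : Q → ℂ))
      (fun _ _ => Nat.zero_le _) (Finset.mem_univ φ)
  have hpos : ∀ φ : IrrCharacter Q, 0 < charDegree (φ : Q → ℂ) := fun φ => charDegree_pos' φ
  by_cases hcase : ∃ φ : IrrCharacter Q, m φ ≠ 0 ∧ charDegree (φ : Q → ℂ) = q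
  · -- the restriction is irreducible
    right
    obtain ⟨φ, hmφ, hdφ⟩ := hcase
    have hm1 : m φ = 1 := by
      have := hle φ
      rw [hdφ] at this
      have hq0 : 0 < q := hq.pos
      have : m φ ≤ 1 := by
        by_contra hcon
        push Not at hcon
        have : 2 * q ≤ m φ * q := Nat.mul_le_mul_right q hcon
        omega
      omega
    have hrest : ∀ φ' : IrrCharacter Q, φ' ≠ φ → m φ' = 0 := by
      intro φ' hne
      have hsplit : q = m φ * charDegree (φ : Q → ℂ) +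
          ∑ φ'' ∈ Finset.univ.erase φ, m φ'' * charDegree (φ'' : Q → ℂ) := by
        conv_lhs => rw [hdegeq]
        exact (Finset.add_sum_erase Finset.univ
          (fun φ'' : IrrCharacter Q => m φ'' * charDegree (φ'' : Q → ℂ)) (Finset.mem_univ φ)).symm
      rw [hm1, hdφ, one_mul] at hsplit
      have hzero : ∑ φ'' ∈ Finset.univ.erase φ, m φ'' * charDegree (φ'' : Q → ℂ) = 0 := by omega
      have h0 := (Finset.sum_eq_zero_iff.mp hzero) φ'
        (Finset.mem_erase.mpr ⟨hne, Finset.mem_univ _⟩)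
      rcases Nat.mul_eq_zero.mp h0 with h | h
      · exact h
      · have := hpos φ'; omega
    have hψφ : ∀ c : Q, ψ c = (φ : Q → ℂ) c := by
      intro c
      rw [hval c, Finset.sum_eq_single φ]
      · rw [hm1, Nat.cast_one, one_mul]
      · intro φ' _ hne
        rw [hrest φ' hne, Nat.cast_zero, zero_mul]
      · intro hn; exact absurd (Finset.mem_univ _) hn
    -- `Q` is nontrivial
    have hdvd : q ∣ Nat.card Q := by
      have := charDegree_dvd_card φ
      rwa [hdφ] at this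
    haveI : Nontrivial Q := by
      rw [← Finite.one_lt_card_iff_nontrivial]
      have h1 : 0 < Nat.card Q := Nat.card_pos
      have := Nat.le_of_dvd h1 hdvd
      have := hq.two_le
      omega
    haveI := hQ.center_nontrivial
    obtain ⟨z, hz⟩ := exists_ne (1 : Subgroup.center Q)
    refine ⟨((z : Q) : G), (z : Q).2, ?_, ?_, ?_⟩
    · intro h
      apply hz
      apply Subtype.ext
      apply Subtype.ext
      exact h
    · intro x hx
      have := Subgroup.mem_center_iff.mp z.2 ⟨x, hx⟩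
      exact congrArg Subtype.val this
    · have h1 : (z : Q) ∈ charCenter φ := center_le_charCenter φ z.2
      rw [mem_charCenter_iff, hdφ] at h1
      rw [← h1]
      have := hψφ (z : Q)
      rw [← this]
  · -- all the constituents are linear
    left
    push Not at hcase
    have hlin : ∀ φ : IrrCharacter Q, m φ ≠ 0 → charDegree (φ : Q → ℂ) = 1 := by
      intro φ hmφ
      have hne := hcase φ hmφ
      have hdle : charDegree (φ : Q → ℂ) ≤ q := by
        have h1 := hle φ
        have h2 : 1 ≤ m φ := Nat.one_le_iff_ne_zero.mpr hmφ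
        calc charDegree (φ : Q → ℂ) = 1 * charDegree (φ : Q → ℂ) := (one_mul _).symm
          _ ≤ m φ * charDegree (φ : Q → ℂ) := Nat.mul_le_mul_right _ h2
          _ ≤ q := h1
      obtain ⟨k, hk⟩ := hQ.exists_card_eq
      have hdvd : charDegree (φ : Q → ℂ) ∣ q ^ k := by
        rw [← hk]; exact charDegree_dvd_card φ
      obtain ⟨j, _, hj⟩ := (Nat.dvd_prime_pow hq).mp hdvd
      rcases Nat.lt_or_ge j 1 with h0 | h1
      · have : j = 0 := by omega
        rw [hj, this, pow_zero]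
      · exfalso
        rcases Nat.lt_or_ge 1 j with h2 | h2
        · have : q ^ 2 ≤ q ^ j := Nat.pow_le_pow_right hq.pos h2
          have h3 : q < q ^ 2 := by
            have := hq.two_le
            nlinarith
          rw [hj] at hdle
          omega
        · have : j = 1 := by omega
          rw [hj, this, pow_one] at hne
          exact hne rfl
    intro x hx y hy
    set c : Q := ⟨x, hx⟩ * ⟨y, hy⟩ * (⟨x, hx⟩)⁻¹ * (⟨y, hy⟩)⁻¹ with hcdef
    have hφc : ∀ φ : IrrCharacter Q, m φ ≠ 0 → (φ : Q → ℂ) c = 1 := by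
      intro φ hmφ
      have h1 : (φ : Q → ℂ) 1 = 1 := by rw [hφ1 φ, hlin φ hmφ, Nat.cast_one]
      have hmul := Helper79.isCharacter_linear_mul (irr_isCharacter φ) h1
      rw [hcdef, hmul, hmul, hmul]
      have hx1 : (φ : Q → ℂ) ⟨x, hx⟩ * (φ : Q → ℂ) (⟨x, hx⟩)⁻¹ = 1 := by
        rw [← hmul, mul_inv_cancel, h1]
      have hy1 : (φ : Q → ℂ) ⟨y, hy⟩ * (φ : Q → ℂ) (⟨y, hy⟩)⁻¹ = 1 := by
        rw [← hmul, mul_inv_cancel, h1]
      calc (φ : Q → ℂ) ⟨x, hx⟩ * (φ : Q → ℂ) ⟨y, hy⟩ * (φ : Q → ℂ) (⟨x, hx⟩)⁻¹ *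
            (φ : Q → ℂ) (⟨y, hy⟩)⁻¹
          = ((φ : Q → ℂ) ⟨x, hx⟩ * (φ : Q → ℂ) (⟨x, hx⟩)⁻¹) *
            ((φ : Q → ℂ) ⟨y, hy⟩ * (φ : Q → ℂ) (⟨y, hy⟩)⁻¹) := by ring
        _ = 1 := by rw [hx1, hy1, one_mul]
    have hψc : ψ c = ψ 1 := by
      rw [hval c, hval 1]
      refine Finset.sum_congr rfl (fun φ _ => ?_)
      by_cases hmφ : m φ = 0
      · rw [hmφ, Nat.cast_zero, zero_mul, zero_mul]
      · rw [hφc φ hmφ, hφ1 φ, hlin φ hmφ, Nat.cast_one]
    have hc1 : ((c : Q) : G) = 1 := hfaith _ hψc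
    have hc2 : x * y * x⁻¹ * y⁻¹ = 1 := by
      have : ((c : Q) : G) = x * y * x⁻¹ * y⁻¹ := by
        rw [hcdef]; rfl
      rw [← this, hc1]
    have h3 : x * y * x⁻¹ = y := by
      have := congrArg (· * y) hc2
      simpa using this
    have h4 := congrArg (· * x) h3
    simpa using h4

end Cfsg.Agent.Helper74.K4
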