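import Cfsg.Agent.Helper6.SPrep2

/-!
# (A3a), (A3b) of helper6's Landazuri–Seitz plan for `Sp_2n(q)` (S2347)

`fixZ` is equivariant under `spW W`, and depends only on the line spanned by the vector.
-/

set_option autoImplicit false

namespace Cfsg.Agent.Helper74.SPrep

open Matrix Cfsg.Agent.Helper13 Module Cfsg.Agent.Helper6.SPrep

variable {F : Type*} [Field F] {m : ℕ}

local notation "Vec" => (Fin m ⊕ Fin m → F)
local notation "⟪" x ", " y "⟫" => Cfsg.sympForm m F x y

variable {M : Type*} [AddCommGroup M] [Module ℂ M]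

/-- (A3a) -/
theorem map_fixZ {W : Submodule F (Fin m ⊕ Fin m → F)} (ρ : Representation ℂ ↥(spW W) M)
    (g : spW W) (p : Vec) (hp : p ∈ W) (x : M) (hx : x ∈ fixZ W ρ p hp) :
    ρ g x ∈ fixZ W ρ (spMat g *ᵥ p) (spMat_mulVec_mem g hp) := by
  rw [mem_fixZ] at hx ⊢
  intro c
  rw [← conj_tvW g p hp c, map_mul, map_mul, Module.End.mul_apply, Module.End.mul_apply,
    ← Module.End.mul_apply (ρ g⁻¹) (ρ g) x, ← map_mul, inv_mul_cancel, map_one,
    Module.End.one_apply, hx c]

/-- (A3b) -/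
theorem fixZ_smul {W : Submodule F (Fin m ⊕ Fin m → F)} (ρ : Representation ℂ ↥(spW W) M)
    (p : Vec) (hp : p ∈ W) (a : F) (ha : a ≠ 0) :
    fixZ W ρ (a • p) (W.smul_mem a hp) = fixZ W ρ p hp := by
  have ha2 : a ^ 2 ≠ 0 := pow_ne_zero _ ha
  ext x
  rw [mem_fixZ, mem_fixZ]
  constructor
  · intro h c
    have := h (c * (a ^ 2)⁻¹)
    rw [tvW_smul W p hp a, mul_assoc, inv_mul_cancel₀ ha2, mul_one] at this
    exact this
  · intro h c
    rw [tvW_smul W p hp a c]
    exact h _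

end Cfsg.Agent.Helper74.SPrep
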