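import Cfsg.Agent.Helper74.SPA3ab

/-!
# (A3d) of helper6's Landazuri–Seitz plan for `Sp_2n(q)` (S2347)

All the fixed-point spaces `fixZ W ρ u` (`u ≠ 0` in `W`) have the same dimension.
-/

set_option autoImplicit false

namespace Cfsg.Agent.Helper74.SPrep

open Matrix Cfsg.Agent.Helper13 Module Cfsg.Agent.Helper6.SPrep

variable {F : Type*} [Field F] {m : ℕ}

local notation "Vec" => (Fin m ⊕ Fin m → F)
local notation "⟪" x ", " y "⟫" => Cfsg.sympForm m F x y

variable {M : Type*} [AddCommGroup M] [Module ℂ M]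

theorem finrank_fixZ_le [FiniteDimensional ℂ M] {W : Submodule F (Fin m ⊕ Fin m → F)}
    (hW : RelNondeg W) (ρ : Representation ℂ ↥(spW W) M) (u p : Vec) (hu : u ∈ W) (hp : p ∈ W)
    (hu0 : u ≠ 0) (hp0 : p ≠ 0) :
    finrank ℂ (fixZ W ρ u hu) ≤ finrank ℂ (fixZ W ρ p hp) := by
  obtain ⟨g, hg⟩ := exists_spW_map hW hu hp hu0 hp0
  subst hg
  have hmaps : ∀ x ∈ fixZ W ρ u hu, ρ g x ∈ fixZ W ρ (spMat g *ᵥ u) hp := by
    intro x hx
    exact map_fixZ ρ g u hu x hx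
  refine LinearMap.finrank_le_finrank_of_injective (f := (ρ g).restrict hmaps) ?_
  intro x y hxy
  have h1 : ρ g (x : M) = ρ g (y : M) := congrArg Subtype.val hxy
  have h2 : ρ g⁻¹ (ρ g (x : M)) = ρ g⁻¹ (ρ g (y : M)) := by rw [h1]
  rw [← Module.End.mul_apply, ← Module.End.mul_apply, ← map_mul, inv_mul_cancel, map_one,
    Module.End.one_apply, Module.End.one_apply] at h2
  exact Subtype.ext h2

/-- (A3d) all the fixed-point spaces have the same dimension -/
theorem finrank_fixZ_eq [FiniteDimensional ℂ M] {W : Submodule F (Fin m ⊕ Fin m → F)}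
    (hW : RelNondeg W) (ρ : Representation ℂ ↥(spW W) M) (u p : Vec) (hu : u ∈ W) (hp : p ∈ W)
    (hu0 : u ≠ 0) (hp0 : p ≠ 0) :
    finrank ℂ (fixZ W ρ u hu) = finrank ℂ (fixZ W ρ p hp) :=
  le_antisymm (finrank_fixZ_le hW ρ u p hu hp hu0 hp0) (finrank_fixZ_le hW ρ p u hp hu hp0 hu0)

end Cfsg.Agent.Helper74.SPrep
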