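import Mathlib

/-!
# (W7) of helper6's Weil-representation plan (S2347): a section over a perfect group

If `π : E →* G` is onto, `G` is perfect and `π` is injective on the commutator subgroup of `E`,
then `π` has a section which is a homomorphism.
-/

set_option autoImplicit false

namespace Cfsg.Agent.Helper74.SPweil

/-- (W7) -/
theorem exists_section_of_perfect {E G : Type*} [Group E] [Group G] (π : E →* G)
    (hπ : Function.Surjective π) (hG : commutator G = ⊤)
    (h : ∀ e ∈ commutator E, π e = 1 → e = 1) : ∃ s : G →* E, ∀ g, π (s g) = g := by
  set f : commutator E →* G := π.comp (commutator E).subtype with hf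
  have hinj : Function.Injective f := by
    rw [injective_iff_map_eq_one]
    intro x hx
    exact Subtype.ext (h x x.2 hx)
  have hsurj : Function.Surjective f := by
    intro g
    have hg : g ∈ Subgroup.map π (commutator E) := by
      rw [commutator_def, Subgroup.map_commutator, ← MonoidHom.range_eq_map,
        MonoidHom.range_eq_top.mpr hπ, ← commutator_def, hG]
      exact Subgroup.mem_top g
    obtain ⟨e, he, rfl⟩ := hg
    exact ⟨⟨e, he⟩, rfl⟩
  let eqv := MulEquiv.ofBijective f ⟨hinj, hsurj⟩
  refine ⟨(commutator E).subtype.comp eqv.symm.toMonoidHom, fun g => ?_⟩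
  show f (eqv.symm g) = g
  exact eqv.apply_symm_apply g

end Cfsg.Agent.Helper74.SPweil
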