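import Cfsg.Agent.Helper61.TwoPDefs
import Cfsg.Agent.Helper74.CharBasic
import Cfsg.Agent.Helper74.FSCount
import Cfsg.Agent.Helper74.TwoPC
import Cfsg.Agent.Helper81.FSIrr
import Cfsg.Agent.Helper79.Linear

/-!
# S4707 (helper61), piece (G): the Frobenius–Schur indicator of `χ₁` is `1`
-/

set_option autoImplicit false
set_option linter.unusedSectionVars false
set_option linter.unusedVariables false

namespace Cfsg.Agent.Helper74.TwoP

open Cfsg MulAction Cfsg.Agent.Helper66.PD2 Cfsg.Agent.Helper61.TwoP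
open scoped ComplexConjugate

variable {G : Type*} [Group G] [Fintype G] {α : Type*} [Fintype α] [DecidableEq α] [MulAction G α]
  {p : ℕ} [Fact p.Prime] {P : Sylow p G} {χ1 θ : IrrCharacter G} {Y : Set (IrrCharacter G)}

theorem card_ne_zero_complex : (Nat.card G : ℂ) ≠ 0 := by
  exact_mod_cast (Nat.card_pos (α := G)).ne'

/-- A nonprincipal irreducible character sums to zero. -/
theorem sum_irr_eq_zero (χ : IrrCharacter G) (h : χ ≠ Helper79.principalIrr G) :
    ∑ g : G, (χ : G → ℂ) g = 0 := by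
  classical
  have h1 := Helper74.irr_orthonormal χ (Helper79.principalIrr G)
  rw [if_neg h, Helper74.classInner_def] at h1
  have h2 : ∑ g : G, (χ : G → ℂ) g * conj ((Helper79.principalIrr G : G → ℂ) g) = 0 := by
    rcases mul_eq_zero.mp h1 with h3 | h3
    · exact absurd (inv_eq_zero.mp h3) card_ne_zero_complex
    · exact h3
  have h4 : ∀ g : G, (χ : G → ℂ) g * conj ((Helper79.principalIrr G : G → ℂ) g) =
      (χ : G → ℂ) g := by
    intro g
    show (χ : G → ℂ) g * conj (1 : ℂ) = _
    rw [map_one, mul_one]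
  simp_rw [h4] at h2
  exact h2

theorem sum_sq_eq (χ : G → ℂ) : ∑ g : G, χ (g * g) = (Nat.card G : ℂ) * Helper81.fsInd χ := by
  unfold Helper81.fsInd
  rw [← mul_assoc, mul_inv_cancel₀ card_ne_zero_complex, one_mul]

theorem fx_le_fx_sq (g : G) : fx α g ≤ fx α (g * g) := by
  unfold fx
  apply Nat.card_mono (Set.toFinite _)
  intro a ha
  rw [MulAction.mem_fixedBy] at ha ⊢
  rw [mul_smul, ha, ha]

theorem theta_ne_one (S : Setup G α p P) (B : CaseB G α p χ1 θ Y) :
    θ ≠ Helper79.principalIrr G := by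
  intro h
  have h1 := B.deg_theta
  rw [h] at h1
  have h2 : ((1 : ℕ) : ℂ) = (p : ℂ) := by
    rw [Nat.cast_one]; exact h1
  have h3 : 1 = p := by exact_mod_cast h2
  have := S.hp5
  omega

theorem chi_ne_theta (B : CaseB G α p χ1 θ Y) : χ1 ≠ θ := by
  intro h
  have h1 := B.deg_chi
  rw [h, B.deg_theta] at h1
  have : (0 : ℂ) = -1 := by linear_combination h1
  norm_num at this

/-- `χ₁` is real-valued. -/
theorem chi_real (S : Setup G α p P) (B : CaseB G α p χ1 θ Y) :
    ∀ g : G, ((χ1 : G → ℂ) g).im = 0 := by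
  classical
  rw [← Helper74.irrConj_eq_self_iff]
  by_contra hne
  set ψ := Helper74.irrConj χ1 with hψ
  have hπ : (fun g => (fx α g : ℂ)) = (fun _ => (1 : ℂ)) + (χ1 : G → ℂ) + (θ : G → ℂ) := by
    funext g
    rw [B.perm g]; rfl
  have hψ1 : (ψ : G → ℂ) 1 = (p : ℂ) - 1 := by
    rw [hψ, Helper74.irrConj_apply, B.deg_chi, map_sub, map_one, Complex.conj_natCast]
  have hψne1 : ψ ≠ Helper79.principalIrr G := by
    intro h
    rw [h] at hψ1
    have h2 : ((2 : ℕ) : ℂ) = (p : ℂ) := by
      have : (1 : ℂ) = (p : ℂ) - 1 := hψ1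
      push_cast; linear_combination this
    have h3 : 2 = p := by exact_mod_cast h2
    have := S.hp5
    omega
  have hψneθ : ψ ≠ θ := by
    intro h
    rw [h, B.deg_theta] at hψ1
    have : (0 : ℂ) = -1 := by linear_combination hψ1
    norm_num at this
  -- `⟨ψ, π⟩ = 0`
  have h0 : classInner (ψ : G → ℂ) (fun g => (fx α g : ℂ)) = 0 := by
    rw [hπ, Helper74.classInner_add_right, Helper74.classInner_add_right]
    have e1 := Helper74.irr_orthonormal ψ (Helper79.principalIrr G)
    rw [if_neg hψne1] at e1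
    have e2 := Helper74.irr_orthonormal ψ χ1
    rw [if_neg hne] at e2
    have e3 := Helper74.irr_orthonormal ψ θ
    rw [if_neg hψneθ] at e3
    have e1' : classInner (ψ : G → ℂ) (fun _ => (1 : ℂ)) = 0 := e1
    rw [e1', e2, e3]; ring
  -- `⟨χ₁, π⟩ = 1`
  have h1 : classInner (χ1 : G → ℂ) (fun g => (fx α g : ℂ)) = 1 := by
    rw [hπ, Helper74.classInner_add_right, Helper74.classInner_add_right]
    have e1 := Helper74.irr_orthonormal χ1 (Helper79.principalIrr G)
    rw [if_neg B.std.chi_ne] at e1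
    have e2 := Helper74.irr_inner_self χ1
    have e3 := Helper74.irr_orthonormal χ1 θ
    rw [if_neg (chi_ne_theta B)] at e3
    have e1' : classInner (χ1 : G → ℂ) (fun _ => (1 : ℂ)) = 0 := e1
    rw [e1', e2, e3]; ring
  -- but `⟨ψ, π⟩ = conj ⟨χ₁, π⟩`
  have h2 : classInner (ψ : G → ℂ) (fun g => (fx α g : ℂ)) =
      conj (classInner (χ1 : G → ℂ) (fun g => (fx α g : ℂ))) := by
    have := Helper74.classInner_conj_conj (χ1 : G → ℂ) (fun g => (fx α g : ℂ))
    rw [← this]
    congr 1
    funext g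
    rw [Complex.conj_natCast]
  rw [h0, h1, map_one] at h2
  exact zero_ne_one h2

/-- (G) the Frobenius–Schur indicator of `χ₁` is `1`. -/
theorem fsInd_chi (S : Setup G α p P) (B : CaseB G α p χ1 θ Y) :
    Helper81.fsInd (χ1 : G → ℂ) = 1 := by
  classical
  have hn : (Nat.card G : ℂ) ≠ 0 := card_ne_zero_complex
  -- the two sums
  have hA : ((∑ g : G, fx α g : ℕ) : ℂ) = (Nat.card G : ℂ) := by
    push_cast
    simp_rw [B.perm]
    rw [Finset.sum_add_distrib, Finset.sum_add_distrib, sum_irr_eq_zero χ1 B.std.chi_ne,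
      sum_irr_eq_zero θ (theta_ne_one S B), Finset.sum_const, Finset.card_univ,
      Nat.card_eq_fintype_card]
    simp
  have hB : ((∑ g : G, fx α (g * g) : ℕ) : ℂ) = (Nat.card G : ℂ) *
      (1 + Helper81.fsInd (χ1 : G → ℂ) + Helper81.fsInd (θ : G → ℂ)) := by
    push_cast
    simp_rw [B.perm]
    rw [Finset.sum_add_distrib, Finset.sum_add_distrib, sum_sq_eq, sum_sq_eq, Finset.sum_const,
      Finset.card_univ, Nat.card_eq_fintype_card]
    simp only [nsmul_eq_mul, mul_one]
    ring
  -- an involution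
  have h2 : 2 ∣ Nat.card G := by
    have h3 : Nat.card (Subgroup.normalizer ((P : Subgroup G) : Set G)) ∣ Nat.card G :=
      Subgroup.card_subgroup_dvd_card _
    rw [S.cardN] at h3
    exact Dvd.dvd.trans (Dvd.intro _ rfl) h3
  haveI : Fact (Nat.Prime 2) := ⟨Nat.prime_two⟩
  obtain ⟨t, ht⟩ := exists_prime_orderOf_dvd_card' 2 h2
  have ht1 : t ≠ 1 := by
    intro h
    rw [h, orderOf_one] at ht
    norm_num at ht
  have htt : t * t = 1 := by
    rw [← pow_two, ← ht, pow_orderOf_eq_one]
  obtain ⟨a, ha⟩ : ∃ a : α, t • a ≠ a := by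
    by_contra hcon
    push_neg at hcon
    exact ht1 (S.faithful t hcon)
  have hlt : fx α t < fx α (t * t) := by
    unfold fx
    rw [Nat.card_coe_set_eq, Nat.card_coe_set_eq]
    apply Set.ncard_lt_ncard _ (Set.toFinite _)
    constructor
    · intro b hb
      rw [MulAction.mem_fixedBy] at hb ⊢
      rw [mul_smul, hb, hb]
    · intro hsub
      have : a ∈ MulAction.fixedBy α (t * t) := by
        rw [MulAction.mem_fixedBy, htt, one_smul]
      have := hsub this
      rw [MulAction.mem_fixedBy] at this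
      exact ha this
  have hsumlt : ∑ g : G, fx α g < ∑ g : G, fx α (g * g) :=
    Finset.sum_lt_sum (fun g _ => fx_le_fx_sq g) ⟨t, Finset.mem_univ t, hlt⟩
  have hAn : ∑ g : G, fx α g = Nat.card G := by exact_mod_cast hA
  rw [hAn] at hsumlt
  have hpos : 0 < Nat.card G := Nat.card_pos
  -- the indicator of `χ₁` is `±1`
  have hreal := chi_real S B
  have hne0 : Helper81.fsInd (χ1 : G → ℂ) ≠ 0 := (Helper81.fsInd_ne_zero_iff χ1.2).mpr hreal
  rcases Helper81.fsInd_trichotomy χ1.2 with h | h | h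
  · exact absurd h hne0
  · exact h
  · exfalso
    rw [h] at hB
    rcases Helper81.fsInd_trichotomy θ.2 with h' | h' | h'
    · rw [h'] at hB
      have : ((∑ g : G, fx α (g * g) : ℕ) : ℂ) = ((0 : ℕ) : ℂ) := by
        rw [hB]; push_cast; ring
      have : ∑ g : G, fx α (g * g) = 0 := by exact_mod_cast this
      omega
    · rw [h'] at hB
      have : ((∑ g : G, fx α (g * g) : ℕ) : ℂ) = ((Nat.card G : ℕ) : ℂ) := by
        rw [hB]; ring
      have : ∑ g : G, fx α (g * g) = Nat.card G := by exact_mod_cast this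
      omega
    · rw [h'] at hB
      have : ((∑ g : G, fx α (g * g) + Nat.card G : ℕ) : ℂ) = ((0 : ℕ) : ℂ) := by
        rw [Nat.cast_add, hB]; push_cast; ring
      have : ∑ g : G, fx α (g * g) + Nat.card G = 0 := by exact_mod_cast this
      omega

end Cfsg.Agent.Helper74.TwoP
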