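/-
Restriction to normal subgroups of coprime index: Clifford degree data, irreducibility of the
restriction when the degree is coprime to the index, and determinantal orders in O^p(G).
-/
import Cfsg.Agent.Helper74.GlaubNormal
import Cfsg.Agent.Helper81.CliffordInd
import Cfsg.Agent.Helper15.DetChar
import Cfsg.Agent.Helper34.Basic

set_option autoImplicit false

namespace Cfsg.Agent.Helper74

open Cfsg
open scoped ComplexConjugate

universe u

/-- Clifford data: for `χ ∈ Irr(G)` over `θ ∈ Irr(N)`: `χ(1) = e t θ(1)` with `e = [χ_N, θ]`,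
`t` the size of the orbit of `θ`, and `e t ∣ |G : N|`. -/
theorem clifford_degree_data {G : Type u} [Group G] [Fintype G] (N : Subgroup G) [hN : N.Normal]
    [Fintype N] {χ : G → ℂ} (hχ : IsIrrCharacter G χ) {θ : N → ℂ} (hθ : IsIrrCharacter N θ)
    (hcon : classInner (fun n : N => χ n) θ ≠ 0) :
    ∃ e : ℕ, classInner (fun n : N => χ n) θ = e ∧
      χ 1 = ((e * (Helper15.conjOrbit N θ).card : ℕ) : ℂ) * θ 1 ∧
      e * (Helper15.conjOrbit N θ).card ∣ N.index := by
  classical
  obtain ⟨e, he⟩ := isCharacter_inner_irr_nat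
    (isCharacter_comp N.subtype (isCharacter_of_isIrr hχ)) ⟨θ, hθ⟩
  have he' : classInner (fun n : N => χ n) θ = e := he
  obtain ⟨b, hb, hbdvd⟩ := degree_ratio_dvd N hχ hθ hcon
  have hcl := Helper15.clifford_restrict N hχ hθ hcon
  have h1 := congrFun hcl 1
  simp only [Pi.smul_apply, Finset.sum_apply, smul_eq_mul] at h1
  have h2 : ∑ φ ∈ Helper15.conjOrbit N θ, φ 1 = ((Helper15.conjOrbit N θ).card : ℂ) * θ 1 := by
    rw [Finset.sum_congr rfl (g := fun _ => θ 1), Finset.sum_const, nsmul_eq_mul]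
    intro φ hφ
    obtain ⟨g, rfl⟩ := (Helper15.mem_conjOrbit N).mp hφ
    exact Helper15.conjFun_apply_one N g θ
  have h3 : ((1 : N) : G) = 1 := rfl
  rw [h3, h2, he'] at h1
  have hθ1 : θ 1 ≠ 0 := Helper80.IsIrrCharacter.map_one_ne_zero hθ
  have h4 : (b : ℂ) = (e : ℂ) * ((Helper15.conjOrbit N θ).card : ℂ) := by
    apply mul_right_cancel₀ hθ1
    rw [← hb, h1]
    ring
  have h5 : b = e * (Helper15.conjOrbit N θ).card := by exact_mod_cast h4
  refine ⟨e, he', ?_, h5 ▸ hbdvd⟩
  rw [h1]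
  push_cast
  ring

/-- If `χ(1)` is coprime to `|G : N|`, then `χ_N` is irreducible and `G`-invariant. -/
theorem restrict_irr_of_coprime {G : Type u} [Group G] [Fintype G] (N : Subgroup G) [hN : N.Normal]
    [Fintype N] {χ : G → ℂ} (hχ : IsIrrCharacter G χ) (hcop : (charDegree χ).Coprime N.index) :
    IsIrrCharacter N (fun n : N => χ n) ∧
      ∀ g : G, Helper15.conjFun N g (fun n : N => χ n) = fun n : N => χ n := by
  classical
  have hχc := isCharacter_of_isIrr hχ
  have hχN : IsCharacter N (fun n : N => χ n) := isCharacter_comp N.subtype hχc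
  have h1 : (fun n : N => χ n) 1 ≠ 0 := Helper80.IsIrrCharacter.map_one_ne_zero hχ
  obtain ⟨θ, hθ⟩ := Helper81.exists_irr_constituent hχN h1
  have hcon : classInner (fun n : N => χ n) (θ : N → ℂ) ≠ 0 := hθ
  obtain ⟨e, he, hdeg, hdvd⟩ := clifford_degree_data N hχ θ.2 hcon
  -- e * t divides both χ(1) and the index
  have hχ1 : χ 1 = (charDegree χ : ℂ) := (charDegree_cast hχc).symm
  have hθ1 : (θ : N → ℂ) 1 = (charDegree (θ : N → ℂ) : ℂ) :=
    (charDegree_cast (irr_isCharacter θ)).symm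
  have hnat : charDegree χ = e * (Helper15.conjOrbit N (θ : N → ℂ)).card * charDegree (θ : N → ℂ) := by
    have : (charDegree χ : ℂ) =
        ((e * (Helper15.conjOrbit N (θ : N → ℂ)).card * charDegree (θ : N → ℂ) : ℕ) : ℂ) := by
      rw [← hχ1, hdeg, hθ1]
      push_cast
      ring
    exact_mod_cast this
  have hone : e * (Helper15.conjOrbit N (θ : N → ℂ)).card = 1 := by
    have hd1 : e * (Helper15.conjOrbit N (θ : N → ℂ)).card ∣ charDegree χ := ⟨_, hnat⟩
    exact Nat.eq_one_of_dvd_coprimes hcop hd1 hdvd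
  have he1 : e = 1 := Nat.eq_one_of_mul_eq_one_right hone
  have ht1 : (Helper15.conjOrbit N (θ : N → ℂ)).card = 1 := Nat.eq_one_of_mul_eq_one_left hone
  obtain ⟨φ, hφ⟩ := Finset.card_eq_one.mp ht1
  have hθmem := Helper15.self_mem_conjOrbit N (θ : N → ℂ)
  rw [hφ, Finset.mem_singleton] at hθmem
  have hcl := Helper15.clifford_restrict N hχ θ.2 hcon
  rw [he, he1, hφ, Finset.sum_singleton, ← hθmem, Nat.cast_one, one_smul] at hcl
  rw [hcl]
  refine ⟨θ.2, fun g => ?_⟩
  have hmem : Helper15.conjFun N g (θ : N → ℂ) ∈ Helper15.conjOrbit N (θ : N → ℂ) :=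
    (Helper15.mem_conjOrbit N).mpr ⟨g, rfl⟩
  rw [hφ, Finset.mem_singleton, ← hθmem] at hmem
  exact hmem

/-- A character of `O^p(G)` has determinantal order prime to `p`. -/
theorem not_dvd_detOrder_pResidual {G : Type u} [Group G] [Finite G] (p : ℕ) [hp : Fact p.Prime]
    {θ : pResidual p G → ℂ} (hθ : IsCharacter (pResidual p G) θ) : ¬ p ∣ detOrder θ := by
  classical
  obtain ⟨n, ρ, rfl⟩ := hθ
  rw [detOrder, Helper15.detChar_eq_detHom]
  set m := ordCompl[p] (Nat.card G) with hm
  have hpm : ¬ p ∣ m := Nat.not_dvd_ordCompl hp.out Nat.card_pos.ne'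
  have hgen : Subgroup.closure ((Subtype.val : pResidual p G → G) ⁻¹'
      {g : G | Nat.Coprime (orderOf g) p}) = ⊤ := Subgroup.closure_closure_coe_preimage
  have hhom : (powMonoidHom m).comp (Helper15.detHom ρ) = (1 : pResidual p G →* ℂ) := by
    apply MonoidHom.eq_of_eqOn_dense hgen
    intro x hx
    have hx' : Nat.Coprime (orderOf (x : G)) p := hx
    have hord : orderOf x ∣ m := by
      rw [← Subgroup.orderOf_coe]
      have h1 : orderOf (x : G) ∣ Nat.card G := orderOf_dvd_natCard _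
      rw [← Nat.ordProj_mul_ordCompl_eq_self (Nat.card G) p] at h1
      exact (Nat.Coprime.pow_right _ hx').dvd_of_dvd_mul_left h1
    simp only [MonoidHom.comp_apply, powMonoidHom_apply, MonoidHom.one_apply]
    rw [← map_pow, orderOf_dvd_iff_pow_eq_one.mp hord, map_one]
  have hpow : (⇑(Helper15.detHom ρ) : pResidual p G → ℂ) ^ m = 1 := by
    funext x
    have := DFunLike.congr_fun hhom x
    simpa using this
  intro hdvd
  exact hpm (hdvd.trans (orderOf_dvd_of_pow_eq_one hpow))

end Cfsg.Agent.Helper74
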