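import Mathlib
import Cfsg.Prelude.Def_Characters
import Cfsg.Agent.Helper79.Linear

/-!
# S0984 sub-tree GLOBAL (helper74): definitions

`Blk7 G`: the principal `7`-block of a (simple) group `G` of order `2520` whose Sylow
`7`-subgroups are self-centralizing with `|N(P) : P| = 3`: it consists of the principal character,
two non-exceptional characters `χ₂ χ₃` and two exceptional characters `θ₁ θ₂`; all other irreducible
characters have degree divisible by `7`.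
-/

set_option autoImplicit false

namespace Cfsg.Agent.Helper74.A7

open Cfsg
open scoped ComplexConjugate

universe u

/-- the principal `7`-block data -/
structure Blk7 (G : Type u) [Group G] [Fact (Nat.Prime 7)] where
  P : Sylow 7 G
  χ₂ : IrrCharacter G
  χ₃ : IrrCharacter G
  θ₁ : IrrCharacter G
  θ₂ : IrrCharacter G
  δ : ℤ
  hP : Nat.card (P : Subgroup G) = 7
  nodup : [Helper79.principalIrr G, χ₂, χ₃, θ₁, θ₂].Nodup
  hall : ∀ ψ : IrrCharacter G, ψ = Helper79.principalIrr G ∨ ψ = χ₂ ∨ ψ = χ₃ ∨ ψ = θ₁ ∨ ψ = θ₂ ∨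
    7 ∣ charDegree (ψ : G → ℂ)
  hdegθ : charDegree (θ₂ : G → ℂ) = charDegree (θ₁ : G → ℂ)
  hY1 : ∀ θ : IrrCharacter G, θ = θ₁ ∨ θ = θ₂ →
    ∑ᶠ z : (P : Subgroup G), (θ : G → ℂ) z = (charDegree (θ : G → ℂ) : ℂ) - (δ : ℂ) * 3
  hY2 : ∀ θ : IrrCharacter G, θ = θ₁ ∨ θ = θ₂ →
    ∑ᶠ z : (P : Subgroup G), (θ : G → ℂ) z * conj ((θ : G → ℂ) z) =
      (charDegree (θ : G → ℂ) : ℂ) ^ 2 + 12

/-- the degree pattern `(χ₂(1), χ₃(1), θ(1), δ)` of a `Blk7` -/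
def Blk7.Pat {G : Type u} [Group G] [Fact (Nat.Prime 7)] (B : Blk7 G) (d2 d3 dt : ℕ) (dl : ℤ) :
    Prop :=
  charDegree (B.χ₂ : G → ℂ) = d2 ∧ charDegree (B.χ₃ : G → ℂ) = d3 ∧
    charDegree (B.θ₁ : G → ℂ) = dt ∧ B.δ = dl

/-- swapping `χ₂` and `χ₃` -/
def Blk7.swap {G : Type u} [Group G] [Fact (Nat.Prime 7)] (B : Blk7 G) : Blk7 G where
  P := B.P
  χ₂ := B.χ₃
  χ₃ := B.χ₂
  θ₁ := B.θ₁
  θ₂ := B.θ₂
  δ := B.δ
  hP := B.hP
  nodup := by
    have h := B.nodup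
    simp only [List.nodup_cons, List.mem_cons, List.not_mem_nil, or_false, not_or,
      List.nodup_nil, and_true] at h ⊢
    obtain ⟨⟨h1, h2, h3, h4⟩, ⟨h5, h6, h7⟩, ⟨h8, h9⟩, h10⟩ := h
    exact ⟨⟨h2, h1, h3, h4⟩, ⟨fun h => h5 h.symm, h8, h9⟩, ⟨h6, h7⟩, h10⟩
  hall := by
    intro ψ
    rcases B.hall ψ with h | h | h | h | h | h
    · exact Or.inl h
    · exact Or.inr (Or.inr (Or.inl h))
    · exact Or.inr (Or.inl h)
    · exact Or.inr (Or.inr (Or.inr (Or.inl h)))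
    · exact Or.inr (Or.inr (Or.inr (Or.inr (Or.inl h))))
    · exact Or.inr (Or.inr (Or.inr (Or.inr (Or.inr h))))
  hdegθ := B.hdegθ
  hY1 := B.hY1
  hY2 := B.hY2

theorem Blk7.swap_pat {G : Type u} [Group G] [Fact (Nat.Prime 7)] (B : Blk7 G) (d2 d3 dt : ℕ)
    (dl : ℤ) (h : B.Pat d2 d3 dt dl) : B.swap.Pat d3 d2 dt dl :=
  ⟨h.2.1, h.1, h.2.2.1, h.2.2.2⟩

end Cfsg.Agent.Helper74.A7
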