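import Mathlib

/-!
# S0984 GLOBAL (helper74): (CH7b) the arithmetic of the degree patterns of the principal 7-block
-/

set_option autoImplicit false

namespace Cfsg.Agent.Helper74.A7

/-- a divisor `d ≥ 2` of `360` with `d ≤ 50` and `d ≡ ±1 mod 7` -/
theorem nonexc_degree (d : ℕ) (e : ℤ) (he : e = 1 ∨ e = -1) (m : (d : ℤ) ≡ e [ZMOD 7])
    (h : d ∣ 360) (g : 2 ≤ d) (hle : d ≤ 50) :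
    (d = 6 ∧ e = -1) ∨ (d = 8 ∧ e = 1) ∨ (d = 15 ∧ e = 1) ∨ (d = 20 ∧ e = -1) ∨
      (d = 36 ∧ e = 1) := by
  unfold Int.ModEq at m
  rcases he with rfl | rfl <;> interval_cases d <;> omega

/-- a divisor `d` of `360` with `d ≤ 35` and `d ≡ ±3 mod 7` -/
theorem exc_degree (d : ℕ) (e : ℤ) (he : e = 1 ∨ e = -1) (m : (d : ℤ) ≡ e * 3 [ZMOD 7])
    (h : d ∣ 360) (hle : d ≤ 35) :
    (d = 3 ∧ e = 1) ∨ (d = 4 ∧ e = -1) ∨ (d = 10 ∧ e = 1) ∨ (d = 18 ∧ e = -1) ∨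
      (d = 24 ∧ e = 1) := by
  unfold Int.ModEq at m
  have h0 : d ≠ 0 := by
    rintro rfl
    simp at h
  rcases he with rfl | rfl <;> interval_cases d <;> omega

/-- (CH7b) the arithmetic: four degree patterns up to swapping -/
theorem degree_patterns (d2 d3 dt : ℕ) (e2 e3 dl : ℤ) (he2 : e2 = 1 ∨ e2 = -1)
    (he3 : e3 = 1 ∨ e3 = -1) (hdl : dl = 1 ∨ dl = -1) (m2 : (d2 : ℤ) ≡ e2 [ZMOD 7])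
    (m3 : (d3 : ℤ) ≡ e3 [ZMOD 7]) (mt : (dt : ℤ) ≡ dl * 3 [ZMOD 7]) (h2 : d2 ∣ 360)
    (h3 : d3 ∣ 360) (ht : dt ∣ 360) (g2 : 2 ≤ d2) (g3 : 2 ≤ d3)
    (heq : dl * (dt : ℤ) = 1 + e2 * (d2 : ℤ) + e3 * (d3 : ℤ))
    (hsq : 1 + d2 ^ 2 + d3 ^ 2 + 2 * dt ^ 2 ≤ 2520) :
    (d2 = 8 ∧ d3 = 15 ∧ dt = 24 ∧ dl = 1) ∨ (d2 = 15 ∧ d3 = 8 ∧ dt = 24 ∧ dl = 1) ∨
    (d2 = 8 ∧ d3 = 6 ∧ dt = 3 ∧ dl = 1) ∨ (d2 = 6 ∧ d3 = 8 ∧ dt = 3 ∧ dl = 1) ∨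
    (d2 = 15 ∧ d3 = 6 ∧ dt = 10 ∧ dl = 1) ∨ (d2 = 6 ∧ d3 = 15 ∧ dt = 10 ∧ dl = 1) ∨
    (d2 = 15 ∧ d3 = 20 ∧ dt = 4 ∧ dl = -1) ∨ (d2 = 20 ∧ d3 = 15 ∧ dt = 4 ∧ dl = -1) := by
  have hd2 : d2 ≤ 50 := by
    by_contra hc
    push_neg at hc
    have : 51 * 51 ≤ d2 ^ 2 := by nlinarith
    have : 0 ≤ d3 ^ 2 := Nat.zero_le _
    have : 0 ≤ dt ^ 2 := Nat.zero_le _
    omega
  have hd3 : d3 ≤ 50 := by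
    by_contra hc
    push_neg at hc
    have : 51 * 51 ≤ d3 ^ 2 := by nlinarith
    have : 0 ≤ d2 ^ 2 := Nat.zero_le _
    have : 0 ≤ dt ^ 2 := Nat.zero_le _
    omega
  have hdt : dt ≤ 35 := by
    by_contra hc
    push_neg at hc
    have : 36 * 36 ≤ dt ^ 2 := by nlinarith
    have : 0 ≤ d2 ^ 2 := Nat.zero_le _
    have : 0 ≤ d3 ^ 2 := Nat.zero_le _
    omega
  rcases nonexc_degree d2 e2 he2 m2 h2 g2 hd2 with ⟨rfl, rfl⟩ | ⟨rfl, rfl⟩ | ⟨rfl, rfl⟩ |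
    ⟨rfl, rfl⟩ | ⟨rfl, rfl⟩ <;>
  rcases nonexc_degree d3 e3 he3 m3 h3 g3 hd3 with ⟨rfl, rfl⟩ | ⟨rfl, rfl⟩ | ⟨rfl, rfl⟩ |
    ⟨rfl, rfl⟩ | ⟨rfl, rfl⟩ <;>
  rcases exc_degree dt dl hdl mt ht hdt with ⟨rfl, rfl⟩ | ⟨rfl, rfl⟩ | ⟨rfl, rfl⟩ |
    ⟨rfl, rfl⟩ | ⟨rfl, rfl⟩ <;>
  omega

end Cfsg.Agent.Helper74.A7
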