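import Cfsg.Agent.Helper74.A7Defs
import Cfsg.Agent.Helper74.A7CH7b
import Cfsg.Agent.Helper17.SylowKit
import Cfsg.Agent.Helper31.A7REAL
import Cfsg.Agent.Helper23.A7KILLD
import Cfsg.Agent.Helper73.A7N7c
import Cfsg.Agent.Helper73.A7A2
import Cfsg.Agent.Helper59.A7A1
import Cfsg.Agent.Helper12.A7N7a
import Cfsg.Agent.Helper12.A7N7b
import Cfsg.Agent.Helper12.A7N7e
import Cfsg.Agent.Helper12.A7N7f
import Cfsg.Agent.Helper49.A7N7d2
import Cfsg.Agent.Helper49.A7N7d1
import Cfsg.Agent.Helper82.A7CH7a3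
import Cfsg.Agent.Helper16.Brauer43.GL
import Cfsg.Agent.Helper17.LemmaR
import Cfsg.Agent.Helper17.FixCount

/-!
# S0984 sub-tree GLOBAL (helper74): assembly

Output: `global` : in a simple group of order 2520 the elements of order 7 are self-centralizing and
there is a real-valued irreducible character of degree 6.

Leaves: (N7a)(N7b)(N7e)(N7f) helper12, (N7c) helper73, (N7d1)(N7d2) helper49,
(CH7a1)(CH7a2)(REAL) helper31, (CH7a3) helper82, (CH7b) helper74, (A1) helper59, (A2) helper73,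
(KILLD) helper23.
-/

set_option autoImplicit false

namespace Cfsg.Agent.Helper74.A7

open Cfsg
open scoped ComplexConjugate

universe u

variable {G : Type u} [Group G]

/-! ## ASSEMBLY -/

theorem pattern_A_false [Fintype G] [IsSimpleGroup G] [Fact (Nat.Prime 7)]
    (hcard : Nat.card G = 2520) (B : Blk7 G) (hpat : B.Pat 8 15 24 1) : False := by
  have : Fact (Nat.Prime 5) := ⟨by norm_num⟩
  obtain ⟨Q⟩ : Nonempty (Sylow 5 G) := inferInstance
  have hQ : Nat.card (Q : Subgroup G) = 5 := by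
    have := Helper17.card_sylow_subgroup_of_card_eq (G := G) (p := 5) (k := 1) (m := 504)
      (by rw [hcard]; norm_num) (by norm_num) Q
    simpa using this
  obtain ⟨h1, -⟩ := Helper17.relIndex_dvd_of_card_sylow_prime Q hQ
  set e := (Subgroup.centralizer ((Q : Subgroup G) : Set G)).relIndex
      (Subgroup.normalizer ((Q : Subgroup G) : Set G)) with he
  have hne1 : e ≠ 1 := by
    intro h
    rw [he, Subgroup.relIndex_eq_one] at h
    exact Helper17.not_normalizer_le_centralizer_of_simple Q (by rw [hQ]; norm_num)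
      (by rw [hQ, hcard]; norm_num) h
  have he24 : e = 2 ∨ e = 4 := by
    have h4 : e ∣ 4 := h1
    have hle : e ≤ 4 := Nat.le_of_dvd (by norm_num) h4
    interval_cases e
    · simp at h4
    · exact absurd rfl hne1
    · exact Or.inl rfl
    · norm_num at h4
    · exact Or.inr rfl
  obtain ⟨X, Y, s, hdisj, hprin, hX, hY, hs, hXm, hYm, hYeq, hsum⟩ :=
    Helper59.A7A1.principal_block_signed (G := G) 5 (by norm_num) Q hQ e he.symm
  exact Helper73.A7.pattern_A_arith B hpat e he24 X Y s hdisj hprin hX hY hs hXm hYm hYeq hsum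

theorem card_sylow7_ne_36 [Finite G] [IsSimpleGroup G] [Fact (Nat.Prime 7)]
    (hcard : Nat.card G = 2520) : Nat.card (Sylow 7 G) ≠ 36 := by
  classical
  intro h36
  obtain ⟨P⟩ : Nonempty (Sylow 7 G) := inferInstance
  obtain ⟨hC, hsemi, t, ht, htP, htC, h7⟩ := Helper49.A7.sylow7_36_structure hcard h36 P
  haveI : Fintype (Sylow 7 G) := Fintype.ofFinite _
  refine Helper49.A7.parity_kill (G := G) (Ω := Sylow 7 G) (by omega) ?_ P
    (Subgroup.centralizer ((P : Subgroup G) : Set G)) hC ?_ hsemi t ht htP htC h7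
  · rw [← Nat.card_eq_fintype_card, h36]
  · intro c hc
    rw [Sylow.smul_eq_iff_mem_normalizer]
    exact Subgroup.centralizer_le_normalizer _ hc

/-- (N7) the Sylow 7-subgroups of a simple group of order 2520 -/
theorem sylow7 [Finite G] [IsSimpleGroup G] [Fact (Nat.Prime 7)] (hcard : Nat.card G = 2520)
    (P : Sylow 7 G) :
    Nat.card (P : Subgroup G) = 7 ∧
    Subgroup.centralizer ((P : Subgroup G) : Set G) = (P : Subgroup G) ∧
    (Subgroup.centralizer ((P : Subgroup G) : Set G)).relIndex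
      (Subgroup.normalizer ((P : Subgroup G) : Set G)) = 3 ∧
    (Subgroup.normalizer ((P : Subgroup G) : Set G)).index = 120 := by
  rcases Helper12.A7.card_sylow7_cases hcard with h | h | h | h
  · exact absurd h (Helper12.A7.card_sylow7_ne_8 hcard)
  · exact absurd h (Helper73.A7.card_sylow7_ne_15 hcard)
  · exact absurd h (card_sylow7_ne_36 hcard)
  · exact Helper12.A7.sylow7_120_structure hcard h P

/-- (CH7) the principal 7-block has one of four degree patterns -/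
theorem exists_blk7 [Fintype G] [IsSimpleGroup G] [Fact (Nat.Prime 7)]
    (hcard : Nat.card G = 2520) :
    ∃ B : Blk7 G, B.Pat 8 15 24 1 ∨ B.Pat 8 6 3 1 ∨ B.Pat 15 6 10 1 ∨ B.Pat 15 20 4 (-1) := by
  obtain ⟨P⟩ : Nonempty (Sylow 7 G) := inferInstance
  obtain ⟨hP, hC, hrel, hidx⟩ := sylow7 hcard P
  obtain ⟨B, ε₂, ε₃, he2, he3, hdl, m2, m3, mt, h2, h3, ht, g2, g3, heq, hsq⟩ :=
    Helper82.A7.exists_blk7_raw hcard P hP hC hrel hidx
  rcases degree_patterns _ _ _ ε₂ ε₃ B.δ he2 he3 hdl m2 m3 mt h2 h3 ht g2 g3 heq hsq with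
    h | h | h | h | h | h | h | h
  · exact ⟨B, Or.inl ⟨h.1, h.2.1, h.2.2.1, h.2.2.2⟩⟩
  · exact ⟨B.swap, Or.inl (B.swap_pat _ _ _ _ ⟨h.1, h.2.1, h.2.2.1, h.2.2.2⟩)⟩
  · exact ⟨B, Or.inr (Or.inl ⟨h.1, h.2.1, h.2.2.1, h.2.2.2⟩)⟩
  · exact ⟨B.swap, Or.inr (Or.inl (B.swap_pat _ _ _ _ ⟨h.1, h.2.1, h.2.2.1, h.2.2.2⟩))⟩
  · exact ⟨B, Or.inr (Or.inr (Or.inl ⟨h.1, h.2.1, h.2.2.1, h.2.2.2⟩))⟩
  · exact ⟨B.swap, Or.inr (Or.inr (Or.inl (B.swap_pat _ _ _ _ ⟨h.1, h.2.1, h.2.2.1, h.2.2.2⟩)))⟩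
  · exact ⟨B, Or.inr (Or.inr (Or.inr ⟨h.1, h.2.1, h.2.2.1, h.2.2.2⟩))⟩
  · exact ⟨B.swap, Or.inr (Or.inr (Or.inr (B.swap_pat _ _ _ _ ⟨h.1, h.2.1, h.2.2.1, h.2.2.2⟩)))⟩

/-- **GLOBAL**: the two global inputs of LOC -/
theorem global {G : Type u} [Group G] [Finite G] [IsSimpleGroup G] (h : Nat.card G = 2520) :
    (∀ x : G, orderOf x = 7 → Subgroup.centralizer ({x} : Set G) = Subgroup.zpowers x) ∧
    ∃ χ : IrrCharacter G, charDegree (χ : G → ℂ) = 6 ∧
      ∀ g, conj ((χ : G → ℂ) g) = (χ : G → ℂ) g := by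
  classical
  haveI : Fintype G := Fintype.ofFinite G
  have : Fact (Nat.Prime 7) := ⟨by norm_num⟩
  refine ⟨fun x hx => Helper12.A7.centralizer_of_order_seven h (fun P => (sylow7 h P).2.1) x hx, ?_⟩
  obtain ⟨B, hA | hB | hC | hD⟩ := exists_blk7 (G := G) h
  · exact (pattern_A_false h B hA).elim
  · exact ⟨B.χ₃, hB.2.1, fun g => Helper31.A7.real_of_pattern B (Or.inl hB) g⟩
  · exact ⟨B.χ₃, hC.2.1, fun g => Helper31.A7.real_of_pattern B (Or.inr hC) g⟩
  · exact (Helper23.A7.pattern_D_false B hD).elim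

end Cfsg.Agent.Helper74.A7
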