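import Cfsg.Agent.Helper74.DegPMain
import Cfsg.Agent.Helper74.Ito
import Cfsg.Agent.Helper80.Pullback

/-!
# Groups with `cd(G) = {1, p}` (helper74): converse directions and reduction to `p`-groups

* `cd_of_abelian_index_p`, `cd_of_center_index`: the two converse directions of Isaacs 12.11;
* `structure_of_direct`: if `G = P × A` with `P` a `p`-group and `A` abelian and `cd(G) ⊆ {1,p}`,
  `G` nonabelian, then `G` has an abelian normal subgroup of index `p` or `|G : Z(G)| = p³`.
-/

set_option autoImplicit false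

namespace Cfsg.Agent.Helper74

open Cfsg Cfsg.Agent.Helper15
open scoped ComplexConjugate commutatorElement

universe u

section
variable {G : Type u} [Group G] [Fintype G]

theorem exists_degree_ne_one (hna : ∃ a b : G, a * b ≠ b * a) :
    ∃ χ : IrrCharacter G, charDegree (χ : G → ℂ) ≠ 1 := by
  by_contra hcon
  push_neg at hcon
  obtain ⟨a, b, hab⟩ := hna
  exact hab (comm_of_forall_degree_one hcon a b)

theorem charDegree_dvd_index_center (χ : IrrCharacter G) :
    charDegree (χ : G → ℂ) ∣ (Subgroup.center G).index := by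
  have := irrRep_isIrreducible χ
  have h := Helper3.finrank_dvd_index_center (irrRep χ)
  have hd : Module.finrank ℂ (Fin (irrDim χ) → ℂ) = charDegree (χ : G → ℂ) := by
    rw [← irrDim_eq]; simp
  rwa [hd] at h

/-- Converse direction (a): an abelian normal subgroup of index `p`. -/
theorem cd_of_abelian_index_p {p : ℕ} (hp : p.Prime) (hna : ∃ a b : G, a * b ≠ b * a)
    (A : Subgroup G) (hAn : A.Normal) (hA : ∀ a ∈ A, ∀ b ∈ A, a * b = b * a)
    (hAp : A.index = p) :
    (∀ χ : IrrCharacter G, charDegree (χ : G → ℂ) = 1 ∨ charDegree (χ : G → ℂ) = p) ∧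
      ∃ χ : IrrCharacter G, charDegree (χ : G → ℂ) = p := by
  have hall : ∀ χ : IrrCharacter G,
      charDegree (χ : G → ℂ) = 1 ∨ charDegree (χ : G → ℂ) = p := by
    intro χ
    obtain ⟨n, hn1, hnd⟩ := ito_degree_dvd_index A hA χ.2
    have hdeg : charDegree (χ : G → ℂ) = n := by
      have := charDegree_cast (irr_isCharacter χ)
      rw [hn1] at this
      exact_mod_cast this
    rw [hAp] at hnd
    rw [hdeg]
    exact (Nat.dvd_prime hp).mp hnd
  refine ⟨hall, ?_⟩
  obtain ⟨χ, hχ⟩ := exists_degree_ne_one hna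
  exact ⟨χ, (hall χ).resolve_left hχ⟩

/-- Converse direction (b): `|G : Z(G)| = p³`. -/
theorem cd_of_center_index {p : ℕ} (hp : p.Prime) (hna : ∃ a b : G, a * b ≠ b * a)
    (hZ : (Subgroup.center G).index = p ^ 3) :
    (∀ χ : IrrCharacter G, charDegree (χ : G → ℂ) = 1 ∨ charDegree (χ : G → ℂ) = p) ∧
      ∃ χ : IrrCharacter G, charDegree (χ : G → ℂ) = p := by
  have hall : ∀ χ : IrrCharacter G,
      charDegree (χ : G → ℂ) = 1 ∨ charDegree (χ : G → ℂ) = p := by
    intro χ
    have hd := charDegree_dvd_index_center χ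
    rw [hZ] at hd
    obtain ⟨k, hk3, hk⟩ := (Nat.dvd_prime_pow hp).mp hd
    have h1 := charDegree_sq_mul_card_charCenter_le χ
    have h2 : Nat.card (Subgroup.center G) ≤ Nat.card (charCenter χ) :=
      Subgroup.card_le_of_le (center_le_charCenter χ)
    have h3 := (Subgroup.center G).card_mul_index
    rw [hZ] at h3
    have hZpos : 0 < Nat.card (Subgroup.center G) := Nat.card_pos
    have h4 : charDegree (χ : G → ℂ) ^ 2 * Nat.card (Subgroup.center G)
        ≤ p ^ 3 * Nat.card (Subgroup.center G) := by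
      calc charDegree (χ : G → ℂ) ^ 2 * Nat.card (Subgroup.center G)
          ≤ charDegree (χ : G → ℂ) ^ 2 * Nat.card (charCenter χ) :=
            Nat.mul_le_mul_left _ h2
        _ ≤ Nat.card G := h1
        _ = p ^ 3 * Nat.card (Subgroup.center G) := by rw [← h3, mul_comm]
    have h5 : charDegree (χ : G → ℂ) ^ 2 ≤ p ^ 3 := Nat.le_of_mul_le_mul_right h4 hZpos
    rw [hk, ← pow_mul] at h5
    have h6 : k * 2 ≤ 3 := (Nat.pow_le_pow_iff_right hp.one_lt).mp h5
    have hk1 : k ≤ 1 := by omega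
    rw [hk]
    interval_cases k
    · left; simp
    · right; simp
  refine ⟨hall, ?_⟩
  obtain ⟨χ, hχ⟩ := exists_degree_ne_one hna
  exact ⟨χ, (hall χ).resolve_left hχ⟩

theorem commutator_mem_of_comm_quotient (N : Subgroup G) [N.Normal] (g h : G)
    (hc : (QuotientGroup.mk' N g) * (QuotientGroup.mk' N h)
      = (QuotientGroup.mk' N h) * (QuotientGroup.mk' N g)) : ⁅g, h⁆ ∈ N := by
  have h1 : QuotientGroup.mk' N ⁅g, h⁆ = 1 := by
    rw [map_commutatorElement]
    exact commutatorElement_eq_one_iff_mul_comm.mpr hc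
  exact (QuotientGroup.eq_one_iff _).mp h1

/-- Reduction of the direct product case to the `p`-group case. -/
theorem structure_of_direct {p : ℕ} [hp : Fact p.Prime] (hna : ∃ a b : G, a * b ≠ b * a)
    (hcd : ∀ χ : IrrCharacter G, charDegree (χ : G → ℂ) = 1 ∨ charDegree (χ : G → ℂ) = p)
    (P A : Subgroup G) (hPn : P.Normal) (hAn : A.Normal) (hP : IsPGroup p P)
    (hA : ∀ a ∈ A, ∀ b ∈ A, a * b = b * a) (hPA : P ⊓ A = ⊥) (hsup : P ⊔ A = ⊤) :
    (∃ B : Subgroup G, B.Normal ∧ (∀ a ∈ B, ∀ b ∈ B, a * b = b * a) ∧ B.index = p) ∨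
      (Subgroup.center G).index = p ^ 3 := by
  classical
  have hdec : ∀ g : G, ∃ x ∈ P, ∃ a ∈ A, g = x * a := by
    intro g
    have hg : g ∈ ((P ⊔ A : Subgroup G) : Set G) := by rw [hsup]; trivial
    rw [Subgroup.mul_normal] at hg
    obtain ⟨x, hx, a, ha, rfl⟩ := Set.mem_mul.mp hg
    exact ⟨x, hx, a, ha, rfl⟩
  have hcommP : ∀ g h : G, ⁅g, h⁆ ∈ P := by
    intro g h
    apply commutator_mem_of_comm_quotient P
    obtain ⟨x, hx, a, ha, rfl⟩ := hdec g
    obtain ⟨y, hy, b, hb, rfl⟩ := hdec h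
    have ex : QuotientGroup.mk' P x = 1 := (QuotientGroup.eq_one_iff x).mpr hx
    have ey : QuotientGroup.mk' P y = 1 := (QuotientGroup.eq_one_iff y).mpr hy
    rw [map_mul, map_mul, ex, ey, one_mul, one_mul, ← map_mul, ← map_mul, hA a ha b hb]
  have hbot : ∀ g h : G, ⁅g, h⁆ ∈ A → g * h = h * g := by
    intro g h hgh
    have : ⁅g, h⁆ ∈ P ⊓ A := ⟨hcommP g h, hgh⟩
    rw [hPA, Subgroup.mem_bot] at this
    exact commutatorElement_eq_one_iff_mul_comm.mp this
  -- the quotient `G ⧸ A`
  let _ : Fintype (G ⧸ A) := Fintype.ofFinite _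
  have hπ : Function.Surjective (QuotientGroup.mk' A) := QuotientGroup.mk'_surjective A
  have hQp : IsPGroup p (G ⧸ A) := by
    apply hP.of_surjective ((QuotientGroup.mk' A).comp P.subtype)
    intro q
    obtain ⟨g, rfl⟩ := hπ q
    obtain ⟨x, hx, a, ha, rfl⟩ := hdec g
    refine ⟨⟨x, hx⟩, ?_⟩
    have ea : QuotientGroup.mk' A a = 1 := (QuotientGroup.eq_one_iff a).mpr ha
    rw [map_mul, ea, mul_one]
    rfl
  have hQna : ∃ a b : G ⧸ A, a * b ≠ b * a := by
    by_contra hcon
    push_neg at hcon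
    obtain ⟨a, b, hab⟩ := hna
    exact hab (hbot a b (commutator_mem_of_comm_quotient A a b (hcon _ _)))
  have hQcd : ∀ ψ : IrrCharacter (G ⧸ A),
      charDegree (ψ : G ⧸ A → ℂ) = 1 ∨ charDegree (ψ : G ⧸ A → ℂ) = p := by
    intro ψ
    have hirr := Helper80.IsIrrCharacter.comp_surjective ψ.2 (QuotientGroup.mk' A) hπ
    have := hcd ⟨_, hirr⟩
    have hdeg : charDegree (fun g : G => (ψ : G ⧸ A → ℂ) (QuotientGroup.mk' A g))
        = charDegree (ψ : G ⧸ A → ℂ) := by
      unfold charDegree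
      show ⌊((ψ : G ⧸ A → ℂ) (QuotientGroup.mk' A 1)).re⌋₊ = _
      rw [map_one]
    rw [← hdeg]
    exact this
  rcases pgroup_cd_one_p hQp hQna hQcd with ⟨B, hBn, hBc, hBp⟩ | hZ
  · left
    refine ⟨B.comap (QuotientGroup.mk' A), hBn.comap _, ?_, ?_⟩
    · intro a ha b hb
      apply hbot
      apply commutator_mem_of_comm_quotient A
      exact hBc _ ha _ hb
    · rw [Subgroup.index_comap_of_surjective B hπ, hBp]
  · right
    have hcomap : (Subgroup.center (G ⧸ A)).comap (QuotientGroup.mk' A) = Subgroup.center G := by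
      ext g
      rw [Subgroup.mem_comap, Subgroup.mem_center_iff, Subgroup.mem_center_iff]
      constructor
      · intro hg h
        apply hbot
        apply commutator_mem_of_comm_quotient A
        exact hg _
      · intro hg q
        obtain ⟨h, rfl⟩ := hπ q
        rw [← map_mul, ← map_mul, hg h]
    rw [← hcomap, Subgroup.index_comap_of_surjective _ hπ, hZ]

end

end Cfsg.Agent.Helper74
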