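import Cfsg.Agent.Helper16.Quotient
import Cfsg.Agent.Helper16.QuotientDefect
import Cfsg.Agent.Helper74.DegPFinal

/-!
# Blocks of a quotient by a central subgroup of order `p` (helper74, piece (CQ) for S4719)

* `sameBlock_of_comp_mk`: for a central subgroup `Z` of order `p`, two irreducible characters of
  `H ⧸ Z` whose inflations lie in the same block of `H` lie in the same block of `H ⧸ Z`;
* `deficiency_quotient_central`: if all nonprincipal blocks of `H` have defect `< r`, then all
  nonprincipal blocks of `H ⧸ Z` have defect `< r - 1`.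
-/

set_option autoImplicit false
set_option linter.unusedSectionVars false
set_option linter.unusedVariables false

namespace Cfsg.Agent.Helper74.DC

open Cfsg

section

variable {H : Type*} [Group H] [Finite H]

/-- For a `p`-regular element `x` and a central subgroup `Z` of order `p`, the full preimage of the
centralizer of the image of `x` is the centralizer of `x`. -/
theorem comap_centralizer_mk_eq {p : ℕ} [hp : Fact p.Prime] (Z : Subgroup H) [Z.Normal]
    (hZc : Z ≤ Subgroup.center H) (hZp : Nat.card Z = p) (x : H) (hx : ¬ p ∣ orderOf x) :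
    (Subgroup.centralizer ({(QuotientGroup.mk x : H ⧸ Z)} : Set (H ⧸ Z))).comap
        (QuotientGroup.mk' Z) = Subgroup.centralizer ({x} : Set H) := by
  apply le_antisymm
  · intro g hg
    rw [Subgroup.mem_comap, Subgroup.mem_centralizer_singleton_iff] at hg
    rw [Subgroup.mem_centralizer_singleton_iff]
    -- z := g x g⁻¹ x⁻¹ ∈ Z
    have hz : g * x * g⁻¹ * x⁻¹ ∈ Z := by
      rw [← QuotientGroup.eq_one_iff]
      have h1 : ((g * x * g⁻¹ * x⁻¹ : H) : H ⧸ Z) =
          (QuotientGroup.mk' Z g) * (QuotientGroup.mk x : H ⧸ Z) * (QuotientGroup.mk' Z g)⁻¹ *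
            (QuotientGroup.mk x : H ⧸ Z)⁻¹ := by
        simp
      rw [h1, hg]
      group
    set z := g * x * g⁻¹ * x⁻¹ with hzdef
    have hzc : z ∈ Subgroup.center H := hZc hz
    have hgx : g * x * g⁻¹ = z * x := by rw [hzdef]; group
    have hcomm : Commute z x := by
      have := Subgroup.mem_center_iff.mp hzc x
      exact this.symm
    have hpow : (z * x) ^ orderOf x = z ^ orderOf x := by
      rw [hcomm.mul_pow, pow_orderOf_eq_one, mul_one]
    have hpow2 : (g * x * g⁻¹) ^ orderOf x = 1 := by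
      rw [conj_pow, pow_orderOf_eq_one]; group
    have hzn : z ^ orderOf x = 1 := by rw [← hpow, ← hgx, hpow2]
    have hzp : z ^ p = 1 := by
      have h1 : (⟨z, hz⟩ : Z) ^ Nat.card Z = 1 := pow_card_eq_one'
      rw [hZp] at h1
      have := congrArg (Subtype.val) h1
      simpa using this
    have hz1 : z = 1 := by
      have hcop : Nat.Coprime (orderOf x) p :=
        (Nat.Coprime.symm ((Nat.Prime.coprime_iff_not_dvd hp.out).mpr hx))
      have hd1 : orderOf z ∣ orderOf x := orderOf_dvd_of_pow_eq_one hzn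
      have hd2 : orderOf z ∣ p := orderOf_dvd_of_pow_eq_one hzp
      have : orderOf z ∣ 1 := by
        have := Nat.dvd_gcd hd1 hd2
        rwa [hcop] at this
      exact orderOf_eq_one_iff.mp (Nat.dvd_one.mp this)
    have : g * x * g⁻¹ = x := by rw [hgx, hz1, one_mul]
    calc g * x = g * x * g⁻¹ * g := by group
      _ = x * g := by rw [this]
  · exact Helper16.centralizer_le_comap_centralizer_mk Z x

/-- Every `p`-regular element of `H ⧸ Z` (`Z` of order `p`) is the image of a `p`-regular
element. -/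
theorem exists_pRegular_lift {p : ℕ} [hp : Fact p.Prime] (Z : Subgroup H) [Z.Normal]
    (hZp : Nat.card Z = p) (q : H ⧸ Z) (hq : ¬ p ∣ orderOf q) :
    ∃ x : H, (QuotientGroup.mk x : H ⧸ Z) = q ∧ ¬ p ∣ orderOf x := by
  have hcop : Nat.Coprime p (orderOf q) := (Nat.Prime.coprime_iff_not_dvd hp.out).mpr hq
  obtain ⟨m, hm⟩ := exists_pow_eq_self_of_coprime hcop
  obtain ⟨y, rfl⟩ := QuotientGroup.mk_surjective q
  refine ⟨(y ^ p) ^ m, ?_, ?_⟩
  · rw [QuotientGroup.mk_pow, QuotientGroup.mk_pow]; exact hm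
  · set n := orderOf (QuotientGroup.mk y : H ⧸ Z) with hn
    have h1 : y ^ n ∈ Z := by
      rw [← QuotientGroup.eq_one_iff, QuotientGroup.mk_pow, hn, pow_orderOf_eq_one]
    have h2 : (y ^ n) ^ p = 1 := by
      have h3 : (⟨y ^ n, h1⟩ : Z) ^ Nat.card Z = 1 := pow_card_eq_one'
      rw [hZp] at h3
      have := congrArg (Subtype.val) h3
      simpa using this
    have h4 : ((y ^ p) ^ m) ^ n = 1 := by
      rw [← pow_mul, ← pow_mul]
      have : p * (m * n) = n * p * m := by ring
      rw [this, pow_mul, pow_mul, h2, one_pow]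
    have h5 : orderOf ((y ^ p) ^ m) ∣ n := orderOf_dvd_of_pow_eq_one h4
    intro hdvd
    exact hq (hdvd.trans h5)

end

section

variable {H : Type*} [Group H] [Fintype H]

/-- KEY: for a central subgroup `Z` of order `p`, if the inflations of `χ'`, `ψ'` lie in the same
block of `H`, then `χ'`, `ψ'` lie in the same block of `H ⧸ Z`. -/
theorem sameBlock_of_comp_mk {p : ℕ} [hp : Fact p.Prime] {M : Ideal AlgInt} (hM : IsPModular p M)
    (Z : Subgroup H) [Z.Normal] [Fintype (H ⧸ Z)]
    (hZc : Z ≤ Subgroup.center H) (hZp : Nat.card Z = p) (χ' ψ' : IrrCharacter (H ⧸ Z))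
    (h : SameBlock M ((χ' : H ⧸ Z → ℂ) ∘ QuotientGroup.mk) ((ψ' : H ⧸ Z → ℂ) ∘ QuotientGroup.mk)) :
    SameBlock M (χ' : H ⧸ Z → ℂ) (ψ' : H ⧸ Z → ℂ) := by
  apply Helper16.sameBlock_of_forall_pRegular hM
  intro q hq
  obtain ⟨x, rfl, hx⟩ := exists_pRegular_lift Z hZp q hq
  have hx' := h x
  rw [Helper16.centralChar_comp_mk Z, Helper16.centralChar_comp_mk Z,
    comap_centralizer_mk_eq Z hZc hZp x hx, Subgroup.relIndex_self, Nat.cast_one, one_mul,
    one_mul] at hx'
  exact hx'

end

/-- Piece (CQ): if all nonprincipal `p`-blocks of `H` have defect `< r` and `Z` is a central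
subgroup of order `p`, then all nonprincipal `p`-blocks of `H ⧸ Z` have defect `< r - 1`. -/
theorem deficiency_quotient_central {H : Type*} [Group H] [Finite H] (p : ℕ) [Fact p.Prime] (M : Ideal AlgInt) (hM : IsPModular p M) (Z : Subgroup H) [Z.Normal] (hZc : Z ≤ Subgroup.center H) (hZp : Nat.card Z = p) (r : ℕ) (hdef : ∀ B : Set (IrrCharacter H), IsPBlock M B → B ≠ principalBlock M H → blockDefect p B < r) : ∀ B' : Set (IrrCharacter (H ⧸ Z)), IsPBlock M B' → B' ≠ principalBlock M (H ⧸ Z) → blockDefect p B' < r - 1 := by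
  classical
  haveI : Fintype H := Fintype.ofFinite H
  haveI : Fintype (H ⧸ Z) := Fintype.ofFinite _
  haveI hMp : M.IsPrime := hM.2.1.isPrime
  have hp : p.Prime := Fact.out
  rintro B' ⟨χ', rfl⟩ hB'
  set χ : IrrCharacter H := Helper16.inflate Z χ' with hχ
  have hBnp : blockOf M (χ : H → ℂ) ≠ principalBlock M H := by
    intro heq
    apply hB'
    have h1 : χ ∈ blockOf M (χ : H → ℂ) := Helper16.sameBlock_refl _
    rw [heq] at h1
    have h2 : SameBlock M (fun _ : H ⧸ Z => (1 : ℂ)) (χ' : H ⧸ Z → ℂ) :=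
      sameBlock_of_comp_mk hM Z hZc hZp ⟨fun _ => 1, Helper15.isIrrCharacter_one _⟩ χ' h1
    ext ψ
    simp only [blockOf, principalBlock, Set.mem_ofPred_eq]
    constructor
    · intro h; exact Helper16.sameBlock_trans h2 h
    · intro h; exact Helper16.sameBlock_trans (Helper16.sameBlock_symm h2) h
  have hd := hdef _ ⟨χ, rfl⟩ hBnp
  -- degrees of inflations
  have hdeg : ∀ ψ' : IrrCharacter (H ⧸ Z),
      charDegree ((Helper16.inflate Z ψ' : IrrCharacter H) : H → ℂ) =
        charDegree (ψ' : H ⧸ Z → ℂ) := by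
    intro ψ'
    unfold charDegree
    rw [Helper16.inflate_coe]
    rfl
  -- orders
  have hcard : Nat.card H = Nat.card (H ⧸ Z) * p := by
    rw [← hZp]; exact Subgroup.card_eq_card_quotient_mul_card_subgroup Z
  have hq0 : Nat.card (H ⧸ Z) ≠ 0 := Nat.card_pos.ne'
  have hv : (Nat.card H).factorization p = (Nat.card (H ⧸ Z)).factorization p + 1 := by
    rw [hcard, Nat.factorization_mul hq0 hp.ne_zero, Finsupp.add_apply, hp.factorization,
      Finsupp.single_eq_same]
  -- the images
  have hsub : (fun ψ : IrrCharacter (H ⧸ Z) => (charDegree (ψ : H ⧸ Z → ℂ)).factorization p) ''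
      (blockOf M (χ' : H ⧸ Z → ℂ)) ⊆
      (fun ψ : IrrCharacter H => (charDegree (ψ : H → ℂ)).factorization p) ''
        (blockOf M (χ : H → ℂ)) := by
    rintro n ⟨ψ', hψ', rfl⟩
    refine ⟨Helper16.inflate Z ψ', ?_, ?_⟩
    · exact Helper16.sameBlock_comp_mk Z hψ'
    · show (charDegree ((Helper16.inflate Z ψ' : IrrCharacter H) : H → ℂ)).factorization p = _
      rw [hdeg ψ']
  have hne : ((fun ψ : IrrCharacter (H ⧸ Z) => (charDegree (ψ : H ⧸ Z → ℂ)).factorization p) ''
      (blockOf M (χ' : H ⧸ Z → ℂ))).Nonempty :=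
    ⟨_, χ', Helper16.sameBlock_refl _, rfl⟩
  have hle : sInf ((fun ψ : IrrCharacter H => (charDegree (ψ : H → ℂ)).factorization p) ''
        (blockOf M (χ : H → ℂ))) ≤
      sInf ((fun ψ : IrrCharacter (H ⧸ Z) => (charDegree (ψ : H ⧸ Z → ℂ)).factorization p) ''
        (blockOf M (χ' : H ⧸ Z → ℂ))) := csInf_le_csInf' hne hsub
  -- the degree of `χ` divides `|H : Z|`
  have hdvd : charDegree (χ : H → ℂ) ∣ Nat.card (H ⧸ Z) := by
    have h1 := Helper74.charDegree_dvd_index_center χ
    have h2 : (Subgroup.center H).index ∣ Z.index := Subgroup.index_dvd_of_le hZc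
    rw [Subgroup.index_eq_card] at h2
    exact h1.trans h2
  have hχ0 : charDegree (χ : H → ℂ) ≠ 0 := by
    intro h0
    rw [h0] at hdvd
    exact hq0 (Nat.eq_zero_of_zero_dvd hdvd)
  have hfac : (charDegree (χ : H → ℂ)).factorization p ≤ (Nat.card (H ⧸ Z)).factorization p :=
    (Nat.factorization_le_iff_dvd hχ0 hq0).mpr hdvd p
  have hle2 : sInf ((fun ψ : IrrCharacter H => (charDegree (ψ : H → ℂ)).factorization p) ''
        (blockOf M (χ : H → ℂ))) ≤ (charDegree (χ : H → ℂ)).factorization p :=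
    Nat.sInf_le ⟨χ, Helper16.sameBlock_refl _, rfl⟩
  unfold blockDefect at hd ⊢
  omega

end Cfsg.Agent.Helper74.DC
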