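import Cfsg.Agent.Helper74.DegP

/-!
# Characters of degree `p` in `p`-groups with `cd ⊆ {1, p}` (helper74)

* `mem_charCenter_of_ne_zero`: if `χ` vanishes off `M`, `χ'` does not, and all degrees are at most
  `p`, then `χ'` vanishes on `M \ Z(χ)`.
-/

set_option autoImplicit false

namespace Cfsg.Agent.Helper74

open Cfsg Cfsg.Agent.Helper15
open scoped ComplexConjugate

universe u

section pgroup
variable {G : Type u} [Group G] [Fintype G] {p : ℕ} [hp : Fact p.Prime]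

theorem mem_charCenter_of_ne_zero (hG : IsPGroup p G)
    (hcd : ∀ χ : IrrCharacter G, charDegree (χ : G → ℂ) ≤ p)
    (M : Subgroup G) [hMn : M.Normal] [Fintype M] (hMp : M.index = p)
    (χ : IrrCharacter G) (hχ : charDegree (χ : G → ℂ) = p) (h : VanOff (χ : G → ℂ) M)
    (χ' : IrrCharacter G) (hχ' : charDegree (χ' : G → ℂ) = p) (h' : ¬ VanOff (χ' : G → ℂ) M)
    (m : G) (hm : m ∈ M) (hne : (χ' : G → ℂ) m ≠ 0) : m ∈ charCenter χ := by
  classical
  obtain ⟨μ, hμ⟩ := exists_hom_of_vanOff hG M hMp χ hχ h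
  have hψ := restrict_irr_of_not_vanOff hG M hMp χ' hχ' h'
  obtain ⟨χ'', hχ''⟩ := Helper16.exists_irr_over M (twist μ ⟨_, hψ⟩)
  have hle := Cfsg.Agent.S4464.charDegree_le_of_constituent M (irr_isCharacter χ'')
    (twist μ ⟨_, hψ⟩) hχ''
  have hθ1 : (twist μ ⟨_, hψ⟩ : M → ℂ) 1 = (p : ℕ) := by
    rw [twist_apply, map_one, Units.val_one, one_mul]
    show (χ' : G → ℂ) 1 = _
    rw [← charDegree_cast (irr_isCharacter χ'), hχ']
  have hθdeg : charDegree (twist μ ⟨_, hψ⟩ : M → ℂ) = p := by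
    have := charDegree_cast (irr_isCharacter (twist μ ⟨_, hψ⟩))
    rw [hθ1] at this
    exact_mod_cast this
  have hχ''deg : charDegree (χ'' : G → ℂ) = p := le_antisymm (hcd χ'') (hθdeg ▸ hle)
  have hres : IsCharacter M (fun m : M => (χ'' : G → ℂ) m) :=
    isCharacter_restrict M (irr_isCharacter χ'')
  have h1' : (fun m : M => (χ'' : G → ℂ) m) 1 = (p : ℕ) := by
    show (χ'' : G → ℂ) 1 = _
    rw [← charDegree_cast (irr_isCharacter χ''), hχ''deg]
  have heq := eq_of_constituent_of_degree_le hres (twist μ ⟨_, hψ⟩).2 hχ'' _ _ h1' hθ1 le_rfl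
  -- invariance of `μ` at `m`
  have hconj : ∀ x : G, x⁻¹ * m * x ∈ M := fun x => by
    have := hMn.conj_mem m hm x⁻¹
    simpa using this
  have hinv : ∀ x : G, ((μ ⟨x⁻¹ * m * x, hconj x⟩ : ℂˣ) : ℂ) = ((μ ⟨m, hm⟩ : ℂˣ) : ℂ) := by
    intro x
    have e1 := congrFun heq ⟨x⁻¹ * m * x, hconj x⟩
    have e2 := congrFun heq ⟨m, hm⟩
    simp only [twist_apply] at e1 e2
    have c1 : (χ'' : G → ℂ) (x⁻¹ * m * x) = (χ'' : G → ℂ) m := by
      have := irr_isClassFunction χ'' m x⁻¹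
      simpa using this
    have c2 : (χ' : G → ℂ) (x⁻¹ * m * x) = (χ' : G → ℂ) m := by
      have := irr_isClassFunction χ' m x⁻¹
      simpa using this
    have e3 : ((μ ⟨x⁻¹ * m * x, hconj x⟩ : ℂˣ) : ℂ) * (χ' : G → ℂ) m
        = ((μ ⟨m, hm⟩ : ℂˣ) : ℂ) * (χ' : G → ℂ) m := by
      rw [← e2, ← c1, e1, c2]
    exact mul_right_cancel₀ hne e3
  -- compute `χ m`
  have hval : (χ : G → ℂ) m = (p : ℂ) * ((μ ⟨m, hm⟩ : ℂˣ) : ℂ) := by
    rw [hμ, indFun_apply]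
    have : ∀ x : G, extendByZero M (linFun μ) (x⁻¹ * m * x) = ((μ ⟨m, hm⟩ : ℂˣ) : ℂ) := by
      intro x
      rw [extendByZero_of_mem M _ (hconj x), linFun_apply, hinv x]
    simp only [this, Finset.sum_const, Finset.card_univ, nsmul_eq_mul]
    have hM0 : (Nat.card M : ℂ) ≠ 0 := by exact_mod_cast Nat.card_pos.ne'
    have hc : (Fintype.card G : ℂ) = (Nat.card M : ℂ) * (p : ℂ) := by
      rw [← Nat.card_eq_fintype_card, ← hMp]
      exact_mod_cast (M.card_mul_index).symm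
    rw [hc, ← mul_assoc, inv_mul_cancel_left₀ hM0]
  rw [mem_charCenter_iff, hval, hχ, norm_mul]
  have hn : ‖((μ ⟨m, hm⟩ : ℂˣ) : ℂ)‖ = 1 := by
    have := monoidHom_mul_conj μ ⟨m, hm⟩
    rw [mul_conj_eq_norm_sq] at this
    have h2 : ‖((μ ⟨m, hm⟩ : ℂˣ) : ℂ)‖ ^ 2 = 1 := by exact_mod_cast this
    have h3 := norm_nonneg ((μ ⟨m, hm⟩ : ℂˣ) : ℂ)
    nlinarith
  rw [hn, mul_one]
  simp

end pgroup

end Cfsg.Agent.Helper74
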