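import Cfsg.Agent.Helper74.PIndex

/-!
# Nonabelian `p`-groups with small central quotient (helper74)

`exists_abelian_of_lgI_center_le`: a nonabelian `p`-group with `|G : Z(G)| ∣ p²` has an abelian
normal subgroup of index `p`.
-/

set_option autoImplicit false

namespace Cfsg.Agent.Helper74

section
variable {G : Type*} [Group G] [Finite G] {p : ℕ} [hp : Fact p.Prime]

/-- A subgroup of index `p` of a finite `p`-group is normal (`Finite` version). -/
theorem normal_of_index_eq_prime' (hG : IsPGroup p G) (M : Subgroup G) (hMp : M.index = p) :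
    M.Normal := by
  apply Subgroup.normal_of_index_eq_minFac_card
  obtain ⟨n, hn⟩ := IsPGroup.iff_card.mp hG
  have hpd : p ∣ Nat.card G := by
    rw [← hMp]; exact Subgroup.index_dvd_card M
  have hn0 : n ≠ 0 := by
    rintro rfl
    rw [hn, pow_zero] at hpd
    exact hp.out.one_lt.ne' (Nat.dvd_one.mp hpd)
  rw [hMp, hn, Nat.pow_minFac hn0, hp.out.minFac_eq]

theorem exists_abelian_of_lgI_center_le (hG : IsPGroup p G) (hna : ∃ a b : G, a * b ≠ b * a)
    (hZ : lgI p (Subgroup.center G) ≤ 2) :
    ∃ A : Subgroup G, A.Normal ∧ (∀ a ∈ A, ∀ b ∈ A, a * b = b * a) ∧ A.index = p := by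
  classical
  have hcard : Nat.card (G ⧸ Subgroup.center G) = p ^ lgI p (Subgroup.center G) := by
    rw [← Subgroup.index_eq_card, index_eq_pow_lgI hG]
  have hncyc : ¬ IsCyclic (G ⧸ Subgroup.center G) := by
    intro hc
    obtain ⟨a, b, hab⟩ := hna
    apply hab
    exact commutative_of_cyclic_center_quotient (QuotientGroup.mk' (Subgroup.center G))
      (by rw [QuotientGroup.ker_mk']) a b
  have h2 : lgI p (Subgroup.center G) = 2 := by
    rcases Nat.lt_or_ge (lgI p (Subgroup.center G)) 2 with hlt | hge
    · exfalso
      apply hncyc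
      interval_cases h : lgI p (Subgroup.center G)
      · rw [pow_zero] at hcard
        have : Subsingleton (G ⧸ Subgroup.center G) := (Nat.card_eq_one_iff_unique.mp hcard).1
        exact isCyclic_of_subsingleton
      · rw [pow_one] at hcard
        exact isCyclic_of_prime_card hcard
    · omega
  rw [h2] at hcard
  obtain ⟨B, hB⟩ := Sylow.exists_subgroup_card_pow_prime (G := G ⧸ Subgroup.center G) p (n := 1)
    (by rw [hcard]; exact pow_dvd_pow p (by norm_num))
  rw [pow_one] at hB
  have hBidx : B.index = p := by
    have := B.card_mul_index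
    rw [hB, hcard, pow_two] at this
    exact Nat.eq_of_mul_eq_mul_left hp.out.pos this
  have hAidx : (B.comap (QuotientGroup.mk' (Subgroup.center G))).index = p := by
    rw [Subgroup.index_comap_of_surjective B (QuotientGroup.mk'_surjective _), hBidx]
  refine ⟨B.comap (QuotientGroup.mk' (Subgroup.center G)),
    normal_of_index_eq_prime' hG _ hAidx, ?_, hAidx⟩
  haveI : IsCyclic B := isCyclic_of_prime_card hB
  have hker : ((QuotientGroup.mk' (Subgroup.center G)).subgroupComap B).ker ≤
      Subgroup.center (B.comap (QuotientGroup.mk' (Subgroup.center G))) := by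
    intro x hx
    rw [MonoidHom.mem_ker] at hx
    have hx1 : QuotientGroup.mk' (Subgroup.center G) (x : G) = 1 := by
      have := congrArg Subtype.val hx
      exact this
    have hxZ : (x : G) ∈ Subgroup.center G := by
      have : (x : G) ∈ (QuotientGroup.mk' (Subgroup.center G)).ker := MonoidHom.mem_ker.mpr hx1
      rwa [QuotientGroup.ker_mk'] at this
    rw [Subgroup.mem_center_iff]
    intro y
    apply Subtype.ext
    exact Subgroup.mem_center_iff.mp hxZ (y : G)
  intro a ha b hb
  have := commutative_of_cyclic_center_quotient _ hker ⟨a, ha⟩ ⟨b, hb⟩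
  exact congrArg Subtype.val this

end

end Cfsg.Agent.Helper74
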