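import Cfsg.Agent.Helper74.DegP3
import Cfsg.Agent.Helper74.PCenter

/-!
# `p`-groups with `cd(G) ⊆ {1, p}` (helper74)

`pgroup_cd_one_p` (Isaacs 12.12-ish): a nonabelian finite `p`-group all of whose irreducible
characters have degree `1` or `p` has an abelian normal subgroup of index `p` or `|G : Z(G)| = p³`.
-/

set_option autoImplicit false

namespace Cfsg.Agent.Helper74

open Cfsg Cfsg.Agent.Helper15
open scoped ComplexConjugate

universe u

section pgroup
variable {G : Type u} [Group G] [Fintype G] {p : ℕ} [hp : Fact p.Prime]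

theorem ne_zero_of_mem_charCenter (χ : IrrCharacter G) (m : G) (hm : m ∈ charCenter χ) :
    (χ : G → ℂ) m ≠ 0 := by
  intro h0
  rw [mem_charCenter_iff, h0, norm_zero] at hm
  have := charDegree_pos' χ
  have : (0 : ℝ) < (charDegree (χ : G → ℂ) : ℝ) := by exact_mod_cast this
  linarith

theorem pgroup_cd_one_p (hG : IsPGroup p G) (hna : ∃ a b : G, a * b ≠ b * a)
    (hcd : ∀ χ : IrrCharacter G, charDegree (χ : G → ℂ) = 1 ∨ charDegree (χ : G → ℂ) = p) :
    (∃ A : Subgroup G, A.Normal ∧ (∀ a ∈ A, ∀ b ∈ A, a * b = b * a) ∧ A.index = p) ∨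
      (Subgroup.center G).index = p ^ 3 := by
  classical
  by_cases hNA : ∃ A : Subgroup G, A.Normal ∧ (∀ a ∈ A, ∀ b ∈ A, a * b = b * a) ∧ A.index = p
  · exact Or.inl hNA
  right
  have hcd' : ∀ χ : IrrCharacter G, charDegree (χ : G → ℂ) ≤ p := fun χ => by
    rcases hcd χ with h | h
    · rw [h]; exact hp.out.one_lt.le
    · rw [h]
  -- (P6)
  have hZ3 : 3 ≤ lgI p (Subgroup.center G) := by
    by_contra hlt
    exact hNA (exists_abelian_of_lgI_center_le hG hna (by omega))
  -- (C2)
  have hC2 : ∀ M : Subgroup G, M.Normal → M.index = p →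
      ∃ χ : IrrCharacter G, charDegree (χ : G → ℂ) = p ∧ ¬ VanOff (χ : G → ℂ) M := by
    intro M hMn hMp
    by_contra hcon
    push_neg at hcon
    exact hNA ⟨M, hMn, comm_of_forall_vanOff hG hcd M hMp hcon, hMp⟩
  have hL2 : ∀ χ : IrrCharacter G, charDegree (χ : G → ℂ) = p → 2 ≤ lgI p (charCenter χ) := by
    intro χ hχ
    apply le_lgI_of_card_le hG
    have := charDegree_sq_mul_card_charCenter_le χ
    rwa [hχ] at this
  have hL3 : ∀ χ : IrrCharacter G, charDegree (χ : G → ℂ) = p → lgI p (charCenter χ) ≤ 3 := by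
    intro χ hχ
    obtain ⟨M, hMn, hMp, hv⟩ := exists_vanOff_of_degree hG χ hχ
    haveI := hMn
    obtain ⟨χ', hχ', hv'⟩ := hC2 M hMn hMp
    have h1 := (card_le_of_vanOff_of_not_vanOff hG hcd' M hMp χ hχ hv χ' hχ' hv').1
    apply lgI_le_of_card_le hG
    have h2 := M.card_mul_index
    rw [hMp] at h2
    rw [← h2]
    calc Nat.card M * p ≤ (p ^ 2 * Nat.card (charCenter χ)) * p := Nat.mul_le_mul_right p h1
      _ = p ^ 3 * Nat.card (charCenter χ) := by ring
  have hE : ∃ E : Subgroup G, lgI p E ≤ 3 ∧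
      ∀ χ : IrrCharacter G, charDegree (χ : G → ℂ) = p → E ≤ charCenter χ := by
    by_cases hcase : ∃ χ₁ : IrrCharacter G,
        charDegree (χ₁ : G → ℂ) = p ∧ lgI p (charCenter χ₁) = 3
    · -- some `Z(χ₁)` has index `p³`
      obtain ⟨χ₁, hχ₁, hL₁⟩ := hcase
      refine ⟨charCenter χ₁, hL₁.le, ?_⟩
      obtain ⟨M₁, hM₁n, hM₁p, hv₁⟩ := exists_vanOff_of_degree hG χ₁ hχ₁
      haveI := hM₁n
      have hcardM : Nat.card M₁ = p ^ 2 * Nat.card (charCenter χ₁) := by
        have h1 := card_eq_pow_lgI_mul hG (charCenter χ₁)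
        rw [hL₁] at h1
        have h2 := M₁.card_mul_index
        rw [hM₁p] at h2
        have : Nat.card M₁ * p = (p ^ 2 * Nat.card (charCenter χ₁)) * p := by
          rw [h2, h1]; ring
        exact Nat.eq_of_mul_eq_mul_right hp.out.pos this
      have hkey : ∀ χ' : IrrCharacter G, charDegree (χ' : G → ℂ) = p →
          ¬ VanOff (χ' : G → ℂ) M₁ → charCenter χ₁ ≤ charCenter χ' := by
        intro χ' hχ' hv'
        exact (card_le_of_vanOff_of_not_vanOff hG hcd' M₁ hM₁p χ₁ hχ₁ hv₁ χ' hχ' hv').2 hcardM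
      intro χ hχ
      by_cases hv : VanOff (χ : G → ℂ) M₁
      · obtain ⟨χ', hχ', hv'⟩ := hC2 M₁ hM₁n hM₁p
        have hle := hkey χ' hχ' hv'
        intro m hm
        have hmM : m ∈ M₁ := charCenter_le_of_vanOff χ₁ M₁ hv₁ hm
        have hne : (χ' : G → ℂ) m ≠ 0 := ne_zero_of_mem_charCenter χ' m (hle hm)
        exact mem_charCenter_of_ne_zero hG hcd' M₁ hM₁p χ hχ hv χ' hχ' hv' m hmM hne
      · exact hkey χ hχ hv
    · -- all `Z(χ)` have index `p²`
      push_neg at hcase
      have hLeq : ∀ χ : IrrCharacter G, charDegree (χ : G → ℂ) = p →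
          lgI p (charCenter χ) = 2 := by
        intro χ hχ
        have := hL2 χ hχ
        have := hL3 χ hχ
        have := hcase χ hχ
        omega
      have hvan : ∀ χ : IrrCharacter G, charDegree (χ : G → ℂ) = p →
          VanOff (χ : G → ℂ) (charCenter χ) := by
        intro χ hχ g hg
        apply eq_zero_of_not_mem_charCenter χ _ g hg
        rw [hχ, card_eq_pow_lgI_mul hG (charCenter χ), hLeq χ hχ]
      have hne : Nonempty {χ : IrrCharacter G // charDegree (χ : G → ℂ) = p} := by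
        by_contra hemp
        rw [not_nonempty_iff] at hemp
        obtain ⟨a, b, hab⟩ := hna
        apply hab
        apply comm_of_forall_degree_one
        intro χ
        rcases hcd χ with h | h
        · exact h
        · exact (hemp.false ⟨χ, h⟩).elim
      have hfin := exists_common_le hG
        (fun i : {χ : IrrCharacter G // charDegree (χ : G → ℂ) = p} => charCenter i.1)
        (fun i => charCenter_normal i.1) (fun i => hLeq i.1 i.2) ?_ ?_
      · obtain ⟨E, hE3, hEle⟩ := hfin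
        exact ⟨E, hE3, fun χ hχ => hEle ⟨χ, hχ⟩⟩
      · -- (h1)
        rintro ⟨χ₁, hχ₁⟩ ⟨χ₂, hχ₂⟩
        show lgI p (charCenter χ₁ ⊓ charCenter χ₂) ≤ 3
        obtain ⟨M₁, hM₁n, hM₁p, hv₁⟩ := exists_vanOff_of_degree hG χ₁ hχ₁
        haveI := hM₁n
        have hM₁1 : lgI p M₁ = 1 := lgI_eq_of_index_eq (by rw [hM₁p, pow_one])
        have hL₁M : charCenter χ₁ ≤ M₁ := charCenter_le_of_vanOff χ₁ M₁ hv₁
        by_cases hv₂ : VanOff (χ₂ : G → ℂ) M₁
        · have hL₂M : charCenter χ₂ ≤ M₁ := charCenter_le_of_vanOff χ₂ M₁ hv₂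
          haveI := charCenter_normal χ₂
          have hsum := lgI_sup_add_lgI_inf hG (charCenter χ₁) (charCenter χ₂)
          rw [hLeq χ₁ hχ₁, hLeq χ₂ hχ₂] at hsum
          have := lgI_le_of_le hG (sup_le hL₁M hL₂M)
          rw [hM₁1] at this
          omega
        · have hle : charCenter χ₂ ⊓ M₁ ≤ charCenter χ₁ ⊓ charCenter χ₂ := by
            intro m hm
            obtain ⟨hm2, hmM⟩ := hm
            refine ⟨?_, hm2⟩
            have hne : (χ₂ : G → ℂ) m ≠ 0 := ne_zero_of_mem_charCenter χ₂ m hm2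
            exact mem_charCenter_of_ne_zero hG hcd' M₁ hM₁p χ₁ hχ₁ hv₁ χ₂ hχ₂ hv₂ m hmM hne
          have hsum := lgI_sup_add_lgI_inf hG (charCenter χ₂) M₁
          rw [hLeq χ₂ hχ₂, hM₁1] at hsum
          have := lgI_le_of_le hG hle
          omega
      · -- (h2)
        intro M hMn hM1
        have hMp : M.index = p := by rw [index_eq_pow_lgI hG M, hM1, pow_one]
        obtain ⟨χ, hχ, hv⟩ := hC2 M hMn hMp
        refine ⟨⟨χ, hχ⟩, ?_⟩
        intro hle
        apply hv
        intro g hg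
        exact hvan χ hχ g (fun hgL => hg (hle hgL))
  obtain ⟨E, hE3, hEle⟩ := hE
  have hEZ : E ≤ Subgroup.center G := by
    intro g hg
    apply mem_center_of_forall_mem_charCenter
    intro χ
    rcases hcd χ with h | h
    · rw [charCenter_eq_top_of_degree_one χ h]; trivial
    · exact hEle χ h hg
  have hZle := lgI_le_of_le hG hEZ
  have : lgI p (Subgroup.center G) = 3 := by omega
  rw [index_eq_pow_lgI hG, this]

end pgroup

end Cfsg.Agent.Helper74
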