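import Mathlib
import Cfsg.Prelude.Def_Solvable
import Cfsg.Prelude.Def_Local
import Cfsg.Prelude.Def_CaseTheorems
import Cfsg.Agent.Lib.Cores
import Cfsg.Agent.Helper11.PSolvable
import Cfsg.Agent.Helper22.PComponent

/-!
# Group theory for Fong's height bound (helper74)

`zCore p G` is the preimage in `G` of `Z(O_p(G / O_{p'}(G)))`. It is normal, contains `O_{p'}(G)`
with abelian `p`-power quotient, and for `p`-solvable `G` it contains the centre of every Sylow
`p`-subgroup.
-/

set_option autoImplicit false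

namespace Cfsg.Agent.Helper74

open Cfsg

theorem index_center_congr {H K : Type*} [Group H] [Group K] [Finite H] (e : H ≃* K) :
    (Subgroup.center H).index = (Subgroup.center K).index := by
  have : Finite K := Finite.of_equiv H e.toEquiv
  have h1 := (Subgroup.center H).card_mul_index
  have h2 := (Subgroup.center K).card_mul_index
  have h3 : Nat.card H = Nat.card K := Nat.card_congr e.toEquiv
  have h4 : Nat.card (Subgroup.center H) = Nat.card (Subgroup.center K) :=
    Nat.card_congr (Subgroup.centerCongr e).toEquiv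
  rw [h3, h4] at h1
  exact Nat.eq_of_mul_eq_mul_left Nat.card_pos (h1.trans h2.symm)

section zcore

variable (p : ℕ) (G : Type*) [Group G]

/-- The preimage in `G` of `Z(O_p(G / O_{p'}(G)))`. -/
def zCore : Subgroup G :=
  (pCore p (G ⧸ pPrimeCore p G) ⊓
    Subgroup.centralizer (pCore p (G ⧸ pPrimeCore p G) : Set (G ⧸ pPrimeCore p G))).comap
      (QuotientGroup.mk' (pPrimeCore p G))

theorem zCore_normal : (zCore p G).Normal := by
  unfold zCore
  have h1 : (Subgroup.centralizer (pCore p (G ⧸ pPrimeCore p G) : Set (G ⧸ pPrimeCore p G))).Normal :=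
    Subgroup.normal_centralizer
  have h2 : (pCore p (G ⧸ pPrimeCore p G) ⊓
    Subgroup.centralizer (pCore p (G ⧸ pPrimeCore p G) : Set (G ⧸ pPrimeCore p G))).Normal :=
    inferInstance
  exact h2.comap _

theorem pPrimeCore_le_zCore : pPrimeCore p G ≤ zCore p G := by
  intro n hn
  unfold zCore
  rw [Subgroup.mem_comap]
  have : QuotientGroup.mk' (pPrimeCore p G) n = 1 := (QuotientGroup.eq_one_iff n).mpr hn
  rw [this]
  exact Subgroup.one_mem _

theorem comm_mem_of_mem_zCore {x y : G} (hx : x ∈ zCore p G) (hy : y ∈ zCore p G) :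
    x * y * x⁻¹ * y⁻¹ ∈ pPrimeCore p G := by
  unfold zCore at hx hy
  rw [Subgroup.mem_comap, Subgroup.mem_inf] at hx hy
  have h := (Subgroup.mem_centralizer_iff.mp hx.2) _ hy.1
  rw [← QuotientGroup.eq_one_iff]
  have e : ((x * y * x⁻¹ * y⁻¹ : G) : G ⧸ pPrimeCore p G) =
      QuotientGroup.mk' (pPrimeCore p G) x * QuotientGroup.mk' (pPrimeCore p G) y *
        (QuotientGroup.mk' (pPrimeCore p G) x)⁻¹ * (QuotientGroup.mk' (pPrimeCore p G) y)⁻¹ := rfl
  rw [e, ← h]
  group

theorem relIndex_zCore [Finite G] [hp : Fact p.Prime] :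
    ∃ k : ℕ, (pPrimeCore p G).relIndex (zCore p G) = p ^ k := by
  set f := QuotientGroup.mk' (pPrimeCore p G) with hf
  set Z := (pCore p (G ⧸ pPrimeCore p G) ⊓
    Subgroup.centralizer (pCore p (G ⧸ pPrimeCore p G) : Set (G ⧸ pPrimeCore p G))) with hZ
  have h1 : pPrimeCore p G = (⊥ : Subgroup (G ⧸ pPrimeCore p G)).comap f := by
    rw [MonoidHom.comap_bot, hf, QuotientGroup.ker_mk']
  have h2 : ((⊥ : Subgroup (G ⧸ pPrimeCore p G)).comap f).relIndex (Z.comap f) = Nat.card Z := by
    rw [Subgroup.relIndex_comap,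
      Subgroup.map_comap_eq_self_of_surjective (QuotientGroup.mk'_surjective _),
      Subgroup.relIndex_bot_left]
  rw [← h1] at h2
  have h3 : (pPrimeCore p G).relIndex (zCore p G) = Nat.card Z := h2
  rw [h3]
  have hZp : IsPGroup p Z :=
    (Cfsg.Agent.Lib.isPGroup_pCore p).to_le inf_le_left
  exact hZp.exists_card_eq

theorem card_zCore_factorization [Finite G] [hp : Fact p.Prime] :
    ∃ k : ℕ, Nat.card (zCore p G) = Nat.card (pPrimeCore p G) * p ^ k := by
  obtain ⟨k, hk⟩ := relIndex_zCore p G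
  refine ⟨k, ?_⟩
  rw [← hk]
  exact (Cfsg.Agent.Helper11.card_mul_relIndex (pPrimeCore_le_zCore p G)).symm

/-- The centre of a Sylow `p`-subgroup of a `p`-solvable group lies in `zCore`. -/
theorem center_sylow_le_zCore [Finite G] [hp : Fact p.Prime] (hsolv : IsPSolvable p G)
    (P : Sylow p G) {z : G} (hzc : ∀ y ∈ (P : Subgroup G), z * y = y * z) :
    z ∈ zCore p G := by
  set f := QuotientGroup.mk' (pPrimeCore p G) with hf
  have hsolv' : IsPSolvable p (G ⧸ pPrimeCore p G) :=
    Cfsg.Agent.Helper11.isPSolvable_quotient (pPrimeCore p G) hsolv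
  have hcore : pPrimeCore p (G ⧸ pPrimeCore p G) = ⊥ :=
    Cfsg.Agent.Helper22.pPrimeCore_quotient_eq_bot p
  have hHH := Cfsg.Agent.Helper11.centralizer_pCore_le_of_isPSolvable hsolv' hcore
  -- the image of `P` is a Sylow subgroup of the quotient, hence contains the `p`-core
  have hle : pCore p (G ⧸ pPrimeCore p G) ≤ (P : Subgroup G).map f := by
    have hS := Cfsg.Agent.Lib.pCore_le_sylow
      (P.mapSurjective (f := f) (QuotientGroup.mk'_surjective _))
    exact hS
  have hcent : f z ∈ Subgroup.centralizer (pCore p (G ⧸ pPrimeCore p G) : Set (G ⧸ pPrimeCore p G)) := by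
    rw [Subgroup.mem_centralizer_iff]
    intro ybar hy
    obtain ⟨y, hyP, rfl⟩ := hle hy
    rw [← map_mul, ← map_mul, hzc y hyP]
  unfold zCore
  rw [Subgroup.mem_comap, Subgroup.mem_inf]
  exact ⟨hHH hcent, hcent⟩

end zcore

end Cfsg.Agent.Helper74
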