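import Cfsg.Agent.Helper74.DegreeRatio
import Cfsg.Agent.Helper74.DegP
import Cfsg.Agent.Helper74.InvOver
import Cfsg.Agent.Helper74.FongHtGT
import Cfsg.Agent.Helper82.CoprimeExt

/-!
# Character theory for Fong's height bound (helper74)

* `exists_intermediate_constituent`: a constituent of `χ_N` lies under a constituent of `χ_C`.
* `degree_eq_of_abelian_coprime`: `T/N` abelian of order prime to `|N|`, `θ` invariant: all
  characters over `θ` are extensions.
* `degree_ratio_dvd_index_of_abelian_coprime`: relative Ito theorem.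
* `factorization_degree_le_of_invariant`: the height bound in the invariant case.
-/

set_option autoImplicit false

namespace Cfsg.Agent.Helper74

open Cfsg
open scoped ComplexConjugate

universe u

theorem exists_intermediate_constituent {G : Type u} [Group G] [Fintype G] (N C : Subgroup G)
    [Fintype N] [Fintype C] (hNC : N ≤ C) {χ : G → ℂ} (hχ : IsCharacter G χ) (θ : N → ℂ)
    (h : classInner (fun n : N => χ n) θ ≠ 0) :
    ∃ ψ : IrrCharacter C, classInner (fun c : C => χ c) (ψ : C → ℂ) ≠ 0 ∧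
      classInner (fun n : N => (ψ : C → ℂ) ⟨n, hNC n.2⟩) θ ≠ 0 := by
  classical
  let _ := irrFintype C
  set χC : C → ℂ := fun c : C => χ c with hχC
  have hχCc : IsCharacter C χC := isCharacter_restrict C hχ
  have hdec := isCharacter_eq_sum_irr hχCc
  by_contra hcon
  push_neg at hcon
  apply h
  have h3 : (fun n : N => χ n) = Helper15.resTo N C hNC χC := rfl
  rw [h3, hdec, Helper15.resTo_finset_sum, Helper15.classInner_finset_sum_left]
  apply Finset.sum_eq_zero
  intro ξ _
  rw [Helper15.resTo_smul, Helper15.classInner_smul_left]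
  by_cases h0 : classInner χC (ξ : C → ℂ) = 0
  · rw [h0, zero_mul]
  · have := hcon ξ h0
    have h4 : Helper15.resTo N C hNC (ξ : C → ℂ) = fun n : N => (ξ : C → ℂ) ⟨n, hNC n.2⟩ := rfl
    rw [h4, this, mul_zero]

theorem degree_eq_of_abelian_coprime {T : Type u} [Group T] [Fintype T] (N : Subgroup T)
    [hN : N.Normal] [Fintype N] {θ : N → ℂ} (hθ : IsIrrCharacter N θ)
    (hinv : ∀ t : T, Helper15.conjFun N t θ = θ)
    (hab : ∀ x y : T, x * y * x⁻¹ * y⁻¹ ∈ N) (hcop : Nat.Coprime (Nat.card N) N.index)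
    {φ : T → ℂ} (hφ : IsIrrCharacter T φ) (hover : classInner (fun n : N => φ n) θ ≠ 0) :
    φ 1 = θ 1 := by
  classical
  obtain ⟨C, hCirr, _, _, hdec, hdeg⟩ := Helper82.abelian_inertia_coprime N hθ hinv hab hcop
  have hφcl : IsClassFunction T φ := isClassFunction_of_isCharacter (isCharacter_of_isIrr hφ)
  have h1 : classInner (Cfsg.indFun N θ) φ ≠ 0 := by
    rw [Helper15.frobenius_reciprocity N θ φ hφcl, ← classInner_conj_symm]
    intro h0
    apply hover
    have := congrArg conj h0
    simpa using this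
  rw [hdec, Helper15.classInner_finset_sum_left] at h1
  obtain ⟨χ, hχC, hχne⟩ := Finset.exists_ne_zero_of_sum_ne_zero h1
  have heq : χ = φ := by
    by_contra hne
    apply hχne
    have hne' : (⟨χ, hCirr χ hχC⟩ : IrrCharacter T) ≠ ⟨φ, hφ⟩ := by
      intro h; apply hne; exact congrArg Subtype.val h
    exact irr_inner_ne hne'
  rw [← heq]
  exact hdeg χ hχC

theorem degree_ratio_dvd_index_of_abelian_coprime {G : Type u} [Group G] [Fintype G]
    (N C : Subgroup G) [hN : N.Normal] [hC : C.Normal] [Fintype N] (hNC : N ≤ C)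
    (hab : ∀ x ∈ C, ∀ y ∈ C, x * y * x⁻¹ * y⁻¹ ∈ N)
    (hcop : Nat.Coprime (Nat.card N) (N.relIndex C))
    {χ : G → ℂ} (hχ : IsIrrCharacter G χ) {θ : N → ℂ} (hθ : IsIrrCharacter N θ)
    (hinv : ∀ g : G, Helper15.conjFun N g θ = θ)
    (hcon : classInner (fun n : N => χ n) θ ≠ 0) :
    ∃ b : ℕ, χ 1 = (b : ℂ) * θ 1 ∧ b ∣ C.index := by
  classical
  let _ : Fintype C := Fintype.ofFinite C
  obtain ⟨ψ, h1, h2⟩ := exists_intermediate_constituent N C hNC (isCharacter_of_isIrr hχ) θ hcon
  obtain ⟨b, hb1, hb2⟩ := degree_ratio_dvd C hχ ψ.2 h1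
  refine ⟨b, ?_, hb2⟩
  rw [hb1]
  congr 1
  let _ : Fintype (N.subgroupOf C) := Fintype.ofFinite _
  have hθ' : IsIrrCharacter (N.subgroupOf C) (Helper15.toSub N C hNC θ) :=
    Helper15.isIrrCharacter_toSub N C hNC hθ
  have hinv' : ∀ t : C, Helper15.conjFun (N.subgroupOf C) t (Helper15.toSub N C hNC θ)
      = Helper15.toSub N C hNC θ := by
    intro t
    rw [Helper15.conjFun_toSub, hinv]
  have hab' : ∀ x y : C, x * y * x⁻¹ * y⁻¹ ∈ N.subgroupOf C := by
    intro x y
    rw [Subgroup.mem_subgroupOf]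
    exact hab x x.2 y y.2
  have hcop' : Nat.Coprime (Nat.card (N.subgroupOf C)) (N.subgroupOf C).index := by
    have h3 : Nat.card (N.subgroupOf C) = Nat.card N :=
      Nat.card_congr (Subgroup.subgroupOfEquivOfLe hNC).toEquiv
    rw [h3]
    exact hcop
  have hψres : (fun x : N.subgroupOf C => (ψ : C → ℂ) x)
      = Helper15.toSub N C hNC (fun n : N => (ψ : C → ℂ) ⟨(n : G), hNC n.2⟩) :=
    Helper15.restrict_subgroupOf N C hNC _
  have hne' : classInner (fun x : N.subgroupOf C => (ψ : C → ℂ) x) (Helper15.toSub N C hNC θ) ≠ 0 := by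
    rw [hψres, Helper15.classInner_toSub]
    exact h2
  have := degree_eq_of_abelian_coprime (N.subgroupOf C) hθ' hinv' hab' hcop' ψ.2 hne'
  rw [this]
  rfl

end Cfsg.Agent.Helper74
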