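import Cfsg.Agent.Helper74.FongHtChar

/-!
# Fong's height bound, invariant case (helper74)

If `θ ∈ Irr(O_{p'}(G))` is `G`-invariant, `G` is `p`-solvable and `χ ∈ Irr(G | θ)`, then
`ν_p(χ(1)) ≤ ν_p |P : Z(P)|` for a Sylow `p`-subgroup `P`.
-/

set_option autoImplicit false

namespace Cfsg.Agent.Helper74

open Cfsg
open scoped ComplexConjugate

universe u

theorem factorization_degree_le_of_invariant {G : Type u} [Group G] [Fintype G] {p : ℕ}
    [hp : Fact p.Prime] (hsolv : IsPSolvable p G) [Fintype (pPrimeCore p G)]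
    (θ : IrrCharacter (pPrimeCore p G))
    (hinv : ∀ g : G, Helper15.conjFun (pPrimeCore p G) g (θ : pPrimeCore p G → ℂ)
      = (θ : pPrimeCore p G → ℂ))
    (χ : IrrCharacter G)
    (hχ : classInner (fun n : pPrimeCore p G => (χ : G → ℂ) n) (θ : pPrimeCore p G → ℂ) ≠ 0)
    (P : Sylow p G) :
    (charDegree (χ : G → ℂ)).factorization p ≤
      ((Subgroup.center (P : Subgroup G)).index).factorization p := by
  classical
  haveI hCn : (zCore p G).Normal := zCore_normal p G
  have hNC : pPrimeCore p G ≤ zCore p G := pPrimeCore_le_zCore p G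
  have hNp : (Nat.card (pPrimeCore p G)).Coprime p := Cfsg.Agent.Lib.card_pPrimeCore_coprime p
  obtain ⟨k, hk⟩ := relIndex_zCore p G
  have hcop : Nat.Coprime (Nat.card (pPrimeCore p G)) ((pPrimeCore p G).relIndex (zCore p G)) := by
    rw [hk]; exact hNp.pow_right k
  obtain ⟨b, hb1, hb2⟩ := degree_ratio_dvd_index_of_abelian_coprime (pPrimeCore p G) (zCore p G)
    hNC (fun x hx y hy => comm_mem_of_mem_zCore p G hx hy) hcop χ.2 θ.2 hinv hχ
  have hdeg : charDegree (χ : G → ℂ) = b * charDegree (θ : pPrimeCore p G → ℂ) := by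
    have h1 := charDegree_cast (irr_isCharacter χ)
    have h2 := charDegree_cast (irr_isCharacter θ)
    have : ((charDegree (χ : G → ℂ) : ℕ) : ℂ)
        = ((b * charDegree (θ : pPrimeCore p G → ℂ) : ℕ) : ℂ) := by
      rw [h1, hb1]; push_cast; rw [h2]
    exact_mod_cast this
  have hθdvd : charDegree (θ : pPrimeCore p G → ℂ) ∣ Nat.card (pPrimeCore p G) :=
    charDegree_dvd_card θ
  have hθp : (charDegree (θ : pPrimeCore p G → ℂ)).factorization p = 0 :=
    Nat.factorization_eq_zero_of_not_dvd
      (fun h => (Nat.Prime.coprime_iff_not_dvd hp.out).mp hNp.symm (h.trans hθdvd))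
  have hχ0 : charDegree (χ : G → ℂ) ≠ 0 :=
    (Nat.pos_of_dvd_of_pos (charDegree_dvd_card χ) Nat.card_pos).ne'
  have hb0 : b ≠ 0 := by
    rintro rfl; apply hχ0; rw [hdeg, zero_mul]
  have hθ0 : charDegree (θ : pPrimeCore p G → ℂ) ≠ 0 := by
    intro h; apply hχ0; rw [hdeg, h, mul_zero]
  rw [hdeg, Nat.factorization_mul hb0 hθ0, Finsupp.add_apply, hθp, add_zero]
  have hidx0 : (zCore p G).index ≠ 0 := Subgroup.index_ne_zero_of_finite
  have h1 : b.factorization p ≤ (zCore p G).index.factorization p :=
    (Nat.factorization_le_iff_dvd hb0 hidx0).mpr hb2 p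
  refine h1.trans ?_
  have hG := (zCore p G).card_mul_index
  have hP := (Subgroup.center (P : Subgroup G)).card_mul_index
  have hPcard : Nat.card (P : Subgroup G) = p ^ (Nat.card G).factorization p :=
    P.card_eq_multiplicity
  have hZle : (Subgroup.center (P : Subgroup G)).map (P : Subgroup G).subtype ≤ zCore p G := by
    rintro _ ⟨z, hz, rfl⟩
    apply center_sylow_le_zCore p G hsolv P
    intro y hy
    have := Subgroup.mem_center_iff.mp hz ⟨y, hy⟩
    exact (congrArg Subtype.val this).symm
  have hZdvd : Nat.card (Subgroup.center (P : Subgroup G)) ∣ Nat.card (zCore p G) := by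
    rw [← Subgroup.card_map_of_injective (P : Subgroup G).subtype_injective]
    exact Subgroup.card_dvd_of_le hZle
  have hc0 : Nat.card (zCore p G) ≠ 0 := Nat.card_pos.ne'
  have hz0 : Nat.card (Subgroup.center (P : Subgroup G)) ≠ 0 := Nat.card_pos.ne'
  have hj0 : (Subgroup.center (P : Subgroup G)).index ≠ 0 := Subgroup.index_ne_zero_of_finite
  have e1 : (Nat.card G).factorization p
      = (Nat.card (zCore p G)).factorization p + (zCore p G).index.factorization p := by
    rw [← hG, Nat.factorization_mul hc0 hidx0, Finsupp.add_apply]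
  have e2 : (Nat.card G).factorization p
      = (Nat.card (Subgroup.center (P : Subgroup G))).factorization p
        + (Subgroup.center (P : Subgroup G)).index.factorization p := by
    have h3 : (Nat.card (P : Subgroup G)).factorization p = (Nat.card G).factorization p := by
      rw [hPcard, Nat.Prime.factorization_pow hp.out]
      simp
    rw [← h3, ← hP, Nat.factorization_mul hz0 hj0, Finsupp.add_apply]
  have e3 : (Nat.card (Subgroup.center (P : Subgroup G))).factorization p
      ≤ (Nat.card (zCore p G)).factorization p :=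
    (Nat.factorization_le_iff_dvd hz0 hc0).mpr hZdvd p
  omega

end Cfsg.Agent.Helper74
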