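import Cfsg.Agent.Helper74.CharCount

/-!
# Invariant bilinear forms and the Frobenius-Schur indicator (helper74)
-/
set_option autoImplicit false
namespace Cfsg.Agent.Helper74
open Cfsg
open scoped ComplexConjugate Matrix

universe u
section invForms
variable {G : Type u} [Group G] {n : ℕ} (ρ : Representation ℂ G (Fin n → ℂ))

/-- `M` is an invariant bilinear form for the matrix representation attached to `ρ`. -/
def IsInvForm (M : Matrix (Fin n) (Fin n) ℂ) : Prop :=
  ∀ g : G, (repMat ρ g)ᵀ * M * repMat ρ g = M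

theorem repMat_mul_inv (g : G) : repMat ρ g * repMat ρ g⁻¹ = 1 := by
  rw [← repMat_mul, mul_inv_cancel, repMat_one]

theorem repMat_inv_mul (g : G) : repMat ρ g⁻¹ * repMat ρ g = 1 := by
  rw [← repMat_mul, inv_mul_cancel, repMat_one]

theorem toLin'_repMat (g : G) : Matrix.toLin' (repMat ρ g) = ρ g := by
  simp [repMat]

variable {ρ}

theorem IsInvForm.transpose {M : Matrix (Fin n) (Fin n) ℂ} (hM : IsInvForm ρ M) :
    IsInvForm ρ Mᵀ := by
  intro g
  have := congrArg Matrix.transpose (hM g)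
  simpa [Matrix.transpose_mul, Matrix.mul_assoc] using this

theorem IsInvForm.smul {M : Matrix (Fin n) (Fin n) ℂ} (hM : IsInvForm ρ M) (c : ℂ) :
    IsInvForm ρ (c • M) := by
  intro g
  rw [Matrix.mul_smul, Matrix.smul_mul, hM g]

/-- `M X(g) = X(g⁻¹)ᵀ M` for an invariant form. -/
theorem IsInvForm.mul_repMat {M : Matrix (Fin n) (Fin n) ℂ} (hM : IsInvForm ρ M) (g : G) :
    M * repMat ρ g = (repMat ρ g⁻¹)ᵀ * M := by
  have h := hM g
  calc M * repMat ρ g = ((repMat ρ g⁻¹)ᵀ * (repMat ρ g)ᵀ) * M * repMat ρ g := by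
        rw [← Matrix.transpose_mul, repMat_mul_inv, Matrix.transpose_one, Matrix.one_mul]
    _ = (repMat ρ g⁻¹)ᵀ * ((repMat ρ g)ᵀ * M * repMat ρ g) := by
        simp only [Matrix.mul_assoc]
    _ = (repMat ρ g⁻¹)ᵀ * M := by rw [h]

/-- Schur's lemma in matrix form. -/
theorem matrix_schur (hρ : ρ.IsIrreducible) {Z : Matrix (Fin n) (Fin n) ℂ}
    (hZ : ∀ g : G, Z * repMat ρ g = repMat ρ g * Z) : ∃ c : ℂ, Z = c • (1 : Matrix _ _ ℂ) := by
  let T : Representation.IntertwiningMap ρ ρ :=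
    ⟨Matrix.toLin' Z, fun g => by
      rw [← toLin'_repMat ρ g, ← Matrix.toLin'_mul, ← Matrix.toLin'_mul, hZ g]⟩
  obtain ⟨c, hc⟩ := schur_scalar ρ hρ T
  refine ⟨c, ?_⟩
  have h1 : Matrix.toLin' Z = c • LinearMap.id := hc
  apply Matrix.toLin'.injective
  rw [h1, map_smul, Matrix.toLin'_one]

/-- A nonzero invariant form of an irreducible representation is invertible. -/
theorem IsInvForm.isUnit (hρ : ρ.IsIrreducible) {M : Matrix (Fin n) (Fin n) ℂ}
    (hM : IsInvForm ρ M) (hM0 : M ≠ 0) : IsUnit M := by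
  by_contra hnu
  -- the kernel of `M` is a subrepresentation
  let K : Subrepresentation ρ :=
    { toSubmodule := LinearMap.ker (Matrix.toLin' M)
      apply_mem_toSubmodule := by
        intro g v hv
        rw [LinearMap.mem_ker] at hv ⊢
        rw [← toLin'_repMat ρ g, ← LinearMap.comp_apply, ← Matrix.toLin'_mul, hM.mul_repMat g,
          Matrix.toLin'_mul, LinearMap.comp_apply, hv, map_zero] }
  have := hρ
  rcases eq_bot_or_eq_top K with hK | hK
  · apply hnu
    rw [← Matrix.mulVec_injective_iff_isUnit]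
    have h2 : LinearMap.ker (Matrix.toLin' M) = ⊥ := congrArg Subrepresentation.toSubmodule hK
    have h3 := LinearMap.ker_eq_bot.mp h2
    intro v w hvw
    apply h3
    simpa [Matrix.toLin'_apply] using hvw
  · apply hM0
    apply Matrix.toLin'.injective
    rw [map_zero]
    have h2 : LinearMap.ker (Matrix.toLin' M) = ⊤ := congrArg Subrepresentation.toSubmodule hK
    exact LinearMap.ker_eq_top.mp h2

end invForms

section avg
variable {G : Type u} [Group G] [Fintype G] {n : ℕ} (ρ : Representation ℂ G (Fin n → ℂ))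

/-- Averaging a bilinear form over the group. -/
noncomputable def avgForm (A : Matrix (Fin n) (Fin n) ℂ) : Matrix (Fin n) (Fin n) ℂ :=
  (Nat.card G : ℂ)⁻¹ • ∑ g : G, (repMat ρ g)ᵀ * A * repMat ρ g

theorem sumForm_invariant (A : Matrix (Fin n) (Fin n) ℂ) (h : G) :
    (repMat ρ h)ᵀ * (∑ g : G, (repMat ρ g)ᵀ * A * repMat ρ g) * repMat ρ h =
      ∑ g : G, (repMat ρ g)ᵀ * A * repMat ρ g := by
  rw [Finset.mul_sum, Finset.sum_mul]
  refine Fintype.sum_equiv (Equiv.mulRight h) _ _ (fun g => ?_)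
  simp [repMat_mul, Matrix.transpose_mul, Matrix.mul_assoc]

theorem avgForm_isInvForm (A : Matrix (Fin n) (Fin n) ℂ) : IsInvForm ρ (avgForm ρ A) := by
  intro h
  unfold avgForm
  rw [Matrix.mul_smul, Matrix.smul_mul, sumForm_invariant]

theorem avgForm_of_isInvForm {M : Matrix (Fin n) (Fin n) ℂ} (hM : IsInvForm ρ M) :
    avgForm ρ M = M := by
  unfold avgForm
  simp only [hM _, Finset.sum_const, Finset.card_univ]
  rw [← Nat.card_eq_fintype_card, ← Nat.cast_smul_eq_nsmul ℂ, smul_smul, inv_mul_cancel₀, one_smul]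
  exact_mod_cast Nat.card_pos.ne'

/-- The Frobenius–Schur indicator of (the character of) `ρ`. -/
noncomputable def fsInd : ℂ := (Nat.card G : ℂ)⁻¹ * ∑ s : G, ρ.character (s * s)

theorem single_sandwich_apply {n : ℕ} (X Y : Matrix (Fin n) (Fin n) ℂ) (i j k l : Fin n) :
    (Xᵀ * Matrix.single i j (1 : ℂ) * Y : Matrix (Fin n) (Fin n) ℂ) k l = X i k * Y j l := by
  rw [Matrix.mul_apply]
  rw [Finset.sum_eq_single j]
  · rw [Matrix.mul_apply, Finset.sum_eq_single i]
    · simp [Matrix.single_apply]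
    · intro b _ hb
      simp [Matrix.single_apply, Ne.symm hb]
    · intro h; exact absurd (Finset.mem_univ _) h
  · intro b _ hb
    rw [Matrix.mul_apply]
    have : ∀ a, (Matrix.single i j (1 : ℂ)) a b = 0 := by
      intro a; simp [Matrix.single_apply, Ne.symm hb]
    simp [this]
  · intro h; exact absurd (Finset.mem_univ _) h

theorem trace_sq_eq {n : ℕ} (X : Matrix (Fin n) (Fin n) ℂ) :
    (X * X).trace = ∑ i, ∑ j, (Xᵀ * Matrix.single i j (1 : ℂ) * X : Matrix (Fin n) (Fin n) ℂ) j i := by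
  simp only [single_sandwich_apply]
  simp only [Matrix.trace, Matrix.diag, Matrix.mul_apply]

theorem trace_mul_trace_eq {n : ℕ} (X : Matrix (Fin n) (Fin n) ℂ) :
    X.trace * X.trace = ∑ i, ∑ j, (Xᵀ * Matrix.single i j (1 : ℂ) * X : Matrix (Fin n) (Fin n) ℂ) i j := by
  simp only [single_sandwich_apply]
  simp only [Matrix.trace, Matrix.diag]
  rw [Finset.sum_mul_sum]

theorem fsInd_eq_sum_avgForm :
    fsInd ρ = ∑ i, ∑ j, (avgForm ρ (Matrix.single i j (1 : ℂ))) j i := by
  unfold fsInd avgForm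
  simp only [Matrix.smul_apply, Matrix.sum_apply, smul_eq_mul, single_sandwich_apply]
  simp only [← Finset.mul_sum]
  congr 1
  have : ∀ g : G, ρ.character (g * g) = ∑ i, ∑ j, repMat ρ g i j * repMat ρ g j i := by
    intro g
    rw [character_eq_trace_repMat, repMat_mul]
    simp only [Matrix.trace, Matrix.diag, Matrix.mul_apply]
  simp only [this]
  rw [Finset.sum_comm]
  refine Finset.sum_congr rfl (fun i _ => ?_)
  rw [Finset.sum_comm]

theorem sum_char_sq_eq_sum_avgForm :
    (Nat.card G : ℂ)⁻¹ * ∑ g : G, ρ.character g * ρ.character g =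
      ∑ i, ∑ j, (avgForm ρ (Matrix.single i j (1 : ℂ))) i j := by
  unfold avgForm
  simp only [Matrix.smul_apply, Matrix.sum_apply, smul_eq_mul, single_sandwich_apply]
  simp only [← Finset.mul_sum]
  congr 1
  have : ∀ g : G, ρ.character g * ρ.character g = ∑ i, ∑ j, repMat ρ g i i * repMat ρ g j j := by
    intro g
    rw [character_eq_trace_repMat]
    simp only [Matrix.trace, Matrix.diag]
    rw [Finset.sum_mul_sum]
  simp only [this]
  rw [Finset.sum_comm]
  refine Finset.sum_congr rfl (fun i _ => ?_)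
  rw [Finset.sum_comm]

end avg

section main
variable {G : Type u} [Group G] {n : ℕ} {ρ : Representation ℂ G (Fin n → ℂ)}

/-- `X(g) M⁻¹ = M⁻¹ X(g⁻¹)ᵀ` for an invertible invariant form. -/
theorem IsInvForm.repMat_mul_inv' {M : Matrix (Fin n) (Fin n) ℂ} (hM : IsInvForm ρ M)
    (hu : IsUnit M) (g : G) : repMat ρ g * M⁻¹ = M⁻¹ * (repMat ρ g⁻¹)ᵀ := by
  have hdet : IsUnit M.det := (Matrix.isUnit_iff_isUnit_det M).mp hu
  have h := hM.mul_repMat g
  calc repMat ρ g * M⁻¹ = M⁻¹ * (M * repMat ρ g) * M⁻¹ := by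
        rw [← Matrix.mul_assoc, Matrix.nonsing_inv_mul M hdet, Matrix.one_mul]
    _ = M⁻¹ * ((repMat ρ g⁻¹)ᵀ * M) * M⁻¹ := by rw [h]
    _ = M⁻¹ * (repMat ρ g⁻¹)ᵀ := by
        rw [Matrix.mul_assoc, Matrix.mul_assoc, Matrix.mul_nonsing_inv M hdet, Matrix.mul_one]

/-- Uniqueness: invariant forms are proportional to an invertible one. -/
theorem IsInvForm.eq_smul (hρ : ρ.IsIrreducible) {M₀ M : Matrix (Fin n) (Fin n) ℂ}
    (h₀ : IsInvForm ρ M₀) (hu : IsUnit M₀) (hM : IsInvForm ρ M) : ∃ a : ℂ, M = a • M₀ := by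
  have hdet : IsUnit M₀.det := (Matrix.isUnit_iff_isUnit_det M₀).mp hu
  obtain ⟨a, ha⟩ := matrix_schur hρ (Z := M₀⁻¹ * M) (fun g => by
    rw [Matrix.mul_assoc, hM.mul_repMat g, ← Matrix.mul_assoc, ← h₀.repMat_mul_inv' hu g,
      Matrix.mul_assoc])
  refine ⟨a, ?_⟩
  calc M = M₀ * (M₀⁻¹ * M) := by
        rw [← Matrix.mul_assoc, Matrix.mul_nonsing_inv M₀ hdet, Matrix.one_mul]
    _ = a • M₀ := by rw [ha]; simp

variable [Fintype G]

omit [Fintype G] in
theorem finrank_pos_of_irr (hρ : ρ.IsIrreducible) : (n : ℂ) ≠ 0 := by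
  have hnt := nontrivial_of_isIrreducible ρ hρ
  have := Module.finrank_pos (R := ℂ) (M := Fin n → ℂ)
  rw [Module.finrank_fin_fun] at this
  exact_mod_cast this.ne'

/-- The averaging formula `avg(A) = (tr(A M₀⁻¹)/n) M₀`. -/
theorem avgForm_eq (hρ : ρ.IsIrreducible) {M₀ : Matrix (Fin n) (Fin n) ℂ}
    (h₀ : IsInvForm ρ M₀) (hu : IsUnit M₀) (A : Matrix (Fin n) (Fin n) ℂ) :
    avgForm ρ A = ((A * M₀⁻¹).trace / n) • M₀ := by
  have hdet : IsUnit M₀.det := (Matrix.isUnit_iff_isUnit_det M₀).mp hu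
  obtain ⟨a, ha⟩ := h₀.eq_smul hρ hu (avgForm_isInvForm ρ A)
  have hn := finrank_pos_of_irr hρ
  have h1 : (avgForm ρ A * M₀⁻¹).trace = a * n := by
    rw [ha, Matrix.smul_mul, Matrix.mul_nonsing_inv M₀ hdet, Matrix.trace_smul, Matrix.trace_one]
    simp
  have h2 : (avgForm ρ A * M₀⁻¹).trace = (A * M₀⁻¹).trace := by
    unfold avgForm
    rw [Matrix.smul_mul, Matrix.trace_smul, Finset.sum_mul, Matrix.trace_sum]
    have : ∀ g : G, ((repMat ρ g)ᵀ * A * repMat ρ g * M₀⁻¹).trace = (A * M₀⁻¹).trace := by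
      intro g
      rw [Matrix.mul_assoc, h₀.repMat_mul_inv' hu g, Matrix.mul_assoc, Matrix.trace_mul_comm,
        Matrix.mul_assoc, Matrix.mul_assoc, ← Matrix.transpose_mul, repMat_mul_inv,
        Matrix.transpose_one, Matrix.mul_one]
    simp only [this, Finset.sum_const, Finset.card_univ, smul_eq_mul, nsmul_eq_mul]
    rw [← Nat.card_eq_fintype_card, ← mul_assoc, inv_mul_cancel₀, one_mul]
    exact_mod_cast Nat.card_pos.ne'
  rw [ha]
  congr 1
  rw [← h2, h1]
  field_simp

theorem trace_single_mul' (N : Matrix (Fin n) (Fin n) ℂ) (i j : Fin n) :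
    (Matrix.single i j (1 : ℂ) * N).trace = N j i := by
  simp only [Matrix.trace, Matrix.diag, Matrix.mul_apply, Matrix.single_apply]
  rw [Finset.sum_eq_single i]
  · rw [Finset.sum_eq_single j]
    · simp
    · intro b _ hb; simp [Ne.symm hb]
    · intro h; exact absurd (Finset.mem_univ _) h
  · intro b _ hb
    apply Finset.sum_eq_zero
    intro a _
    simp [Ne.symm hb]
  · intro h; exact absurd (Finset.mem_univ _) h

/-- The Frobenius–Schur indicator is the symmetry sign of the invariant form. -/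
theorem fsInd_eq_of_transpose (hρ : ρ.IsIrreducible) {M₀ : Matrix (Fin n) (Fin n) ℂ}
    (h₀ : IsInvForm ρ M₀) (hu : IsUnit M₀) {c : ℂ} (hc : M₀ᵀ = c • M₀) : fsInd ρ = c := by
  have hdet : IsUnit M₀.det := (Matrix.isUnit_iff_isUnit_det M₀).mp hu
  have hn := finrank_pos_of_irr hρ
  rw [fsInd_eq_sum_avgForm]
  simp only [avgForm_eq hρ h₀ hu, Matrix.smul_apply, trace_single_mul', smul_eq_mul]
  have : ∑ i, ∑ j, M₀⁻¹ j i / (n : ℂ) * M₀ j i = (M₀⁻¹ * M₀ᵀ).trace / n := by
    simp only [Matrix.trace, Matrix.diag, Matrix.mul_apply, Matrix.transpose_apply]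
    rw [Finset.sum_comm, Finset.sum_div]
    refine Finset.sum_congr rfl (fun i _ => ?_)
    rw [Finset.sum_div]
    refine Finset.sum_congr rfl (fun j _ => ?_)
    ring
  rw [this, hc, Matrix.mul_smul, Matrix.nonsing_inv_mul M₀ hdet, Matrix.trace_smul,
    Matrix.trace_one]
  simp
  field_simp

/-- Existence of a nonzero invariant form when the character is real. -/
theorem exists_isInvForm_of_real (hρ : ρ.IsIrreducible)
    (hreal : ∀ g : G, (ρ.character g).im = 0) :
    ∃ M : Matrix (Fin n) (Fin n) ℂ, M ≠ 0 ∧ IsInvForm ρ M := by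
  by_contra hcon
  push Not at hcon
  have h0 : ∀ A, avgForm ρ A = 0 := by
    intro A
    by_contra hA
    exact hcon _ hA (avgForm_isInvForm ρ A)
  have h1 := sum_char_sq_eq_sum_avgForm ρ
  simp only [h0, Matrix.zero_apply, Finset.sum_const_zero] at h1
  have h2 := irr_inner_self (⟨ρ.character, ⟨n, ρ, hρ, rfl⟩⟩ : IrrCharacter G)
  rw [classInner_def] at h2
  have h3 : ∀ g : G, conj (ρ.character g) = ρ.character g := by
    intro g
    rw [Complex.conj_eq_iff_im]
    exact hreal g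
  simp only [h3] at h2
  rw [h2] at h1
  exact one_ne_zero h1

end main
end Cfsg.Agent.Helper74
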