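import Mathlib
import Cfsg.Prelude.Def_Transfer
import Cfsg.Agent.Helper74.HSDefs
import Cfsg.Agent.Helper50.ChiefRankTwo

/-!
# S3032, piece (U1): a normal subgroup of order `q` inside a normal `q`-subgroup `Q` all of whose
elements commute with the `q'`-elements of `resid q G`.
-/

set_option autoImplicit false

namespace Cfsg.Agent.Helper74.HS

universe u

variable {G : Type u} [Group G] [Finite G]

/-- Below a nontrivial normal subgroup there is a minimal normal subgroup. -/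
theorem exists_minimal_normal_le (Q : Subgroup G) [Q.Normal] (hne : Q ≠ ⊥) :
    ∃ V : Subgroup G, V ≤ Q ∧ V.Normal ∧ V ≠ ⊥ ∧
      ∀ L : Subgroup G, L.Normal → L ≤ V → L = ⊥ ∨ L = V := by
  obtain ⟨V, ⟨hVQ, hVn, hVne⟩, hmin⟩ := WellFounded.has_min
    (wellFounded_lt (α := Subgroup G)) {V | V ≤ Q ∧ V.Normal ∧ V ≠ ⊥}
    ⟨Q, le_rfl, inferInstance, hne⟩
  refine ⟨V, hVQ, hVn, hVne, fun L hL hLV => ?_⟩
  by_cases hLb : L = ⊥
  · left; exact hLb
  · right
    by_contra hLV'
    exact hmin L ⟨hLV.trans hVQ, hL, hLb⟩ (lt_of_le_of_ne hLV hLV')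

/-- A normal subgroup `R` whose `q'`-elements centralize the minimal normal `q`-subgroup `V`
centralizes `V`. -/
theorem commute_of_minimal_normal_of_coprime_commute {q : ℕ} [hq : Fact q.Prime]
    (V R : Subgroup G) [hVn : V.Normal] [hRn : R.Normal]
    (hV : IsPGroup q V) (hVne : V ≠ ⊥)
    (hmin : ∀ L : Subgroup G, L.Normal → L ≤ V → L = ⊥ ∨ L = V)
    (hB : ∀ b ∈ R, (orderOf b).Coprime q → ∀ x ∈ V, b * x = x * b) :
    ∀ b ∈ R, ∀ x ∈ V, b * x = x * b := by
  classical
  have hqp : q.Prime := hq.out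
  -- the action of `R` on `V`
  let φ : R →* MulAut V := (MulAut.conjNormal (H := V)).comp R.subtype
  have hφapp : ∀ (b : R) (v : V), ((φ b v : V) : G) = (b : G) * v * (b : G)⁻¹ := fun b v => rfl
  have hA : IsPGroup q φ.range := by
    rintro ⟨_, ⟨b, rfl⟩⟩
    obtain ⟨k, m, hm, hbk⟩ := Nat.exists_eq_pow_mul_and_not_dvd
      (orderOf_pos (b : G)).ne' q hqp.ne_one
    refine ⟨k, ?_⟩
    have hpow : ((b : G) ^ q ^ k) ^ m = 1 := by
      rw [← pow_mul, ← hbk, pow_orderOf_eq_one]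
    have hcop : (orderOf ((b : G) ^ q ^ k)).Coprime q := by
      have h1 : orderOf ((b : G) ^ q ^ k) ∣ m := orderOf_dvd_of_pow_eq_one hpow
      have h2 : m.Coprime q := ((Nat.Prime.coprime_iff_not_dvd hqp).mpr hm).symm
      exact Nat.Coprime.coprime_dvd_left h1 h2
    have hcomm := hB _ (R.pow_mem b.2 (q ^ k)) hcop
    apply Subtype.ext
    show (φ b) ^ q ^ k = 1
    rw [← map_pow]
    ext v
    rw [hφapp]
    show ((b : G) ^ q ^ k) * v * ((b : G) ^ q ^ k)⁻¹ = v
    rw [hcomm v v.2, mul_inv_cancel_right]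
  -- a nontrivial fixed point
  haveI : Nontrivial V := (Subgroup.nontrivial_iff_ne_bot V).mpr hVne
  have hdvd : q ∣ Nat.card V := by
    obtain ⟨n, hn0, hn⟩ := hV.nontrivial_iff_card.mp inferInstance
    rw [hn]; exact dvd_pow_self _ (ne_of_gt hn0)
  have hone : (1 : V) ∈ MulAction.fixedPoints φ.range V := by
    rintro ⟨a, ha⟩
    show a (1 : V) = 1
    exact map_one a
  obtain ⟨w, hw, hw1⟩ := hA.exists_fixed_point_of_prime_dvd_card_of_fixed_point V hdvd hone
  -- the centralizer of `R` in `V`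
  have hCn : (V ⊓ Subgroup.centralizer (R : Set G)).Normal := inferInstance
  have hwC : (w : G) ∈ V ⊓ Subgroup.centralizer (R : Set G) := by
    refine ⟨w.2, ?_⟩
    refine Subgroup.mem_centralizer_iff.mpr ?_
    intro b hb
    have h1 := hw ⟨φ ⟨b, hb⟩, ⟨⟨b, hb⟩, rfl⟩⟩
    have h2 : ((φ ⟨b, hb⟩ w : V) : G) = w := congrArg Subtype.val h1
    rw [hφapp] at h2
    show b * (w : G) = (w : G) * b
    calc b * (w : G) = (b * (w : G) * b⁻¹) * b := by group
      _ = (w : G) * b := by rw [h2]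
  rcases hmin _ hCn inf_le_left with h | h
  · exfalso
    rw [h, Subgroup.mem_bot] at hwC
    exact hw1 (Subtype.ext hwC.symm)
  · intro b hb x hx
    have hx' : x ∈ V ⊓ Subgroup.centralizer (R : Set G) := by rw [h]; exact hx
    have := (Subgroup.mem_centralizer_iff.mp hx'.2) b hb
    exact this

/-- (U1) -/
theorem exists_normal_card_prime_of_resid_centralizes {q : ℕ} [Fact q.Prime] (Q : Subgroup G)
    [Q.Normal] (hQ : IsPGroup q Q) (hne : Q ≠ ⊥)
    (hB : ∀ b ∈ resid q G, (orderOf b).Coprime q → ∀ x ∈ Q, b * x = x * b) :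
    ∃ N : Subgroup G, N ≤ Q ∧ N.Normal ∧ Nat.card N = q := by
  obtain ⟨V, hVQ, hVn, hVne, hmin⟩ := exists_minimal_normal_le Q hne
  haveI := hVn
  have hV : IsPGroup q V := hQ.to_le hVQ
  have hchief : Cfsg.Agent.Helper50.IsChief V ⊥ :=
    ⟨hVn, inferInstance, bot_lt_iff_ne_bot.mpr hVne, fun L hL _ hLV => hmin L hL hLV⟩
  have hcomm := hchief.comm_mem hV
  have hpow := hchief.pow_mem hV
  haveI : (resid q G).Normal := resid_normal q G
  have hcent := commute_of_minimal_normal_of_coprime_commute V (resid q G) hV hVne hmin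
    (fun b hb hbq x hx => hB b hb hbq x (hVQ hx))
  refine ⟨V, hVQ, hVn, ?_⟩
  refine Cfsg.Agent.Helper50.card_eq_prime_of_minimal_normal V (resid q G) hVne hmin ?_ ?_ hcent
    (fun a b => commutator_mem_resid a b) (fun a => pow_pred_mem_resid a)
  · intro a ha b hb
    have h1 := hcomm a ha b hb
    rw [Subgroup.mem_bot] at h1
    calc a * b = (a * b * a⁻¹ * b⁻¹) * (b * a) := by group
      _ = b * a := by rw [h1, one_mul]
  · intro a ha
    have := hpow a ha
    rwa [Subgroup.mem_bot] at this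

end Cfsg.Agent.Helper74.HS
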