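import Mathlib
import Cfsg.Agent.Helper74.HSDefs
import Cfsg.Agent.Helper74.HSU1
import Cfsg.Agent.Helper50.HSubgroup
import Cfsg.Agent.Helper9.Supersolvable2
import Cfsg.Agent.Helper76.HSCB
import Cfsg.Agent.Helper91.HSQ2
import Cfsg.Agent.Helper72.HST
import Cfsg.Agent.Helper62.HSU2

set_option autoImplicit false

namespace Cfsg.Agent.Helper74.HS


universe u

section
variable {G : Type u} [Group G] [Finite G]

/-- (NF) an `ℋ`-subgroup of a normal `q`-subgroup is normal. -/
theorem normal_of_isH_of_le_normal_pgroup {q : ℕ} [Fact q.Prime] (Q : Subgroup G) [hQn : Q.Normal]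
    (hQ : IsPGroup q Q) (F : Subgroup G) (hFQ : F ≤ Q)
    (h : ∀ g : G, F.map (MulAut.conj g).toMonoidHom ⊓ Subgroup.normalizer (F : Set G) ≤ F) :
    F.Normal := by
  have hQN : Q ≤ Subgroup.normalizer (F : Set G) :=
    Cfsg.Agent.Helper50.le_normalizer_of_hsubgroup hQ hFQ h
  constructor
  intro x hx g
  have h1 : g * x * g⁻¹ ∈ F.map (MulAut.conj g).toMonoidHom :=
    ⟨x, hx, by simp [MulAut.conj_apply]⟩
  have h2 : g * x * g⁻¹ ∈ Q := hQn.conj_mem x (hFQ hx) g
  exact h g ⟨h1, hQN h2⟩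

/-- (U) **hypercyclic embedding**: if all subgroups of order `q ^ a` (and of order `4` when
`q ^ a = 2`) of the normal `q`-subgroup `Q` are normal in `G`, `1 ≤ a`, `q ^ a < #Q`, then `Q`
carries a chain of normal subgroups of `G` with cyclic steps. -/
theorem ssChain_of_normal_fixed_order {q : ℕ} [hq : Fact q.Prime] (Q : Subgroup G) [hQn : Q.Normal]
    (hQ : IsPGroup q Q) {a : ℕ} (ha1 : 1 ≤ a) (haQ : q ^ a < Nat.card Q)
    (hN : ∀ F : Subgroup G, F ≤ Q → (Nat.card F = q ^ a ∨ (q ^ a = 2 ∧ Nat.card F = 4)) →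
      F.Normal) :
    Cfsg.Agent.Helper9.SSChain Q := by
  apply Cfsg.Agent.Helper62.HSU2.ssChain_of_resid_centralizes'
    (fun _ _ _ Q' _ h1 h2 h3 =>
      exists_normal_card_prime_of_resid_centralizes Q' h1 h2 h3) Q hQ
  intro b hb hbq x hx
  by_cases hq2 : q = 2
  · subst hq2
    have hnQ : b ∈ Subgroup.normalizer (Q : Set G) := by
      rw [Subgroup.normalizer_eq_top_iff.mpr hQn]; exact Subgroup.mem_top b
    refine Cfsg.Agent.Helper50.commute_of_normalizes_fixed_order hQ hnQ hbq (by simp) ha1 haQ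
      (fun E hEQ hcard => ?_) x hx
    have hEn : E.Normal := hN E hEQ hcard
    rw [Subgroup.normalizer_eq_top_iff.mpr hEn]; exact Subgroup.mem_top b
  · exact Cfsg.Agent.Helper76.HS.commute_of_mem_resid_of_fixed_order hq2 Q hQ ha1 haQ
      (fun F hFQ hcard => hN F hFQ (Or.inl hcard)) b hb hbq x hx

end

/-- The main induction. -/
theorem main_aux : ∀ (n : ℕ) (G : Type u) [Group G] [Finite G], Nat.card G = n →
    ∀ (E : Subgroup G) [E.Normal], Cfsg.IsSupersolvable (G ⧸ E) → HypE E →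
      Cfsg.IsSupersolvable G := by
  intro n
  induction n using Nat.strong_induction_on with
  | _ n ih => ?_
  intro G _ _ hn E hEn hGE hE
  by_cases hbot : E = ⊥
  · subst hbot
    exact Cfsg.Agent.Helper9.isSupersolvable_of_mulEquiv
      (QuotientGroup.quotientBot (G := G)) hGE
  obtain ⟨q, Q, hqp, hQE, hQn, hQ, hQne, hQs⟩ :=
    Cfsg.Agent.Helper72.HS.exists_normal_sylow_of_hypE E hE hbot
  haveI : Fact q.Prime := ⟨hqp⟩
  haveI := hQn
  -- the quotient `G ⧸ Q` is supersolvable by induction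
  have hcardlt : Nat.card (G ⧸ Q) < n := by
    rw [← hn, ← Subgroup.index_eq_card, ← Subgroup.index_mul_card Q]
    have h1 : 1 < Nat.card Q := by
      rcases Nat.lt_or_ge 1 (Nat.card Q) with h | h
      · exact h
      · exfalso
        apply hQne
        apply Subgroup.card_eq_one.mp
        have := Nat.card_pos (α := Q)
        omega
    have h2 : 0 < Q.index := Nat.pos_of_ne_zero Q.index_ne_zero_of_finite
    nlinarith
  have hEbar : HypE (E.map (QuotientGroup.mk' Q)) := 
    Cfsg.Agent.Helper91.HS.hypE_map_mk hE Q hQE hQ hQs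
  haveI : (E.map (QuotientGroup.mk' Q)).Normal :=
    Subgroup.Normal.map hEn _ (QuotientGroup.mk'_surjective Q)
  have hquo : Cfsg.IsSupersolvable ((G ⧸ Q) ⧸ E.map (QuotientGroup.mk' Q)) :=
    Cfsg.Agent.Helper9.isSupersolvable_of_mulEquiv
      (QuotientGroup.quotientQuotientEquivQuotient Q E hQE).symm hGE
  have hGQ : Cfsg.IsSupersolvable (G ⧸ Q) :=
    ih _ hcardlt (G ⧸ Q) rfl (E.map (QuotientGroup.mk' Q)) hquo hEbar
  -- a chain below `Q`
  have hchain : Cfsg.Agent.Helper9.SSChain Q := by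
    by_cases hcyc : IsCyclic ↥Q
    · haveI := hcyc
      exact Cfsg.Agent.Helper9.ssChain_of_isCyclic Q
    · obtain ⟨D, hDQ, hD1, hD2, hF⟩ := hE q hqp Q hQE hQ hQs hcyc
      obtain ⟨a, ha⟩ := Cfsg.Agent.Helper50.exists_card_eq_pow_of_le hQ hDQ
      have ha1 : 1 ≤ a := by
        rcases Nat.eq_zero_or_pos a with h0 | h0
        · rw [h0, pow_zero] at ha; omega
        · exact h0
      refine ssChain_of_normal_fixed_order Q hQ ha1 (ha ▸ hD2) (fun F hFQ hcard => ?_)
      refine normal_of_isH_of_le_normal_pgroup Q hQ F hFQ (hF F hFQ ?_)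
      rcases hcard with h | ⟨h1, h2⟩
      · exact Or.inl (h.trans ha.symm)
      · exact Or.inr ⟨ha.trans h1, h2⟩
  refine Cfsg.Agent.Helper9.isSupersolvable_of_ker_of_surjective (QuotientGroup.mk' Q)
    (QuotientGroup.mk'_surjective Q) ?_ hGQ
  rw [QuotientGroup.ker_mk']
  exact hchain

theorem main {G : Type u} [Group G] [Finite G] (E : Subgroup G) [E.Normal]
    (hGE : Cfsg.IsSupersolvable (G ⧸ E)) (hE : HypE E) : Cfsg.IsSupersolvable G :=
  main_aux _ G rfl E hGE hE

end Cfsg.Agent.Helper74.HS
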