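import Mathlib
import Cfsg.Agent.S0142
import Cfsg.Agent.S0907
import Cfsg.Agent.S0154
import Cfsg.Agent.Helper74.CharCenter
import Cfsg.Agent.Helper74.DefectZero
import Cfsg.Agent.Helper74.KazarinGroup
import Cfsg.Agent.Helper16.Idempotent
import Cfsg.Agent.Helper16.DefectClasses
import Cfsg.Agent.Helper77.RootsUnity
import Cfsg.Agent.Helper79.Linear
import Cfsg.Agent.Helper80.Integrality
import Cfsg.Agent.Helper78.IrrTransport
import Cfsg.Agent.Helper78.IrrBasic

/-!
# The block-theoretic core of Kazarin's theorem (helper74)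

Let `x` be a `q`-element of the finite group `G` whose conjugacy class has `p`-power size, `p ≠ q`,
and assume that `G` is the normal closure of `x`.  Using the principal `q`-block we show that the
commutator subgroup of `G` is a `q'`-group.
-/

set_option autoImplicit false

namespace Cfsg.Agent.Helper74.Kazarin

open Cfsg
open scoped ComplexConjugate

universe u

section
variable {G : Type u} [Group G] [Finite G] {M : Ideal AlgInt}

/-- A character of the principal `q`-block of degree prime to `p` has `x` in its centre. -/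
theorem mem_charCenter_of_mem_principalBlock {p q : ℕ} (hp : p.Prime) (hpq : p ≠ q)
    (hM : IsPModular q M) (x : G) {a : ℕ}
    (hidx : (Subgroup.centralizer ({x} : Set G)).index = p ^ a)
    (χ : IrrCharacter G) (hχ : χ ∈ principalBlock M G) (hdeg : ¬ p ∣ charDegree (χ : G → ℂ)) :
    x ∈ charCenter χ := by
  have hMp : M.IsPrime := Helper16.IsPModular.isPrime hM
  have hq : q.Prime := hM.1
  have hblock := hχ x
  have h1 : centralChar (fun _ : G => (1 : ℂ)) x = ((p ^ a : ℕ) : ℂ) := by
    unfold centralChar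
    rw [hidx]
    simp
  rw [h1] at hblock
  haveI : (irrRep χ).IsIrreducible := irrRep_isIrreducible χ
  have hfr : Module.finrank ℂ (Fin (irrDim χ) → ℂ) = charDegree (χ : G → ℂ) := by
    rw [← irrDim_eq]; simp
  have hcop : Nat.Coprime (Module.finrank ℂ (Fin (irrDim χ) → ℂ))
      (Subgroup.centralizer ({x} : Set G)).index := by
    rw [hfr, hidx]
    exact Nat.Coprime.pow_right a ((Nat.Prime.coprime_iff_not_dvd hp).mpr hdeg).symm
  rcases Cfsg.Agent.S0142.result (irrRep χ) x hcop with h0 | hnorm
  · exfalso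
    rw [irrRep_character] at h0
    have h2 : centralChar (χ : G → ℂ) x = 0 := by
      unfold centralChar
      rw [h0]; simp
    rw [h2, sub_zero] at hblock
    refine Helper16.not_memLocalIdeal_natCast hM ?_ hblock
    intro hdvd
    have := (Nat.prime_dvd_prime_iff_eq hq hp).1 (hq.dvd_of_dvd_pow hdvd)
    exact hpq this.symm
  · rw [irrRep_character, hfr] at hnorm
    exact (mem_charCenter_iff χ x).2 hnorm

/-- If `x` lies in the centre of `χ` and `G` is the normal closure of `x`, then `χ` is linear. -/
theorem charDegree_eq_one_of_mem_charCenter (x : G)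
    (htop : Subgroup.normalClosure ({x} : Set G) = ⊤)
    (χ : IrrCharacter G) (hx : x ∈ charCenter χ) : charDegree (χ : G → ℂ) = 1 := by
  have : Fintype G := Fintype.ofFinite G
  haveI := charCenter_normal χ
  have hle : Subgroup.normalClosure ({x} : Set G) ≤ charCenter χ :=
    Subgroup.normalClosure_le_normal (by rwa [Set.singleton_subset_iff])
  rw [htop, top_le_iff] at hle
  have h := charDegree_sq_mul_card_charCenter_le χ
  rw [hle, Subgroup.card_top] at h
  have hpos : 0 < Nat.card G := Nat.card_pos
  have h1 : charDegree (χ : G → ℂ) ^ 2 ≤ 1 := by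
    by_contra hcon
    push Not at hcon
    have : 2 * Nat.card G ≤ charDegree (χ : G → ℂ) ^ 2 * Nat.card G :=
      Nat.mul_le_mul_right _ hcon
    omega
  have h0 : charDegree (χ : G → ℂ) ≠ 0 := Helper16.irr_charDegree_ne_zero χ
  have : charDegree (χ : G → ℂ) ≤ 1 := by
    by_contra hcon
    push Not at hcon
    have : 2 * 2 ≤ charDegree (χ : G → ℂ) ^ 2 := by
      rw [pow_two]; exact Nat.mul_le_mul hcon hcon
    omega
  omega

/-- If `G` is the normal closure of the `q`-element `x`, every linear character lies in the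
principal `q`-block. -/
theorem mem_principalBlock_of_linear {q : ℕ} (hM : IsPModular q M) (x : G) {f : ℕ}
    (hxo : orderOf x = q ^ f) (htop : Subgroup.normalClosure ({x} : Set G) = ⊤)
    (χ : IrrCharacter G) (h1 : (χ : G → ℂ) 1 = 1) : χ ∈ principalBlock M G := by
  have hMp : M.IsPrime := Helper16.IsPModular.isPrime hM
  intro g
  have hn : (commutator G).index ∣ q ^ f := hxo ▸ index_commutator_dvd_orderOf x htop
  have hχc : IsCharacter G (χ : G → ℂ) := irr_isCharacter χ
  have hmem : g ^ (commutator G).index ∈ commutator G := Subgroup.pow_index_mem _ g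
  have h2 : (χ : G → ℂ) (g ^ (commutator G).index) = 1 :=
    Helper79.isCharacter_linear_commutator hχc h1 hmem
  have h3 : (χ : G → ℂ) g ^ (commutator G).index = 1 := by
    rw [← h2]
    exact (map_pow (Helper79.linearHom hχc h1) g _).symm
  have hpow : (χ : G → ℂ) g ^ q ^ f = 1 := by
    obtain ⟨k, hk⟩ := hn
    rw [hk, pow_mul, h3, one_pow]
  have h4 := Helper77.memLocalIdeal_sub_one_of_pow_eq_one hM hpow
  have h5 : centralChar (fun _ : G => (1 : ℂ)) g - centralChar (χ : G → ℂ) g =
      -(((Subgroup.centralizer ({g} : Set G)).index : ℂ) * ((χ : G → ℂ) g - 1)) := by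
    unfold centralChar
    rw [h1]
    ring
  rw [h5]
  exact Helper16.memLocalIdeal_neg
    (Helper16.memLocalIdeal_mul_left (Helper16.memLocalRing_natCast _) h4)

/-- **The block-theoretic core of Kazarin's theorem**: if `G` is the normal closure of a
`q`-element with a class of `p`-power size, `p ≠ q`, then `G'` is a `q'`-group. -/
theorem not_dvd_card_commutator {p q : ℕ} (hp : p.Prime) (hq : q.Prime) (hpq : p ≠ q) (x : G)
    {f : ℕ} (hxo : orderOf x = q ^ f) {a : ℕ}
    (hidx : (Subgroup.centralizer ({x} : Set G)).index = p ^ a)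
    (htop : Subgroup.normalClosure ({x} : Set G) = ⊤) :
    ¬ q ∣ Nat.card (commutator G) := by
  classical
  intro hdvd
  obtain ⟨M, hM⟩ := exists_isPModular q hq
  haveI : Fact q.Prime := ⟨hq⟩
  obtain ⟨y, hy⟩ := exists_prime_orderOf_dvd_card' q hdvd
  have hyo : orderOf (y : G) = q := by rw [Subgroup.orderOf_coe]; exact hy
  have horth := Cfsg.Agent.S0907.result q M hM (principalBlock M G)
    (Helper78.isPBlock_principalBlock M G) 1 (y : G)
    (by rw [orderOf_one, Nat.dvd_one]; exact hq.one_lt.ne') (by rw [hyo])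
  let _ : Fintype (IrrCharacter G) := irrFintype G
  set B : Set (IrrCharacter G) := principalBlock M G with hB
  rw [finsum_mem_eq_finite_toFinset_sum _ (Set.toFinite B)] at horth
  set Bf : Finset (IrrCharacter G) := (Set.toFinite B).toFinset with hBf
  have hmemBf : ∀ χ, χ ∈ Bf ↔ χ ∈ B := fun χ => Set.Finite.mem_toFinset _
  rw [← Finset.sum_filter_add_sum_filter_not Bf (fun χ : IrrCharacter G => (χ : G → ℂ) 1 = 1)]
    at horth
  -- the linear part
  have hlin : ∑ χ ∈ Bf.filter (fun χ : IrrCharacter G => (χ : G → ℂ) 1 = 1),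
      (χ : G → ℂ) 1 * conj ((χ : G → ℂ) (y : G)) =
      ((Bf.filter (fun χ : IrrCharacter G => (χ : G → ℂ) 1 = 1)).card : ℂ) := by
    rw [Finset.sum_congr rfl (g := fun _ => (1 : ℂ))]
    · simp
    · intro χ hχ
      rw [Finset.mem_filter] at hχ
      rw [hχ.2, Helper79.isCharacter_linear_commutator (irr_isCharacter χ) hχ.2 y.2]
      simp
  have hfilt : Bf.filter (fun χ : IrrCharacter G => (χ : G → ℂ) 1 = 1) =
      Finset.univ.filter (fun χ : IrrCharacter G => (χ : G → ℂ) 1 = 1) := by
    ext χ
    simp only [Finset.mem_filter, Finset.mem_univ, true_and, hmemBf]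
    constructor
    · exact fun h => h.2
    · exact fun h => ⟨mem_principalBlock_of_linear hM x hxo htop χ h, h⟩
  have hcard : (Bf.filter (fun χ : IrrCharacter G => (χ : G → ℂ) 1 = 1)).card ∣ q ^ f := by
    rw [hfilt, ← Fintype.card_subtype, ← Nat.card_eq_fintype_card, Cfsg.Agent.S0154.result,
      ← hxo]
    exact index_commutator_dvd_orderOf x htop
  set n := (Bf.filter (fun χ : IrrCharacter G => (χ : G → ℂ) 1 = 1)).card with hn
  -- the nonlinear part
  have hnl : ∀ χ ∈ Bf.filter (fun χ : IrrCharacter G => ¬ (χ : G → ℂ) 1 = 1),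
      ∃ β : ℂ, IsIntegral ℤ β ∧
        (χ : G → ℂ) 1 * conj ((χ : G → ℂ) (y : G)) = (p : ℂ) * β := by
    intro χ hχ
    rw [Finset.mem_filter, hmemBf] at hχ
    have hd : p ∣ charDegree (χ : G → ℂ) := by
      by_contra hnd
      have h1 := mem_charCenter_of_mem_principalBlock hp hpq hM x hidx χ hχ.1 hnd
      have h2 := charDegree_eq_one_of_mem_charCenter x htop χ h1
      apply hχ.2
      rw [← charDegree_cast (irr_isCharacter χ), h2]
      simp
    obtain ⟨m, hm⟩ := hd
    refine ⟨(m : ℂ) * conj ((χ : G → ℂ) (y : G)), ?_, ?_⟩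
    · refine IsIntegral.mul (isIntegral_algebraMap (x := (m : ℤ))) ?_
      have := Helper78.isIntegral_irrChar_apply χ.2 (y : G)
      exact this.map (Complex.conjAe.toAlgHom.restrictScalars ℤ)
    · rw [← charDegree_cast (irr_isCharacter χ), hm]
      push_cast
      ring
  choose! β hβint hβ using hnl
  rw [hlin, Finset.sum_congr rfl hβ, ← Finset.mul_sum] at horth
  set S := ∑ χ ∈ Bf.filter (fun χ : IrrCharacter G => ¬ (χ : G → ℂ) 1 = 1), β χ with hS
  have hSint : IsIntegral ℤ S := IsIntegral.sum _ hβint
  have hp0 : (p : ℂ) ≠ 0 := by exact_mod_cast hp.ne_zero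
  have hdiv : (n : ℂ) / (p : ℂ) = -S := by
    field_simp
    linear_combination horth
  have hint : IsIntegral ℤ ((n : ℂ) / (p : ℂ)) := by
    rw [hdiv]; exact hSint.neg
  have hpn := Helper80.dvd_of_isIntegral_div hp.ne_zero hint
  have := (Nat.prime_dvd_prime_iff_eq hp hq).1 (hp.dvd_of_dvd_pow (hpn.trans hcard))
  exact hpq this

end

end Cfsg.Agent.Helper74.Kazarin
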