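import Mathlib
import Cfsg.Agent.Helper74.KazarinGroup
import Cfsg.Agent.Helper74.KazarinBlock

/-!
# Kazarin's theorem (helper74)

If the conjugacy class of `x` has prime-power size then the normal closure of `x` is solvable.
-/

set_option autoImplicit false

namespace Cfsg.Agent.Helper74.Kazarin

universe u

/-- Size of a conjugacy class as the index of a centralizer. -/
theorem ncard_carrier_eq_index {G : Type*} [Group G] (x : G) :
    (ConjClasses.mk x).carrier.ncard = (Subgroup.centralizer ({x} : Set G)).index := by
  rw [← ConjAct.orbit_eq_carrier_conjClasses, ← MulAction.index_stabilizer]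
  have h : MulAction.stabilizer (ConjAct G) x =
      (Subgroup.centralizer ({x} : Set G)).comap (ConjAct.ofConjAct (G := G)).toMonoidHom := by
    ext g
    simp only [MulAction.mem_stabilizer_iff, Subgroup.mem_comap, Subgroup.mem_centralizer_iff,
      Set.mem_singleton_iff, forall_eq, ConjAct.smul_def, MulEquiv.coe_toMonoidHom]
    constructor
    · intro h
      rw [mul_inv_eq_iff_eq_mul] at h
      exact h.symm
    · intro h
      rw [mul_inv_eq_iff_eq_mul]
      exact h.symm
  rw [h, Subgroup.index_comap_of_surjective _ (ConjAct.ofConjAct (G := G)).surjective]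

theorem kazarin_aux {p : ℕ} (hp : p.Prime) : ∀ (n : ℕ) (G : Type u) [Group G] [Finite G],
    Nat.card G = n → ∀ (x : G) (a : ℕ), (Subgroup.centralizer ({x} : Set G)).index = p ^ a →
    Group.IsSolvable ↥(Subgroup.normalClosure ({x} : Set G)) := by
  intro n
  induction n using Nat.strong_induction_on with
  | _ n ih =>
  intro G _ _ hcard
  haveI : Fact p.Prime := ⟨hp⟩
  -- Claim A: descent when the normal closure is proper
  have claimA : ∀ (x : G) (a : ℕ), (Subgroup.centralizer ({x} : Set G)).index = p ^ a →
      Subgroup.normalClosure ({x} : Set G) ≠ ⊤ →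
      Group.IsSolvable ↥(Subgroup.normalClosure ({x} : Set G)) := by
    intro x a hidx hne
    set H : Subgroup G := Subgroup.normalClosure ({x} : Set G) with hH
    have hx : x ∈ H := Subgroup.subset_normalClosure (Set.mem_singleton x)
    have hlt : Nat.card H < n := by
      rw [← hcard, ← Subgroup.card_top (G := G)]
      exact Helper21.card_lt_card_of_lt (lt_top_iff_ne_top.2 hne)
    obtain ⟨b, hb⟩ := exists_index_centralizer_subtype hp H x hx hidx
    have h1 := ih (Nat.card H) hlt ↥H rfl ⟨x, hx⟩ b hb
    exact isSolvable_normalClosure_of_normal H x hx h1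
  -- Claim B: elements of prime power order
  have claimB : ∀ (x : G) (r f a : ℕ), r.Prime → orderOf x = r ^ f →
      (Subgroup.centralizer ({x} : Set G)).index = p ^ a →
      Group.IsSolvable ↥(Subgroup.normalClosure ({x} : Set G)) := by
    intro x r f a hr hxo hidx
    by_cases htop : Subgroup.normalClosure ({x} : Set G) = ⊤
    · by_cases hrp : r = p
      · subst hrp
        exact isSolvable_normalClosure_of_pElement x hxo hidx
      · haveI : Fact r.Prime := ⟨hr⟩
        have h1 := not_dvd_card_commutator hp hr (Ne.symm hrp) x hxo hidx htop
        have hs : Group.IsSolvable G := isSolvable_of_coprime_commutator x hxo hidx htop h1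
        infer_instance
    · exact claimA x a hidx htop
  -- Claim C: induction on the order
  have claimC : ∀ (N : ℕ) (x : G), orderOf x = N → ∀ a : ℕ,
      (Subgroup.centralizer ({x} : Set G)).index = p ^ a →
      Group.IsSolvable ↥(Subgroup.normalClosure ({x} : Set G)) := by
    intro N
    induction N using Nat.strong_induction_on with
    | _ N ihN =>
    intro x hxN a hidx
    have hN0 : N ≠ 0 := by
      rw [← hxN]; exact (orderOf_pos x).ne'
    by_cases hN1 : N = 1
    · exact claimB x 2 0 a Nat.prime_two (by rw [hxN, hN1, pow_zero]) hidx
    · have hr : (N.minFac).Prime := Nat.minFac_prime hN1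
      obtain ⟨e, b, hb, hNeq⟩ := Nat.exists_eq_pow_mul_and_not_dvd hN0 N.minFac hr.one_lt.ne'
      by_cases hb1 : b = 1
      · refine claimB x N.minFac e a hr ?_ hidx
        rw [hxN]
        conv_lhs => rw [hNeq, hb1, mul_one]
      · have he : e ≠ 0 := by
          rintro rfl
          apply hb
          have := Nat.minFac_dvd N
          rw [pow_zero, one_mul] at hNeq
          rw [← hNeq]
          exact this
        have hb0 : b ≠ 0 := by
          rintro rfl
          rw [mul_zero] at hNeq
          exact hN0 hNeq
        set m := N.minFac ^ e with hm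
        have hm1 : 1 < m := Nat.one_lt_pow he hr.one_lt
        have hb2 : 1 < b := by omega
        have hcop : Nat.Coprime m b :=
          Nat.Coprime.pow_left e ((Nat.Prime.coprime_iff_not_dvd hr).2 hb)
        have ho1 : orderOf (x ^ m) < N := by
          have hdvd : orderOf (x ^ m) ∣ b := by
            apply orderOf_dvd_of_pow_eq_one
            rw [← pow_mul, ← hNeq, ← hxN, pow_orderOf_eq_one]
          have hle := Nat.le_of_dvd (Nat.pos_of_ne_zero hb0) hdvd
          have : b < m * b := by nlinarith
          rw [hNeq]
          omega
        have ho2 : orderOf (x ^ b) < N := by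
          have hdvd : orderOf (x ^ b) ∣ m := by
            apply orderOf_dvd_of_pow_eq_one
            rw [← pow_mul, mul_comm, ← hNeq, ← hxN, pow_orderOf_eq_one]
          have hle := Nat.le_of_dvd (by omega) hdvd
          have : m < m * b := by nlinarith
          rw [hNeq]
          omega
        obtain ⟨a1, ha1⟩ := exists_index_centralizer_pow hp x m hidx
        obtain ⟨a2, ha2⟩ := exists_index_centralizer_pow hp x b hidx
        have h1 := ihN _ ho1 (x ^ m) rfl a1 ha1
        have h2 := ihN _ ho2 (x ^ b) rfl a2 ha2
        have hsup : Group.IsSolvable ↥(Subgroup.normalClosure ({x ^ m} : Set G) ⊔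
            Subgroup.normalClosure ({x ^ b} : Set G)) := by
          apply Helper21.isSolvable_sup h1 h2
          rw [Subgroup.normalizer_eq_top]
          exact le_top
        exact isSolvable_of_le (normalClosure_le_sup_of_coprime x hcop) hsup
  intro x a hidx
  exact claimC (orderOf x) x rfl a hidx

/-- **Kazarin's theorem.** -/
theorem kazarin {G : Type u} [Group G] [Finite G] {p : ℕ} (hp : p.Prime) (x : G) (a : ℕ)
    (hidx : (Subgroup.centralizer ({x} : Set G)).index = p ^ a) :
    Group.IsSolvable ↥(Subgroup.normalClosure ({x} : Set G)) :=
  kazarin_aux hp (Nat.card G) G rfl x a hidx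

end Cfsg.Agent.Helper74.Kazarin
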