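import Mathlib
import Cfsg.Prelude.Def_CaseTheorems
import Cfsg.Agent.Helper74.KazarinMain
import Cfsg.Agent.Helper71.Fitting
import Cfsg.Agent.Helper62.PSolvDual
import Cfsg.Agent.Lib.Cores
import Cfsg.Agent.Helper21.Fitting

/-!
# Conjugates of an element with a class of `p`-power size commute modulo `O_p(G)` (helper74)

A consequence of Kazarin's theorem.
-/

set_option autoImplicit false

namespace Cfsg.Agent.Helper74.Kazarin

open Cfsg

universe u

variable {G : Type u} [Group G] [Finite G]

/-- For `r ≠ p`, `O_r(G)` centralizes an element whose class has `p`-power size. -/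
theorem pCore_le_centralizer_of_ne {p r : ℕ} (hp : p.Prime) [hr : Fact r.Prime] (hrp : r ≠ p)
    (x : G) {a : ℕ} (hidx : (Subgroup.centralizer ({x} : Set G)).index = p ^ a) :
    pCore r G ≤ Subgroup.centralizer ({x} : Set G) := by
  rw [← Subgroup.relIndex_eq_one]
  have h1 : (Subgroup.centralizer ({x} : Set G)).relIndex (pCore r G) ∣ p ^ a := by
    rw [← hidx]
    exact relIndex_dvd_index_of_normal_right (pCore r G) _
  have h2 : (Subgroup.centralizer ({x} : Set G)).relIndex (pCore r G) ∣ Nat.card (pCore r G) :=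
    Subgroup.relIndex_dvd_card _ _
  obtain ⟨k, hk⟩ := IsPGroup.iff_card.mp (Lib.isPGroup_pCore (G := G) r)
  rw [hk] at h2
  have hcop : Nat.Coprime (p ^ a) (r ^ k) :=
    Nat.Coprime.pow a k ((Nat.coprime_primes hp hr.out).2 (Ne.symm hrp))
  exact Nat.eq_one_of_dvd_coprimes hcop h1 h2

/-- If `O_p(G) = 1`, the Fitting subgroup centralizes an element whose class has `p`-power
size. -/
theorem fittingSubgroup_le_centralizer {p : ℕ} (hp : p.Prime) (hO : pCore p G = ⊥)
    (x : G) {a : ℕ} (hidx : (Subgroup.centralizer ({x} : Set G)).index = p ^ a) :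
    fittingSubgroup G ≤ Subgroup.centralizer ({x} : Set G) := by
  refine (Helper71.fittingSubgroup_le_pCoreJoin (G := G)).trans ?_
  unfold Helper71.pCoreJoin
  apply iSup_le
  intro r
  have hr : Fact (Nat.Prime (r : ℕ)) := ⟨Nat.prime_of_mem_primeFactors r.2⟩
  by_cases hrp : (r : ℕ) = p
  · rw [hrp, hO]; exact bot_le
  · exact pCore_le_centralizer_of_ne hp hrp x hidx

/-- If `O_p(G) = 1`, any two conjugates of an element whose class has `p`-power size commute. -/
theorem commute_conj_of_pCore_eq_bot {p : ℕ} (hp : p.Prime) (hO : pCore p G = ⊥)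
    (x : G) {a : ℕ} (hidx : (Subgroup.centralizer ({x} : Set G)).index = p ^ a) (g h : G) :
    Commute (g * x * g⁻¹) (h * x * h⁻¹) := by
  set F : Subgroup G := fittingSubgroup G with hF
  have hFx := fittingSubgroup_le_centralizer hp hO x hidx
  have hxCF : x ∈ Subgroup.centralizer (F : Set G) := by
    rw [Subgroup.mem_centralizer_iff]
    intro f hf
    have := hFx hf
    rw [Subgroup.mem_centralizer_singleton_iff] at this
    exact this
  set N : Subgroup G := Subgroup.normalClosure ({x} : Set G) with hN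
  have hNn : N.Normal := Subgroup.normalClosure_normal
  have hNCF : N ≤ Subgroup.centralizer (F : Set G) :=
    Subgroup.normalClosure_le_normal (by rwa [Set.singleton_subset_iff])
  have hNs : Group.IsSolvable N := kazarin hp x a hidx
  have hNF : N ≤ F :=
    Helper21.le_fittingSubgroup_of_isSolvable_of_le_centralizer (Nat.card N) N le_rfl hNn hNs hNCF
  have hxN : x ∈ N := Subgroup.subset_normalClosure (Set.mem_singleton x)
  have hy : g * x * g⁻¹ ∈ N := hNn.conj_mem x hxN g
  have hz : h * x * h⁻¹ ∈ N := hNn.conj_mem x hxN h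
  have := (Subgroup.mem_centralizer_iff.1 (hNCF hy)) _ (hNF hz)
  exact this.symm

/-- **Commutators of conjugates of an element with a class of `p`-power size lie in `O_p(G)`.** -/
theorem commutator_conj_mem_pCore {p : ℕ} (hp : p.Prime) (x : G) {a : ℕ}
    (hidx : (Subgroup.centralizer ({x} : Set G)).index = p ^ a) (g h : G) :
    (g * x * g⁻¹) * (h * x * h⁻¹) * (g * x * g⁻¹)⁻¹ * (h * x * h⁻¹)⁻¹ ∈ pCore p G := by
  set Q : Subgroup G := pCore p G with hQ
  set π : G →* G ⧸ Q := QuotientGroup.mk' Q with hπ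
  have hsurj : Function.Surjective π := QuotientGroup.mk'_surjective Q
  have hle : (Subgroup.centralizer ({x} : Set G)).map π ≤
      Subgroup.centralizer ({π x} : Set (G ⧸ Q)) := by
    rintro _ ⟨c, hc, rfl⟩
    rw [SetLike.mem_coe, Subgroup.mem_centralizer_singleton_iff] at hc
    rw [Subgroup.mem_centralizer_singleton_iff, ← map_mul, ← map_mul, hc]
  have h1 : (Subgroup.centralizer ({π x} : Set (G ⧸ Q))).index ∣ p ^ a := by
    rw [← hidx]
    exact (Subgroup.index_dvd_of_le hle).trans (Subgroup.index_map_dvd _ hsurj)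
  obtain ⟨b, -, hb⟩ := (Nat.dvd_prime_pow hp).1 h1
  have hO : pCore p (G ⧸ Q) = ⊥ := Helper62.pCore_quotient_pCore_eq_bot p
  have hcomm := commute_conj_of_pCore_eq_bot hp hO (π x) hb (π g) (π h)
  rw [← QuotientGroup.eq_one_iff]
  change π _ = 1
  simp only [map_mul, map_inv]
  rw [hcomm.eq]
  group

end Cfsg.Agent.Helper74.Kazarin
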