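import Cfsg.Agent.Helper78.Kuel.Defs

/-!
# (K-G0) for helper78's S4648 (Külshammer): the `p'`-part `pReg p g` of a group element
-/

set_option autoImplicit false

namespace Cfsg.Agent.Helper74.KuelG0

open Module Cfsg Cfsg.Agent.Helper78 Cfsg.Agent.Helper78.Brandt Cfsg.Agent.Helper78.Kuel

universe u

variable {G : Type u} [Group G] [Fintype G]

/-- arithmetic of the exponent: with `n = P * m`, `P = p ^ v_p(n)`: `P ∣ N`, `N ≡ 1 [MOD m]`. -/
theorem pRegExp_facts (p : ℕ) [hp : Fact p.Prime] (n : ℕ) (hn : n ≠ 0) :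
    p ^ n.factorization p * (n / p ^ n.factorization p) = n ∧
    ¬ p ∣ n / p ^ n.factorization p ∧
    p ^ n.factorization p ∣ pRegExp p n ∧
    pRegExp p n ≡ 1 [MOD n / p ^ n.factorization p] := by
  have h1 : p ^ n.factorization p * (n / p ^ n.factorization p) = n :=
    Nat.ordProj_mul_ordCompl_eq_self n p
  have h2 : ¬ p ∣ n / p ^ n.factorization p := Nat.not_dvd_ordCompl hp.out hn
  have hm0 : 0 < n / p ^ n.factorization p := by
    rcases Nat.eq_zero_or_pos (n / p ^ n.factorization p) with h | h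
    · rw [h, mul_zero] at h1
      exact absurd h1.symm hn
    · exact h
  have hcop : Nat.Coprime (p ^ n.factorization p) (n / p ^ n.factorization p) :=
    Nat.Coprime.pow_left _ ((Nat.Prime.coprime_iff_not_dvd hp.out).mpr h2)
  refine ⟨h1, h2, ?_, ?_⟩
  · unfold pRegExp
    exact dvd_pow_self _ (Nat.totient_pos.mpr hm0).ne'
  · unfold pRegExp
    exact Nat.ModEq.pow_totient hcop

theorem pow_card_eq_one' (g : G) : g ^ Nat.card G = 1 := by
  rw [Nat.card_eq_fintype_card]; exact pow_card_eq_one

/-- (K-G0a) the `p'`-part is `p`-regular. -/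
theorem not_dvd_orderOf_pReg (p : ℕ) [Fact p.Prime] (g : G) : ¬ p ∣ orderOf (pReg p g) := by
  have hn : Nat.card G ≠ 0 := Nat.card_pos.ne'
  obtain ⟨h1, h2, h3, -⟩ := pRegExp_facts p (Nat.card G) hn
  obtain ⟨c, hc⟩ := h3
  have h4 : (pReg p g) ^ (Nat.card G / p ^ (Nat.card G).factorization p) = 1 := by
    unfold pReg
    rw [← pow_mul, hc]
    have : p ^ (Nat.card G).factorization p * c * (Nat.card G / p ^ (Nat.card G).factorization p) =
        Nat.card G * c := by
      calc p ^ (Nat.card G).factorization p * c * (Nat.card G / p ^ (Nat.card G).factorization p)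
          = (p ^ (Nat.card G).factorization p * (Nat.card G / p ^ (Nat.card G).factorization p)) * c := by
            ring
        _ = Nat.card G * c := by rw [h1]
    rw [this, pow_mul, pow_card_eq_one', one_pow]
  intro hdvd
  exact h2 (hdvd.trans (orderOf_dvd_of_pow_eq_one h4))

/-- (K-G0b) the `p'`-part of a `p`-regular element. -/
theorem pReg_eq_self (p : ℕ) [hp : Fact p.Prime] (g : G) (hg : ¬ p ∣ orderOf g) : pReg p g = g := by
  have hn : Nat.card G ≠ 0 := Nat.card_pos.ne'
  obtain ⟨h1, h2, -, h4⟩ := pRegExp_facts p (Nat.card G) hn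
  have h5 : orderOf g ∣ Nat.card G / p ^ (Nat.card G).factorization p := by
    have h6 : orderOf g ∣ p ^ (Nat.card G).factorization p *
        (Nat.card G / p ^ (Nat.card G).factorization p) := by
      rw [h1]; exact orderOf_dvd_natCard g
    have hcop : Nat.Coprime (orderOf g) (p ^ (Nat.card G).factorization p) :=
      Nat.Coprime.pow_right _ ((Nat.Prime.coprime_iff_not_dvd hp.out).mpr hg).symm
    exact hcop.dvd_of_dvd_mul_left h6
  have h7 : pRegExp p (Nat.card G) ≡ 1 [MOD orderOf g] := h4.of_dvd h5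
  unfold pReg
  conv_rhs => rw [← pow_one g]
  exact pow_eq_pow_iff_modEq.mpr h7

/-- (K-G0c) conjugation. -/
theorem pReg_conj (p : ℕ) (x g : G) : pReg p (x * g * x⁻¹) = x * pReg p g * x⁻¹ := by
  unfold pReg
  rw [conj_pow]

/-- (K-G0d) `g - g_{p'}` is nilpotent in the group algebra in characteristic `p`. -/
theorem isNilpotent_single_sub_single_pReg (k : Type*) [Field k] (p : ℕ) [hp : Fact p.Prime]
    [CharP k p] (g : G) :
    IsNilpotent (MonoidAlgebra.single g (1 : k) - MonoidAlgebra.single (pReg p g) (1 : k)) := by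
  have hn : Nat.card G ≠ 0 := Nat.card_pos.ne'
  obtain ⟨h1, -, -, h4⟩ := pRegExp_facts p (Nat.card G) hn
  haveI : CharP (MonoidAlgebra k G) p := charP_of_injective_algebraMap' k p
  have hpow : MonoidAlgebra.single (pReg p g) (1 : k) =
      (MonoidAlgebra.single g (1 : k)) ^ pRegExp p (Nat.card G) := by
    rw [MonoidAlgebra.single_pow, one_pow]; rfl
  have hcomm : Commute (MonoidAlgebra.single g (1 : k))
      ((MonoidAlgebra.single g (1 : k)) ^ pRegExp p (Nat.card G)) := (Commute.refl _).pow_right _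
  refine ⟨p ^ (Nat.card G).factorization p, ?_⟩
  rw [hpow, sub_pow_char_pow_of_commute _ _ hcomm, ← pow_mul, MonoidAlgebra.single_pow,
    MonoidAlgebra.single_pow, one_pow, one_pow, sub_eq_zero]
  congr 1
  -- `g ^ P = g ^ (N * P)`
  rw [pow_eq_pow_iff_modEq]
  have h5 : pRegExp p (Nat.card G) * p ^ (Nat.card G).factorization p ≡
      1 * p ^ (Nat.card G).factorization p
      [MOD (Nat.card G / p ^ (Nat.card G).factorization p) * p ^ (Nat.card G).factorization p] :=
    Nat.ModEq.mul_right' _ h4
  rw [one_mul, mul_comm (Nat.card G / p ^ (Nat.card G).factorization p), h1] at h5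
  exact (h5.of_dvd (orderOf_dvd_natCard g)).symm

end Cfsg.Agent.Helper74.KuelG0
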