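import Cfsg.Agent.Helper78.Kuel.Defs
import Cfsg.Agent.Helper78.Brandt.Main
import Cfsg.Agent.Helper74.KuelG0

/-!
# (K-G2) for helper78's S4648 (Külshammer): trace forms of the block algebra are fixed vectors of the reduced
matrix `regClassMat`
-/

set_option autoImplicit false

namespace Cfsg.Agent.Helper74.KuelG2

open Module Cfsg Cfsg.Agent.Helper78 Cfsg.Agent.Helper78.Brandt Cfsg.Agent.Helper78.Kuel

universe u

variable {G : Type u} [Group G] [Fintype G]

section general

variable {k : Type*} [Field k]

/-- A trace form is a class function on the group basis. -/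
theorem apply_single_conj {f : Module.Dual k (MonoidAlgebra k G)}
    (hf : f ∈ traceFormSpace k (MonoidAlgebra k G)) (x g : G) :
    f (MonoidAlgebra.single (x * g * x⁻¹) 1) = f (MonoidAlgebra.single g 1) := by
  have h1 : MonoidAlgebra.single (x * g * x⁻¹) (1 : k) =
      MonoidAlgebra.single x 1 * (MonoidAlgebra.single g 1 * MonoidAlgebra.single x⁻¹ 1) := by
    rw [MonoidAlgebra.single_mul_single, MonoidAlgebra.single_mul_single, mul_one, mul_one,
      mul_assoc]
  have h2 : MonoidAlgebra.single g (1 : k) =
      (MonoidAlgebra.single g 1 * MonoidAlgebra.single x⁻¹ 1) * MonoidAlgebra.single x 1 := by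
    rw [MonoidAlgebra.single_mul_single, MonoidAlgebra.single_mul_single, mul_one, mul_one,
      mul_assoc, inv_mul_cancel, mul_one]
  rw [h1, hf.1, ← h2]

theorem apply_single_eq_of_mk_eq {f : Module.Dual k (MonoidAlgebra k G)}
    (hf : f ∈ traceFormSpace k (MonoidAlgebra k G)) {y z : G}
    (h : ConjClasses.mk y = ConjClasses.mk z) :
    f (MonoidAlgebra.single y 1) = f (MonoidAlgebra.single z 1) := by
  rw [ConjClasses.mk_eq_mk_iff_isConj, isConj_iff] at h
  obtain ⟨c, hc⟩ := h
  rw [← hc, apply_single_conj hf]

theorem apply_single_out {f : Module.Dual k (MonoidAlgebra k G)}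
    (hf : f ∈ traceFormSpace k (MonoidAlgebra k G)) (y : G) :
    f (MonoidAlgebra.single (Quotient.out (ConjClasses.mk y)) 1) = f (MonoidAlgebra.single y 1) :=
  apply_single_eq_of_mk_eq hf (Quotient.out_eq _)

theorem apply_single_pReg (p : ℕ) [Fact p.Prime] [CharP k p]
    {f : Module.Dual k (MonoidAlgebra k G)}
    (hf : f ∈ traceFormSpace k (MonoidAlgebra k G)) (g : G) :
    f (MonoidAlgebra.single g 1) = f (MonoidAlgebra.single (pReg p g) 1) := by
  have h := hf.2 _ (KuelG0.isNilpotent_single_sub_single_pReg k p g)
  rw [map_sub, sub_eq_zero] at h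
  exact h

/-- a trace form vanishing on the group basis vanishes -/
theorem eq_zero_of_apply_single {f : Module.Dual k (MonoidAlgebra k G)}
    (h : ∀ y : G, f (MonoidAlgebra.single y 1) = 0) : f = 0 := by
  refine LinearMap.ext fun a => ?_
  induction a using MonoidAlgebra.induction_on with
  | of g => exact h g
  | add a b ha hb => rw [map_add, ha, hb]; simp
  | smul c a ha => rw [map_smul, ha]; simp

end general

variable (M : Ideal AlgInt) [M.IsPrime]

theorem epsB_eq_sum (B : Set (IrrCharacter G)) :
    epsB M B = ∑ h : G, MonoidAlgebra.single h (resMap M (blockCoeff B h)) := rfl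

/-- `f (single x 1 * ε)` expanded. -/
theorem apply_single_mul_epsB (B : Set (IrrCharacter G))
    (f : Module.Dual (ResField M) (MonoidAlgebra (ResField M) G)) (x : G) :
    f (MonoidAlgebra.single x 1 * epsB M B) =
      ∑ h : G, resMap M (blockCoeff B h) * f (MonoidAlgebra.single (x * h) 1) := by
  rw [epsB_eq_sum, Finset.mul_sum, map_sum]
  refine Finset.sum_congr rfl (fun h _ => ?_)
  rw [MonoidAlgebra.single_mul_single, one_mul]
  have h1 : MonoidAlgebra.single (x * h) (resMap M (blockCoeff B h)) =
      resMap M (blockCoeff B h) • MonoidAlgebra.single (x * h) (1 : ResField M) := by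
    rw [MonoidAlgebra.smul_single, smul_eq_mul, mul_one]
  rw [h1, map_smul, smul_eq_mul]

open Classical in
/-- the entries of the reduced matrix -/
theorem map_regClassMat_apply (p : ℕ) {B : Set (IrrCharacter G)} (hB : IsPBlock M B)
    (C C' : ConjClasses G) :
    ((regClassMat p B).map (resMap M)) C C' = ∑ h : G,
      if ConjClasses.mk (pReg p (pReg p (Quotient.out C) * h)) = C' then
        resMap M (blockCoeff B h) else 0 := by
  rw [Matrix.map_apply]
  unfold regClassMat
  rw [resMap_sum]
  · refine Finset.sum_congr rfl (fun h _ => ?_)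
    split_ifs
    · rfl
    · exact resMap_zero
  · intro h _
    split_ifs
    · exact Helper16.osima hB h
    · exact Cfsg.Agent.Helper16.memLocalRing_zero

open Classical in
/-- (K-G2) the trace forms of the block algebra are fixed vectors of the reduced matrix. -/
theorem finrank_traceFormSpaceAt_epsB_le_rank (p : ℕ) [Fact p.Prime] (hM : IsPModular p M)
    {B : Set (IrrCharacter G)} (hB : IsPBlock M B) :
    finrank (ResField M) (traceFormSpaceAt (ResField M) (epsB M B)) ≤
      ((regClassMat p B).map (resMap M)).rank := by
  classical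
  have : CharP (ResField M) p := resField_charP hM
  -- the evaluation map
  let Φ : Module.Dual (ResField M) (MonoidAlgebra (ResField M) G) →ₗ[ResField M]
      (ConjClasses G → ResField M) :=
    { toFun := fun f C => f (MonoidAlgebra.single (Quotient.out C) 1)
      map_add' := fun f g => by ext C; rfl
      map_smul' := fun c f => by ext C; rfl }
  have hΦ : ∀ f C, Φ f C = f (MonoidAlgebra.single (Quotient.out C) 1) := fun f C => rfl
  -- fixed vectors
  have hfix : ∀ f ∈ traceFormSpaceAt (ResField M) (epsB M B),
      ((regClassMat p B).map (resMap M)).mulVec (Φ f) = Φ f := by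
    intro f hf
    have hf1 : f ∈ traceFormSpace (ResField M) (MonoidAlgebra (ResField M) G) := hf.1
    ext C
    rw [Matrix.mulVec, dotProduct]
    simp_rw [map_regClassMat_apply M p hB, Finset.sum_mul]
    rw [Finset.sum_comm]
    have h1 : ∀ h : G, ∑ C' : ConjClasses G,
        (if ConjClasses.mk (pReg p (pReg p (Quotient.out C) * h)) = C' then
          resMap M (blockCoeff B h) else 0) * Φ f C' =
        resMap M (blockCoeff B h) *
          f (MonoidAlgebra.single (pReg p (Quotient.out C) * h) 1) := by
      intro h
      simp_rw [ite_mul, zero_mul]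
      rw [Finset.sum_ite_eq, if_pos (Finset.mem_univ _), hΦ, apply_single_out hf1,
        ← apply_single_pReg p hf1]
    rw [Finset.sum_congr rfl (fun h _ => h1 h), ← apply_single_mul_epsB, hf.2, hΦ,
      ← apply_single_pReg p hf1]
  -- the restricted map into the range
  let Ψ : ↥(traceFormSpaceAt (ResField M) (epsB M B)) →ₗ[ResField M]
      ↥(LinearMap.range ((regClassMat p B).map (resMap M)).mulVecLin) :=
    LinearMap.codRestrict _ (Φ.comp (Submodule.subtype _)) (fun f => by
      refine ⟨Φ f.1, ?_⟩
      rw [Matrix.mulVecLin_apply]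
      exact hfix f.1 f.2)
  have hΨ : Function.Injective Ψ := by
    intro f g hfg
    have h1 : Φ f.1 = Φ g.1 := congrArg Subtype.val hfg
    apply Subtype.ext
    have hsub : f.1 - g.1 ∈ traceFormSpace (ResField M) (MonoidAlgebra (ResField M) G) :=
      Submodule.sub_mem _ f.2.1 g.2.1
    have h2 : f.1 - g.1 = 0 := by
      apply eq_zero_of_apply_single
      intro y
      rw [← apply_single_out hsub y]
      have h3 := congrFun h1 (ConjClasses.mk y)
      rw [hΦ, hΦ] at h3
      rw [LinearMap.sub_apply, h3, sub_self]
    exact sub_eq_zero.mp h2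
  exact LinearMap.finrank_le_finrank_of_injective hΨ

end Cfsg.Agent.Helper74.KuelG2
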