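import Mathlib
import Cfsg.Prelude.Def_LocalStructure

/-!
# Piece (MIN-a) of helper25's S3875: a minimal non-`p`-closed group that is not simple is `P K`
with `K` a minimal normal `p'`-subgroup.
-/

set_option autoImplicit false

namespace Cfsg.Agent.Helper74.MinNC

universe u

/-- Below a nontrivial normal subgroup there is a minimal normal subgroup. -/
theorem exists_minimal_normal_le {H : Type u} [Group H] [Finite H] (Q : Subgroup H) (hQn : Q.Normal)
    (hne : Q ≠ ⊥) :
    ∃ V : Subgroup H, V ≤ Q ∧ V.Normal ∧ V ≠ ⊥ ∧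
      ∀ L : Subgroup H, L.Normal → L ≤ V → L = ⊥ ∨ L = V := by
  obtain ⟨V, ⟨hVQ, hVn, hVne⟩, hmin⟩ := WellFounded.has_min
    (wellFounded_lt (α := Subgroup H)) {V | V ≤ Q ∧ V.Normal ∧ V ≠ ⊥}
    ⟨Q, le_rfl, hQn, hne⟩
  refine ⟨V, hVQ, hVn, hVne, fun L hL hLV => ?_⟩
  by_cases hLb : L = ⊥
  · left; exact hLb
  · right
    by_contra hLV'
    exact hmin L ⟨hLV.trans hVQ, hL, hLb⟩ (lt_of_le_of_ne hLV hLV')

/-- If the quotient by `N` is `p`-closed then `P ⊔ N` is normal. -/
theorem sup_normal_of_isPClosed_quotient (p : ℕ) [Fact p.Prime] {H : Type u} [Group H] [Finite H]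
    (P : Sylow p H) (N : Subgroup H) [N.Normal] (h : Cfsg.IsPClosed p (H ⧸ N)) :
    ((P : Subgroup H) ⊔ N).Normal := by
  have hsurj : Function.Surjective (QuotientGroup.mk' N) := QuotientGroup.mk'_surjective N
  have h1 : ((P.mapSurjective hsurj : Sylow p (H ⧸ N)) : Subgroup (H ⧸ N)).Normal := h _
  rw [Sylow.coe_mapSurjective] at h1
  have h2 : (((P : Subgroup H).map (QuotientGroup.mk' N)).comap (QuotientGroup.mk' N)).Normal :=
    Subgroup.Normal.comap h1 _
  rwa [Subgroup.comap_map_eq, QuotientGroup.ker_mk'] at h2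

/-- A Sylow subgroup that is normal in a normal subgroup containing it is normal. -/
theorem normal_of_normal_in_normal (p : ℕ) [Fact p.Prime] {H : Type u} [Group H] [Finite H]
    (P : Sylow p H) (L : Subgroup H) [hL : L.Normal] (hPL : (P : Subgroup H) ≤ L)
    (h : ((P.subtype hPL : Sylow p L) : Subgroup L).Normal) : (P : Subgroup H).Normal := by
  haveI : ((P.subtype hPL : Sylow p L) : Subgroup L).Characteristic :=
    Sylow.characteristic_of_normal _ h
  have h1 : (((P.subtype hPL : Sylow p L) : Subgroup L).map L.subtype).Normal :=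
    ConjAct.normal_of_characteristic_of_normal
  rwa [Sylow.coe_subtype, Subgroup.map_subgroupOf_eq_of_le hPL] at h1

/-- (MIN-a) -/
theorem exists_minimal_normal_complement (p : ℕ) [Fact p.Prime] {H : Type u} [Group H] [Finite H]
    (hH : ¬ Cfsg.IsPClosed p H)
    (hsub : ∀ K : Subgroup H, K ≠ ⊤ → Cfsg.IsPClosed p ↥K)
    (hquot : ∀ (K : Subgroup H) [K.Normal], K ≠ ⊥ → Cfsg.IsPClosed p (H ⧸ K))
    (hns : ¬ IsSimpleGroup H) :
    ∃ (P : Sylow p H) (K : Subgroup H), ¬ (P : Subgroup H).Normal ∧ K.Normal ∧ K ≠ ⊥ ∧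
      (∀ L : Subgroup H, L.Normal → L ≤ K → L = ⊥ ∨ L = K) ∧ ¬ p ∣ Nat.card K ∧
      (P : Subgroup H) ⊔ K = ⊤ ∧ (∀ R : Subgroup H, R.Normal → IsPGroup p R → R = ⊥) := by
  classical
  -- a non-normal Sylow subgroup
  obtain ⟨P, hPn⟩ : ∃ P : Sylow p H, ¬ (P : Subgroup H).Normal := by
    by_contra hcon
    push_neg at hcon
    exact hH hcon
  -- `H` is nontrivial
  haveI hnt : Nontrivial H := by
    by_contra hcon
    rw [not_nontrivial_iff_subsingleton] at hcon
    apply hPn
    have : (P : Subgroup H) = ⊥ := Subsingleton.elim _ _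
    rw [this]
    infer_instance
  -- a proper nontrivial normal subgroup
  obtain ⟨K0, hK0n, hK0b, hK0t⟩ : ∃ K0 : Subgroup H, K0.Normal ∧ K0 ≠ ⊥ ∧ K0 ≠ ⊤ := by
    by_contra hcon
    push_neg at hcon
    apply hns
    refine { exists_pair_ne := hnt.exists_pair_ne, eq_bot_or_eq_top_of_normal := ?_ }
    intro N hN
    by_cases hNb : N = ⊥
    · left; exact hNb
    · right; exact hcon N hN hNb
  -- (1) no nontrivial normal `p`-subgroup
  have h1 : ∀ R : Subgroup H, R.Normal → IsPGroup p R → R = ⊥ := by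
    intro R hRn hRp
    by_contra hRb
    haveI := hRn
    have hRP : R ≤ (P : Subgroup H) := hRp.le_sylow_of_normal P
    have h2 := sup_normal_of_isPClosed_quotient p P R (hquot R hRb)
    rw [sup_of_le_left hRP] at h2
    exact hPn h2
  -- (2) proper normal subgroups are `p'`-groups
  have h2 : ∀ K : Subgroup H, K.Normal → K ≠ ⊤ → ¬ p ∣ Nat.card K := by
    intro K hKn hKt hdvd
    haveI := hKn
    obtain ⟨Q⟩ : Nonempty (Sylow p K) := inferInstance
    have hQn : (Q : Subgroup K).Normal := hsub K hKt Q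
    haveI : (Q : Subgroup K).Characteristic := Sylow.characteristic_of_normal Q hQn
    have hQHn : ((Q : Subgroup K).map K.subtype).Normal :=
      ConjAct.normal_of_characteristic_of_normal
    have hQHp : IsPGroup p ((Q : Subgroup K).map K.subtype) := Q.isPGroup'.map K.subtype
    have hbot := h1 _ hQHn hQHp
    have hQb : (Q : Subgroup K) = ⊥ :=
      (Subgroup.map_eq_bot_iff_of_injective _ K.subtype_injective).mp hbot
    exact Q.ne_bot_of_dvd_card hdvd hQb
  -- (3) a minimal normal subgroup inside `K0`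
  obtain ⟨K, hKK0, hKn, hKb, hKmin⟩ := exists_minimal_normal_le K0 hK0n hK0b
  have hKt : K ≠ ⊤ := by
    intro h
    apply hK0t
    rw [eq_top_iff, ← h]
    exact hKK0
  haveI := hKn
  refine ⟨P, K, hPn, hKn, hKb, hKmin, h2 K hKn hKt, ?_, h1⟩
  -- (4) `P ⊔ K = ⊤`
  by_contra hPK
  haveI hLn : ((P : Subgroup H) ⊔ K).Normal :=
    sup_normal_of_isPClosed_quotient p P K (hquot K hKb)
  have hPL : (P : Subgroup H) ≤ (P : Subgroup H) ⊔ K := le_sup_left
  exact hPn (normal_of_normal_in_normal p P _ hPL (hsub _ hPK _))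

end Cfsg.Agent.Helper74.MinNC
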