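-- Existence of the residual limit of a saturated fusion system (helper74, for helper86's S5202).
import Cfsg.Agent.Helper85.ResidualLimit
import Cfsg.Agent.S5113
import Cfsg.Agent.S5140
set_option autoImplicit false

namespace Cfsg.Agent.Helper74.OR2

open Cfsg Cfsg.FusionSystem

variable {Ω : Type*} [Group Ω]

/-- Index prime to `p` is transitive. -/
theorem hasPrimeToPIndexIn_trans {T : Subgroup Ω} {p : ℕ} {D D' X : FusionSystem T}
    (h₁ : D'.HasPrimeToPIndexIn D p) (h₂ : X.HasPrimeToPIndexIn D' p) : X.HasPrimeToPIndexIn D p := by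
  refine ⟨fun P => (h₂.1 P).trans (h₁.1 P), fun P hP => ?_⟩
  rw [Subgroup.map_le_iff_le_comap, Subgroup.closure_le]
  rintro α ⟨k, hk⟩
  have hα' : (α : MulAut P) ∈ D'.autGroup P :=
    h₁.2 P hP (Subgroup.mem_map_of_mem _ (Subgroup.subset_closure ⟨k, hk⟩))
  have hord : orderOf (⟨(α : MulAut P), hα'⟩ : D'.autGroup P) = p ^ k := by
    have h1 : orderOf (⟨(α : MulAut P), hα'⟩ : D'.autGroup P) = orderOf (α : MulAut P) :=
      (Subgroup.orderOf_coe (⟨(α : MulAut P), hα'⟩ : D'.autGroup P)).symm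
    rw [h1, Subgroup.orderOf_coe α, hk]
  have := h₂.2 P hP (Subgroup.mem_map_of_mem (D'.autGroup P).subtype
    (Subgroup.subset_closure (show (⟨(α : MulAut P), hα'⟩ : D'.autGroup P) ∈
      {β : D'.autGroup P | ∃ k : ℕ, orderOf β = p ^ k} from ⟨k, hord⟩)))
  exact this

/-- The `p'`-residual subsystem is its own `p'`-residual subsystem. -/
theorem isPPrimeResidual_self {T : Subgroup Ω} {p : ℕ} {D D' : FusionSystem T}
    (h : D.IsPPrimeResidual p D') : D'.IsPPrimeResidual p D' := by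
  refine ⟨h.1, ⟨fun _ _ hx => hx, fun P _ => Subgroup.map_subtype_le _⟩, fun X hXs hXi => ?_⟩
  exact h.2.2 X hXs (hasPrimeToPIndexIn_trans h.2.1 hXi)

theorem exists_residualLimit_aux (p : ℕ) [Fact p.Prime] : ∀ (n : ℕ) (S : Subgroup Ω) [Finite S],
    Nat.card S = n → IsPGroup p S → ∀ F : FusionSystem S, F.IsSaturated p →
      ∃ (U : Subgroup Ω) (L : FusionSystem U), L.IsResidualLimitOf F p := by
  intro n
  induction n using Nat.strong_induction_on with
  | _ n ih =>
    intro S _ hn hS F hF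
    have hTS : F.hyperfocalSubgroup p ≤ S := Cfsg.Agent.Helper87.hyperfocalSubgroup_le F p
    have hTfin : Finite (F.hyperfocalSubgroup p) := Cfsg.Agent.Helper87.finite_of_le hTS
    have hT : IsPGroup p (F.hyperfocalSubgroup p) := hS.to_le hTS
    obtain ⟨D, ⟨hDs, hDi⟩, -⟩ := Cfsg.Agent.S5113.result p hS F hF (F.hyperfocalSubgroup p) hTS le_rfl
    have hD : F.IsPResidual p D := ⟨hDs, hDi⟩
    obtain ⟨D', hD'⟩ := Cfsg.Agent.S5140.result p hT D hDs
    have hK : D'.IsPPrimeResidual p D' := isPPrimeResidual_self hD'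
    by_cases h2 : D'.hyperfocalSubgroup p = F.hyperfocalSubgroup p
    · exact ⟨_, D', IsResidualLimitOf.step F p D D' hD hD' (IsResidualLimitOf.stable D' p h2 hK)⟩
    · have hT₂T : D'.hyperfocalSubgroup p ≤ F.hyperfocalSubgroup p :=
        Cfsg.Agent.Helper87.hyperfocalSubgroup_le D' p
      have hT₂fin : Finite (D'.hyperfocalSubgroup p) := Cfsg.Agent.Helper87.finite_of_le (hT₂T.trans hTS)
      have hT₂ : IsPGroup p (D'.hyperfocalSubgroup p) := hT.to_le hT₂T
      have hlt : Nat.card (D'.hyperfocalSubgroup p) < n := by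
        have h1 : Nat.card (D'.hyperfocalSubgroup p) < Nat.card (F.hyperfocalSubgroup p) := by
          have hfin : Finite ((F.hyperfocalSubgroup p : Subgroup Ω) : Set Ω) := hTfin
          have hss : ((D'.hyperfocalSubgroup p : Subgroup Ω) : Set Ω) ⊂ (F.hyperfocalSubgroup p : Set Ω) := by
            refine ⟨hT₂T, fun hle => h2 (le_antisymm hT₂T hle)⟩
          exact Set.Finite.card_lt_card (Set.toFinite _) hss
        have h3 : Nat.card (F.hyperfocalSubgroup p) ≤ Nat.card S := Subgroup.card_le_of_le hTS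
        omega
      obtain ⟨D₂, ⟨hD₂s, hD₂i⟩, -⟩ :=
        Cfsg.Agent.S5113.result p hT D' hD'.1 (D'.hyperfocalSubgroup p) hT₂T le_rfl
      have hD₂ : D'.IsPResidual p D₂ := ⟨hD₂s, hD₂i⟩
      obtain ⟨D₂', hD₂'⟩ := Cfsg.Agent.S5140.result p hT₂ D₂ hD₂s
      obtain ⟨U, L, hL⟩ := ih _ hlt (D'.hyperfocalSubgroup p) rfl hT₂ D₂' hD₂'.1
      exact ⟨U, L, IsResidualLimitOf.step F p D D' hD hD' (IsResidualLimitOf.step D' p D₂ D₂' hD₂ hD₂' hL)⟩

theorem exists_residualLimit {S : Subgroup Ω} [Finite S] (p : ℕ) [Fact p.Prime] (hS : IsPGroup p S) (F : FusionSystem S) (hF : F.IsSaturated p) : ∃ (U : Subgroup Ω) (L : FusionSystem U), L.IsResidualLimitOf F p :=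
  exists_residualLimit_aux p (Nat.card S) S rfl hS F hF

theorem isSubsystemOf_of_residualLimit {S U : Subgroup Ω} {p : ℕ} {F : FusionSystem S} {L : FusionSystem U} (h : L.IsResidualLimitOf F p) : L.IsSubsystemOf F := by
  induction h with
  | stable F p _ _ => exact fun _ _ hx => hx
  | step F p D D' hD hD' hlim ih => exact fun P => ((ih P).trans (hD'.2.1.1 P)).trans (hD.2.1 P)

end Cfsg.Agent.Helper74.OR2
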