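-- Index prime to p does not change the residual limit (helper74, for helper86's S5202).
import Cfsg.Agent.Helper85.ResidualLimit
import Cfsg.Agent.S5113
import Cfsg.Agent.S5120
import Cfsg.Agent.S5140
import Cfsg.Agent.Helper74.OR2
import Cfsg.Agent.Helper38.OR5c
set_option autoImplicit false

namespace Cfsg.Agent.Helper74.OR10

open Cfsg Cfsg.FusionSystem Cfsg.Agent.Helper85 Cfsg.Agent.Helper87

variable {Ω : Type*} [Group Ω]

/-- If `D' ≤ X ≤ D` over the same group and `D'` has index prime to `p` in `D`, then also in `X`. -/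
theorem hasPrimeToPIndexIn_of_le {T : Subgroup Ω} {p : ℕ} {D D' X : FusionSystem T}
    (h₁ : D'.HasPrimeToPIndexIn D p) (hXD : X.IsSubsystemOf D) (hD'X : D'.IsSubsystemOf X) :
    D'.HasPrimeToPIndexIn X p := by
  refine ⟨hD'X, fun P hP => ?_⟩
  rw [Subgroup.map_le_iff_le_comap, Subgroup.closure_le]
  rintro α ⟨k, hk⟩
  have hα' : (α : MulAut P) ∈ D.autGroup P := autGroup_le_of_isSubsystemOf D X hXD hP α.2
  have hord : orderOf (⟨(α : MulAut P), hα'⟩ : D.autGroup P) = p ^ k := by
    have h1 : orderOf (⟨(α : MulAut P), hα'⟩ : D.autGroup P) = orderOf (α : MulAut P) :=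
      (Subgroup.orderOf_coe (⟨(α : MulAut P), hα'⟩ : D.autGroup P)).symm
    rw [h1, Subgroup.orderOf_coe α, hk]
  have := h₁.2 P hP (Subgroup.mem_map_of_mem (D.autGroup P).subtype
    (Subgroup.subset_closure (show (⟨(α : MulAut P), hα'⟩ : D.autGroup P) ∈
      {β : D.autGroup P | ∃ k : ℕ, orderOf β = p ^ k} from ⟨k, hord⟩)))
  exact this

/-- The `p'`-residual subsystems of `D` and of a saturated subsystem `X` of index prime to `p` in `D` coincide. -/
theorem sameHom_pPrimeResidual_of_primeIndex {T : Subgroup Ω} {p : ℕ} {D X D' X' : FusionSystem T}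
    (hXs : X.IsSaturated p) (hXD : X.HasPrimeToPIndexIn D p) (hD' : D.IsPPrimeResidual p D')
    (hX' : X.IsPPrimeResidual p X') : SameHom X' D' := by
  have hD'X : D'.IsSubsystemOf X := hD'.2.2 X hXs hXD
  have h1 : D'.HasPrimeToPIndexIn X p := hasPrimeToPIndexIn_of_le hD'.2.1 hXD.1 hD'X
  have h2 : X'.IsSubsystemOf D' := hX'.2.2 D' hD'.1 h1
  have h3 : X'.HasPrimeToPIndexIn D p := Cfsg.Agent.Helper74.OR2.hasPrimeToPIndexIn_trans hXD hX'.2.1
  have h4 : D'.IsSubsystemOf X' := hD'.2.2 X' hX'.1 h3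
  intro P
  exact Set.Subset.antisymm (h2 P) (h4 P)

/-- If the hyperfocal subgroup of the saturated system `F` is the whole group, the residual limits of `F` and of its
`p'`-residual subsystem agree. -/
theorem sameHom_limit_pPrimeResidual {S : Subgroup Ω} [Finite S] (p : ℕ) [Fact p.Prime] (hS : IsPGroup p S)
    (F : FusionSystem S) (hF : F.IsSaturated p) (h1 : F.hyperfocalSubgroup p = S) (F' : FusionSystem S)
    (hF' : F.IsPPrimeResidual p F') {V W : Subgroup Ω} (Finf : FusionSystem V) (F'inf : FusionSystem W)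
    (hFinf : Finf.IsResidualLimitOf F p) (hF'inf : F'inf.IsResidualLimitOf F' p) : SameHom Finf F'inf := by
  have hpp : p.Prime := Fact.out
  have hfin : Finite S := inferInstance
  have hHS : F.hyperfocalSubgroup p ≤ S := hyperfocalSubgroup_le F p
  have hfinH : Finite (F.hyperfocalSubgroup p) := finite_of_le hHS
  have hpH : IsPGroup p (F.hyperfocalSubgroup p) := hS.to_le hHS
  cases hFinf with
  | stable _ _ hF1 hF2 =>
    have hFF' : SameHom F F' := sameHom_pPrimeResidual (fun P => rfl) hF2 hF'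
    exact sameHom_residualLimit (IsResidualLimitOf.stable F p hF1 hF2) hpp hfin hS hF'inf hFF'
  | step _ _ D D' hD hD' hlim =>
    have hDF : SameHom D F := fun P =>
      hom_eq_of_pPowerIndex' hS F h1 D F hD.1 hF hD.2 (hasPPowerIndexIn_self F p) P
    have hD'F' : SameHom D' F' := sameHom_pPrimeResidual hDF hD' hF'
    exact sameHom_residualLimit hlim hpp hfinH hpH hF'inf hD'F'

theorem normal_hyperfocal {S : Subgroup Ω} (F : FusionSystem S) (p : ℕ) :
    ((F.hyperfocalSubgroup p).subgroupOf S).Normal := by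
  constructor
  intro n hn g
  rw [Subgroup.mem_subgroupOf] at hn ⊢
  have := conj_mem_hyperfocalSubgroup F p g.2 hn
  simpa using this

theorem sameHom_aux (p : ℕ) [Fact p.Prime] : ∀ (n : ℕ) (S : Subgroup Ω) [Finite S], Nat.card S = n →
    IsPGroup p S → ∀ F Y : FusionSystem S, F.IsSaturated p → Y.IsSaturated p → Y.HasPrimeToPIndexIn F p →
      ∀ {V W : Subgroup Ω} (Finf : FusionSystem V) (Yinf : FusionSystem W),
        Finf.IsResidualLimitOf F p → Yinf.IsResidualLimitOf Y p → SameHom Yinf Finf := by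
  intro n
  induction n using Nat.strong_induction_on with
  | _ n ih =>
    intro S _ hn hS
    have hpp : p.Prime := Fact.out
    have hfin : Finite S := inferInstance
    -- Case A: the hyperfocal subgroup of the big system is proper.
    have caseA : ∀ F Y : FusionSystem S, F.IsSaturated p → Y.IsSaturated p → Y.HasPrimeToPIndexIn F p →
        F.hyperfocalSubgroup p ≠ S → ∀ {V W : Subgroup Ω} (Finf : FusionSystem V) (Yinf : FusionSystem W),
        Finf.IsResidualLimitOf F p → Yinf.IsResidualLimitOf Y p → SameHom Yinf Finf := by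
      intro F Y hF hY hidx hne V W Finf Yinf hFinf hYinf
      have hHS : F.hyperfocalSubgroup p ≤ S := hyperfocalSubgroup_le F p
      have hHfin : Finite (F.hyperfocalSubgroup p) := finite_of_le hHS
      have hH : IsPGroup p (F.hyperfocalSubgroup p) := hS.to_le hHS
      have hHn : ((F.hyperfocalSubgroup p).subgroupOf S).Normal := normal_hyperfocal F p
      have hYH : Y.hyperfocalSubgroup p ≤ F.hyperfocalSubgroup p := hyperfocalSubgroup_mono F Y hidx.1 p
      have hlt : Nat.card (F.hyperfocalSubgroup p) < n := by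
        have hss : ((F.hyperfocalSubgroup p : Subgroup Ω) : Set Ω) ⊂ (S : Set Ω) :=
          ⟨hHS, fun hle => hne (le_antisymm hHS hle)⟩
        have := Set.Finite.card_lt_card (Set.toFinite (S : Set Ω)) hss
        rw [← hn]
        exact this
      obtain ⟨D, ⟨hDs, hDi⟩, -⟩ := Cfsg.Agent.S5113.result p hS F hF (F.hyperfocalSubgroup p) hHS le_rfl
      obtain ⟨Z, ⟨hZs, hZi⟩, -⟩ := Cfsg.Agent.S5113.result p hS Y hY (F.hyperfocalSubgroup p) hHS hYH
      have hDn : D.IsNormalIn F p :=
        Cfsg.Agent.S5120.result p hS F hF (F.hyperfocalSubgroup p) hHS hHn le_rfl D hDs hDi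
      have hZn : Z.IsNormalIn Y p :=
        Cfsg.Agent.S5120.result p hS Y hY (F.hyperfocalSubgroup p) hHS hHn hYH Z hZs hZi
      obtain ⟨U₁, Dinf, hDinf⟩ := Cfsg.Agent.Helper74.OR2.exists_residualLimit p hH D hDs
      obtain ⟨U₂, Zinf, hZinf⟩ := Cfsg.Agent.Helper74.OR2.exists_residualLimit p hH Z hZs
      have h1 : SameHom Finf Dinf := residualLimit_of_normal_pPowerIndex p hS F hF D hDn hDi Finf hFinf Dinf hDinf
      have h2 : SameHom Yinf Zinf := residualLimit_of_normal_pPowerIndex p hS Y hY Z hZn hZi Yinf hYinf Zinf hZinf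
      have hdia : Z.HasPrimeToPIndexIn D p :=
        Cfsg.Agent.Helper38.OR5c.diamond p hS F Y hF hY hidx D Z hDs hDi hZs hZi
      have h3 : SameHom Zinf Dinf :=
        ih _ hlt (F.hyperfocalSubgroup p) rfl hH D Z hDs hZs hdia Dinf Zinf hDinf hZinf
      exact h2.trans (h3.trans h1.symm)
    intro F Y hF hY hidx V W Finf Yinf hFinf hYinf
    by_cases hF1 : F.hyperfocalSubgroup p = S
    · obtain ⟨F', hF'⟩ := Cfsg.Agent.S5140.result p hS F hF
      obtain ⟨Y', hY'⟩ := Cfsg.Agent.S5140.result p hS Y hY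
      obtain ⟨U₁, F'inf, hF'inf⟩ := Cfsg.Agent.Helper74.OR2.exists_residualLimit p hS F' hF'.1
      obtain ⟨U₂, Y'inf, hY'inf⟩ := Cfsg.Agent.Helper74.OR2.exists_residualLimit p hS Y' hY'.1
      have hFF' : SameHom Finf F'inf :=
        sameHom_limit_pPrimeResidual p hS F hF hF1 F' hF' Finf F'inf hFinf hF'inf
      have hY'F' : SameHom Y' F' := sameHom_pPrimeResidual_of_primeIndex hY hidx hF' hY'
      have hlim : SameHom Y'inf F'inf := sameHom_residualLimit hY'inf hpp hfin hS hF'inf hY'F'
      have hYY' : SameHom Yinf Y'inf := by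
        by_cases hY1 : Y.hyperfocalSubgroup p = S
        · exact sameHom_limit_pPrimeResidual p hS Y hY hY1 Y' hY' Yinf Y'inf hYinf hY'inf
        · exact (caseA Y Y' hY hY'.1 hY'.2.1 hY1 Yinf Y'inf hYinf hY'inf).symm
      exact hYY'.trans (hlim.trans hFF'.symm)
    · exact caseA F Y hF hY hidx hF1 Finf Yinf hFinf hYinf

theorem sameHom_residualLimit_of_primeIndex {S : Subgroup Ω} [Finite S] (p : ℕ) [Fact p.Prime] (hS : IsPGroup p S) (F Y : FusionSystem S) (hF : F.IsSaturated p) (hY : Y.IsSaturated p) (hidx : Y.HasPrimeToPIndexIn F p) {V W : Subgroup Ω} (Finf : FusionSystem V) (Yinf : FusionSystem W) (h1 : Finf.IsResidualLimitOf F p) (h2 : Yinf.IsResidualLimitOf Y p) : SameHom Yinf Finf :=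
  sameHom_aux p (Nat.card S) S rfl hS F Y hF hY hidx Finf Yinf h1 h2

end Cfsg.Agent.Helper74.OR10
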