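import Cfsg.Agent.Helper16.PC.Defs
import Cfsg.Agent.Helper74.CharCount
import Cfsg.Agent.Helper79.Linear
import Cfsg.Agent.Helper75.FrobeniusKernel
import Cfsg.Agent.S0961

/-!
# Piece (IVe) of helper16's S4427 farm (insurance copy, helper74): if `theta` is a character, the
`p`-regular elements form a normal subgroup
-/

set_option autoImplicit false
set_option linter.unusedSectionVars false
set_option linter.unusedVariables false

namespace Cfsg.Agent.Helper74.PC

open Cfsg Cfsg.Agent.Helper16 Cfsg.Agent.Helper16.PC Polynomial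
open scoped ComplexConjugate

universe u

variable {G : Type u} [Group G] [Fintype G] {M : Ideal AlgInt} {p : ℕ}

/-- a natural combination of irreducible characters is a character -/
theorem isCharacter_sum_nat_irr [Fintype (IrrCharacter G)] (φ : IrrCharacter G → ℕ) :
    IsCharacter G (fun g => ∑ χ : IrrCharacter G, (φ χ : ℂ) * (χ : G → ℂ) g) := by
  classical
  apply Cfsg.Agent.Helper74.isCharacter_of_mem_irrSpanNat
  have h : (fun g => ∑ χ : IrrCharacter G, (φ χ : ℂ) * (χ : G → ℂ) g) =
      ∑ χ : IrrCharacter G, φ χ • (χ : G → ℂ) := by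
    funext g
    rw [Finset.sum_apply]
    refine Finset.sum_congr rfl (fun χ _ => ?_)
    rw [Pi.smul_apply, nsmul_eq_mul]
  rw [h]
  apply AddSubmonoid.sum_mem
  intro χ _
  apply AddSubmonoid.nsmul_mem
  exact AddSubmonoid.subset_closure χ.2

/-- (IVe) if `theta` is a character, the `p`-regular elements form a normal subgroup. -/
theorem PC_IVe [Fact p.Prime] [Fintype (IrrCharacter G)] (φ : IrrCharacter G → ℕ)
    (hθ : ∀ g, theta p G g = ∑ χ : IrrCharacter G, (φ χ : ℂ) * (χ : G → ℂ) g) :
    ∃ N : Subgroup G, N.Normal ∧ ∀ g, g ∈ N ↔ ¬ p ∣ orderOf g := by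
  classical
  have hp : p.Prime := Fact.out
  have hchar : IsCharacter G (theta p G) := by
    have h : theta p G = fun g => ∑ χ : IrrCharacter G, (φ χ : ℂ) * (χ : G → ℂ) g :=
      funext hθ
    rw [h]
    exact isCharacter_sum_nat_irr φ
  obtain ⟨N, hN, hmem⟩ := Cfsg.Agent.Helper75.fk_exists_normal_kernel hchar
  refine ⟨N, hN, fun g => ?_⟩
  rw [hmem]
  have h1 : theta p G 1 = ((p ^ (Nat.card G).factorization p : ℕ) : ℂ) := by
    unfold theta
    rw [orderOf_one, if_neg hp.not_dvd_one]
  have hne : ((p ^ (Nat.card G).factorization p : ℕ) : ℂ) ≠ 0 := by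
    exact_mod_cast (pow_pos hp.pos _).ne'
  rw [h1]
  unfold theta
  by_cases hg : p ∣ orderOf g
  · rw [if_pos hg]
    constructor
    · intro h; exact absurd h.symm hne
    · intro h; exact absurd hg h
  · rw [if_neg hg]
    exact ⟨fun _ => hg, fun _ => rfl⟩

end Cfsg.Agent.Helper74.PC
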