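import Mathlib
import Cfsg.Agent.Helper81.RO2
import Cfsg.Agent.Helper81.RealN2
import Cfsg.Agent.Helper81.CliffordInd
import Cfsg.Agent.Helper81.PDegRestrict
import Cfsg.Agent.Helper74.RestrictIrr
import Cfsg.Agent.Helper15.IndFun
import Cfsg.Agent.Helper15.IndChar
import Cfsg.Agent.Helper15.Clifford
import Cfsg.Agent.Helper15.CliffordCorr
import Cfsg.Agent.Helper89.RO_K1
import Cfsg.Agent.Helper95.RO_SK
import Cfsg.Agent.S4914
import Cfsg.Agent.S4801

/-!
# Kernels of characters of `p'`-degree, part A (helper74)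

* `pdeg_ker`: a normal `p'`-subgroup `M` with `C_M(P) = 1` (`P` a Sylow `p`-subgroup) lies in the
  kernel of every irreducible character of `p'`-degree.
* `ker_of_normal_le_commutator`: a normal subgroup `R ≤ P'` lies in the kernel of every irreducible
  character of `p'`-degree.
* `exists_constituent_not_dvd`: a character of `p'`-degree has an irreducible constituent of
  `p'`-degree.
-/

set_option autoImplicit false

namespace Cfsg.Agent.Helper74.PDK

open Cfsg
open scoped ComplexConjugate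

universe u

/-- A normal `p'`-subgroup `M` on which a Sylow `p`-subgroup has no nontrivial fixed points lies in
the kernel of every irreducible character of degree prime to `p`. -/
theorem pdeg_ker {G : Type u} [Group G] [Fintype G] (p : ℕ) [hp : Fact p.Prime] (P : Sylow p G)
    {χ : G → ℂ} (hχ : IsIrrCharacter G χ) (hdeg : ¬ p ∣ charDegree χ) (M : Subgroup G)
    [hMn : M.Normal] (hM : (Nat.card M).Coprime p)
    (hcent : ∀ k ∈ M, (∀ x ∈ (P : Subgroup G), x * k * x⁻¹ * k⁻¹ = 1) → k = 1) :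
    ∀ m ∈ M, χ m = χ 1 := by
  classical
  let _ : Fintype M := Fintype.ofFinite M
  have hχc : IsCharacter G χ := Helper74.isCharacter_of_isIrr hχ
  have hres : IsCharacter M (fun m : M => χ m) := Helper74.isCharacter_restrict M hχc
  have h1 : (fun m : M => χ m) 1 ≠ 0 := Helper80.IsIrrCharacter.map_one_ne_zero hχ
  obtain ⟨θ₀, hθ₀⟩ := Helper81.exists_irr_constituent hres h1
  obtain ⟨e, he, hdeg1, -⟩ := Helper74.clifford_degree_data M hχ θ₀.2 hθ₀
  have hdeg' : charDegree χ
      = e * (Helper15.conjOrbit M (θ₀ : M → ℂ)).card * charDegree (θ₀ : M → ℂ) := by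
    have h2 := Helper74.charDegree_cast hχc
    have h3 := Helper74.charDegree_cast (Helper74.irr_isCharacter θ₀)
    have h4 : (charDegree χ : ℂ)
        = ((e * (Helper15.conjOrbit M (θ₀ : M → ℂ)).card * charDegree (θ₀ : M → ℂ) : ℕ) : ℂ) := by
      rw [h2, hdeg1, Nat.cast_mul (e * _), h3]
    exact_mod_cast h4
  have hcard : ¬ p ∣ (Helper15.conjOrbit M (θ₀ : M → ℂ)).card := by
    intro hd
    apply hdeg
    rw [hdeg']
    exact Dvd.dvd.mul_right (Dvd.dvd.mul_left hd e) _
  have hidx : ¬ p ∣ (Helper15.inertia M (θ₀ : M → ℂ)).index := by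
    rw [← Helper15.card_conjOrbit]
    exact hcard
  obtain ⟨g, hg⟩ := Helper81.exists_conj_invariant M (P : Subgroup G) P.isPGroup'
    (θ₀ : M → ℂ) hidx
  have hθ'irr : IsIrrCharacter M (Helper15.conjFun M g (θ₀ : M → ℂ)) :=
    Helper15.isIrrCharacter_conjFun M θ₀.2 g
  -- apply S4914 with `Q = C = ⊥`
  obtain ⟨f, hf, -⟩ := Cfsg.Agent.S4914.result (G := G) p (P : Subgroup G) M ⊥ ⊥ P.isPGroup'
    (by rw [Subgroup.normalizer_eq_top]; exact le_top) bot_le
    (by
      intro k _ q hq
      rw [Subgroup.mem_bot] at hq ⊢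
      rw [hq]; group)
    ⟨0, by rw [Subgroup.card_bot, pow_zero]⟩
    (by
      rw [Subgroup.relIndex_bot_left]
      exact fun h2 => by
        have := Nat.Coprime.eq_one_of_dvd hM.symm h2
        exact hp.out.one_lt.ne' this)
    bot_le
    (by
      intro k
      constructor
      · intro hk
        rw [Subgroup.mem_bot] at hk
        rw [hk]
        refine ⟨M.one_mem, fun x _ => ?_⟩
        rw [Subgroup.mem_bot]; group
      · rintro ⟨hkM, hc⟩
        rw [Subgroup.mem_bot]
        exact hcent k hkM (fun x hx => Subgroup.mem_bot.mp (hc x hx)))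
  have hinv1 : ∀ x ∈ (P : Subgroup G), ∀ k k' : M, (k' : G) = x * (k : G) * x⁻¹ →
      (Helper15.conjFun M g (θ₀ : M → ℂ)) k' = (Helper15.conjFun M g (θ₀ : M → ℂ)) k := by
    intro x hx k k' hk
    have h2 := (Helper15.mem_inertia_iff M _ x).mp (hg x hx) k
    rw [← h2]
    congr 1
    exact Subtype.ext hk
  let a : {χ : Cfsg.IrrCharacter M // ∀ x ∈ (P : Subgroup G), ∀ k k' : M,
      (k' : G) = x * (k : G) * x⁻¹ → (χ : M → ℂ) k' = (χ : M → ℂ) k} :=
    ⟨⟨Helper15.conjFun M g (θ₀ : M → ℂ), hθ'irr⟩, hinv1⟩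
  let b : {χ : Cfsg.IrrCharacter M // ∀ x ∈ (P : Subgroup G), ∀ k k' : M,
      (k' : G) = x * (k : G) * x⁻¹ → (χ : M → ℂ) k' = (χ : M → ℂ) k} :=
    ⟨Cfsg.Agent.S4801.trivIrr M, fun _ _ _ _ _ => rfl⟩
  have hab : a = b := by
    apply hf.1
    apply Subtype.ext
    exact Cfsg.Agent.Helper95.ROSK.irr_bot_subsingleton _ _
  have hθ' : ∀ m : M, Helper15.conjFun M g (θ₀ : M → ℂ) m = 1 := by
    intro m
    have h2 := congrArg (fun z => ((z.1 : Cfsg.IrrCharacter M) : M → ℂ) m) hab
    exact h2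
  have hθ0 : ∀ m : M, (θ₀ : M → ℂ) m = 1 := by
    intro m
    have h2 := hθ' ⟨g⁻¹ * m * g⁻¹⁻¹, hMn.conj_mem (m : G) m.2 g⁻¹⟩
    rw [Helper15.conjFun_apply] at h2
    rw [← h2]
    refine congrArg (θ₀ : M → ℂ) (Subtype.ext ?_)
    simp only
    group
  exact Cfsg.Agent.Helper89.ROK1.ker_of_trivial_constituent hχ M θ₀.2 hθ0 hθ₀

/-- A character of degree prime to `p` has an irreducible constituent of degree prime to `p`. -/
theorem exists_constituent_not_dvd {G : Type u} [Group G] [Fintype G] (p : ℕ) {Ψ : G → ℂ}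
    (hΨ : IsCharacter G Ψ) (hdeg : ¬ p ∣ charDegree Ψ) :
    ∃ χ : IrrCharacter G, classInner Ψ (χ : G → ℂ) ≠ 0 ∧ ¬ p ∣ charDegree (χ : G → ℂ) := by
  classical
  let _ := Helper74.irrFintype G
  choose m hm using fun ξ : IrrCharacter G => Helper74.isCharacter_inner_irr_nat hΨ ξ
  have hdec := Helper74.isCharacter_eq_sum_irr hΨ
  have h1 := congrFun hdec 1
  simp only [Finset.sum_apply, Pi.smul_apply, smul_eq_mul, hm] at h1
  rw [← Helper74.charDegree_cast hΨ] at h1
  have h2 : ∀ ξ : IrrCharacter G, (ξ : G → ℂ) 1 = (charDegree (ξ : G → ℂ) : ℂ) := fun ξ =>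
    (Helper74.charDegree_cast (Helper74.irr_isCharacter ξ)).symm
  simp only [h2] at h1
  have h3 : charDegree Ψ = ∑ ξ : IrrCharacter G, m ξ * charDegree (ξ : G → ℂ) := by
    exact_mod_cast h1
  by_contra hcon
  push Not at hcon
  apply hdeg
  rw [h3]
  apply Finset.dvd_sum
  intro ξ _
  by_cases hmξ : m ξ = 0
  · rw [hmξ, zero_mul]; exact dvd_zero p
  · have hne : classInner Ψ (ξ : G → ℂ) ≠ 0 := by
      rw [hm ξ]; exact_mod_cast hmξ
    exact Dvd.dvd.mul_left (hcon ξ hne) _

/-- A normal subgroup `R` contained in the derived subgroup of a Sylow `p`-subgroup lies in the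
kernel of every irreducible character of degree prime to `p`. -/
theorem ker_of_normal_le_commutator {H : Type u} [Group H] [Fintype H] (p : ℕ)
    [hp : Fact p.Prime] (S : Sylow p H) {χ : H → ℂ} (hχ : IsIrrCharacter H χ)
    (hdeg : ¬ p ∣ charDegree χ) (R : Subgroup H) [hRn : R.Normal]
    (hR : R ≤ ⁅(S : Subgroup H), (S : Subgroup H)⁆) : ∀ r ∈ R, χ r = χ 1 := by
  classical
  let _ : Fintype (S : Subgroup H) := Fintype.ofFinite _
  let _ : Fintype R := Fintype.ofFinite _
  let _ := Helper74.irrFintype (S : Subgroup H)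
  have hχc : IsCharacter H χ := Helper74.isCharacter_of_isIrr hχ
  obtain ⟨ξ, hξne, hξ1⟩ :=
    Helper81.exists_linear_constituent_of_not_dvd p (S : Subgroup H) S.2 hχc hdeg
  have hRS : R ≤ (S : Subgroup H) := le_trans hR (Subgroup.commutator_le_self _)
  set R' : Subgroup (S : Subgroup H) := R.subgroupOf (S : Subgroup H) with hR'
  let _ : Fintype R' := Fintype.ofFinite _
  have hξR : ∀ r : R', (ξ : ↥(S : Subgroup H) → ℂ) (r : (S : Subgroup H)) = 1 := by
    intro r
    refine Helper81.linear_eq_one_of_mem_commutator (S : Subgroup H)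
      (Helper74.irr_isCharacter ξ) hξ1 (r : (S : Subgroup H)) ?_
    exact hR (Subgroup.mem_subgroupOf.mp r.2)
  -- the character of `S` induced from the trivial character of `R'`
  have hA : IsCharacter (S : Subgroup H) (fun s : (S : Subgroup H) => χ s) :=
    Helper74.isCharacter_restrict (S : Subgroup H) hχc
  have hB : IsCharacter (S : Subgroup H) (indFun R' (fun _ : R' => (1 : ℂ))) :=
    Helper15.isCharacter_indFun R' Helper74.isCharacter_one
  have hBξ : classInner (indFun R' (fun _ : R' => (1 : ℂ))) (ξ : ↥(S : Subgroup H) → ℂ)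
      ≠ 0 := by
    rw [Helper15.frobenius_reciprocity R' _ _ (Helper74.irr_isClassFunction ξ)]
    have h1 : (fun h : R' => (ξ : ↥(S : Subgroup H) → ℂ) h) = fun _ => (1 : ℂ) := funext hξR
    rw [h1]
    have h2 := Helper74.irr_orthonormal (Cfsg.Agent.S4801.trivIrr R') (Cfsg.Agent.S4801.trivIrr R')
    rw [if_pos rfl] at h2
    have h3 : ((Cfsg.Agent.S4801.trivIrr R' : IrrCharacter R') : R' → ℂ) = fun _ => (1 : ℂ) := rfl
    rw [h3] at h2
    rw [h2]
    exact one_ne_zero
  have hAB := Helper15.inner_ne_zero_of_common_constituent hA hB ξ hξne hBξ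
  rw [Helper15.frobenius_reciprocity' R' _ _ (Helper74.isClassFunction_of_isCharacter hA)] at hAB
  -- transfer to `R`
  let e : R' ≃* R := Subgroup.subgroupOfEquivOfLe hRS
  have htr := Helper15.classInner_comp_mulEquiv e (fun r : R => χ r) (fun _ : R => (1 : ℂ))
  have hcon : classInner (fun r : R => χ r) (fun _ : R => (1 : ℂ)) ≠ 0 := by
    rw [← htr]
    exact hAB
  exact Cfsg.Agent.Helper89.ROK1.ker_of_trivial_constituent hχ R
    (Cfsg.Agent.S4801.trivIrr R).2 (fun _ => rfl) hcon

end Cfsg.Agent.Helper74.PDK
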