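import Cfsg.Agent.Helper74.PDegKerA
import Cfsg.Agent.Helper75.OnePDivA
import Cfsg.Agent.Helper80.Induced
import Cfsg.Agent.Helper80.Pullback
import Cfsg.Agent.Helper81.CoprimeDeg1
import Cfsg.Agent.Helper81.PermChar
import Cfsg.Agent.S4444

/-!
# Kernels of characters of `p'`-degree, part B (helper74)

`cent_eq_bot_of_le_ker`: a normal `p'`-subgroup `M` lying in the kernel of every irreducible
character of degree prime to `p` satisfies `C_M(P) = 1` for a Sylow `p`-subgroup `P`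
(Glauberman correspondence + coprime extension + induction).
-/

set_option autoImplicit false

namespace Cfsg.Agent.Helper74.PDK

open Cfsg
open scoped ComplexConjugate

universe u

theorem cent_eq_bot_of_le_ker {G : Type u} [Group G] [Fintype G] (p : ℕ) [hp : Fact p.Prime]
    (P : Sylow p G) (M : Subgroup G) [hMn : M.Normal] (hM : (Nat.card M).Coprime p)
    (hker : ∀ χ : IrrCharacter G, ¬ p ∣ charDegree (χ : G → ℂ) →
      ∀ m ∈ M, (χ : G → ℂ) m = (χ : G → ℂ) 1) :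
    M ⊓ Subgroup.centralizer ((P : Subgroup G) : Set G) = ⊥ := by
  classical
  by_contra hne
  set C : Subgroup G := M ⊓ Subgroup.centralizer ((P : Subgroup G) : Set G) with hC
  let _ : Fintype M := Fintype.ofFinite _
  let _ : Fintype C := Fintype.ofFinite _
  have hCM : C ≤ M := inf_le_left
  obtain ⟨k, hk1⟩ := (Subgroup.ne_bot_iff_exists_ne_one).mp hne
  obtain ⟨β, hβ⟩ := Helper75.exists_irr_apply_ne (X := C) hk1
  obtain ⟨a, ha⟩ := IsPGroup.iff_card.mp P.2
  have hcop : (Nat.card M).Coprime (Nat.card (P : Subgroup G)) := by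
    rw [ha]; exact Nat.Coprime.pow_right _ hM
  have hnorm : ∀ s ∈ (P : Subgroup G), ∀ g ∈ M, s * g * s⁻¹ ∈ M :=
    fun s _ g hg => hMn.conj_mem g hg s
  obtain ⟨-, -, -, h4⟩ := Cfsg.Agent.S4444.result (Γ := G) M (P : Subgroup G) hnorm hcop p hp.out
    P.2 C rfl hCM
  obtain ⟨θ, hθinv, m, hm, hpm⟩ := h4 β
  -- `θ` is not constant
  have hθnc : ∃ m₀ : M, (θ : M → ℂ) m₀ ≠ (θ : M → ℂ) 1 := by
    by_contra hcon
    push Not at hcon
    have hθt : θ = Cfsg.Agent.S4801.trivIrr M := Cfsg.Agent.S4801.eq_trivIrr_of_const θ hcon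
    have h1 : (fun c : C => (θ : M → ℂ) ⟨c, hCM c.2⟩) =
        ((Cfsg.Agent.S4801.trivIrr C : IrrCharacter C) : C → ℂ) := by
      rw [hθt]; rfl
    rw [h1] at hm
    have hβne : Cfsg.Agent.S4801.trivIrr C ≠ β := by
      intro h
      apply hβ
      rw [← h]; rfl
    rw [Helper74.irr_orthonormal, if_neg hβne] at hm
    have hm0 : m = 0 := by exact_mod_cast hm.symm
    exact hpm (hm0 ▸ dvd_zero p)
  obtain ⟨m₀, hm₀⟩ := hθnc
  -- extend `θ` to `H = M P`
  set Hs : Subgroup G := M ⊔ (P : Subgroup G) with hHs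
  let _ : Fintype Hs := Fintype.ofFinite _
  have hMH : M ≤ Hs := le_sup_left
  have hPH : (P : Subgroup G) ≤ Hs := le_sup_right
  set MH : Subgroup Hs := M.subgroupOf Hs with hMHdef
  haveI hMHn : MH.Normal := Subgroup.normal_subgroupOf
  let _ : Fintype MH := Fintype.ofFinite _
  let e : MH ≃* M := Subgroup.subgroupOfEquivOfLe hMH
  set θH : IrrCharacter MH := (Helper80.irrCongr e).symm θ with hθH
  have hθHapp : ∀ x : MH, (θH : MH → ℂ) x = (θ : M → ℂ) (e x) := fun _ => rfl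
  have hcopH : (Nat.card MH).Coprime MH.index := by
    have h1 : Nat.card MH = Nat.card M := Nat.card_congr e.toEquiv
    have h2 : MH.index = M.relIndex Hs := rfl
    have h3 : M.relIndex Hs = M.relIndex (P : Subgroup G) := by
      rw [hHs]; exact Subgroup.relIndex_sup_left (P : Subgroup G) M
    have h4 : M.relIndex (P : Subgroup G) ∣ p ^ a := by
      rw [← ha]; exact Subgroup.relIndex_dvd_card _ _
    obtain ⟨j, -, hj⟩ := (Nat.dvd_prime_pow hp.out).mp h4
    rw [h1, h2, h3, hj]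
    exact Nat.Coprime.pow_right _ hM
  have hcf : IsClassFunction M (θ : M → ℂ) := Helper74.irr_isClassFunction θ
  have hinv : ∀ (x : Hs) (y : MH),
      (θH : MH → ℂ) ⟨x * y * x⁻¹, hMHn.conj_mem y y.2 x⟩ = (θH : MH → ℂ) y := by
    intro x y
    rw [hθHapp, hθHapp]
    obtain ⟨g, hg⟩ := x
    obtain ⟨b, hb, s, hs, hbs⟩ := Subgroup.mem_sup_of_normal_left.mp hg
    have hyM : ((y : Hs) : G) ∈ M := Subgroup.mem_subgroupOf.mp y.2
    -- the element `s y s⁻¹` of `M`
    have h1 : s * ((y : Hs) : G) * s⁻¹ ∈ M := hMn.conj_mem _ hyM s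
    have h2 := hθinv s hs ⟨((y : Hs) : G), hyM⟩ ⟨s * ((y : Hs) : G) * s⁻¹, h1⟩ rfl
    have h3 := hcf ⟨s * ((y : Hs) : G) * s⁻¹, h1⟩ ⟨b, hb⟩
    have h4 : e ⟨⟨g, hg⟩ * y * (⟨g, hg⟩ : Hs)⁻¹, hMHn.conj_mem y y.2 ⟨g, hg⟩⟩ =
        (⟨b, hb⟩ : M) * ⟨s * ((y : Hs) : G) * s⁻¹, h1⟩ * (⟨b, hb⟩ : M)⁻¹ := by
      apply Subtype.ext
      show g * ((y : Hs) : G) * g⁻¹ = b * (s * ((y : Hs) : G) * s⁻¹) * b⁻¹
      rw [← hbs]; group
    have h5 : e y = ⟨((y : Hs) : G), hyM⟩ := rfl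
    rw [h4, h3, h2, h5]
  obtain ⟨η, hη⟩ := Helper81.exists_extension_of_coprime MH hcopH θH hinv
  -- degrees
  have hη1 : (η : Hs → ℂ) 1 = (θ : M → ℂ) 1 := by
    have := hη 1
    rw [hθHapp, map_one] at this
    exact this
  have hdegη : charDegree (η : Hs → ℂ) = charDegree (θ : M → ℂ) := by
    have h1 := Helper74.charDegree_cast (Helper74.irr_isCharacter η)
    have h2 := Helper74.charDegree_cast (Helper74.irr_isCharacter θ)
    have : (charDegree (η : Hs → ℂ) : ℂ) = (charDegree (θ : M → ℂ) : ℂ) := by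
      rw [h1, h2, hη1]
    exact_mod_cast this
  have hndη : ¬ p ∣ charDegree (η : Hs → ℂ) := by
    rw [hdegη]
    intro hd
    have h1 : charDegree (θ : M → ℂ) ∣ Nat.card M := Helper74.charDegree_dvd_card θ
    have h2 := Nat.Coprime.eq_one_of_dvd hM.symm (dvd_trans hd h1)
    exact hp.out.one_lt.ne' h2
  have hΨ : IsCharacter G (indFun Hs (η : Hs → ℂ)) :=
    Helper15.isCharacter_indFun Hs (Helper74.irr_isCharacter η)
  have hndΨ : ¬ p ∣ charDegree (indFun Hs (η : Hs → ℂ)) := by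
    rw [Helper80.charDegree_indFun Hs (Helper74.irr_isCharacter η)]
    intro hd
    rcases (Nat.Prime.dvd_mul hp.out).mp hd with h | h
    · exact P.not_dvd_index (dvd_trans h (Subgroup.index_dvd_of_le hPH))
    · exact hndη h
  obtain ⟨χ, hχne, hχdeg⟩ := exists_constituent_not_dvd p hΨ hndΨ
  have hkerχ := hker χ hχdeg
  -- Frobenius reciprocity
  have hfr := Helper15.frobenius_reciprocity Hs (η : Hs → ℂ) (χ : G → ℂ)
    (Helper74.irr_isClassFunction χ)
  rw [hfr] at hχne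
  have hne' : classInner (fun h : Hs => (χ : G → ℂ) h) (η : Hs → ℂ) ≠ 0 := by
    rw [← Helper15.classInner_conj_symm]
    intro h0
    apply hχne
    have := congrArg (starRingEnd ℂ) h0
    rwa [Complex.conj_conj, map_zero] at this
  have hχH : IsCharacter Hs (fun h : Hs => (χ : G → ℂ) h) :=
    Helper74.isCharacter_restrict Hs (Helper74.irr_isCharacter χ)
  have hk : (fun h : Hs => (χ : G → ℂ) h) ⟨(m₀ : G), hMH m₀.2⟩ =
      (fun h : Hs => (χ : G → ℂ) h) 1 := hkerχ (m₀ : G) m₀.2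
  have h6 := Helper81.apply_eq_of_constituent hχH ⟨(m₀ : G), hMH m₀.2⟩ hk η hne'
  have h7 := hη ⟨⟨(m₀ : G), hMH m₀.2⟩, Subgroup.mem_subgroupOf.mpr m₀.2⟩
  rw [hθHapp] at h7
  have h8 : e ⟨⟨(m₀ : G), hMH m₀.2⟩, Subgroup.mem_subgroupOf.mpr m₀.2⟩ = m₀ := rfl
  rw [h8] at h7
  apply hm₀
  rw [← h7, ← hη1]
  exact h6

end Cfsg.Agent.Helper74.PDK
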