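import Cfsg.Agent.Helper74.ThompsonDeg
import Cfsg.Agent.Helper81.PermChar
import Cfsg.Agent.Helper79.PrincipalQuot
import Cfsg.Agent.S4736

/-!
# Kernels of `p'`-degree characters and the principal block of a `p`-solvable group (helper74)

* `mem_commutator_sylow_of_ker`: Thompson-type argument: an element `x` of a Sylow `p`-subgroup `P`
  lying in the kernel of every irreducible character of `p'`-degree lies in `P'`.
* `mem_principalBlock_of_ker`: Fong: in a `p`-solvable group an irreducible character with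
  `O_{p'}(G)` in its kernel lies in the principal block.
-/

set_option autoImplicit false

namespace Cfsg.Agent.Helper74.PQ

open Cfsg
open scoped ComplexConjugate

universe u

/-- **Thompson-type argument**: if `x ∈ P` (a Sylow `p`-subgroup) lies in the kernel of every
irreducible character of degree prime to `p`, then `x ∈ P'`. -/
theorem mem_commutator_sylow_of_ker {G : Type u} [Group G] [Fintype G] (p : ℕ)
    [hp : Fact p.Prime] (P : Sylow p G) (x : (P : Subgroup G))
    (hker : ∀ χ : IrrCharacter G, ¬ p ∣ charDegree (χ : G → ℂ) →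
      (χ : G → ℂ) (x : G) = (χ : G → ℂ) 1) :
    x ∈ commutator (P : Subgroup G) := by
  classical
  by_contra hxc
  obtain ⟨μ, hμ⟩ := Helper80.exists_hom_ne_one_of_not_mem_commutator x hxc
  let _ := irrFintype G
  let _ : Fintype (P : Subgroup G) := Fintype.ofFinite _
  have hm : ∀ χ : IrrCharacter G, ∃ m : ℕ,
      classInner (fun y : (P : Subgroup G) => (χ : G → ℂ) y) ((linIrr μ : IrrCharacter _) : _ → ℂ) = m :=
    fun χ => isCharacter_inner_irr_nat (isCharacter_restrict (P : Subgroup G) (irr_isCharacter χ))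
      (linIrr μ)
  choose m hm using hm
  have hP0 : (Nat.card (P : Subgroup G) : ℂ) ≠ 0 := by exact_mod_cast Nat.card_pos.ne'
  -- the key identity
  have hkey : (Nat.card G : ℂ) = (Nat.card (P : Subgroup G) : ℂ) *
      ∑ χ : IrrCharacter G, (χ : G → ℂ) 1 * (m χ : ℂ) := by
    have h1 : ∑ y : (P : Subgroup G), (∑ χ : IrrCharacter G, (χ : G → ℂ) 1 * (χ : G → ℂ) y) *
        conj ((linIrr μ : _ → ℂ) y) = (Nat.card G : ℂ) := by
      rw [Finset.sum_eq_single (1 : (P : Subgroup G))]
      · rw [Subgroup.coe_one, sum_irr_degree_mul_apply, if_pos rfl]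
        simp
      · intro y _ hy
        have : (y : G) ≠ 1 := fun h => hy (Subtype.ext h)
        rw [sum_irr_degree_mul_apply, if_neg this, zero_mul]
      · intro h; exact absurd (Finset.mem_univ _) h
    rw [← h1]
    simp only [Finset.sum_mul]
    rw [Finset.sum_comm, Finset.mul_sum]
    refine Finset.sum_congr rfl (fun χ _ => ?_)
    rw [← hm χ, classInner_def]
    simp only [mul_assoc]
    rw [← Finset.mul_sum, ← mul_assoc (Nat.card (P : Subgroup G) : ℂ), ← mul_assoc,
      mul_comm (Nat.card (P : Subgroup G) : ℂ), mul_assoc ((χ : G → ℂ) 1),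
      mul_inv_cancel₀ hP0, mul_one]
  have hd : ∀ χ : IrrCharacter G, (χ : G → ℂ) 1 = (charDegree (χ : G → ℂ) : ℂ) :=
    fun χ => (charDegree_cast (irr_isCharacter χ)).symm
  have hkeyN : Nat.card G = Nat.card (P : Subgroup G) *
      ∑ χ : IrrCharacter G, charDegree (χ : G → ℂ) * m χ := by
    have : (Nat.card G : ℂ) = ((Nat.card (P : Subgroup G) *
        ∑ χ : IrrCharacter G, charDegree (χ : G → ℂ) * m χ : ℕ) : ℂ) := by
      rw [hkey]; push_cast
      congr 1
      exact Finset.sum_congr rfl (fun χ _ => by rw [hd χ])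
    exact_mod_cast this
  have hterm : ∀ χ : IrrCharacter G, p ∣ charDegree (χ : G → ℂ) * m χ := by
    intro χ
    by_cases h1 : p ∣ charDegree (χ : G → ℂ)
    · exact Dvd.dvd.mul_right h1 _
    · have hm0 : m χ = 0 := by
        by_contra hne
        have hne' : classInner (fun y : (P : Subgroup G) => (χ : G → ℂ) y)
            ((linIrr μ : IrrCharacter _) : _ → ℂ) ≠ 0 := by
          rw [hm χ]; exact_mod_cast hne
        have hk : (fun y : (P : Subgroup G) => (χ : G → ℂ) y) x =
            (fun y : (P : Subgroup G) => (χ : G → ℂ) y) 1 := hker χ h1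
        have h2 := Helper81.apply_eq_of_constituent
          (isCharacter_restrict (P : Subgroup G) (irr_isCharacter χ)) x hk (linIrr μ) hne'
        rw [linIrr_apply, linIrr_apply, map_one, Units.val_one] at h2
        exact hμ (Units.ext h2)
      rw [hm0, mul_zero]; exact dvd_zero p
  have hdvd : p ∣ ∑ χ : IrrCharacter G, charDegree (χ : G → ℂ) * m χ :=
    Finset.dvd_sum (fun χ _ => hterm χ)
  have hidx : (P : Subgroup G).index = ∑ χ : IrrCharacter G, charDegree (χ : G → ℂ) * m χ := by
    have h1 := Subgroup.index_mul_card (P : Subgroup G)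
    rw [hkeyN, mul_comm] at h1
    exact Nat.eq_of_mul_eq_mul_left Nat.card_pos h1
  exact P.not_dvd_index (hidx ▸ hdvd)

/-- **Fong**: in a `p`-solvable group, an irreducible character having `O_{p'}(G)` in its kernel
lies in the principal `p`-block. -/
theorem mem_principalBlock_of_ker {G : Type*} [Group G] [Finite G] {p : ℕ} [Fact p.Prime]
    {M : Ideal AlgInt} (hM : IsPModular p M) (hsolv : IsPSolvable p G) (χ : IrrCharacter G)
    (hker : ∀ a ∈ pPrimeCore p G, (χ : G → ℂ) a = (χ : G → ℂ) 1) :
    χ ∈ principalBlock M G := by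
  classical
  set K := Cfsg.pPrimeCore p G with hKdef
  have hK : (Nat.card K).Coprime p := Cfsg.Agent.Lib.card_pPrimeCore_coprime p
  have := Fintype.ofFinite (G ⧸ K)
  have hsolvQ : IsPSolvable p (G ⧸ K) := Cfsg.Agent.Helper11.isPSolvable_quotient K hsolv
  have hOQ : pPrimeCore p (G ⧸ K) = ⊥ := Cfsg.Agent.Helper22.pPrimeCore_quotient_eq_bot p
  have hHH := Cfsg.Agent.Helper11.centralizer_pCore_le_of_isPSolvable hsolvQ hOQ
  have huniv : principalBlock M (G ⧸ K) = Set.univ :=
    Cfsg.Agent.S4736.block_eq_univ hM hHH ⟨Helper79.principalIrr (G ⧸ K), rfl⟩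
  set ψ := (Helper80.irrQuotientEquiv K).symm ⟨χ, hker⟩ with hψ
  have hψmem : ψ ∈ principalBlock M (G ⧸ K) := by rw [huniv]; trivial
  have h1 := (Helper79.mem_principalBlock_quotient_iff hM K hK ψ).1 hψmem
  rw [hψ, Equiv.apply_symm_apply] at h1
  exact h1

end Cfsg.Agent.Helper74.PQ
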