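import Cfsg.Agent.Helper74.PDegKerB
import Cfsg.Agent.Helper74.PQKernel
import Cfsg.Agent.Helper80.CharLevel
import Cfsg.Agent.Helper2.Basic
import Cfsg.Agent.Lib.Nilpotent
import Cfsg.Agent.S0081

/-!
# Kernels of characters of `p'`-degree, part C (helper74)

`pdegKernel_eq`: the intersection of the kernels of the irreducible characters of degree prime to
`p` is the normal core of `N P'`, where `P` is a Sylow `p`-subgroup and `N` is the largest normal
subgroup of `G` with `N ∩ C_G(P) = 1`.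
-/

set_option autoImplicit false

namespace Cfsg.Agent.Helper74.PDK

open Cfsg
open scoped ComplexConjugate
open scoped Pointwise

universe u

/-- A normal subgroup meeting `C_G(P)` trivially has order prime to `p`. -/
theorem coprime_card_of_inf_centralizer_eq_bot {G : Type u} [Group G] [Finite G] (p : ℕ)
    [hp : Fact p.Prime] (P : Sylow p G) (N : Subgroup G) [hNn : N.Normal]
    (hN : N ⊓ Subgroup.centralizer ((P : Subgroup G) : Set G) = ⊥) :
    (Nat.card N).Coprime p := by
  classical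
  -- `N ∩ P = 1`
  have hNP : N ⊓ (P : Subgroup G) = ⊥ := by
    by_contra hne
    haveI : Group.IsNilpotent (P : Subgroup G) := P.2.isNilpotent
    set Hn : Subgroup (P : Subgroup G) := N.subgroupOf (P : Subgroup G) with hHn
    haveI : Hn.Normal := Subgroup.normal_subgroupOf
    have hHne : Hn ≠ ⊥ := by
      intro h
      apply hne
      rw [eq_bot_iff]
      intro x hx
      have : (⟨x, hx.2⟩ : (P : Subgroup G)) ∈ Hn := Subgroup.mem_subgroupOf.mpr hx.1
      rw [h, Subgroup.mem_bot] at this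
      rw [Subgroup.mem_bot]
      exact congrArg Subtype.val this
    have h1 := Cfsg.Agent.Lib.normal_inf_center_ne_bot Hn hHne
    obtain ⟨z, hz1⟩ := (Subgroup.ne_bot_iff_exists_ne_one).mp h1
    have hzH : (z : (P : Subgroup G)) ∈ Hn := z.2.1
    have hzZ : (z : (P : Subgroup G)) ∈ Subgroup.center (P : Subgroup G) := z.2.2
    have hzN : (((z : (P : Subgroup G)) : G)) ∈ N := Subgroup.mem_subgroupOf.mp hzH
    have hzC : (((z : (P : Subgroup G)) : G)) ∈
        Subgroup.centralizer ((P : Subgroup G) : Set G) := by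
      rw [Subgroup.mem_centralizer_iff]
      intro x hx
      have := (Subgroup.mem_center_iff.mp hzZ) ⟨x, hx⟩
      exact congrArg Subtype.val this
    have : (((z : (P : Subgroup G)) : G)) ∈ N ⊓ Subgroup.centralizer ((P : Subgroup G) : Set G) :=
      ⟨hzN, hzC⟩
    rw [hN, Subgroup.mem_bot] at this
    apply hz1
    apply Subtype.ext
    apply Subtype.ext
    exact this
  -- `|N| ∣ [G : P]`
  have h1 : N.relIndex (N ⊔ (P : Subgroup G)) = N.relIndex (P : Subgroup G) :=
    Subgroup.relIndex_sup_left (P : Subgroup G) N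
  have h2 : N.relIndex (P : Subgroup G) = Nat.card (P : Subgroup G) := by
    rw [← Subgroup.inf_relIndex_right, hNP, Subgroup.relIndex_bot_left]
  have h3 : Nat.card N * Nat.card (P : Subgroup G) = Nat.card (N ⊔ (P : Subgroup G) : Subgroup G) := by
    have := Cfsg.Agent.Helper11.card_mul_relIndex (le_sup_left : N ≤ N ⊔ (P : Subgroup G))
    rw [h1, h2] at this
    exact this
  have h4 : Nat.card (N ⊔ (P : Subgroup G) : Subgroup G) ∣ Nat.card G := Subgroup.card_subgroup_dvd_card _
  have h5 : Nat.card G = Nat.card (P : Subgroup G) * (P : Subgroup G).index :=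
    ((P : Subgroup G).card_mul_index).symm
  rw [← h3, h5, mul_comm (Nat.card N)] at h4
  have h6 : Nat.card N ∣ (P : Subgroup G).index :=
    Nat.dvd_of_mul_dvd_mul_left Nat.card_pos h4
  have h7 : ¬ p ∣ Nat.card N := fun hd => P.not_dvd_index (dvd_trans hd h6)
  exact ((Nat.Prime.coprime_iff_not_dvd hp.out).mpr h7).symm

/-- The image in the ambient group of a normal `p`-complement of a normal subgroup is normal, of
order prime to `p`. -/
theorem map_normal_of_isComplement' {H : Type u} [Group H] [Finite H] {p : ℕ}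
    [hp : Fact p.Prime] (L : Subgroup H) [hL : L.Normal] (Q : Sylow p L) (N : Subgroup L)
    (hNn : N.Normal) (hc : N.IsComplement' (Q : Subgroup L)) :
    (N.map L.subtype).Normal ∧ (Nat.card (N.map L.subtype)).Coprime p := by
  classical
  have hcardN : Nat.card N = (Q : Subgroup L).index := (hc.index_eq_card).symm
  have hcopN : (Nat.card N).Coprime p := by
    rw [hcardN]
    exact ((Nat.Prime.coprime_iff_not_dvd hp.out).mpr Q.not_dvd_index).symm
  have hcardN' : Nat.card (N.map L.subtype) = Nat.card N :=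
    Subgroup.card_map_of_injective L.subtype_injective
  refine ⟨⟨fun x hx g => ?_⟩, by rw [hcardN']; exact hcopN⟩
  obtain ⟨y, hy, rfl⟩ := hx
  have hzL : g * (y : H) * g⁻¹ ∈ L := hL.conj_mem _ y.2 g
  refine ⟨⟨g * (y : H) * g⁻¹, hzL⟩, ?_, rfl⟩
  set z : L := ⟨g * (y : H) * g⁻¹, hzL⟩ with hz
  have h1 : z ^ N.index ∈ N := Subgroup.pow_index_mem N z
  have hord : orderOf z = orderOf y := by
    rw [← Subgroup.orderOf_coe z, ← Subgroup.orderOf_coe y]
    show orderOf (g * (y : H) * g⁻¹) = orderOf (y : H)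
    have hconj : g * (y : H) * g⁻¹ = MulAut.conj g (y : H) := by simp [MulAut.conj_apply]
    rw [hconj]
    exact MulEquiv.orderOf_eq (MulAut.conj g) (y : H)
  have h3 : orderOf y ∣ Nat.card N := by
    have := orderOf_dvd_natCard (⟨y, hy⟩ : ↥N)
    rwa [← Subgroup.orderOf_coe] at this
  have hidx : N.index = Nat.card (Q : Subgroup L) := hc.symm.index_eq_card
  have hcop : (N.index).Coprime (orderOf z) := by
    rw [hord, hidx]
    obtain ⟨k, hk⟩ := IsPGroup.iff_card.mp Q.2
    rw [hk]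
    exact Nat.Coprime.pow_left _ (Nat.Coprime.coprime_dvd_left h3 hcopN).symm
  obtain ⟨m, hm⟩ := exists_pow_eq_self_of_coprime hcop
  rw [← hm]
  exact N.pow_mem h1 m

/-- **Kernel of the characters of `p'`-degree.** -/
theorem pdegKernel_eq {G : Type u} [Group G] [Finite G] (p : ℕ) [hp : Fact p.Prime]
    (P : Sylow p G) (N : Subgroup G) [hNn : N.Normal]
    (hN : N ⊓ Subgroup.centralizer ((P : Subgroup G) : Set G) = ⊥)
    (hmax : ∀ L : Subgroup G, L.Normal →
      L ⊓ Subgroup.centralizer ((P : Subgroup G) : Set G) = ⊥ → L ≤ N) :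
    {g : G | ∀ χ : Cfsg.IrrCharacter G, ¬ p ∣ Cfsg.charDegree (χ : G → ℂ) →
        (χ : G → ℂ) g = (χ : G → ℂ) 1} =
      ((N ⊔ ⁅(P : Subgroup G), (P : Subgroup G)⁆).normalCore : Set G) := by
  classical
  let _ : Fintype G := Fintype.ofFinite G
  have hNcop : (Nat.card N).Coprime p := coprime_card_of_inf_centralizer_eq_bot p P N hN
  -- (I) `N` lies in every kernel
  have hNker : ∀ χ : IrrCharacter G, ¬ p ∣ charDegree (χ : G → ℂ) →
      ∀ n ∈ N, (χ : G → ℂ) n = (χ : G → ℂ) 1 := by
    intro χ hdeg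
    refine pdeg_ker p P χ.2 hdeg N hNcop ?_
    intro k hk hc
    have hkC : k ∈ Subgroup.centralizer ((P : Subgroup G) : Set G) := by
      rw [Subgroup.mem_centralizer_iff]
      intro x hx
      have h1 := hc x hx
      have h2 : x * k * x⁻¹ = k := mul_inv_eq_one.mp h1
      calc x * k = (x * k * x⁻¹) * x := by group
        _ = k * x := by rw [h2]
    have : k ∈ N ⊓ Subgroup.centralizer ((P : Subgroup G) : Set G) := ⟨hk, hkC⟩
    rw [hN, Subgroup.mem_bot] at this
    exact this
  -- the kernel as a subgroup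
  set K : Subgroup G := ⨅ χ : {χ : IrrCharacter G // ¬ p ∣ charDegree (χ : G → ℂ)},
    Helper80.kerChar (χ.1 : G → ℂ) (Helper74.irr_isCharacter χ.1) with hK
  have hmemK : ∀ g : G, g ∈ K ↔ ∀ χ : IrrCharacter G, ¬ p ∣ charDegree (χ : G → ℂ) →
      (χ : G → ℂ) g = (χ : G → ℂ) 1 := by
    intro g
    rw [hK, Subgroup.mem_iInf]
    constructor
    · intro h χ hχ
      exact (Helper80.mem_kerChar _ g).mp (h ⟨χ, hχ⟩)
    · intro h χ
      exact (Helper80.mem_kerChar _ g).mpr (h χ.1 χ.2)
  haveI hKn : K.Normal := Subgroup.normal_iInf_normal (fun χ => inferInstance)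
  ext g
  rw [Set.mem_setOf_eq, SetLike.mem_coe, ← hmemK g]
  constructor
  · -- (III) `K ≤ core (N P')`
    intro hgK
    suffices hle : K ≤ (N ⊔ ⁅(P : Subgroup G), (P : Subgroup G)⁆).normalCore from hle hgK
    rw [Subgroup.normal_le_normalCore]
    -- `K ∩ P ≤ P'`
    have hKP : ∀ x : (P : Subgroup G), (x : G) ∈ K → x ∈ commutator (P : Subgroup G) := by
      intro x hx
      exact Cfsg.Agent.Helper74.PQ.mem_commutator_sylow_of_ker p P x ((hmemK _).mp hx)
    have hKP' : K ⊓ (P : Subgroup G) ≤ ⁅(P : Subgroup G), (P : Subgroup G)⁆ := by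
      intro x hx
      rw [← Subgroup.map_subtype_commutator]
      exact ⟨⟨x, hx.2⟩, hKP ⟨x, hx.2⟩ hx.1, rfl⟩
    haveI : Group.IsNilpotent (P : Subgroup G) := P.2.isNilpotent
    have hcf : commutator (P : Subgroup G) ≤ frattini (P : Subgroup G) :=
      Cfsg.Agent.Helper2.commutator_le_frattini
    have hinf : K ⊓ (P : Subgroup G) ≤
        (frattini (P : Subgroup G)).map (P : Subgroup G).subtype := by
      intro x hx
      exact ⟨⟨x, hx.2⟩, hcf (hKP ⟨x, hx.2⟩ hx.1), rfl⟩
    obtain ⟨Q, M₀, hM₀n, hc⟩ := Cfsg.Agent.S0081.result P K hinf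
    obtain ⟨hMn, hMcop⟩ := map_normal_of_isComplement' K Q M₀ hM₀n hc
    set M : Subgroup G := M₀.map K.subtype with hM
    have hMK : M ≤ K := by
      rw [hM]; exact Subgroup.map_subtype_le _
    have hMker : ∀ χ : IrrCharacter G, ¬ p ∣ charDegree (χ : G → ℂ) →
        ∀ m ∈ M, (χ : G → ℂ) m = (χ : G → ℂ) 1 :=
      fun χ hχ m hm => (hmemK m).mp (hMK hm) χ hχ
    have hMC := cent_eq_bot_of_le_ker p P M hMcop hMker
    have hMN : M ≤ N := hmax M hMn hMC
    -- `K ≤ M (K ∩ P)` by Sylow's theorem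
    have hQp : IsPGroup p ((Q : Subgroup K).map K.subtype) := Q.2.map K.subtype
    obtain ⟨P₂, hQP₂⟩ := hQp.exists_le_sylow
    obtain ⟨t, ht⟩ := MulAction.exists_smul_eq G P₂ P
    have hconjP : ∀ x ∈ (P₂ : Subgroup G), t * x * t⁻¹ ∈ (P : Subgroup G) := by
      intro x hx
      have h1 : MulAut.conj t • x ∈ MulAut.conj t • (P₂ : Subgroup G) :=
        Subgroup.smul_mem_pointwise_smul x (MulAut.conj t) (P₂ : Subgroup G) hx
      have h2 : ((t • P₂ : Sylow p G) : Subgroup G) = MulAut.conj t • (P₂ : Subgroup G) := rfl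
      rw [← h2, ht] at h1
      simpa [MulAut.smul_def] using h1
    have hKle : K ≤ M ⊔ (K ⊓ (P : Subgroup G)) := by
      intro k hk
      have hk' : t⁻¹ * k * t⁻¹⁻¹ ∈ K := hKn.conj_mem k hk t⁻¹
      obtain ⟨⟨⟨m, hm⟩, ⟨q, hq⟩⟩, hmq, -⟩ := hc.existsUnique ⟨t⁻¹ * k * t⁻¹⁻¹, hk'⟩
      have hmq' : (m : G) * (q : G) = t⁻¹ * k * t⁻¹⁻¹ := congrArg Subtype.val hmq
      have hkeq : k = (t * (m : G) * t⁻¹) * (t * (q : G) * t⁻¹) := by
        have : k = t * ((m : G) * (q : G)) * t⁻¹ := by rw [hmq']; group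
        rw [this]; group
      rw [hkeq]
      apply Subgroup.mul_mem_sup
      · exact hMn.conj_mem _ ⟨m, hm, rfl⟩ t
      · refine ⟨hKn.conj_mem _ q.2 t, hconjP _ (hQP₂ ⟨q, hq, rfl⟩)⟩
    exact le_trans hKle (sup_le_sup hMN hKP')
  · -- (II) `core (N P') ≤ K`
    intro hg
    rw [hmemK]
    intro χ hdeg
    set R : Subgroup G := (N ⊔ ⁅(P : Subgroup G), (P : Subgroup G)⁆).normalCore with hR
    let _ : Fintype (G ⧸ N) := Fintype.ofFinite _
    set π := QuotientGroup.mk' N with hπ
    have hπs : Function.Surjective π := QuotientGroup.mk'_surjective N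
    set χb : IrrCharacter (G ⧸ N) := (Helper80.irrQuotientEquiv N).symm ⟨χ, hNker χ hdeg⟩ with hχb
    have hχbapp : ∀ x : G, (χb : G ⧸ N → ℂ) (π x) = (χ : G → ℂ) x := fun x =>
      Helper80.irrQuotientEquiv_symm_apply N ⟨χ, hNker χ hdeg⟩ x
    have hdegb : charDegree (χb : G ⧸ N → ℂ) = charDegree (χ : G → ℂ) := by
      have h1 := Helper74.charDegree_cast (Helper74.irr_isCharacter χb)
      have h2 := Helper74.charDegree_cast (Helper74.irr_isCharacter χ)
      have h3 : (χb : G ⧸ N → ℂ) 1 = (χ : G → ℂ) 1 := by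
        have := hχbapp 1
        rwa [map_one] at this
      have : (charDegree (χb : G ⧸ N → ℂ) : ℂ) = (charDegree (χ : G → ℂ) : ℂ) := by
        rw [h1, h2, h3]
      exact_mod_cast this
    set Pb : Sylow p (G ⧸ N) := P.mapSurjective hπs with hPb
    set Rb : Subgroup (G ⧸ N) := R.map π with hRb
    haveI hRn : R.Normal := Subgroup.normalCore_normal _
    haveI hRbn : Rb.Normal := Subgroup.Normal.map hRn π hπs
    have hRble : Rb ≤ ⁅(Pb : Subgroup (G ⧸ N)), (Pb : Subgroup (G ⧸ N))⁆ := by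
      have h1 : R ≤ N ⊔ ⁅(P : Subgroup G), (P : Subgroup G)⁆ := Subgroup.normalCore_le _
      have h2 : Rb ≤ (N ⊔ ⁅(P : Subgroup G), (P : Subgroup G)⁆).map π := Subgroup.map_mono h1
      have h3 : (N ⊔ ⁅(P : Subgroup G), (P : Subgroup G)⁆).map π =
          ⁅(Pb : Subgroup (G ⧸ N)), (Pb : Subgroup (G ⧸ N))⁆ := by
        rw [Subgroup.map_sup, hπ, QuotientGroup.map_mk'_self, bot_sup_eq, Subgroup.map_commutator]
        rfl
      rw [h3] at h2
      exact h2
    have h4 := ker_of_normal_le_commutator p Pb χb.2 (by rw [hdegb]; exact hdeg) Rb hRble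
      (π g) (Subgroup.mem_map_of_mem π hg)
    rw [hχbapp] at h4
    rw [h4]
    have := hχbapp 1
    rwa [map_one] at this

end Cfsg.Agent.Helper74.PDK
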