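import Mathlib

/-!
# Index arithmetic in finite `p`-groups (helper74)

* `lgI p X`: the exponent of the index of `X`; monotonicity, modular law for normal subgroups;
* `exists_common_le`: a lattice lemma on families of normal subgroups of index `p²` whose pairwise
  intersections have index at most `p³`;
* `exists_abelian_of_lgI_center_le`: a nonabelian `p`-group with `|G : Z(G)| ∣ p²` has an abelian
  normal subgroup of index `p`.
-/

set_option autoImplicit false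

namespace Cfsg.Agent.Helper74

section
variable {G : Type*} [Group G] [Finite G] {p : ℕ} [hp : Fact p.Prime]

/-- The exponent of the index of a subgroup of a `p`-group. -/
noncomputable def lgI (p : ℕ) (X : Subgroup G) : ℕ := Nat.log p X.index

theorem index_eq_pow_lgI (hG : IsPGroup p G) (X : Subgroup G) : X.index = p ^ lgI p X := by
  obtain ⟨n, hn⟩ := hG.index X
  rw [lgI, hn, Nat.log_pow hp.out.one_lt]

theorem lgI_eq_of_index_eq {X : Subgroup G} {k : ℕ} (h : X.index = p ^ k) : lgI p X = k := by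
  rw [lgI, h, Nat.log_pow hp.out.one_lt]

theorem lgI_le_of_le (hG : IsPGroup p G) {X Y : Subgroup G} (h : X ≤ Y) :
    lgI p Y ≤ lgI p X := by
  have hd := Subgroup.index_dvd_of_le h
  rw [index_eq_pow_lgI hG X, index_eq_pow_lgI hG Y] at hd
  exact (Nat.pow_dvd_pow_iff_le_right hp.out.one_lt).mp hd

theorem eq_of_le_of_lgI_le (hG : IsPGroup p G) {X Y : Subgroup G} (h : X ≤ Y)
    (he : lgI p X ≤ lgI p Y) : X = Y := by
  have heq : lgI p X = lgI p Y := le_antisymm he (lgI_le_of_le hG h)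
  have hm := Subgroup.relIndex_mul_index h
  rw [index_eq_pow_lgI hG X, index_eq_pow_lgI hG Y, heq] at hm
  have hpos : 0 < p ^ lgI p Y := pow_pos hp.out.pos _
  have h1 : X.relIndex Y = 1 := by
    have : X.relIndex Y * p ^ lgI p Y = 1 * p ^ lgI p Y := by rw [hm, one_mul]
    exact Nat.eq_of_mul_eq_mul_right hpos this
  exact le_antisymm h (Subgroup.relIndex_eq_one.mp h1)

theorem index_sup_mul_index_inf (X Y : Subgroup G) [Y.Normal] :
    (X ⊔ Y).index * (X ⊓ Y).index = X.index * Y.index := by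
  have h1 := Subgroup.relIndex_mul_index (le_sup_right : Y ≤ X ⊔ Y)
  have h2 := Subgroup.relIndex_mul_index (inf_le_left : X ⊓ Y ≤ X)
  rw [Subgroup.relIndex_sup_right] at h1
  rw [Subgroup.inf_relIndex_left] at h2
  rw [← h1, ← h2]
  ring

theorem lgI_sup_add_lgI_inf (hG : IsPGroup p G) (X Y : Subgroup G) [Y.Normal] :
    lgI p (X ⊔ Y) + lgI p (X ⊓ Y) = lgI p X + lgI p Y := by
  have h := index_sup_mul_index_inf X Y
  rw [index_eq_pow_lgI hG X, index_eq_pow_lgI hG Y, index_eq_pow_lgI hG (X ⊔ Y),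
    index_eq_pow_lgI hG (X ⊓ Y), ← pow_add, ← pow_add] at h
  exact Nat.pow_right_injective hp.out.two_le h

theorem lgI_le_of_card_le (hG : IsPGroup p G) (X : Subgroup G) {k : ℕ}
    (h : Nat.card G ≤ p ^ k * Nat.card X) : lgI p X ≤ k := by
  have hc := X.card_mul_index
  rw [index_eq_pow_lgI hG X] at hc
  rw [← hc, mul_comm] at h
  have hpos : 0 < Nat.card X := Nat.card_pos
  have := Nat.le_of_mul_le_mul_right h hpos
  exact (Nat.pow_le_pow_iff_right hp.out.one_lt).mp this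

theorem le_lgI_of_card_le (hG : IsPGroup p G) (X : Subgroup G) {k : ℕ}
    (h : p ^ k * Nat.card X ≤ Nat.card G) : k ≤ lgI p X := by
  have hc := X.card_mul_index
  rw [index_eq_pow_lgI hG X] at hc
  rw [← hc, mul_comm (Nat.card X)] at h
  have hpos : 0 < Nat.card X := Nat.card_pos
  have := Nat.le_of_mul_le_mul_right h hpos
  exact (Nat.pow_le_pow_iff_right hp.out.one_lt).mp this

theorem card_eq_pow_lgI_mul (hG : IsPGroup p G) (X : Subgroup G) :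
    Nat.card G = p ^ lgI p X * Nat.card X := by
  rw [← index_eq_pow_lgI hG X, mul_comm, X.card_mul_index]

/-- Lattice lemma: a family of normal subgroups of index `p²`, pairwise intersecting in index at
most `p³`, not all contained in any single normal subgroup of index `p`, has a common subgroup of
index at most `p³`. -/
theorem exists_common_le (hG : IsPGroup p G) {ι : Type*} [hι : Nonempty ι] (D : ι → Subgroup G)
    (hDn : ∀ i, (D i).Normal) (hD2 : ∀ i, lgI p (D i) = 2)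
    (h1 : ∀ i j, lgI p (D i ⊓ D j) ≤ 3)
    (h2 : ∀ M : Subgroup G, M.Normal → lgI p M = 1 → ∃ i, ¬ D i ≤ M) :
    ∃ E : Subgroup G, lgI p E ≤ 3 ∧ ∀ i, E ≤ D i := by
  classical
  by_cases hall : ∀ i j, D i = D j
  · obtain ⟨i₀⟩ := hι
    exact ⟨D i₀, by rw [hD2]; norm_num, fun i => (hall i₀ i).le⟩
  push_neg at hall
  obtain ⟨i₁, i₂, h12⟩ := hall
  have hA : ∀ i j, D i ≠ D j → lgI p (D i ⊓ D j) = 3 := by
    intro i j hij
    have hle := h1 i j
    have hge : 2 ≤ lgI p (D i ⊓ D j) := by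
      have := lgI_le_of_le hG (inf_le_left : D i ⊓ D j ≤ D i)
      rw [hD2] at this; exact this
    by_contra hne
    have h2' : lgI p (D i ⊓ D j) = 2 := by omega
    have e1 : D i ⊓ D j = D i := eq_of_le_of_lgI_le hG inf_le_left (by rw [h2', hD2])
    have e2 : D i ⊓ D j = D j := eq_of_le_of_lgI_le hG inf_le_right (by rw [h2', hD2])
    exact hij (e1.symm.trans e2)
  have hB : ∀ i j, D i ≠ D j → lgI p (D i ⊔ D j) = 1 := by
    intro i j hij
    haveI := hDn j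
    have := lgI_sup_add_lgI_inf hG (D i) (D j)
    rw [hA i j hij, hD2, hD2] at this
    omega
  have hEn : (D i₁ ⊓ D i₂).Normal := by
    haveI := hDn i₁; haveI := hDn i₂; exact Subgroup.normal_inf_normal _ _
  have hMn : (D i₁ ⊔ D i₂).Normal := by
    haveI := hDn i₁; haveI := hDn i₂; exact Subgroup.sup_normal _ _
  have hE3 : lgI p (D i₁ ⊓ D i₂) = 3 := hA i₁ i₂ h12
  have hM1 : lgI p (D i₁ ⊔ D i₂) = 1 := hB i₁ i₂ h12
  obtain ⟨i₃, h3⟩ := h2 _ hMn hM1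
  have h31 : D i₃ ≠ D i₁ := fun h => h3 (h ▸ le_sup_left)
  have h32 : D i₃ ≠ D i₂ := fun h => h3 (h ▸ le_sup_right)
  have hF3 : lgI p (D i₃ ⊓ (D i₁ ⊔ D i₂)) = 3 := by
    have hle : lgI p (D i₃ ⊓ (D i₁ ⊔ D i₂)) ≤ lgI p (D i₃ ⊓ D i₁) :=
      lgI_le_of_le hG (inf_le_inf_left _ le_sup_left)
    rw [hA i₃ i₁ h31] at hle
    have hge : 2 ≤ lgI p (D i₃ ⊓ (D i₁ ⊔ D i₂)) := by
      have := lgI_le_of_le hG (inf_le_left : D i₃ ⊓ (D i₁ ⊔ D i₂) ≤ D i₃)
      rw [hD2] at this; exact this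
    by_contra hne
    have h2' : lgI p (D i₃ ⊓ (D i₁ ⊔ D i₂)) = 2 := by omega
    have e1 : D i₃ ⊓ (D i₁ ⊔ D i₂) = D i₃ :=
      eq_of_le_of_lgI_le hG inf_le_left (by rw [h2', hD2])
    exact h3 (e1 ▸ inf_le_right)
  have e31 : D i₃ ⊓ D i₁ = D i₃ ⊓ (D i₁ ⊔ D i₂) :=
    eq_of_le_of_lgI_le hG (inf_le_inf_left _ le_sup_left) (by rw [hA i₃ i₁ h31, hF3])
  have e32 : D i₃ ⊓ D i₂ = D i₃ ⊓ (D i₁ ⊔ D i₂) :=
    eq_of_le_of_lgI_le hG (inf_le_inf_left _ le_sup_right) (by rw [hA i₃ i₂ h32, hF3])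
  have hFE : D i₃ ⊓ (D i₁ ⊔ D i₂) = D i₁ ⊓ D i₂ := by
    apply eq_of_le_of_lgI_le hG
    · apply le_inf
      · rw [← e31]; exact inf_le_right
      · rw [← e32]; exact inf_le_right
    · rw [hF3, hE3]
  have hE3' : D i₁ ⊓ D i₂ ≤ D i₃ := hFE ▸ inf_le_left
  have hE1 : D i₁ ⊓ D i₂ ≤ D i₁ := inf_le_left
  have hE2 : D i₁ ⊓ D i₂ ≤ D i₂ := inf_le_right
  refine ⟨D i₁ ⊓ D i₂, by rw [hE3], ?_⟩
  intro i₄
  by_contra hE4
  have key : ∀ j, D i₁ ⊓ D i₂ ≤ D j →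
      D j ≤ (D i₁ ⊓ D i₂) ⊔ D i₄ ∧ lgI p ((D i₁ ⊓ D i₂) ⊓ D i₄) = 4 := by
    intro j hEj
    have hj4 : D j ≠ D i₄ := fun h => hE4 (h ▸ hEj)
    have hK3 : lgI p (D j ⊓ D i₄) = 3 := hA j i₄ hj4
    haveI hKn : (D j ⊓ D i₄).Normal := by
      haveI := hDn j; haveI := hDn i₄; exact Subgroup.normal_inf_normal _ _
    have hKE : ¬ (D j ⊓ D i₄) ≤ D i₁ ⊓ D i₂ := by
      intro hle
      have : D j ⊓ D i₄ = D i₁ ⊓ D i₂ := eq_of_le_of_lgI_le hG hle (by rw [hK3, hE3])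
      exact hE4 (this ▸ inf_le_right)
    have hsum := lgI_sup_add_lgI_inf hG (D i₁ ⊓ D i₂) (D j ⊓ D i₄)
    rw [hE3, hK3] at hsum
    have hEK_le : (D i₁ ⊓ D i₂) ⊔ (D j ⊓ D i₄) ≤ D j := sup_le hEj inf_le_left
    have hge : 2 ≤ lgI p ((D i₁ ⊓ D i₂) ⊔ (D j ⊓ D i₄)) := by
      have := lgI_le_of_le hG hEK_le
      rw [hD2] at this; exact this
    have hle3 : lgI p ((D i₁ ⊓ D i₂) ⊔ (D j ⊓ D i₄)) ≤ 3 := by
      have := lgI_le_of_le hG (le_sup_left : D i₁ ⊓ D i₂ ≤ (D i₁ ⊓ D i₂) ⊔ (D j ⊓ D i₄))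
      rw [hE3] at this; exact this
    have hne3 : lgI p ((D i₁ ⊓ D i₂) ⊔ (D j ⊓ D i₄)) ≠ 3 := by
      intro h3'
      have : D i₁ ⊓ D i₂ = (D i₁ ⊓ D i₂) ⊔ (D j ⊓ D i₄) :=
        eq_of_le_of_lgI_le hG le_sup_left (by rw [hE3, h3'])
      exact hKE (this ▸ le_sup_right)
    have h2' : lgI p ((D i₁ ⊓ D i₂) ⊔ (D j ⊓ D i₄)) = 2 := by omega
    have eDj : (D i₁ ⊓ D i₂) ⊔ (D j ⊓ D i₄) = D j :=
      eq_of_le_of_lgI_le hG hEK_le (by rw [h2', hD2])
    have hinf : (D i₁ ⊓ D i₂) ⊓ (D j ⊓ D i₄) = (D i₁ ⊓ D i₂) ⊓ D i₄ := by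
      rw [← inf_assoc, inf_eq_left.mpr hEj]
    constructor
    · rw [← eDj]; exact sup_le le_sup_left (le_trans inf_le_right le_sup_right)
    · rw [← hinf]; omega
  obtain ⟨k1, h4⟩ := key i₁ hE1
  obtain ⟨k2, -⟩ := key i₂ hE2
  obtain ⟨k3, -⟩ := key i₃ hE3'
  haveI := hDn i₄
  have hsum := lgI_sup_add_lgI_inf hG (D i₁ ⊓ D i₂) (D i₄)
  rw [hE3, hD2, h4] at hsum
  have hH1 : lgI p ((D i₁ ⊓ D i₂) ⊔ D i₄) = 1 := by omega
  have hMH : D i₁ ⊔ D i₂ = (D i₁ ⊓ D i₂) ⊔ D i₄ :=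
    eq_of_le_of_lgI_le hG (sup_le k1 k2) (by rw [hM1, hH1])
  exact h3 (hMH ▸ k3)

end

end Cfsg.Agent.Helper74
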