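import Mathlib
import Cfsg.Prelude.Def_Local
import Cfsg.Agent.Lib.Cores
import Cfsg.Agent.Helper11.PSolvable
import Cfsg.Agent.Helper22.PComponent
import Cfsg.Agent.Helper24.PLenMax
import Cfsg.Agent.Helper2.Basic
import Cfsg.Agent.S0081

/-!
# A group-theoretic contradiction for two primes (helper74)

`false_of_kernels`: let `G` be `p`- and `q`-solvable, `p ≠ q`, `p ∣ |G|`, `A = O_{p'}(G)`,
`B = O_{q'}(G)`.  If the image of `B` in `G/A` meets a Sylow `p`-subgroup `S` of `G/A` inside `S'`
and symmetrically for `q`, we reach a contradiction.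
-/

set_option autoImplicit false

namespace Cfsg.Agent.Helper74.PQ

open Cfsg

/-- A normal subgroup lying in the Frattini subgroup of some subgroup lies in the Frattini
subgroup of the whole group. -/
theorem le_frattini_of_le_map_frattini {H : Type*} [Group H] [Finite H] (N U : Subgroup H)
    [hN : N.Normal] (h : N ≤ (frattini U).map U.subtype) : N ≤ frattini H := by
  classical
  have hNU : N ≤ U := le_trans h (Subgroup.map_subtype_le _)
  unfold frattini Order.radical
  simp only [le_iInf_iff]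
  intro M hM
  by_contra hnot
  have hsup : N ⊔ M = ⊤ := by
    by_contra hne
    have hlt : M < N ⊔ M := by
      refine lt_of_le_of_ne le_sup_right ?_
      intro heq
      apply hnot
      rw [heq]
      exact le_sup_left
    exact hne (hM.2 _ hlt)
  -- `U = Φ(U) (U ∩ M)`
  have hgen : M.subgroupOf U ⊔ frattini U = ⊤ := by
    rw [eq_top_iff]
    intro u _
    have hu : (u : H) ∈ ((N ⊔ M : Subgroup H) : Set H) := by rw [hsup]; trivial
    rw [Subgroup.normal_mul] at hu
    obtain ⟨n, hn, m, hm, hnm⟩ := hu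
    obtain ⟨f, hf, hfn⟩ := h hn
    have hmU : m ∈ U := by
      have : m = n⁻¹ * (u : H) := by rw [← hnm]; group
      rw [this]
      exact U.mul_mem (U.inv_mem (hNU hn)) u.2
    have hu' : u = f * ⟨m, hmU⟩ := by
      apply Subtype.ext
      rw [Subgroup.coe_mul, ← hnm]
      show n * m = (U.subtype f) * m
      rw [hfn]
    rw [hu', sup_comm]
    have hm' : (⟨m, hmU⟩ : U) ∈ M.subgroupOf U := Subgroup.mem_subgroupOf.mpr hm
    exact Subgroup.mul_mem_sup hf hm'
  have htop : M.subgroupOf U = ⊤ := frattini_nongenerating hgen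
  have hUM : U ≤ M := Subgroup.subgroupOf_eq_top.mp htop
  exact hnot (le_trans hNU hUM)

/-- If `O_{p'}(H) = 1`, a normal subgroup `L` of `H` having a normal `p`-complement is a
`p`-group. -/
theorem isPGroup_of_hasNormalPComplement {H : Type*} [Group H] [Finite H] {p : ℕ}
    [hp : Fact p.Prime] (hO : pPrimeCore p H = ⊥) (L : Subgroup H) [hL : L.Normal]
    (h : HasNormalPComplement p L) : IsPGroup p L := by
  classical
  obtain ⟨P, N, hNn, hc⟩ := h
  have hcardN : Nat.card N = (P : Subgroup L).index := (hc.index_eq_card).symm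
  have hcopN : (Nat.card N).Coprime p := by
    rw [hcardN]
    exact ((Nat.Prime.coprime_iff_not_dvd hp.out).mpr P.not_dvd_index).symm
  set N' : Subgroup H := N.map L.subtype with hN'
  have hcardN' : Nat.card N' = Nat.card N :=
    Subgroup.card_map_of_injective L.subtype_injective
  have hN'n : N'.Normal := by
    refine ⟨fun x hx g => ?_⟩
    obtain ⟨y, hy, rfl⟩ := hx
    have hzL : g * (y : H) * g⁻¹ ∈ L := hL.conj_mem _ y.2 g
    refine ⟨⟨g * (y : H) * g⁻¹, hzL⟩, ?_, rfl⟩
    set z : L := ⟨g * (y : H) * g⁻¹, hzL⟩ with hz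
    have h1 : z ^ N.index ∈ N := Subgroup.pow_index_mem N z
    have hord : orderOf z = orderOf y := by
      rw [← Subgroup.orderOf_coe z, ← Subgroup.orderOf_coe y]
      show orderOf (g * (y : H) * g⁻¹) = orderOf (y : H)
      have hconj : g * (y : H) * g⁻¹ = MulAut.conj g (y : H) := by simp [MulAut.conj_apply]
      rw [hconj]
      exact MulEquiv.orderOf_eq (MulAut.conj g) (y : H)
    have h3 : orderOf y ∣ Nat.card N := by
      have := orderOf_dvd_natCard (⟨y, hy⟩ : ↥N)
      rwa [← Subgroup.orderOf_coe] at this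
    have hidx : N.index = Nat.card (P : Subgroup L) := hc.symm.index_eq_card
    have hcop : (N.index).Coprime (orderOf z) := by
      rw [hord, hidx]
      obtain ⟨k, hk⟩ := IsPGroup.iff_card.mp P.2
      rw [hk]
      exact Nat.Coprime.pow_left _ (Nat.Coprime.coprime_dvd_left h3 hcopN).symm
    obtain ⟨m, hm⟩ := exists_pow_eq_self_of_coprime hcop
    rw [← hm]
    exact N.pow_mem h1 m
  have hN'bot : N' = ⊥ := by
    have : N' ≤ pPrimeCore p H :=
      Cfsg.Agent.Lib.le_pPrimeCore hN'n (by rw [hcardN']; exact hcopN)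
    rw [hO] at this
    exact le_bot_iff.mp this
  have hNone : Nat.card N = 1 := by
    rw [← hcardN', hN'bot, Subgroup.card_bot]
  have hmul := hc.card_mul_card
  rw [hNone, one_mul] at hmul
  obtain ⟨k, hk⟩ := IsPGroup.iff_card.mp P.2
  exact IsPGroup.of_card (hmul.symm.trans hk)

/-- If `O_{p'}(H) = 1` and the normal subgroup `L` meets some Sylow `p`-subgroup `S` inside `S'`,
then `L` is a `p`-group contained in `Φ(H)`. -/
theorem isPGroup_and_le_frattini {H : Type*} [Group H] [Finite H] {p : ℕ}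
    [hp : Fact p.Prime] (hO : pPrimeCore p H = ⊥) (L : Subgroup H) [hL : L.Normal]
    (S : Sylow p H)
    (hK : ∀ x : (S : Subgroup H), (x : H) ∈ L → x ∈ commutator (S : Subgroup H)) :
    IsPGroup p L ∧ L ≤ frattini H := by
  classical
  haveI : Group.IsNilpotent (S : Subgroup H) := S.2.isNilpotent
  have hcf : commutator (S : Subgroup H) ≤ frattini (S : Subgroup H) :=
    Cfsg.Agent.Helper2.commutator_le_frattini
  have hinf : L ⊓ (S : Subgroup H) ≤ (frattini (S : Subgroup H)).map (S : Subgroup H).subtype := by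
    intro x hx
    exact ⟨⟨x, hx.2⟩, hcf (hK ⟨x, hx.2⟩ hx.1), rfl⟩
  have hnpc : HasNormalPComplement p L := Cfsg.Agent.S0081.result S L hinf
  have hLp : IsPGroup p L := isPGroup_of_hasNormalPComplement hO L hnpc
  refine ⟨hLp, ?_⟩
  have hLS : L ≤ (S : Subgroup H) := Cfsg.Agent.Lib.normal_pGroup_le_sylow hL hLp S
  apply le_frattini_of_le_map_frattini L (S : Subgroup H)
  intro x hx
  exact hinf ⟨hx, hLS hx⟩

/-- The relative index of images divides the relative index. -/
theorem relIndex_map_dvd {G K : Type*} [Group G] [Group K] (f : G →* K) (A T : Subgroup G) :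
    (A.map f).relIndex (T.map f) ∣ A.relIndex T := by
  rw [← Subgroup.relIndex_comap]
  exact Subgroup.relIndex_dvd_of_le_left T (Subgroup.le_comap_map f A)

/-- **The group-theoretic contradiction.** -/
theorem false_of_kernels {G : Type*} [Group G] [Finite G] (p q : ℕ) [hp : Fact p.Prime]
    [hq : Fact q.Prime] (hpq : p ≠ q) (hpd : p ∣ Nat.card G) (hps : IsPSolvable p G)
    (Kp : ∀ (S : Sylow p (G ⧸ pPrimeCore p G)) (x : (S : Subgroup (G ⧸ pPrimeCore p G))),
      (x : G ⧸ pPrimeCore p G) ∈ (pPrimeCore q G).map (QuotientGroup.mk' (pPrimeCore p G)) →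
      x ∈ commutator (S : Subgroup (G ⧸ pPrimeCore p G)))
    (Kq : ∀ (S : Sylow q (G ⧸ pPrimeCore q G)) (x : (S : Subgroup (G ⧸ pPrimeCore q G))),
      (x : G ⧸ pPrimeCore q G) ∈ (pPrimeCore p G).map (QuotientGroup.mk' (pPrimeCore q G)) →
      x ∈ commutator (S : Subgroup (G ⧸ pPrimeCore q G))) : False := by
  classical
  set A := pPrimeCore p G with hA
  set B := pPrimeCore q G with hB
  set πA := QuotientGroup.mk' A with hπA
  set πB := QuotientGroup.mk' B with hπB
  have hπAs : Function.Surjective πA := QuotientGroup.mk'_surjective A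
  have hπBs : Function.Surjective πB := QuotientGroup.mk'_surjective B
  have hOA : pPrimeCore p (G ⧸ A) = ⊥ := Cfsg.Agent.Helper22.pPrimeCore_quotient_eq_bot p
  have hOB : pPrimeCore q (G ⧸ B) = ⊥ := Cfsg.Agent.Helper22.pPrimeCore_quotient_eq_bot q
  set L : Subgroup (G ⧸ A) := B.map πA with hL
  set L' : Subgroup (G ⧸ B) := A.map πB with hL'
  haveI hLn : L.Normal := Subgroup.Normal.map inferInstance πA hπAs
  haveI hL'n : L'.Normal := Subgroup.Normal.map inferInstance πB hπBs
  obtain ⟨S⟩ : Nonempty (Sylow p (G ⧸ A)) := inferInstance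
  obtain ⟨S'⟩ : Nonempty (Sylow q (G ⧸ B)) := inferInstance
  obtain ⟨hLp, hLΦ⟩ := isPGroup_and_le_frattini hOA L S (Kp S)
  obtain ⟨hL'q, hL'Φ⟩ := isPGroup_and_le_frattini hOB L' S' (Kq S')
  -- the `p`-core of `G/A`
  set V : Subgroup (G ⧸ A) := pCore p (G ⧸ A) with hV
  have hVp : IsPGroup p V := Cfsg.Agent.Lib.isPGroup_pCore p
  set T : Subgroup G := V.comap πA with hT
  haveI hTn : T.Normal := Subgroup.Normal.comap inferInstance πA
  have hAT : A ≤ T := by
    intro a ha
    rw [hT, Subgroup.mem_comap]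
    have : πA a = 1 := by
      rw [hπA, QuotientGroup.mk'_apply, QuotientGroup.eq_one_iff]; exact ha
    rw [this]; exact V.one_mem
  have hTmap : T.map πA = V := Subgroup.map_comap_eq_self_of_surjective hπAs V
  -- `T ≤ A ⊔ B` via the Hall--Frattini lemma in `G/B`
  have hTAB : T ≤ A ⊔ B := by
    set A' : Subgroup (G ⧸ B) := T.map πB with hA'
    haveI hA'n : A'.Normal := Subgroup.Normal.map hTn πB hπBs
    have hle : L' ≤ A' := Subgroup.map_mono hAT
    have hOB' : ∀ Y : Subgroup (G ⧸ B), Y.Normal → ¬ q ∣ Nat.card Y → Y = ⊥ := by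
      intro Y hYn hY
      have : Y ≤ pPrimeCore q (G ⧸ B) :=
        Cfsg.Agent.Lib.le_pPrimeCore hYn
          ((Nat.Prime.coprime_iff_not_dvd hq.out).mpr hY).symm
      rw [hOB] at this
      exact le_bot_iff.mp this
    have hrel : ¬ q ∣ L'.relIndex A' := by
      have h1 : L'.relIndex A' ∣ A.relIndex T := relIndex_map_dvd πB A T
      have h2 : A.relIndex T = Nat.card V := by
        have hker : (⊥ : Subgroup (G ⧸ A)).comap πA = A := by
          rw [MonoidHom.comap_bot, hπA, QuotientGroup.ker_mk']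
        have h3 := Subgroup.relIndex_comap (⊥ : Subgroup (G ⧸ A)) πA T
        rw [hker, hTmap, Subgroup.relIndex_bot_left] at h3
        exact h3
      obtain ⟨k, hk⟩ := IsPGroup.iff_card.mp hVp
      rw [h2, hk] at h1
      obtain ⟨j, -, hj⟩ := (Nat.dvd_prime_pow hp.out).mp h1
      rw [hj]
      intro hdvd
      have := (Nat.prime_dvd_prime_iff_eq hq.out hp.out).mp (hq.out.dvd_of_dvd_pow hdvd)
      exact hpq this.symm
    have heq : A' = L' :=
      Cfsg.Agent.Helper24.eq_of_frattini_hall hOB' L' A' hle hL'Φ hL'q hrel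
    have h1 : T ≤ (T.map πB).comap πB := Subgroup.le_comap_map πB T
    have h2 : (T.map πB).comap πB = A ⊔ B := by
      show A'.comap πB = A ⊔ B
      rw [heq, hL', Subgroup.comap_map_eq, hπB, QuotientGroup.ker_mk']
    rw [h2] at h1
    exact h1
  have hVL : V ≤ L := by
    rw [← hTmap]
    have h1 : T.map πA ≤ (A ⊔ B).map πA := Subgroup.map_mono hTAB
    have h2 : (A ⊔ B).map πA = L := by
      rw [Subgroup.map_sup, hπA, QuotientGroup.map_mk'_self, bot_sup_eq]
    rw [h2] at h1
    exact h1
  have hVΦ : V ≤ frattini (G ⧸ A) := le_trans hVL hLΦ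
  -- climb the `p`-series of `G/A`
  have hpsH : IsPSolvable p (G ⧸ A) := Cfsg.Agent.Helper11.isPSolvable_quotient A hps
  have hOA' : ∀ Y : Subgroup (G ⧸ A), Y.Normal → ¬ p ∣ Nat.card Y → Y = ⊥ := by
    intro Y hYn hY
    have : Y ≤ pPrimeCore p (G ⧸ A) :=
      Cfsg.Agent.Lib.le_pPrimeCore hYn
        ((Nat.Prime.coprime_iff_not_dvd hp.out).mpr hY).symm
    rw [hOA] at this
    exact le_bot_iff.mp this
  obtain ⟨n, K, h0, hlast, hmono, hnorm, hstep⟩ := hpsH
  haveI hVn : V.Normal := inferInstance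
  have key : ∀ i : Fin (n + 1), K i ≤ V := by
    intro i
    induction i using Fin.induction with
    | zero => rw [h0]; exact bot_le
    | succ i ih =>
      haveI := hnorm i.castSucc
      haveI := hnorm i.succ
      set Y : Subgroup (G ⧸ A) := V ⊔ K i.succ with hY
      haveI hYn : Y.Normal := Subgroup.sup_normal V (K i.succ)
      have hKle : K i.castSucc ≤ K i.succ := hmono (Fin.castSucc_le_succ i)
      have hVY : V ≤ Y := le_sup_left
      have hdvd : V.relIndex Y ∣ (K i.castSucc).relIndex (K i.succ) := by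
        have h1 : V.relIndex Y = V.relIndex (K i.succ) := by
          rw [hY]; exact Subgroup.relIndex_sup_left (K := V) (H := K i.succ)
        rw [h1, ← Subgroup.inf_relIndex_right]
        exact Subgroup.relIndex_dvd_of_le_left (K i.succ) (le_inf ih hKle)
      have hYV : Y = V := by
        rcases Cfsg.Agent.Helper11.ppow_or_coprime_of_dvd hp.out hdvd (hstep i) with ⟨m, hm⟩ | hco
        · obtain ⟨k, hk⟩ := IsPGroup.iff_card.mp hVp
          have hcard := Cfsg.Agent.Helper11.card_mul_relIndex hVY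
          rw [hk, hm, ← pow_add] at hcard
          have hYp : IsPGroup p Y := IsPGroup.of_card hcard.symm
          exact le_antisymm (Cfsg.Agent.Lib.le_pCore hYn hYp) hVY
        · have hnd : ¬ p ∣ V.relIndex Y :=
            (Nat.Prime.coprime_iff_not_dvd hp.out).mp hco.symm
          exact Cfsg.Agent.Helper24.eq_of_frattini_hall hOA' V Y hVY hVΦ hVp hnd
      rw [← hYV]
      exact le_sup_right
  have htop : (⊤ : Subgroup (G ⧸ A)) ≤ frattini (G ⧸ A) := by
    have := key (Fin.last n)
    rw [hlast] at this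
    exact le_trans this hVΦ
  -- but `G/A` is nontrivial
  have hcardA : (Nat.card A).Coprime p := Cfsg.Agent.Lib.card_pPrimeCore_coprime p
  have hpH : p ∣ Nat.card (G ⧸ A) := by
    have h1 := Subgroup.card_eq_card_quotient_mul_card_subgroup A
    rw [h1] at hpd
    exact (Nat.Coprime.dvd_mul_right hcardA.symm).mp hpd
  have hnt : (⊥ : Subgroup (G ⧸ A)) ≠ ⊤ := by
    intro h
    have h1 : Nat.card (G ⧸ A) = 1 := by
      rw [← Subgroup.card_top (G := G ⧸ A), ← h, Subgroup.card_bot]
    rw [h1] at hpH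
    exact hp.out.one_lt.ne' (Nat.dvd_one.mp hpH)
  rcases eq_top_or_exists_le_coatom (⊥ : Subgroup (G ⧸ A)) with h | ⟨M, hM, -⟩
  · exact hnt h
  · have h1 : frattini (G ⧸ A) ≤ M := by
      unfold frattini Order.radical
      exact iInf₂_le M hM
    exact hM.1 (top_le_iff.mp (le_trans htop h1))

end Cfsg.Agent.Helper74.PQ
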