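import Cfsg.Agent.Helper74.PQKernel
import Cfsg.Agent.Helper74.PQGroup

/-!
# Principal blocks for two primes: the kernel lemma (helper74)

`commutator_of_degree_transfer`: let `G` be `p`-solvable, `A = O_{p'}(G)`, `B` a normal subgroup
lying in the kernel of every irreducible character of `p'`-degree having `A` in its kernel... more
precisely, assume every `χ` in the principal `p`-block of `p'`-degree has `B` in its kernel.
Then the image of `B` in `G/A` meets every Sylow `p`-subgroup `S` of `G/A` inside `S'`.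
-/

set_option autoImplicit false

namespace Cfsg.Agent.Helper74.PQ

open Cfsg

theorem commutator_of_degree_transfer {G : Type*} [Group G] [Finite G] (p : ℕ) [Fact p.Prime]
    {M : Ideal AlgInt} (hM : IsPModular p M) (hps : IsPSolvable p G) (B : Subgroup G)
    (hB : ∀ χ : IrrCharacter G, χ ∈ principalBlock M G → ¬ p ∣ charDegree (χ : G → ℂ) →
      ∀ b ∈ B, (χ : G → ℂ) b = (χ : G → ℂ) 1)
    (S : Sylow p (G ⧸ pPrimeCore p G)) (x : (S : Subgroup (G ⧸ pPrimeCore p G)))
    (hx : (x : G ⧸ pPrimeCore p G) ∈ B.map (QuotientGroup.mk' (pPrimeCore p G))) :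
    x ∈ commutator (S : Subgroup (G ⧸ pPrimeCore p G)) := by
  classical
  set A := pPrimeCore p G with hA
  let _ : Fintype (G ⧸ A) := Fintype.ofFinite _
  apply mem_commutator_sylow_of_ker p S x
  intro ψ hψ
  set χ : IrrCharacter G := (Helper80.irrQuotientEquiv A ψ).1 with hχ
  have hker : ∀ a ∈ A, (χ : G → ℂ) a = (χ : G → ℂ) 1 := (Helper80.irrQuotientEquiv A ψ).2
  have hmem : χ ∈ principalBlock M G := mem_principalBlock_of_ker hM hps χ hker
  have hdeg : charDegree (χ : G → ℂ) = charDegree (ψ : G ⧸ A → ℂ) := rfl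
  obtain ⟨b, hb, hbx⟩ := hx
  have h1 := hB χ hmem (by rw [hdeg]; exact hψ) b hb
  rw [hχ, Helper80.irrQuotientEquiv_apply, Helper80.irrQuotientEquiv_apply] at h1
  have h2 : ((b : G ⧸ A)) = (x : G ⧸ A) := hbx
  rw [h2] at h1
  rw [h1]
  rfl

end Cfsg.Agent.Helper74.PQ
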