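import Cfsg.Agent.Helper82.PRB.Defs
import Cfsg.Agent.Helper16.DT.Defs
import Cfsg.Agent.Helper77.BlockRank

/-!
# PRB farm (helper82, S4712), leaf (CNT): counting the characters fixed by the Galois twist
-/

set_option autoImplicit false
set_option linter.unusedSectionVars false
set_option linter.unusedVariables false

namespace Cfsg.Agent.Helper74.PRB

open Cfsg Cfsg.Agent.Helper16 Cfsg.Agent.Helper16.DT Cfsg.Agent.Helper82.PRB
open scoped ComplexConjugate

universe u

section Count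

variable {G : Type u} [Group G] [Fintype G]

/-- (CNT) `|G|` times the number of members of `B` fixed by `ζ ↦ ζ (· ^ m)` is the sum of `twN`. -/
theorem card_fixed_mul_eq_sum_twN (B : Set (IrrCharacter G)) (m : ℕ)
    (hm : m.Coprime (Nat.card G)) :
    (Nat.card G : ℂ) * (Nat.card {χ : IrrCharacter G // χ ∈ B ∧
        ∀ g : G, (χ : G → ℂ) (g ^ m) = (χ : G → ℂ) g} : ℂ) = ∑ g : G, twN B m g := by
  classical
  have hcard : (Nat.card G : ℂ) ≠ 0 := Helper79.card_ne_zero_complex
  -- the twisted character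
  have hirr : ∀ ζ : IrrCharacter G, IsIrrCharacter G (fun g => (ζ : G → ℂ) (g ^ m)) :=
    fun ζ => Helper82.galoisConj_isIrrCharacter ζ.2 m hm
  have hinner : ∀ ζ : IrrCharacter G,
      ∑ g : G, (ζ : G → ℂ) (g ^ m) * conj ((ζ : G → ℂ) g) =
        (Nat.card G : ℂ) * (if ∀ g : G, (ζ : G → ℂ) (g ^ m) = (ζ : G → ℂ) g then 1 else 0) := by
    intro ζ
    set ζ' : IrrCharacter G := ⟨fun g => (ζ : G → ℂ) (g ^ m), hirr ζ⟩ with hζ'
    have h1 : ∑ g : G, (ζ : G → ℂ) (g ^ m) * conj ((ζ : G → ℂ) g) =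
        (Nat.card G : ℂ) * classInner (ζ' : G → ℂ) (ζ : G → ℂ) := by
      unfold classInner
      rw [← mul_assoc, mul_inv_cancel₀ hcard, one_mul]
    rw [h1]
    congr 1
    by_cases hfix : ∀ g : G, (ζ : G → ℂ) (g ^ m) = (ζ : G → ℂ) g
    · rw [if_pos hfix]
      have : ζ' = ζ := Subtype.ext (funext hfix)
      rw [this]
      exact Helper79.classInner_irr_self ζ
    · rw [if_neg hfix]
      apply Helper79.classInner_irr_ne
      intro h
      apply hfix
      intro g
      have := congrArg (fun w : IrrCharacter G => (w : G → ℂ) g) h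
      exact this
  have hsum : ∑ g : G, twN B m g =
      ∑ ζ : IrrCharacter G, (if ζ ∈ B then (1 : ℂ) else 0) *
        ∑ g : G, (ζ : G → ℂ) (g ^ m) * conj ((ζ : G → ℂ) g) := by
    simp only [twN_def]
    rw [Finset.sum_comm]
    refine Finset.sum_congr rfl (fun ζ _ => ?_)
    rw [Finset.mul_sum]
  rw [hsum]
  simp only [hinner]
  have hcount : (Nat.card {χ : IrrCharacter G // χ ∈ B ∧
        ∀ g : G, (χ : G → ℂ) (g ^ m) = (χ : G → ℂ) g} : ℂ) =
      ∑ ζ : IrrCharacter G, (if ζ ∈ B then (1 : ℂ) else 0) *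
        (if ∀ g : G, (ζ : G → ℂ) (g ^ m) = (ζ : G → ℂ) g then 1 else 0) := by
    rw [Nat.card_eq_fintype_card, Fintype.card_subtype, Finset.card_filter, Nat.cast_sum]
    refine Finset.sum_congr rfl (fun ζ _ => ?_)
    by_cases h1 : ζ ∈ B <;> by_cases h2 : ∀ g : G, (ζ : G → ℂ) (g ^ m) = (ζ : G → ℂ) g <;>
      simp [h1, h2]
  rw [hcount, Finset.mul_sum]
  refine Finset.sum_congr rfl (fun ζ _ => ?_)
  ring

end Count

end Cfsg.Agent.Helper74.PRB
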