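import Cfsg.Agent.Helper82.PRB.Defs
import Cfsg.Agent.Helper16.DT.Defs
import Cfsg.Agent.Helper77.BlockRank

/-!
# PRB farm (helper82, S4712), leaf (SEC1): the `p`-section of `1`
-/

set_option autoImplicit false
set_option linter.unusedSectionVars false
set_option linter.unusedVariables false

namespace Cfsg.Agent.Helper74.PRB

open Cfsg Cfsg.Agent.Helper16 Cfsg.Agent.Helper16.DT Cfsg.Agent.Helper82.PRB
open scoped ComplexConjugate

universe u

section Sections

variable {G : Type u} [Group G] [Fintype G] {M : Ideal AlgInt} {p : ℕ}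

/-- For `y` `p`-regular and `m = 1` modulo the `p'`-part of `|G|`: `y ^ m = y`. -/
theorem pow_eq_self_of_pRegular [Fact p.Prime] (m : ℕ)
    (hm1 : m ≡ 1 [MOD Nat.card G / p ^ (Nat.card G).factorization p]) (y : G)
    (hy : ¬ p ∣ orderOf y) : y ^ m = y := by
  have hp : p.Prime := Fact.out
  have hpos : Nat.card G ≠ 0 := Nat.card_pos.ne'
  have h1 : orderOf y ∣ Nat.card G := orderOf_dvd_natCard y
  have h2 : p ^ (Nat.card G).factorization p * (Nat.card G / p ^ (Nat.card G).factorization p) =
      Nat.card G := Nat.ordProj_mul_ordCompl_eq_self (Nat.card G) p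
  have hcop : Nat.Coprime (orderOf y) (p ^ (Nat.card G).factorization p) :=
    Nat.Coprime.pow_right _ ((Nat.Prime.coprime_iff_not_dvd hp).mpr hy).symm
  have h3 : orderOf y ∣ Nat.card G / p ^ (Nat.card G).factorization p := by
    rw [← h2] at h1
    exact hcop.dvd_of_dvd_mul_left h1
  have h4 : m ≡ 1 [MOD orderOf y] := hm1.of_dvd h3
  have h5 : y ^ m = y ^ 1 := (pow_eq_pow_iff_modEq).mpr h4
  rwa [pow_one] at h5

open Classical in
/-- (SEC1) the section of `1`. -/
theorem section_one [Fact p.Prime] (hM : IsPModular p M) {B : Set (IrrCharacter G)}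
    (hB : IsPBlock M B) (m : ℕ)
    (hm1 : m ≡ 1 [MOD Nat.card G / p ^ (Nat.card G).factorization p])
    [Fintype (Subgroup.centralizer ({(1 : G)} : Set G))] :
    ∑ y : Subgroup.centralizer ({(1 : G)} : Set G),
      (if ¬ p ∣ orderOf y then twN B m ((1 : G) * (y : G)) else 0) =
      (Nat.card (Subgroup.centralizer ({(1 : G)} : Set G)) : ℂ) * (blockRank p B : ℂ) := by
  have htop : Subgroup.centralizer ({(1 : G)} : Set G) = ⊤ := by
    ext x
    simp [Subgroup.mem_centralizer_iff]
  have hcardC : Nat.card (Subgroup.centralizer ({(1 : G)} : Set G)) = Nat.card G := by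
    rw [htop]; exact Subgroup.card_top
  -- the equivalence with `G`
  let e : Subgroup.centralizer ({(1 : G)} : Set G) ≃ G :=
    { toFun := fun y => (y : G)
      invFun := fun x => ⟨x, by rw [htop]; exact Subgroup.mem_top x⟩
      left_inv := fun y => rfl
      right_inv := fun x => rfl }
  have hsum : ∑ y : Subgroup.centralizer ({(1 : G)} : Set G),
      (if ¬ p ∣ orderOf y then twN B m ((1 : G) * (y : G)) else 0) =
      ∑ x : G, (if ¬ p ∣ orderOf x then twN B m x else 0) := by
    refine Fintype.sum_equiv e _ _ (fun y => ?_)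
    have ho : orderOf (e y) = orderOf y := Subgroup.orderOf_coe y
    rw [ho]
    show _ = (if ¬ p ∣ orderOf y then twN B m (y : G) else 0)
    rw [one_mul]
  rw [hsum, hcardC, Helper77.blockRank_formula hM hB]
  refine Finset.sum_congr rfl (fun x _ => ?_)
  rw [finsum_mem_eq_finite_toFinset_sum _ (Set.toFinite B)]
  by_cases hx : p ∣ orderOf x
  · rw [if_neg (not_not.mpr hx)]
    symm
    refine Finset.sum_eq_zero (fun χ _ => ?_)
    rw [Helper77.pRegularPart_of_sing hx, zero_mul]
  · rw [if_pos hx, twN_def, pow_eq_self_of_pRegular m hm1 x hx]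
    rw [← Finset.sum_filter_add_sum_filter_not Finset.univ (fun ζ : IrrCharacter G => ζ ∈ B)]
    have hz : ∑ ζ ∈ Finset.univ.filter (fun ζ : IrrCharacter G => ¬ ζ ∈ B),
        (if ζ ∈ B then (1 : ℂ) else 0) * ((ζ : G → ℂ) x * conj ((ζ : G → ℂ) x)) = 0 := by
      refine Finset.sum_eq_zero (fun ζ hζ => ?_)
      rw [Finset.mem_filter] at hζ
      rw [if_neg hζ.2, zero_mul]
    rw [hz, add_zero]
    have hfin : (Set.toFinite B).toFinset = Finset.univ.filter (fun ζ : IrrCharacter G => ζ ∈ B) := by
      ext ζ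
      simp
    rw [hfin]
    refine Finset.sum_congr rfl (fun ζ hζ => ?_)
    rw [Finset.mem_filter] at hζ
    rw [if_pos hζ.2, one_mul, Helper77.pRegularPart_of_reg hx, Helper79.irr_inv]

end Sections

end Cfsg.Agent.Helper74.PRB
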