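import Cfsg.Agent.Helper74.InvOver
import Cfsg.Agent.Helper74.ThompsonDeg
import Cfsg.Agent.Helper16.Osima
import Cfsg.Agent.Helper16.BlockIdem
import Cfsg.Agent.Helper77.BlockOrth
import Cfsg.Agent.Helper78.LocalRing

/-!
# Reynolds' theorem, preliminaries (helper74)

* `inner_restrict_ne_zero_trans_top`: transitivity of "lies over" along `N ≤ M ≤ Γ`.
* `exists_integral_of_restrict_homogeneous`: if `θ_P = e ζ` and `x` centralizes `P`, then
  `θ x = ζ 1 * α` with `α` an algebraic integer.
* `exists_mem_block_over`: every irreducible character of a `p`-subgroup lies under some member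
  of any given block (Osima's support theorem).
-/

set_option autoImplicit false

namespace Cfsg.Agent.Helper74

open Cfsg
open scoped ComplexConjugate

universe u

/-- Transitivity of "lies over" along `N ≤ M ≤ Γ`. -/
theorem inner_restrict_ne_zero_trans_top {Γ : Type u} [Group Γ] [Fintype Γ] (N M : Subgroup Γ)
    [Fintype N] [Fintype M] (hNM : N ≤ M) (χ : IrrCharacter Γ)
    (ψ : IrrCharacter M) (θ : IrrCharacter N)
    (h1 : classInner (fun m : M => (χ : Γ → ℂ) m) (ψ : M → ℂ) ≠ 0)
    (h2 : classInner (fun n : N => (ψ : M → ℂ) ⟨n, hNM n.2⟩) (θ : N → ℂ) ≠ 0) :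
    classInner (fun n : N => (χ : Γ → ℂ) n) (θ : N → ℂ) ≠ 0 := by
  classical
  let _ := irrFintype M
  set χM : M → ℂ := fun m : M => (χ : Γ → ℂ) m with hχM
  have hχMc : IsCharacter M χM := isCharacter_restrict M (irr_isCharacter χ)
  have hdec := isCharacter_eq_sum_irr hχMc
  choose a ha using fun ξ : IrrCharacter M => isCharacter_inner_irr_nat hχMc ξ
  choose f hf using fun ξ : IrrCharacter M =>
    isCharacter_inner_irr_nat (Helper15.isCharacter_resTo N M hNM (irr_isCharacter ξ)) θ
  have h3 : (fun n : N => (χ : Γ → ℂ) n) = Helper15.resTo N M hNM χM := rfl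
  rw [h3, hdec, Helper15.resTo_finset_sum, Helper15.classInner_finset_sum_left]
  have h4 : ∀ ξ : IrrCharacter M,
      classInner (Helper15.resTo N M hNM (classInner χM (ξ : M → ℂ) • (ξ : M → ℂ))) (θ : N → ℂ)
        = ((a ξ * f ξ : ℕ) : ℂ) := by
    intro ξ
    rw [Helper15.resTo_smul, Helper15.classInner_smul_left, ha ξ, hf ξ]
    push_cast; rfl
  rw [Finset.sum_congr rfl (fun ξ _ => h4 ξ), ← Nat.cast_sum]
  have ha0 : a ψ ≠ 0 := by
    intro h0; apply h1; rw [ha ψ, h0]; simp
  have hf0 : f ψ ≠ 0 := by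
    intro h0; apply h2
    have h5 := hf ψ
    rw [h0, Nat.cast_zero] at h5
    exact h5
  have hpos : 0 < ∑ ξ : IrrCharacter M, a ξ * f ξ :=
    lt_of_lt_of_le (Nat.mul_pos (Nat.pos_of_ne_zero ha0) (Nat.pos_of_ne_zero hf0))
      (Finset.single_le_sum (f := fun ξ => a ξ * f ξ) (fun _ _ => Nat.zero_le _)
        (Finset.mem_univ ψ))
  exact_mod_cast hpos.ne'

/-- If `θ_P = e • ζ` with `ζ ∈ Irr(P)` and `x` centralizes `P`, then `θ x` is `ζ 1` times an
algebraic integer. -/
theorem exists_integral_of_restrict_homogeneous {H : Type u} [Group H] [Fintype H]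
    (P : Subgroup H) [Fintype P] (θ : IrrCharacter H) (ζ : IrrCharacter P) (e : ℂ)
    (hres : (fun y : P => (θ : H → ℂ) y) = e • (ζ : P → ℂ)) (x : H)
    (hx : ∀ y ∈ P, x * y = y * x) :
    ∃ α : ℂ, IsIntegral ℤ α ∧ (θ : H → ℂ) x = (ζ : P → ℂ) 1 * α := by
  classical
  obtain ⟨K, hK⟩ : ∃ K : Subgroup H, K = Subgroup.centralizer ({x} : Set H) := ⟨_, rfl⟩
  have hPK : P ≤ K := by
    intro y hy
    rw [hK, Subgroup.mem_centralizer_iff]
    intro z hz
    rw [Set.mem_singleton_iff] at hz
    subst hz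
    exact hx y hy
  have hxK : x ∈ K := by
    rw [hK, Subgroup.mem_centralizer_iff]
    intro z hz
    rw [Set.mem_singleton_iff] at hz
    rw [hz]
  let _ : Fintype K := Fintype.ofFinite K
  let _ := irrFintype K
  let _ := irrFintype P
  set θK : K → ℂ := fun k => (θ : H → ℂ) k with hθKdef
  have hθK : IsCharacter K θK := isCharacter_restrict K (irr_isCharacter θ)
  have hdec := isCharacter_eq_sum_irr hθK
  choose m hm using fun η : IrrCharacter K => isCharacter_inner_irr_nat hθK η
  choose f hf using fun η : IrrCharacter K =>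
    isCharacter_inner_irr_nat (Helper15.isCharacter_resTo P K hPK (irr_isCharacter η)) ζ
  have key : ∀ η : IrrCharacter K, m η ≠ 0 → (η : K → ℂ) 1 = (f η : ℂ) * (ζ : P → ℂ) 1 := by
    intro η hη
    have hηP : IsCharacter P (Helper15.resTo P K hPK (η : K → ℂ)) :=
      Helper15.isCharacter_resTo P K hPK (irr_isCharacter η)
    have hdecP := isCharacter_eq_sum_irr hηP
    have hzero : ∀ ζ' : IrrCharacter P, ζ' ≠ ζ →
        classInner (Helper15.resTo P K hPK (η : K → ℂ)) (ζ' : P → ℂ) = 0 := by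
      intro ζ' hne
      by_contra h0
      have h1 : classInner (fun k : K => (θ : H → ℂ) k) (η : K → ℂ) ≠ 0 := by
        show classInner θK (η : K → ℂ) ≠ 0
        rw [hm η]
        exact_mod_cast hη
      have := inner_restrict_ne_zero_trans_top P K hPK θ η ζ' h1 h0
      rw [hres, Helper15.classInner_smul_left, irr_inner_ne hne.symm, mul_zero] at this
      exact this rfl
    have h2 : Helper15.resTo P K hPK (η : K → ℂ) = (f η : ℂ) • (ζ : P → ℂ) := by
      conv_lhs => rw [hdecP]
      rw [Finset.sum_eq_single ζ]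
      · rw [hf η]
      · intro ζ' _ hne
        rw [hzero ζ' hne, zero_smul]
      · intro hn; exact absurd (Finset.mem_univ _) hn
    have h3 := congrFun h2 1
    have h4 : Helper15.resTo P K hPK (η : K → ℂ) 1 = (η : K → ℂ) 1 := rfl
    rw [h4] at h3
    rw [h3]
    rfl
  refine ⟨∑ η : IrrCharacter K, (m η : ℂ) * (f η : ℂ) * centralChar (η : K → ℂ) ⟨x, hxK⟩, ?_, ?_⟩
  · apply IsIntegral.sum
    intro η _
    apply IsIntegral.mul
    · apply IsIntegral.mul
      · exact isIntegral_algebraMap (R := ℤ) (A := ℂ) (x := (m η : ℤ)) |> fun h => by simpa using h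
      · exact isIntegral_algebraMap (R := ℤ) (A := ℂ) (x := (f η : ℤ)) |> fun h => by simpa using h
    · exact Helper16.irr_isIntegral_centralChar η _
  · have h1 : (θ : H → ℂ) x = θK ⟨x, hxK⟩ := rfl
    have h2 := congrFun hdec ⟨x, hxK⟩
    rw [h1, h2, Finset.sum_apply, Finset.mul_sum]
    apply Finset.sum_congr rfl
    intro η _
    rw [Pi.smul_apply, smul_eq_mul, hm η]
    by_cases hη : m η = 0
    · rw [hη]; simp
    · have hcentr : Subgroup.centralizer ({(⟨x, hxK⟩ : K)} : Set K) = ⊤ := by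
        rw [eq_top_iff]
        intro k _
        rw [Subgroup.mem_centralizer_iff]
        intro z hz
        rw [Set.mem_singleton_iff] at hz
        subst hz
        apply Subtype.ext
        have hk : (k : H) ∈ Subgroup.centralizer ({x} : Set H) := hK ▸ k.2
        rw [Subgroup.mem_centralizer_iff] at hk
        exact hk x rfl
      have hη1 : (η : K → ℂ) 1 ≠ 0 := Helper16.irr_one_ne_zero η
      have hcent : centralChar (η : K → ℂ) ⟨x, hxK⟩
          = (η : K → ℂ) ⟨x, hxK⟩ / (η : K → ℂ) 1 := by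
        unfold centralChar
        rw [hcentr, Subgroup.index_top]
        simp
      rw [hcent]
      have hk := key η hη
      have : (ζ : P → ℂ) 1 * ((m η : ℂ) * (f η : ℂ) * ((η : K → ℂ) ⟨x, hxK⟩ / (η : K → ℂ) 1))
          = (m η : ℂ) * ((f η : ℂ) * (ζ : P → ℂ) 1) * ((η : K → ℂ) ⟨x, hxK⟩ / (η : K → ℂ) 1) := by
        ring
      rw [this, ← hk]
      field_simp

end Cfsg.Agent.Helper74
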