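import Cfsg.Agent.Helper74.ReynoldsA
import Cfsg.Agent.Helper74.DegP
import Cfsg.Agent.Helper78.HeightZero
import Cfsg.Agent.Helper15.CliffordCorr
import Cfsg.Agent.Helper16.CentralProduct
import Cfsg.Agent.Helper77.DefectOrder

/-!
# Reynolds' theorem, the key lemma (helper74)

`exists_mem_block_large_degree`: let `P ⊴ H` be a `p`-subgroup with `H = P C_H(P)` which is a defect
group of the block `b` of `H`, and let `ζ ∈ Irr(P)`.  Then some `θ ∈ b` lies over `ζ`, and every
such `θ` satisfies `ν_p(θ(1)) ≥ ν_p [H : P] + ν_p(ζ(1))`.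
-/

set_option autoImplicit false

namespace Cfsg.Agent.Helper74

open Cfsg
open scoped ComplexConjugate

universe u

theorem exists_mem_block_over {H : Type u} [Group H] [Fintype H] {p : ℕ} [hp : Fact p.Prime]
    {M : Ideal AlgInt} (hM : IsPModular p M) (P : Subgroup H) [Fintype P] (hP : IsPGroup p P)
    {b : Set (IrrCharacter H)} (hb : IsPBlock M b) (ζ : IrrCharacter P) :
    ∃ θ ∈ b, classInner (fun y : P => (θ : H → ℂ) y) (ζ : P → ℂ) ≠ 0 := by
  classical
  let _ := irrFintype H
  have hMp : M.IsPrime := Helper16.IsPModular.isPrime hM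
  by_contra hcon
  push_neg at hcon
  have hT1 : ∑ y : P, blockCoeff b (y : H) * (ζ : P → ℂ) y
      = blockCoeff b 1 * (ζ : P → ℂ) 1 := by
    rw [Finset.sum_eq_single (1 : P)]
    · simp
    · intro y _ hy
      have hdvd : p ∣ orderOf (y : H) := by
        obtain ⟨k, hk⟩ := (IsPGroup.iff_orderOf.mp hP) y
        rw [Subgroup.orderOf_coe, hk]
        cases k with
        | zero =>
          exfalso
          apply hy
          rw [pow_zero, orderOf_eq_one_iff] at hk
          exact hk
        | succ k => exact dvd_pow_self p (Nat.succ_ne_zero k)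
      rw [Helper77.blockCoeff_eq_zero_of_dvd_orderOf hM hb _ hdvd, zero_mul]
    · intro h; exact absurd (Finset.mem_univ _) h
  have hT2 : ∑ y : P, blockCoeff b (y : H) * (ζ : P → ℂ) y = 0 := by
    have h1 : ∀ y : P, blockCoeff b (y : H) * (ζ : P → ℂ) y
        = (Nat.card H : ℂ)⁻¹ * ∑ χ : IrrCharacter H, (if χ ∈ b then (1 : ℂ) else 0) *
            (χ : H → ℂ) 1 * (conj ((χ : H → ℂ) (y : H)) * (ζ : P → ℂ) y) := by
      intro y
      rw [Helper16.blockCoeff_eq_sum b, mul_assoc, Finset.sum_mul]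
      congr 1
      apply Finset.sum_congr rfl
      intro χ _
      ring
    rw [Finset.sum_congr rfl (fun y _ => h1 y), ← Finset.mul_sum, Finset.sum_comm]
    have h2 : ∀ χ : IrrCharacter H, ∑ y : P, (if χ ∈ b then (1 : ℂ) else 0) *
        (χ : H → ℂ) 1 * (conj ((χ : H → ℂ) (y : H)) * (ζ : P → ℂ) y) = 0 := by
      intro χ
      by_cases hχ : χ ∈ b
      · rw [← Finset.mul_sum]
        have h3 := hcon χ hχ
        rw [classInner_def] at h3
        have hP0 : (Nat.card P : ℂ)⁻¹ ≠ 0 := by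
          apply inv_ne_zero
          exact_mod_cast Nat.card_pos.ne'
        have h4 : ∑ y : P, (χ : H → ℂ) (y : H) * conj ((ζ : P → ℂ) y) = 0 := by
          rcases mul_eq_zero.mp h3 with h | h
          · exact absurd h hP0
          · exact h
        have h5 : ∑ y : P, conj ((χ : H → ℂ) (y : H)) * (ζ : P → ℂ) y
            = conj (∑ y : P, (χ : H → ℂ) (y : H) * conj ((ζ : P → ℂ) y)) := by
          rw [map_sum]
          apply Finset.sum_congr rfl
          intro y _
          rw [map_mul, Complex.conj_conj]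
        rw [h5, h4, map_zero, mul_zero]
      · simp [hχ]
    rw [Finset.sum_congr rfl (fun χ _ => h2 χ), Finset.sum_const_zero, mul_zero]
  -- `blockCoeff b 1 ≠ 0`
  have hb1 : blockCoeff b 1 ≠ 0 := by
    rw [Helper16.blockCoeff_eq_sum b]
    apply mul_ne_zero
    · apply inv_ne_zero
      exact_mod_cast Nat.card_pos.ne'
    · obtain ⟨χ₀, hχ₀⟩ := Helper78.isPBlock_nonempty hMp hb
      choose d hd using fun χ : IrrCharacter H => isCharacter_apply_one (irr_isCharacter χ)
      have h1 : ∀ χ : IrrCharacter H, (if χ ∈ b then (1 : ℂ) else 0) * (χ : H → ℂ) 1 *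
          conj ((χ : H → ℂ) 1) = (((if χ ∈ b then 1 else 0) * d χ * d χ : ℕ) : ℂ) := by
        intro χ
        rw [hd χ]
        by_cases h : χ ∈ b
        · simp [h]
        · simp [h]
      rw [Finset.sum_congr rfl (fun χ _ => h1 χ), ← Nat.cast_sum]
      have hd0 : d χ₀ ≠ 0 := by
        intro h0
        apply Helper16.irr_one_ne_zero χ₀
        rw [hd χ₀, h0, Nat.cast_zero]
      have hpos : 0 < ∑ χ : IrrCharacter H, (if χ ∈ b then 1 else 0) * d χ * d χ := by
        apply lt_of_lt_of_le _ (Finset.single_le_sum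
          (f := fun χ : IrrCharacter H => (if χ ∈ b then 1 else 0) * d χ * d χ)
          (fun _ _ => Nat.zero_le _) (Finset.mem_univ χ₀))
        rw [if_pos hχ₀, one_mul]
        exact Nat.mul_pos (Nat.pos_of_ne_zero hd0) (Nat.pos_of_ne_zero hd0)
      exact_mod_cast hpos.ne'
  rw [hT1] at hT2
  rcases mul_eq_zero.mp hT2 with h | h
  · exact hb1 h
  · exact Helper16.irr_one_ne_zero ζ h

end Cfsg.Agent.Helper74

namespace Cfsg.Agent.Helper74

open Cfsg
open scoped ComplexConjugate

universe u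

/-- If `H = P C_H(P)`, every class function of `P` is `H`-invariant. -/
theorem conjFun_eq_of_sup_centralizer {H : Type u} [Group H] (P : Subgroup H) [hPn : P.Normal]
    (hPC : P ⊔ Subgroup.centralizer (P : Set H) = ⊤) {ζ : P → ℂ} (hζ : IsClassFunction P ζ)
    (g : H) : Helper15.conjFun P g ζ = ζ := by
  have hcomm : ∀ u ∈ P, ∀ v ∈ Subgroup.centralizer (P : Set H), u * v = v * u := by
    intro u hu v hv
    exact (Subgroup.mem_centralizer_iff.mp hv u hu)
  obtain ⟨y, hy, c, hc, rfl⟩ := Helper16.exists_mul_of_sup_eq_top P _ hcomm hPC g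
  funext n
  rw [Helper15.conjFun_apply]
  have h1 : (y * c) * (n : H) * (y * c)⁻¹ = y * (n : H) * y⁻¹ :=
    Helper16.conj_eq_of_mem_left P _ hcomm hc n.2
  have h2 : (⟨(y * c) * (n : H) * (y * c)⁻¹, hPn.conj_mem (n : H) n.2 (y * c)⟩ : P)
      = (⟨y, hy⟩ : P) * n * (⟨y, hy⟩ : P)⁻¹ := Subtype.ext h1
  rw [h2]
  exact hζ n ⟨y, hy⟩

theorem factorization_degree_ge_of_over {H : Type u} [Group H] [Fintype H] {p : ℕ}
    [hp : Fact p.Prime] {M : Ideal AlgInt} (hM : IsPModular p M) (P : Subgroup H)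
    [hPn : P.Normal] [Fintype P]
    (hPC : P ⊔ Subgroup.centralizer (P : Set H) = ⊤)
    {b : Set (IrrCharacter H)} (hb : IsPBlock M b) (hdef : IsDefectGroup p M b P)
    (ζ : IrrCharacter P) (θ : IrrCharacter H) (hθb : θ ∈ b)
    (hθζ : classInner (fun y : P => (θ : H → ℂ) y) (ζ : P → ℂ) ≠ 0) :
    P.index.factorization p + (charDegree (ζ : P → ℂ)).factorization p
      ≤ (charDegree (θ : H → ℂ)).factorization p := by
  classical
  have hMp : M.IsPrime := Helper16.IsPModular.isPrime hM
  have hinv : ∀ g : H, Helper15.conjFun P g (ζ : P → ℂ) = (ζ : P → ℂ) :=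
    conjFun_eq_of_sup_centralizer P hPC (isClassFunction_of_isCharacter (irr_isCharacter ζ))
  have hres := Helper15.restrict_eq_smul_of_invariant P θ.2 ζ.2 hθζ hinv
  obtain ⟨e, he⟩ := isCharacter_inner_irr_nat (isCharacter_restrict P (irr_isCharacter θ)) ζ
  have he' : classInner (fun n : P => (θ : H → ℂ) n) (ζ : P → ℂ) = (e : ℂ) := he
  rw [he'] at hres
  have he0 : e ≠ 0 := by
    intro h0
    apply hθζ
    rw [he', h0, Nat.cast_zero]
  -- degrees
  have hζ1 : (ζ : P → ℂ) 1 = (charDegree (ζ : P → ℂ) : ℂ) := (charDegree_cast (irr_isCharacter ζ)).symm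
  have hθ1 : (θ : H → ℂ) 1 = (charDegree (θ : H → ℂ) : ℂ) := (charDegree_cast (irr_isCharacter θ)).symm
  have hθ1' : (θ : H → ℂ) 1 = (e : ℂ) * (ζ : P → ℂ) 1 := by
    have := congrFun hres 1
    simpa using this
  have hdeg : charDegree (θ : H → ℂ) = e * charDegree (ζ : P → ℂ) := by
    have : ((charDegree (θ : H → ℂ) : ℕ) : ℂ) = ((e * charDegree (ζ : P → ℂ) : ℕ) : ℂ) := by
      rw [← hθ1, hθ1', hζ1]; push_cast; rfl
    exact_mod_cast this
  have hζ0 : charDegree (ζ : P → ℂ) ≠ 0 := by
    intro h0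
    apply Helper16.irr_one_ne_zero ζ
    rw [hζ1, h0, Nat.cast_zero]
  -- the defect class
  obtain ⟨x, hx, Q, hPQ⟩ := hdef
  have hxP : ∀ y ∈ P, x * y = y * x := by
    intro y hy
    rw [hPQ] at hy
    obtain ⟨q, _, rfl⟩ := hy
    have := q.2
    rw [Subgroup.mem_centralizer_iff] at this
    exact this x rfl
  obtain ⟨α, hα, hθx⟩ := exists_integral_of_restrict_homogeneous P θ ζ e hres x hxP
  have hω : ¬ MemLocalIdeal M (centralChar (θ : H → ℂ) x) := hx.2.2 θ hθb
  set idx := (Subgroup.centralizer ({x} : Set H)).index with hidx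
  have hidx0 : idx ≠ 0 := Subgroup.index_ne_zero_of_finite
  set ν := idx.factorization p with hν
  obtain ⟨m₀, hm₀⟩ : p ^ ν ∣ idx := Nat.ordProj_dvd idx p
  have hpν : (p ^ ν : ℕ) ≠ 0 := pow_ne_zero _ hp.out.ne_zero
  have hdvd : p ^ ν ∣ e := by
    apply Helper78.pow_dvd_of_memLocalRing_div hM hpν (dvd_refl _)
    set ω := centralChar (θ : H → ℂ) x with hωdef
    have hωR : MemLocalRing M ω :=
      Helper78.memLocalRing_of_isIntegral hMp (Helper16.irr_isIntegral_centralChar θ x)
    have hω0 : ω ≠ 0 := fun h0 => hω (h0 ▸ Helper78.memLocalIdeal_zero hMp)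
    have hωinv : MemLocalRing M ω⁻¹ := Helper16.memLocalRing_inv hωR hω
    have hζ10 : (ζ : P → ℂ) 1 ≠ 0 := Helper16.irr_one_ne_zero ζ
    have he0' : (e : ℂ) ≠ 0 := by exact_mod_cast he0
    have heq : ((e : ℕ) : ℂ) / ((p ^ ν : ℕ) : ℂ) = (m₀ : ℂ) * α * ω⁻¹ := by
      have h1 : ω = (idx : ℂ) * (θ : H → ℂ) x / (θ : H → ℂ) 1 := rfl
      have h2 : (idx : ℂ) = ((p ^ ν : ℕ) : ℂ) * (m₀ : ℂ) := by
        rw [← Nat.cast_mul, ← hm₀]
      have hpν' : ((p ^ ν : ℕ) : ℂ) ≠ 0 := by exact_mod_cast hpν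
      have hα0 : α ≠ 0 := by
        intro h0
        apply hω0
        rw [h1, hθx, h0, mul_zero, mul_zero, zero_div]
      have hm₀0 : (m₀ : ℂ) ≠ 0 := by
        intro h0
        apply hω0
        rw [h1, h2, h0, mul_zero, zero_mul, zero_div]
      rw [h1, h2, hθx, hθ1']
      field_simp
    rw [heq]
    exact Helper78.memLocalRing_mul hMp (Helper78.memLocalRing_mul hMp
      (Helper78.memLocalRing_natCast hMp m₀) (Helper78.memLocalRing_of_isIntegral hMp hα)) hωinv
  have hνe : ν ≤ e.factorization p := (hp.out.pow_dvd_iff_le_factorization he0).mp hdvd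
  -- `ν = ν_p [H : P]`
  have hcardP : Nat.card P = p ^ blockDefect p b :=
    Helper77.card_defectGroup hM hb P ⟨x, hx, Q, hPQ⟩
  have hdefx : blockDefect p b = (Nat.card (Subgroup.centralizer ({x} : Set H))).factorization p :=
    Helper78.blockDefect_eq_of_isDefectClass hM hb hx
  have hνP : ν = P.index.factorization p := by
    have h1 := (Subgroup.centralizer ({x} : Set H)).card_mul_index
    have h2 := P.card_mul_index
    have hc0 : Nat.card (Subgroup.centralizer ({x} : Set H)) ≠ 0 := Nat.card_pos.ne'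
    have hP0 : Nat.card P ≠ 0 := Nat.card_pos.ne'
    have hPi0 : P.index ≠ 0 := Subgroup.index_ne_zero_of_finite
    have e1 : (Nat.card H).factorization p
        = (Nat.card (Subgroup.centralizer ({x} : Set H))).factorization p + ν := by
      rw [← h1, Nat.factorization_mul hc0 hidx0, Finsupp.add_apply]
    have e2 : (Nat.card H).factorization p
        = (Nat.card P).factorization p + P.index.factorization p := by
      rw [← h2, Nat.factorization_mul hP0 hPi0, Finsupp.add_apply]
    have e3 : (Nat.card P).factorization p = blockDefect p b := by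
      rw [hcardP, Nat.Prime.factorization_pow hp.out]
      simp
    omega
  rw [hdeg, Nat.factorization_mul he0 hζ0, Finsupp.add_apply, ← hνP]
  omega

end Cfsg.Agent.Helper74
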