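import Cfsg.Agent.Helper74.ReynoldsB
import Cfsg.Agent.Helper74.DegreeRatio
import Cfsg.Agent.Helper15.LinChar
import Cfsg.Agent.Helper16.Covering2
import Cfsg.Agent.Helper77.FullCent
import Cfsg.Agent.Helper79.Linear

/-!
# Reynolds' theorem, auxiliary facts (helper74)

* `degree_ratio_inertia`: Clifford degree formula through the inertia group.
* `comm_of_forall_irr_one`: a finite group all of whose irreducible characters are linear is
  abelian.
* `inertia_le_stabSubgroup`: the inertia group of a member of a block stabilizes the block.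
-/

set_option autoImplicit false

namespace Cfsg.Agent.Helper74

open Cfsg
open scoped ComplexConjugate

universe u

/-- **Relative degree theorem through the inertia group**: `χ(1) = [G : T] b θ(1)` with
`b ∣ [T : N]`, `T` the inertia group of `θ`. -/
theorem degree_ratio_inertia {G : Type u} [Group G] [Fintype G] (N : Subgroup G)
    [hN : N.Normal] [Fintype N] {χ : G → ℂ} (hχ : IsIrrCharacter G χ) {θ : N → ℂ}
    (hθ : IsIrrCharacter N θ) (hcon : classInner (fun n : N => χ n) θ ≠ 0) :
    ∃ b : ℕ, χ 1 = (((Helper15.inertia N θ).index * b : ℕ) : ℂ) * θ 1 ∧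
      b ∣ N.relIndex (Helper15.inertia N θ) := by
  classical
  obtain ⟨T, hT⟩ : ∃ T : Subgroup G, T = Helper15.inertia N θ := ⟨_, rfl⟩
  rw [← hT]
  have hNT : N ≤ T :=
    hT ▸ Helper15.le_inertia N (isClassFunction_of_isCharacter (isCharacter_of_isIrr hθ))
  let _ : Fintype T := Fintype.ofFinite T
  obtain ⟨ψ, hψ, hind, hmult⟩ := Helper15.clifford_correspondence_exists N hθ T hT hNT hχ hcon
  let _ : Fintype (N.subgroupOf T) := Fintype.ofFinite _
  have hθ' : IsIrrCharacter (N.subgroupOf T) (Helper15.toSub N T hNT θ) :=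
    Helper15.isIrrCharacter_toSub N T hNT hθ
  have hinv' : ∀ t : T, Helper15.conjFun (N.subgroupOf T) t (Helper15.toSub N T hNT θ)
      = Helper15.toSub N T hNT θ := by
    intro t
    rw [Helper15.conjFun_toSub]
    have : (t : G) ∈ Helper15.inertia N θ := hT ▸ t.2
    rw [(Helper15.mem_inertia N θ _).mp this]
  have hψres : (fun x : N.subgroupOf T => ψ x)
      = Helper15.toSub N T hNT (fun n : N => ψ ⟨(n : G), hNT n.2⟩) :=
    Helper15.restrict_subgroupOf N T hNT _
  have hne' : classInner (fun x : N.subgroupOf T => ψ x) (Helper15.toSub N T hNT θ) ≠ 0 := by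
    rw [hψres, Helper15.classInner_toSub, hmult]
    exact hcon
  obtain ⟨b, hb1, hb2⟩ := degree_ratio_dvd_of_invariant (N.subgroupOf T) hψ hθ' hne' hinv'
  have hθ1 : Helper15.toSub N T hNT θ 1 = θ 1 := rfl
  refine ⟨b, ?_, ?_⟩
  · rw [← hind, Helper15.indFun_apply_one, hb1, hθ1]
    push_cast; ring
  · exact hb2

/-- A finite group all of whose irreducible characters have degree one is abelian. -/
theorem comm_of_forall_irr_one {P : Type u} [Group P] [Fintype P]
    (h : ∀ ζ : IrrCharacter P, (ζ : P → ℂ) 1 = 1) (a b : P) : a * b = b * a := by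
  classical
  let _ := irrFintype P
  have hone : ∀ ζ : IrrCharacter P, (ζ : P → ℂ) (a * b * a⁻¹ * b⁻¹) = 1 := by
    intro ζ
    set φ := Helper15.linCharUnits (irr_isCharacter ζ) (h ζ) with hφ
    have h1 : ((φ (a * b * a⁻¹ * b⁻¹) : ℂˣ) : ℂ) = (ζ : P → ℂ) (a * b * a⁻¹ * b⁻¹) :=
      Helper15.linCharUnits_apply _ _ _
    rw [← h1]
    have h2 : φ (a * b * a⁻¹ * b⁻¹) = 1 := by
      rw [map_mul, map_mul, map_mul, map_inv, map_inv]
      rw [mul_comm (φ a) (φ b), mul_assoc, mul_assoc]
      simp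
    rw [h2]
    rfl
  have hsum := sum_irr_degree_mul_apply (G := P) (a * b * a⁻¹ * b⁻¹)
  have hsum' : ∑ χ : IrrCharacter P, (χ : P → ℂ) 1 * (χ : P → ℂ) (a * b * a⁻¹ * b⁻¹)
      = (Fintype.card (IrrCharacter P) : ℂ) := by
    rw [Finset.sum_congr rfl (fun χ _ => by rw [h χ, hone χ, one_mul])]
    simp
  rw [hsum'] at hsum
  by_cases hg : a * b * a⁻¹ * b⁻¹ = 1
  · calc a * b = (a * b * a⁻¹ * b⁻¹) * (b * a) := by group
      _ = b * a := by rw [hg, one_mul]
  · rw [if_neg hg] at hsum
    exfalso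
    have hne : Nonempty (IrrCharacter P) := ⟨Helper79.principalIrr P⟩
    have : (Fintype.card (IrrCharacter P) : ℂ) ≠ 0 := by
      exact_mod_cast Fintype.card_ne_zero
    exact this hsum

end Cfsg.Agent.Helper74
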