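import Cfsg.Agent.Helper74.ReynoldsC
import Cfsg.Agent.Helper74.Ito
import Cfsg.Agent.Helper77.MaxPair
import Cfsg.Agent.Helper78.ExtFirstMain
import Cfsg.Agent.Helper78.BlockBasic
import Cfsg.Agent.Helper16.Covering3
import Cfsg.Agent.Helper11.PSolvable
import Cfsg.Agent.S0971
import Cfsg.Agent.S0973

/-!
# Reynolds' theorem (helper74)

A block `B` with a normal defect group `P`: `P` is abelian iff every member of `B` has height zero.
-/

set_option autoImplicit false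

namespace Cfsg.Agent.Helper74

open Cfsg
open scoped ComplexConjugate

universe u

section stab
variable {G : Type u} [Group G] [Fintype G]

theorem mem_stabSubgroup_iff_of_normal (L : Subgroup G) [hLn : L.Normal]
    (b : Set (IrrCharacter L)) (g : G) :
    g ∈ Helper77.stabSubgroup L b ↔ ∀ θ ∈ b, ∀ θ' : IrrCharacter L,
      (∀ h h' : L, (h' : G) = g * h * g⁻¹ → (θ' : L → ℂ) h' = (θ : L → ℂ) h) → θ' ∈ b := by
  rw [Helper77.mem_stabSubgroup]
  unfold StabilizesBlock IsConjCharOf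
  constructor
  · rintro ⟨_, hst⟩ θ hθ θ' hθ'
    obtain ⟨χ', hχ'b, hconj⟩ := hst θ hθ
    have : θ' = χ' := by
      apply Subtype.ext
      funext h'
      have hmem : g⁻¹ * (h' : G) * g ∈ L := by
        have := hLn.conj_mem (h' : G) h'.2 g⁻¹
        simpa using this
      have e : (h' : G) = g * ((⟨g⁻¹ * (h' : G) * g, hmem⟩ : L) : G) * g⁻¹ := by
        simp [mul_assoc]
      rw [hθ' ⟨_, hmem⟩ h' e, hconj ⟨_, hmem⟩ h' e]
    rw [this]
    exact hχ'b
  · intro h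
    refine ⟨?_, fun χ hχ => ?_⟩
    · rw [Subgroup.normalizer_eq_top]
      exact Subgroup.mem_top g
    · have hconj : ∀ k k' : L, (k' : G) = g * (k : G) * g⁻¹ →
          ((Helper16.irrConj L g⁻¹ χ : IrrCharacter L) : L → ℂ) k' = (χ : L → ℂ) k := by
        intro k k' hk
        rw [Helper16.irrConj_coe, Helper15.conjFun_apply]
        have e : (⟨g⁻¹ * (k' : G) * g⁻¹⁻¹, hLn.conj_mem (k' : G) k'.2 g⁻¹⟩ : L) = k := by
          apply Subtype.ext
          simp [hk, mul_assoc]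
        rw [e]
      exact ⟨Helper16.irrConj L g⁻¹ χ, h χ hχ _ hconj, hconj⟩

theorem inertia_le_stabSubgroup {M : Ideal AlgInt} (hMp : M.IsPrime) (L : Subgroup G)
    [hLn : L.Normal] {b : Set (IrrCharacter L)} (hb : IsPBlock M b) (θ₁ : IrrCharacter L)
    (hθ₁ : θ₁ ∈ b) : Helper15.inertia L (θ₁ : L → ℂ) ≤ Helper77.stabSubgroup L b := by
  intro g hg
  rw [mem_stabSubgroup_iff_of_normal]
  intro θ hθ θ' hθ'
  let _ : Fintype L := Fintype.ofFinite L
  have hbeq : b = blockOf M (θ₁ : L → ℂ) := Helper78.isPBlock_eq_blockOf_of_mem hMp hb hθ₁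
  rw [hbeq] at hθ ⊢
  have hg' : g⁻¹ ∈ Helper15.inertia L (θ₁ : L → ℂ) := Subgroup.inv_mem _ hg
  have h1 : SameBlock M (Helper15.conjFun L g⁻¹ (θ₁ : L → ℂ)) (Helper15.conjFun L g⁻¹ (θ : L → ℂ)) :=
    Helper16.sameBlock_conjFun L hθ g⁻¹
  rw [(Helper15.mem_inertia L _ _).mp hg'] at h1
  have h2 : (θ' : L → ℂ) = Helper15.conjFun L g⁻¹ (θ : L → ℂ) := by
    funext h'
    rw [Helper15.conjFun_apply]
    have hmem : g⁻¹ * (h' : G) * g⁻¹⁻¹ ∈ L := hLn.conj_mem (h' : G) h'.2 g⁻¹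
    have e : (h' : G) = g * ((⟨g⁻¹ * (h' : G) * g⁻¹⁻¹, hmem⟩ : L) : G) * g⁻¹ := by
      simp [mul_assoc]
    exact hθ' ⟨_, hmem⟩ h' e
  show SameBlock M (θ₁ : L → ℂ) (θ' : L → ℂ)
  rw [h2]
  exact h1

end stab

end Cfsg.Agent.Helper74
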