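import Cfsg.Agent.Helper74.ReynoldsD

/-!
# Reynolds' theorem, assembly (helper74)
-/

set_option autoImplicit false

namespace Cfsg.Agent.Helper74

open Cfsg
open scoped ComplexConjugate

universe u

/-- Key step: under the hypotheses of Reynolds' theorem (all heights zero), every irreducible
character of the normal defect group has degree prime to `p`. -/
theorem reynolds_aux {G : Type u} [Group G] [Fintype G] {p : ℕ} [hp : Fact p.Prime]
    {M : Ideal AlgInt} (hM : IsPModular p M) (B : Set (IrrCharacter G)) (hB : IsPBlock M B)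
    (P : Subgroup G) [hPn : P.Normal] [Fintype P] (hP : IsDefectGroup p M B P)
    (hht : ∀ χ ∈ B, blockHeight p B (χ : G → ℂ) = 0)
    (L : Subgroup G) [hLn : L.Normal] [Fintype L]
    (hL : L = P ⊔ Subgroup.centralizer (P : Set G))
    (b : Set (IrrCharacter L)) (hbP : IsDefectGroup p M b (P.subgroupOf L))
    (hind : IsInducedBlock M L b B)
    (hcovind : ∀ B₁ : Set (IrrCharacter G), IsPBlock M B₁ →
      (∃ χ ∈ B₁, ∃ θ ∈ b, classInner (fun n : L => (χ : G → ℂ) n) (θ : L → ℂ) ≠ 0) →
      IsInducedBlock M L b B₁)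
    (ζ : IrrCharacter P) : (charDegree (ζ : P → ℂ)).factorization p = 0 := by
  classical
  have hMp : M.IsPrime := Helper16.IsPModular.isPrime hM
  have hb : IsPBlock M b := hind.1
  have hcardP : Nat.card P = p ^ blockDefect p B := Helper77.card_defectGroup hM hB P hP
  have hPp : IsPGroup p P := IsPGroup.of_card hcardP
  have hPL : P ≤ L := hL ▸ le_sup_left
  have hCL : Subgroup.centralizer (P : Set G) ≤ L := hL ▸ le_sup_right
  haveI hPLn : (P.subgroupOf L).Normal := hPn.subgroupOf L
  let _ : Fintype (P.subgroupOf L) := Fintype.ofFinite _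
  -- `L = P C_L(P)` inside `L`
  have hPC : P.subgroupOf L ⊔ Subgroup.centralizer ((P.subgroupOf L : Subgroup L) : Set L) = ⊤ := by
    rw [eq_top_iff]
    intro l _
    have hl : (l : G) ∈ ((P ⊔ Subgroup.centralizer (P : Set G) : Subgroup G) : Set G) := by
      rw [← hL]; exact l.2
    rw [Subgroup.normal_mul] at hl
    obtain ⟨y, hy, c, hc, hyc⟩ := Set.mem_mul.mp hl
    have hlyc : l = (⟨y, hPL hy⟩ : L) * (⟨c, hCL hc⟩ : L) := Subtype.ext hyc.symm
    rw [hlyc]
    apply Subgroup.mul_mem
    · apply Subgroup.mem_sup_left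
      rw [Subgroup.mem_subgroupOf]
      exact hy
    · apply Subgroup.mem_sup_right
      rw [Subgroup.mem_centralizer_iff]
      intro z hz
      apply Subtype.ext
      rw [Subgroup.coe_mul, Subgroup.coe_mul]
      exact (Subgroup.mem_centralizer_iff.mp hc (z : G) (Subgroup.mem_subgroupOf.mp hz))
  have hPLp : IsPGroup p (P.subgroupOf L) := hPp.comap_subtype
  let ζL : IrrCharacter (P.subgroupOf L) :=
    ⟨Helper15.toSub P L hPL (ζ : P → ℂ), Helper15.isIrrCharacter_toSub P L hPL ζ.2⟩
  obtain ⟨θ₁, hθ₁b, hθ₁ζ⟩ := exists_mem_block_over hM (P.subgroupOf L) hPLp hb ζL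
  have hge := factorization_degree_ge_of_over hM (P.subgroupOf L) hPC hb hbP ζL θ₁ hθ₁b hθ₁ζ
  have hζL : charDegree (ζL : P.subgroupOf L → ℂ) = charDegree (ζ : P → ℂ) := rfl
  have hidxPL : (P.subgroupOf L).index = P.relIndex L := rfl
  rw [hζL, hidxPL] at hge
  -- a character of `G` over `θ₁`
  obtain ⟨χ₁, hχ₁⟩ := Helper16.exists_irr_over L θ₁
  have hind₁ : IsInducedBlock M L b (blockOf M (χ₁ : G → ℂ)) :=
    hcovind _ ⟨χ₁, rfl⟩ ⟨χ₁, Helper78.mem_blockOf_self hMp χ₁, θ₁, hθ₁b, hχ₁⟩
  have hBB : blockOf M (χ₁ : G → ℂ) = B := Helper77.isInducedBlock_unique L hind₁ hind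
  have hχ₁B : χ₁ ∈ B := hBB ▸ Helper78.mem_blockOf_self hMp χ₁
  -- height zero
  have hh := hht χ₁ hχ₁B
  have hle : sInf ((fun ψ : IrrCharacter G => (charDegree (ψ : G → ℂ)).factorization p) '' B)
      ≤ (charDegree (χ₁ : G → ℂ)).factorization p := Nat.sInf_le ⟨χ₁, hχ₁B, rfl⟩
  have hχ₁dvd := charDegree_dvd_card χ₁
  have hχ₁0 : charDegree (χ₁ : G → ℂ) ≠ 0 :=
    (Nat.pos_of_dvd_of_pos hχ₁dvd Nat.card_pos).ne'
  have hχ₁a : (charDegree (χ₁ : G → ℂ)).factorization p ≤ (Nat.card G).factorization p :=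
    (Nat.factorization_le_iff_dvd hχ₁0 Nat.card_pos.ne').mpr hχ₁dvd p
  have hdefect : blockDefect p B + (charDegree (χ₁ : G → ℂ)).factorization p
      = (Nat.card G).factorization p := by
    unfold blockHeight at hh
    unfold blockDefect
    omega
  -- Clifford
  obtain ⟨b', hb'1, hb'2⟩ := degree_ratio_inertia L χ₁.2 θ₁.2 hχ₁
  obtain ⟨T, hT⟩ : ∃ T : Subgroup G, T = Helper15.inertia L (θ₁ : L → ℂ) := ⟨_, rfl⟩
  rw [← hT] at hb'1 hb'2
  have hLT : L ≤ T :=
    hT ▸ Helper15.le_inertia L (isClassFunction_of_isCharacter (irr_isCharacter θ₁))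
  have hdeg : charDegree (χ₁ : G → ℂ) = T.index * b' * charDegree (θ₁ : L → ℂ) := by
    have h1 := charDegree_cast (irr_isCharacter χ₁)
    have h2 := charDegree_cast (irr_isCharacter θ₁)
    have : ((charDegree (χ₁ : G → ℂ) : ℕ) : ℂ)
        = ((T.index * b' * charDegree (θ₁ : L → ℂ) : ℕ) : ℂ) := by
      rw [h1, hb'1]; push_cast; rw [h2]
    exact_mod_cast this
  have hTi0 : T.index ≠ 0 := Subgroup.index_ne_zero_of_finite
  have hb'0 : b' ≠ 0 := by
    rintro rfl; apply hχ₁0; rw [hdeg, mul_zero, zero_mul]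
  have hθ₁0 : charDegree (θ₁ : L → ℂ) ≠ 0 := by
    intro h; apply hχ₁0; rw [hdeg, h, mul_zero]
  have hdegfac : (charDegree (χ₁ : G → ℂ)).factorization p
      = T.index.factorization p + b'.factorization p
        + (charDegree (θ₁ : L → ℂ)).factorization p := by
    rw [hdeg, Nat.factorization_mul (Nat.mul_ne_zero hTi0 hb'0) hθ₁0,
      Nat.factorization_mul hTi0 hb'0]
    rfl
  -- the order of `G`
  have hc1 : Nat.card P * P.relIndex L = Nat.card L := Helper11.card_mul_relIndex hPL
  have hc2 : Nat.card L * L.relIndex T = Nat.card T := Helper11.card_mul_relIndex hLT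
  have hc3 : Nat.card T * T.index = Nat.card G := T.card_mul_index
  have hP0 : Nat.card P ≠ 0 := Nat.card_pos.ne'
  have hL0 : Nat.card L ≠ 0 := Nat.card_pos.ne'
  have hT0 : Nat.card T ≠ 0 := Nat.card_pos.ne'
  have hr1 : P.relIndex L ≠ 0 := by
    intro h; rw [h, mul_zero] at hc1; exact hL0 hc1.symm
  have hr2 : L.relIndex T ≠ 0 := by
    intro h; rw [h, mul_zero] at hc2; exact hT0 hc2.symm
  have hcardfac : (Nat.card G).factorization p
      = blockDefect p B + (P.relIndex L).factorization p + (L.relIndex T).factorization p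
        + T.index.factorization p := by
    have e0 : (Nat.card P).factorization p = blockDefect p B := by
      rw [hcardP, Nat.Prime.factorization_pow hp.out]
      simp
    rw [← hc3, Nat.factorization_mul hT0 hTi0, ← hc2, Nat.factorization_mul hL0 hr2, ← hc1,
      Nat.factorization_mul hP0 hr1, Finsupp.add_apply, Finsupp.add_apply, Finsupp.add_apply, e0]
  -- first main theorem: `p ∤ [T(b) : L]`
  have hfirst := (Helper78.ext_first_main p M hM P hPp L hL b hb hbP B hind
    (Helper77.stabSubgroup L b) (fun g => by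
      rw [mem_stabSubgroup_iff_of_normal]
      constructor
      · intro h
        refine ⟨?_, h⟩
        rw [Subgroup.normalizer_eq_top]
        exact Subgroup.mem_top g
      · intro h
        exact h.2)).mp hP
  have hTle : T ≤ Helper77.stabSubgroup L b := hT ▸ inertia_le_stabSubgroup hMp L hb θ₁ hθ₁b
  have hLS : L ≤ Helper77.stabSubgroup L b := hLT.trans hTle
  have hrel : L.relIndex T * T.relIndex (Helper77.stabSubgroup L b)
      = L.relIndex (Helper77.stabSubgroup L b) := Subgroup.relIndex_mul_relIndex _ _ _ hLT hTle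
  have hnd : ¬ p ∣ L.relIndex T := fun h => hfirst (hrel ▸ Dvd.dvd.mul_right h _)
  have hz : (L.relIndex T).factorization p = 0 := Nat.factorization_eq_zero_of_not_dvd hnd
  omega

end Cfsg.Agent.Helper74
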