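import Cfsg.Agent.Helper74.ReynoldsE

/-!
# Reynolds' theorem (helper74)

`reynolds`: for a block `B` with a normal defect group `P`, `P` is abelian iff all members of `B`
have height zero.
-/

set_option autoImplicit false

namespace Cfsg.Agent.Helper74

open Cfsg
open scoped ComplexConjugate

universe u

theorem reynolds {G : Type u} [Group G] [Fintype G] (p : ℕ) [hp : Fact p.Prime]
    (M : Ideal AlgInt) (hM : IsPModular p M) (B : Set (IrrCharacter G)) (hB : IsPBlock M B)
    (P : Subgroup G) [hPn : P.Normal] (hP : IsDefectGroup p M B P) :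
    (∀ a ∈ P, ∀ c ∈ P, a * c = c * a) ↔ ∀ χ ∈ B, blockHeight p B (χ : G → ℂ) = 0 := by
  classical
  have hMp : M.IsPrime := Helper16.IsPModular.isPrime hM
  let _ : Fintype P := Fintype.ofFinite P
  have hcardP : Nat.card P = p ^ blockDefect p B := Helper77.card_defectGroup hM hB P hP
  have hPp : IsPGroup p P := IsPGroup.of_card hcardP
  constructor
  · -- Ito
    intro hab χ hχ
    obtain ⟨n, hn1, hn2⟩ := ito_degree_dvd_index P hab χ.2
    have hdeg : charDegree (χ : G → ℂ) = n := by
      have h1 := charDegree_cast (irr_isCharacter χ)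
      have : ((charDegree (χ : G → ℂ) : ℕ) : ℂ) = ((n : ℕ) : ℂ) := by rw [h1, hn1]
      exact_mod_cast this
    have hPi0 : P.index ≠ 0 := Subgroup.index_ne_zero_of_finite
    have hχ0 : charDegree (χ : G → ℂ) ≠ 0 :=
      (Nat.pos_of_dvd_of_pos (charDegree_dvd_card χ) Nat.card_pos).ne'
    have h1 : (charDegree (χ : G → ℂ)).factorization p ≤ P.index.factorization p :=
      (Nat.factorization_le_iff_dvd hχ0 hPi0).mpr (hdeg ▸ hn2) p
    have h2 := P.card_mul_index
    have hP0 : Nat.card P ≠ 0 := Nat.card_pos.ne'
    have e0 : (Nat.card P).factorization p = blockDefect p B := by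
      rw [hcardP, Nat.Prime.factorization_pow hp.out]
      simp
    have h3 : (Nat.card G).factorization p = blockDefect p B + P.index.factorization p := by
      rw [← h2, Nat.factorization_mul hP0 hPi0, Finsupp.add_apply, e0]
    -- the infimum is attained in `B`
    obtain ⟨χ₀, hχ₀, hχ₀0⟩ := Helper78.exists_height_zero (p := p) hMp hB
    have hχ₀a : (charDegree (χ₀ : G → ℂ)).factorization p ≤ (Nat.card G).factorization p := by
      have hd := charDegree_dvd_card χ₀
      have h0 : charDegree (χ₀ : G → ℂ) ≠ 0 := (Nat.pos_of_dvd_of_pos hd Nat.card_pos).ne'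
      exact (Nat.factorization_le_iff_dvd h0 Nat.card_pos.ne').mpr hd p
    have hle : sInf ((fun ψ : IrrCharacter G => (charDegree (ψ : G → ℂ)).factorization p) '' B)
        ≤ (charDegree (χ₀ : G → ℂ)).factorization p := Nat.sInf_le ⟨χ₀, hχ₀, rfl⟩
    unfold blockHeight
    unfold blockDefect at h3
    omega
  · intro hht
    have hL : (P ⊔ Subgroup.centralizer (P : Set G)).Normal := by
      have : (Subgroup.centralizer (P : Set G)).Normal := Subgroup.normal_centralizer
      infer_instance
    let _ : Fintype (P ⊔ Subgroup.centralizer (P : Set G) : Subgroup G) := Fintype.ofFinite _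
    obtain ⟨⟨b, hbP, hind⟩, _⟩ := Cfsg.Agent.S0973.result p M hM B hB P hP
    have h971 := (Cfsg.Agent.S0971.result p M hM P hPp b hind.1).2
    have hlin : ∀ ζ : IrrCharacter P, (ζ : P → ℂ) 1 = 1 := by
      intro ζ
      have h0 := reynolds_aux hM B hB P hP hht (P ⊔ Subgroup.centralizer (P : Set G)) rfl b hbP
        hind h971 ζ
      have hdvd : charDegree (ζ : P → ℂ) ∣ Nat.card P := charDegree_dvd_card ζ
      rw [hcardP] at hdvd
      obtain ⟨k, _, hk⟩ := (Nat.dvd_prime_pow hp.out).mp hdvd
      have hk0 : k = 0 := by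
        rw [hk, Nat.Prime.factorization_pow hp.out] at h0
        simpa using h0
      rw [hk0, pow_zero] at hk
      rw [← charDegree_cast (irr_isCharacter ζ), hk, Nat.cast_one]
    intro a ha c hc
    have := comm_of_forall_irr_one hlin ⟨a, ha⟩ ⟨c, hc⟩
    exact congrArg Subtype.val this

end Cfsg.Agent.Helper74
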