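import Cfsg.Agent.Helper74.SN.Defs
import Cfsg.Agent.Helper5.PSL2Simple
import Cfsg.Agent.Helper46.PSL2Card

/-!
# SN farm (S4073), leaf (PSL) [hedge by helper74]: `NAN (PSL_2(2^k))`
-/

set_option autoImplicit false
set_option linter.unusedSectionVars false
set_option linter.unusedVariables false

namespace Cfsg.Agent.Helper74.SNG

open Cfsg Cfsg.Agent.Helper74.SNG

universe u

/-- A subgroup of prime order or of order one is commutative. -/
theorem isMulCommutative_of_card_prime_or_one {X : Type*} [Group X] (J : Subgroup X)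
    (h : Nat.card J = 1 ∨ (Nat.card J).Prime) : IsMulCommutative J := by
  rcases h with h | h
  · rw [isMulCommutative_iff]
    intro a ha b hb
    have h1 : J = ⊥ := Subgroup.card_eq_one.mp h
    rw [h1, Subgroup.mem_bot] at ha hb
    rw [ha, hb]
  · haveI : Fact (Nat.card J).Prime := ⟨h⟩
    have hcyc : IsCyclic J := isCyclic_of_prime_card rfl
    rw [isMulCommutative_iff]
    intro a ha b hb
    obtain ⟨g, hg⟩ := hcyc.exists_generator
    obtain ⟨i, hi⟩ := Subgroup.mem_zpowers_iff.mp (hg ⟨a, ha⟩)
    obtain ⟨j, hj⟩ := Subgroup.mem_zpowers_iff.mp (hg ⟨b, hb⟩)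
    have h1 : (⟨a, ha⟩ : J) * ⟨b, hb⟩ = ⟨b, hb⟩ * ⟨a, ha⟩ := by
      rw [← hi, ← hj, ← zpow_add, ← zpow_add, add_comm]
    exact congrArg Subtype.val h1

/-- (D6a) `PSL_2(2^k)`. -/
theorem NAN_PSL2_char_two {K : Type*} [Field K] [Fintype K] (k : ℕ)
    (hK : Fintype.card K = 2 ^ k) : NAN (Matrix.ProjectiveSpecialLinearGroup (Fin 2) K) := by
  intro J hJ hna
  by_cases h4 : 4 ≤ Fintype.card K
  · haveI := Cfsg.Agent.Helper5.isSimpleGroup_PSL2_of_card h4
    rcases hJ.eq_bot_or_eq_top with h | h
    · exfalso
      apply hna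
      rw [h, isMulCommutative_iff]
      intro a ha b hb
      rw [Subgroup.mem_bot] at ha hb
      rw [ha, hb]
    · exact h
  · -- `|K| = 2`
    have h2 : Fintype.card K = 2 := by
      have h1 : 1 < Fintype.card K := Fintype.one_lt_card
      rcases Nat.lt_or_ge k 2 with hk | hk
      · interval_cases k
        · rw [hK] at h1; omega
        · rw [hK]; norm_num
      · exfalso
        apply h4
        rw [hK]
        calc 4 = 2 ^ 2 := by norm_num
          _ ≤ 2 ^ k := Nat.pow_le_pow_right (by norm_num) hk
    have hcard : Nat.card (Matrix.ProjectiveSpecialLinearGroup (Fin 2) K) = 6 := by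
      have := Cfsg.Agent.Helper46.Dk.card_PSL2_mul_gcd' (F := K)
      rw [h2] at this
      norm_num at this
      exact this
    have hdvd : Nat.card J ∣ 6 := by
      rw [← hcard]
      exact Subgroup.card_subgroup_dvd_card J
    have hle : Nat.card J ≤ 6 := Nat.le_of_dvd (by norm_num) hdvd
    have hpos : 0 < Nat.card J := Nat.card_pos
    have h6 : Nat.card J = 6 := by
      by_contra hne
      apply hna
      apply isMulCommutative_of_card_prime_or_one
      interval_cases (Nat.card J)
      · left; rfl
      · right; norm_num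
      · right; norm_num
      · exfalso; norm_num at hdvd
      · exfalso; norm_num at hdvd
      · exact absurd rfl hne
    rw [← hcard] at h6
    exact (Subgroup.card_eq_iff_eq_top J).mp h6

end Cfsg.Agent.Helper74.SNG
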