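import Cfsg.Agent.Helper74.SPWW5
import Cfsg.Agent.Helper70.SPWW3

/-!
# (W5), (W5') of helper6's Weil-representation plan (S2347), exact skeleton statements
-/

set_option autoImplicit false

namespace Cfsg.Agent.Helper74.SPweil

open Matrix Module Cfsg.Agent.Helper6.SPweil

variable {F : Type*} [Field F] [Fintype F] {n : ℕ}

/-- (W5) -/
theorem scalar_of_commute (h2 : (2 : F) ≠ 0) (ψ : AddChar F ℂ) (hψ : ψ ≠ 0)
    (A : Module.End ℂ ((Fin n → F) → ℂ)) (hA : ∀ v, A * heis ψ v = heis ψ v * A) :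
    ∃ c : ℂ, A = c • 1 :=
  scalar_of_commute_of_span ψ (Cfsg.Agent.Helper70.SPweil.span_heis h2 ψ hψ) A hA

/-- (W5') two intertwiners for the same `g` differ by a scalar -/
theorem intertwiner_unique (h2 : (2 : F) ≠ 0) (ψ : AddChar F ℂ) (hψ : ψ ≠ 0)
    (g : Matrix.symplecticGroup (Fin n) F)
    (T T' : ((Fin n → F) → ℂ) ≃ₗ[ℂ] ((Fin n → F) → ℂ)) (hT : Intertwines ψ g T)
    (hT' : Intertwines ψ g T') : ∃ c : ℂ, c ≠ 0 ∧ ∀ f, T' f = c • T f :=
  intertwiner_unique_of_span ψ (Cfsg.Agent.Helper70.SPweil.span_heis h2 ψ hψ) g T T' hT hT'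

end Cfsg.Agent.Helper74.SPweil
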