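import Cfsg.Agent.Helper74.SqfPieces

set_option autoImplicit false

namespace Cfsg.Agent.Helper74.Sqf

universe u

/-- (DG) the case where `G'` is an `r`-group. -/
theorem card_commutator_le_of_isPGroup {G : Type*} [Group G] [Finite G] (r : ℕ) [Fact r.Prime]
    (h : ∀ x : G, ¬ r ^ 2 ∣ (Subgroup.centralizer ({x} : Set G)).index)
    (hG' : IsPGroup r (commutator G)) : Nat.card (commutator G) ≤ r := by
  have hr : r.Prime := Fact.out
  obtain ⟨P, hP⟩ := hG'.exists_le_sylow
  by_cases hab : ∀ a ∈ (P : Subgroup G), ∀ b ∈ (P : Subgroup G), a * b = b * a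
  · exact card_commutator_le_of_abelian r h P hP hab
  · push Not at hab
    obtain ⟨a, ha, b, hb, hne⟩ := hab
    have hPn : (P : Subgroup G).Normal := Subgroup.Normal.of_commutator_le (h := hP)
    have hcen : ∀ a ∈ (P : Subgroup G), ∀ b ∈ (P : Subgroup G),
        a * b * a⁻¹ * b⁻¹ ∈ Subgroup.center G :=
      fun a ha b hb => (comm_pow_mem_center r h P a ha b hb).1
    have hc : ∀ x : G, (orderOf x).Coprime r → ∀ v ∈ (P : Subgroup G), x * v = v * x :=
      fun x hx => commute_of_nonabelian r P hPn h hcen ⟨a, ha, b, hb, hne⟩ x hx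
    have hle := commutator_le_of_centralizes r P hP hc
    -- breadth one
    have hbr : ∀ y : (P : Subgroup G),
        (Subgroup.centralizer ({y} : Set (P : Subgroup G))).index ∣ r := by
      intro y
      have := hPn
      have h1 := not_sq_dvd_subgroup_normal (P : Subgroup G) h y
      have h2 : (Subgroup.centralizer ({y} : Set (P : Subgroup G))).index ∣
          Nat.card (P : Subgroup G) := Subgroup.index_dvd_card _
      obtain ⟨n, hn⟩ := IsPGroup.iff_card.mp P.2
      rw [hn] at h2
      obtain ⟨j, -, hj⟩ := (Nat.dvd_prime_pow hr).mp h2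
      rw [hj] at h1 ⊢
      have hj2 : j < 2 := by
        by_contra hcon
        exact h1 (pow_dvd_pow r (not_lt.mp hcon))
      calc r ^ j ∣ r ^ 1 := pow_dvd_pow r (by omega)
        _ = r := pow_one r
    have hK := card_commutator_le_of_breadth_one r P.2 hbr
    -- `⁅P, P⁆ = (commutator P).map P.subtype`
    have hmap : (⁅(P : Subgroup G), (P : Subgroup G)⁆ : Subgroup G) =
        (commutator (P : Subgroup G)).map (P : Subgroup G).subtype := by
      rw [commutator_def, Subgroup.map_commutator, ← MonoidHom.range_eq_map,
        Subgroup.range_subtype]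
    have hcard : Nat.card (⁅(P : Subgroup G), (P : Subgroup G)⁆ : Subgroup G) =
        Nat.card (commutator (P : Subgroup G)) := by
      rw [hmap]
      exact Nat.card_congr
        ((commutator (P : Subgroup G)).equivMapOfInjective _
          (Subgroup.subtype_injective _)).toEquiv.symm
    calc Nat.card (commutator G) ≤ Nat.card (⁅(P : Subgroup G), (P : Subgroup G)⁆ : Subgroup G) :=
          Subgroup.card_le_of_le hle
      _ = Nat.card (commutator (P : Subgroup G)) := hcard
      _ ≤ r := hK

end Cfsg.Agent.Helper74.Sqf
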