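import Cfsg.Agent.Helper74.SqfAsmSS
import Cfsg.Agent.Helper74.SqfAsmDG

set_option autoImplicit false

namespace Cfsg.Agent.Helper74.Sqf

universe u

/-- (D) `|G'|` is squarefree. -/
theorem SF.squarefree_card_commutator {G : Type u} [Group G] [Finite G] (h : SF G) :
    Squarefree (Nat.card (commutator G)) := by
  have hss := h.isSupersolvable
  have hnil := Helper9.commutator_isNilpotent_of_isSupersolvable hss
  rw [Nat.squarefree_iff_prime_squarefree]
  intro r hr hdvd
  haveI : Fact r.Prime := ⟨hr⟩
  obtain ⟨K, hKn, hKle, hKcop, k, hk⟩ := exists_normal_compl_in_commutator hnil r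
  haveI := hKn
  have hq : SF (G ⧸ K) := h.quotient K
  have hmap : commutator (G ⧸ K) = (commutator G).map (QuotientGroup.mk' K) := by
    rw [commutator_def, commutator_def, Subgroup.map_commutator,
      Subgroup.map_top_of_surjective _ (QuotientGroup.mk'_surjective K)]
  have hcomap : ((commutator G).map (QuotientGroup.mk' K)).comap (QuotientGroup.mk' K) =
      commutator G := by
    rw [Subgroup.comap_map_eq, QuotientGroup.ker_mk', sup_eq_left.mpr hKle]
  have hcard : Nat.card (commutator (G ⧸ K)) = r ^ k := by
    have h1 := Helper9.card_comap_mk' K ((commutator G).map (QuotientGroup.mk' K))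
    rw [hcomap, hk] at h1
    rw [hmap]
    exact (Nat.eq_of_mul_eq_mul_left Nat.card_pos h1).symm
  have hp : IsPGroup r (commutator (G ⧸ K)) := IsPGroup.of_card hcard
  have hle := card_commutator_le_of_isPGroup r (fun x => hq.not_sq_dvd hr x) hp
  rw [hcard] at hle
  have hk1 : k ≤ 1 := by
    by_contra hcon
    have h2 : r ^ 2 ≤ r ^ k := Nat.pow_le_pow_right hr.pos (by omega)
    have h3 : r < r ^ 2 := by
      have := hr.one_lt
      nlinarith
    omega
  -- `r * r ∣ |K| * r ^ k` with `|K|` prime to `r`
  rw [hk] at hdvd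
  have h4 : r * r ∣ r ^ k := by
    have hc : Nat.Coprime (r * r) (Nat.card K) :=
      Nat.Coprime.mul_left hKcop.symm hKcop.symm
    exact hc.dvd_of_dvd_mul_left hdvd
  have h5 : r * r ≤ r ^ k := Nat.le_of_dvd (pow_pos hr.pos k) h4
  have h6 : r ^ k ≤ r := by
    calc r ^ k ≤ r ^ 1 := Nat.pow_le_pow_right hr.pos hk1
      _ = r := pow_one r
  have := hr.one_lt
  nlinarith

/-- `G'` is cyclic. -/
theorem SF.isCyclic_commutator {G : Type u} [Group G] [Finite G] (h : SF G) :
    IsCyclic (commutator G) := by
  haveI : IsZGroup (commutator G) := IsZGroup.of_squarefree h.squarefree_card_commutator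
  haveI : Group.IsNilpotent (commutator G) :=
    Helper9.commutator_isNilpotent_of_isSupersolvable h.isSupersolvable
  infer_instance

end Cfsg.Agent.Helper74.Sqf
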