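import Cfsg.Agent.Helper74.SqfAsmD

set_option autoImplicit false

namespace Cfsg.Agent.Helper74.Sqf

universe u

/-- A subgroup centralizing `G'` has class at most two. -/
theorem upperCentralSeries_two_eq_top_of_le {G : Type*} [Group G] (A : Subgroup G)
    (hA : A ≤ Subgroup.centralizer (commutator G : Set G)) :
    Subgroup.upperCentralSeries ↥A 2 = ⊤ := by
  rw [eq_top_iff]
  intro x _
  rw [Subgroup.mem_upperCentralSeries_succ_iff]
  intro y
  rw [Subgroup.upperCentralSeries_one, Subgroup.mem_center_iff]
  intro c
  apply Subtype.ext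
  rw [commutatorElement_def]
  have hmem : ((x * y * x⁻¹ * y⁻¹ : A) : G) ∈ commutator G := by
    rw [commutator_def]
    have := Subgroup.commutator_mem_commutator (Subgroup.mem_top (x : G))
      (Subgroup.mem_top (y : G))
    rw [commutatorElement_def] at this
    simpa using this
  have hc := hA c.2
  rw [Subgroup.mem_centralizer_iff] at hc
  exact (hc _ hmem).symm

/-- A subgroup centralizing `G'` is nilpotent. -/
theorem isNilpotent_of_le {G : Type*} [Group G] (A : Subgroup G)
    (hA : A ≤ Subgroup.centralizer (commutator G : Set G)) : Group.IsNilpotent ↥A :=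
  ⟨⟨2, upperCentralSeries_two_eq_top_of_le A hA⟩⟩

/-- (E) `F(G) = C_G(G')`, of squarefree index, containing `G'`. -/
theorem SF.fitting_facts {G : Type u} [Group G] [Finite G] (h : SF G) :
    Cfsg.fittingSubgroup G = Subgroup.centralizer (commutator G : Set G) ∧
    Squarefree (Subgroup.centralizer (commutator G : Set G)).index ∧
    commutator G ≤ Subgroup.centralizer (commutator G : Set G) := by
  have hcyc := h.isCyclic_commutator
  obtain ⟨⟨g₀, hg₀mem⟩, hgen⟩ := hcyc.exists_generator
  have hz : Subgroup.zpowers g₀ = commutator G := by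
    apply le_antisymm
    · rw [Subgroup.zpowers_le]; exact hg₀mem
    · intro x hx
      obtain ⟨k, hk⟩ := Subgroup.mem_zpowers_iff.mp (hgen ⟨x, hx⟩)
      rw [Subgroup.mem_zpowers_iff]
      exact ⟨k, by simpa using congrArg Subtype.val hk⟩
  have hC : Subgroup.centralizer (commutator G : Set G) = Subgroup.centralizer {g₀} := by
    rw [← hz, Subgroup.zpowers_eq_closure, Subgroup.centralizer_closure]
  have hord : orderOf g₀ = Nat.card (commutator G) := by rw [← hz, Nat.card_zpowers]
  have hsq : Squarefree (orderOf g₀) := hord ▸ h.squarefree_card_commutator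
  have hn : (Subgroup.zpowers g₀).Normal := by rw [hz]; infer_instance
  have hle : commutator G ≤ Subgroup.centralizer (commutator G : Set G) := by
    haveI : IsMulCommutative (commutator G) := by
      have := hcyc
      exact ⟨⟨fun a b => (IsCyclic.commGroup (α := commutator G)).mul_comm a b⟩⟩
    exact Subgroup.le_centralizer (commutator G)
  refine ⟨?_, ?_, hle⟩
  · apply le_antisymm
    · unfold Cfsg.fittingSubgroup
      apply sSup_le
      rintro M ⟨hMn, hMnil⟩
      haveI := hMn
      rw [hC]
      exact le_centralizer_of_nilpotent g₀ hsq hn M hMnil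
    · exact Helper21.le_fittingSubgroup inferInstance (isNilpotent_of_le _ le_rfl)
  · rw [hC]
    exact h g₀

end Cfsg.Agent.Helper74.Sqf
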