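import Cfsg.Agent.Helper74.SqfPieces

set_option autoImplicit false

namespace Cfsg.Agent.Helper74.Sqf

universe u

/-- (SS) supersolvable -/
theorem SF.isSupersolvable {G : Type u} [Group G] [Finite G] (h : SF G) :
    Cfsg.IsSupersolvable G := by
  suffices H : ∀ n : ℕ, ∀ (G : Type u) [Group G] [Finite G], SF G → Nat.card G = n →
      Cfsg.IsSupersolvable G from H _ G h rfl
  intro n
  induction n using Nat.strong_induction_on with
  | _ n ih =>
    intro G _ _ h hn
    rcases subsingleton_or_nontrivial G with hs | hnt
    · exact Helper9.isSupersolvable_of_subsingleton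
    · obtain ⟨N, hNn, hp⟩ := h.exists_normal_prime
      haveI := hNn
      haveI : Fact (Nat.card N).Prime := ⟨hp⟩
      haveI : IsCyclic N := isCyclic_of_prime_card rfl
      apply Helper9.isSupersolvable_of_cyclic_normal N
      have hlt : Nat.card (G ⧸ N) < Nat.card G := Helper9.card_quotient_lt_of_prime N hp
      exact ih _ (hn ▸ hlt) (G ⧸ N) (h.quotient N) rfl

end Cfsg.Agent.Helper74.Sqf
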