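import Mathlib
import Cfsg.Agent.Helper74.SqfDefs
import Cfsg.Agent.Helper31.SqfA
import Cfsg.Agent.Helper25.SqfB1
import Cfsg.Agent.Helper25.SqfB2i
import Cfsg.Agent.Helper3.SqfB2ii
import Cfsg.Agent.Helper63.Frattini
import Cfsg.Agent.Helper64.TateSpecial
import Cfsg.Agent.Helper64.PNilp

/-!
# `p`-nilpotency from class sizes (helper74, piece (C) for S4130)

If `p` is the smallest prime divisor of `|G|` and no class size of `G` is divisible by `p ^ 2`, then
`G` has a normal `p`-complement.  Elementary: counting commuting pairs plus Burnside's transfer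
theorem.
-/

set_option autoImplicit false

namespace Cfsg.Agent.Helper74.Sqf

universe u

/-- (i) the case of an elementary abelian Sylow `p`-subgroup. -/
theorem hasNormalPComplement_of_elementary {G : Type u} [Group G] [Finite G] (p : ℕ)
    [Fact p.Prime] (hmin : ∀ q : ℕ, q.Prime → q ∣ Nat.card G → p ≤ q)
    (h : ∀ x : G, ¬ p ^ 2 ∣ (Subgroup.centralizer ({x} : Set G)).index) (P : Sylow p G)
    (hab : ∀ a ∈ (P : Subgroup G), ∀ b ∈ (P : Subgroup G), a * b = b * a)
    (hexp : ∀ a ∈ (P : Subgroup G), a ^ p = 1) : Cfsg.HasNormalPComplement p G := by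
  obtain ⟨n, hn⟩ := IsPGroup.iff_card.mp P.2
  rcases Nat.eq_zero_or_pos n with h0 | hpos
  · -- `P = ⊥`
    rw [h0, pow_zero] at hn
    have hP : (P : Subgroup G) = ⊥ := Subgroup.card_eq_one.mp hn
    refine ⟨P, ⊤, inferInstance, ?_⟩
    rw [hP]
    exact Subgroup.isComplement'_top_bot
  · obtain ⟨a, rfl⟩ : ∃ a, n = a + 1 := ⟨n - 1, by omega⟩
    have hP : Subgroup.normalizer ((P : Subgroup G) : Set G) ≤
        Subgroup.centralizer ((P : Subgroup G) : Set G) := by
      intro g hg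
      by_contra hgc
      have h1 := Helper25.Sqf.lt_card_commPairs p h P hexp a hn
      have h2 := Helper25.Sqf.card_commPairs_eq (G := G) p
      have h3 := Helper3.Sqf.card_classes_le p hmin P hab hexp a hn g hg hgc
      rw [h2] at h1
      have h4 := Nat.mul_le_mul_right (Nat.card G) h3
      omega
    exact ⟨P, _, inferInstance, MonoidHom.ker_transferSylow_isComplement' P hP⟩

/-- Commutators lie in the Frattini subgroup of a finite `p`-group. -/
theorem comm_mem_frattini {P : Type*} [Group P] [Finite P] {p : ℕ} [Fact p.Prime]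
    (hP : IsPGroup p P) (a b : P) : a * b * a⁻¹ * b⁻¹ ∈ frattini P := by
  unfold frattini Order.radical
  simp only [Subgroup.mem_iInf]
  intro M hM
  haveI hn : M.Normal := Helper63.normal_of_isCoatom_of_isPGroup hP M hM
  have hidx := Helper63.index_of_isCoatom_of_isPGroup hP M hM
  have hcard : Nat.card (P ⧸ M) = p := by rw [← Subgroup.index_eq_card, hidx]
  haveI : IsCyclic (P ⧸ M) := isCyclic_of_prime_card hcard
  rw [← QuotientGroup.eq_one_iff]
  have hc : ∀ x y : P ⧸ M, x * y = y * x :=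
    fun x y => (IsCyclic.commGroup (α := P ⧸ M)).mul_comm x y
  rw [QuotientGroup.mk_mul, QuotientGroup.mk_mul, QuotientGroup.mk_mul, QuotientGroup.mk_inv,
    QuotientGroup.mk_inv, hc (a : P ⧸ M) (b : P ⧸ M)]
  group

/-- (C) `p`-nilpotency. -/
theorem normal_p_complement {G : Type*} [Group G] [Finite G] (p : ℕ) [Fact p.Prime]
    (hmin : ∀ q : ℕ, q.Prime → q ∣ Nat.card G → p ≤ q)
    (h : ∀ x : G, ¬ p ^ 2 ∣ (Subgroup.centralizer ({x} : Set G)).index) :
    ∃ N : Subgroup G, N.Normal ∧ (Nat.card N).Coprime p ∧ ∃ k : ℕ, N.index = p ^ k := by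
  rw [← Helper64.hasNormalPComplement_iff_exists]
  obtain ⟨P⟩ : Nonempty (Sylow p G) := inferInstance
  have hA := Helper31.Sqf.comm_pow_mem_center p h P
  -- the subgroup generated by commutators and `p`-th powers of `P`
  set S : Set (P : Subgroup G) :=
    {c | ∃ a b : (P : Subgroup G), c = a * b * a⁻¹ * b⁻¹} ∪ {c | ∃ a : (P : Subgroup G), c = a ^ p}
    with hS
  set Q₀ : Subgroup (P : Subgroup G) := Subgroup.closure S with hQ₀
  set Q : Subgroup G := Q₀.map (P : Subgroup G).subtype with hQ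
  have hQP : Q ≤ (P : Subgroup G) := Subgroup.map_subtype_le _
  have hQ₀fr : Q₀ ≤ frattini (P : Subgroup G) := by
    rw [hQ₀, Subgroup.closure_le]
    rintro c (⟨a, b, rfl⟩ | ⟨a, rfl⟩)
    · exact comm_mem_frattini P.2 a b
    · exact Helper63.pow_prime_mem_frattini P.2 a
  have hQcen : Q ≤ Subgroup.center G := by
    rw [hQ, Subgroup.map_le_iff_le_comap, hQ₀, Subgroup.closure_le]
    rintro c (⟨a, b, rfl⟩ | ⟨a, rfl⟩)
    · exact (hA a a.2 b b.2).1
    · exact (hA a a.2 a a.2).2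
  haveI hQn : Q.Normal := by
    refine ⟨fun n hn g => ?_⟩
    have := Subgroup.mem_center_iff.mp (hQcen hn) g
    have h1 : g * n * g⁻¹ = n := by rw [this]; group
    rw [h1]; exact hn
  have hmemQ : ∀ c : (P : Subgroup G), c ∈ S → (c : G) ∈ Q := by
    intro c hc
    exact ⟨c, Subgroup.subset_closure hc, rfl⟩
  have hQfr : ∀ q (hq : q ∈ Q), (⟨q, hQP hq⟩ : (P : Subgroup G)) ∈ frattini ↥(P : Subgroup G) := by
    intro q hq
    obtain ⟨c, hc, hcq⟩ := hq
    have : (⟨q, hQP ⟨c, hc, hcq⟩⟩ : (P : Subgroup G)) = c := Subtype.ext hcq.symm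
    rw [this]
    exact hQ₀fr hc
  apply Helper64.hasNormalPComplement_of_quotient_frattini P Q hQP hQfr
  -- the quotient
  have hsurj := QuotientGroup.mk'_surjective Q
  set P' : Sylow p (G ⧸ Q) := P.mapSurjective hsurj with hP'
  have hP'coe : (P' : Subgroup (G ⧸ Q)) = (P : Subgroup G).map (QuotientGroup.mk' Q) :=
    Sylow.coe_mapSurjective hsurj P
  have hmin' : ∀ q : ℕ, q.Prime → q ∣ Nat.card (G ⧸ Q) → p ≤ q := by
    intro q hq hd
    apply hmin q hq
    rw [Subgroup.card_eq_card_quotient_mul_card_subgroup Q]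
    exact Dvd.dvd.mul_right hd _
  have h' := not_sq_dvd_of_surjective (QuotientGroup.mk' Q) hsurj h
  apply hasNormalPComplement_of_elementary p hmin' h' P'
  · intro x hx y hy
    rw [hP'coe] at hx hy
    obtain ⟨a, ha, rfl⟩ := hx
    obtain ⟨b, hb, rfl⟩ := hy
    show (QuotientGroup.mk a : G ⧸ Q) * QuotientGroup.mk b = QuotientGroup.mk b * QuotientGroup.mk a
    rw [← QuotientGroup.mk_mul, ← QuotientGroup.mk_mul, QuotientGroup.eq]
    have hc : (a * b)⁻¹ * (b * a) = b⁻¹ * a⁻¹ * (b⁻¹)⁻¹ * (a⁻¹)⁻¹ := by group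
    rw [hc]
    have := hmemQ (⟨b, hb⟩⁻¹ * ⟨a, ha⟩⁻¹ * (⟨b, hb⟩⁻¹)⁻¹ * (⟨a, ha⟩⁻¹)⁻¹)
      (Or.inl ⟨⟨b, hb⟩⁻¹, ⟨a, ha⟩⁻¹, rfl⟩)
    simpa using this
  · intro x hx
    rw [hP'coe] at hx
    obtain ⟨a, ha, rfl⟩ := hx
    show (QuotientGroup.mk a : G ⧸ Q) ^ p = 1
    rw [← QuotientGroup.mk_pow, QuotientGroup.eq_one_iff]
    have := hmemQ (⟨a, ha⟩ ^ p) (Or.inr ⟨⟨a, ha⟩, rfl⟩)
    simpa using this

end Cfsg.Agent.Helper74.Sqf
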