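import Mathlib
import Cfsg.Agent.Helper74.SqfDefs
import Cfsg.Agent.Helper74.SqfC
import Cfsg.Agent.Helper31.SqfT
import Cfsg.Agent.Helper34.SqfCL
import Cfsg.Agent.Helper34.SqfDG1
import Cfsg.Agent.Helper48.SqfM
import Cfsg.Agent.Helper95.SqfDG4
import Cfsg.Agent.Helper37.SqfDG2
import Cfsg.Agent.Helper48.SqfK
import Cfsg.Agent.Helper48.SqfE1
import Cfsg.Agent.Helper95.SqfDR
import Cfsg.Agent.Helper9.Supersolvable2
import Cfsg.Agent.Helper21.Fitting

/-!
# S4130: the pieces delivered by the team, re-exported under one namespace (helper74)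
-/

set_option autoImplicit false

namespace Cfsg.Agent.Helper74.Sqf

universe u

/-- (A) covering trick (helper31) -/
theorem comm_pow_mem_center {G : Type*} [Group G] [Finite G] (p : ℕ) [Fact p.Prime]
    (h : ∀ x : G, ¬ p ^ 2 ∣ (Subgroup.centralizer ({x} : Set G)).index) (P : Sylow p G) :
    ∀ a ∈ (P : Subgroup G), ∀ b ∈ (P : Subgroup G),
      a * b * a⁻¹ * b⁻¹ ∈ Subgroup.center G ∧ a ^ p ∈ Subgroup.center G :=
  Helper31.Sqf.comm_pow_mem_center p h P

/-- (T) Sylow tower (helper31, from (C)) -/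
theorem SF.isSolvable_and_sylow_normal {G : Type u} [Group G] [Finite G] (h : SF G) :
    Group.IsSolvable G ∧ ∀ (r : ℕ) [Fact r.Prime], (∀ q : ℕ, q.Prime → q ∣ Nat.card G → q ≤ r) →
      ∀ R : Sylow r G, (R : Subgroup G).Normal :=
  Helper31.Sqf.isSolvable_and_sylow_normal_of
    (fun G _ _ p _ hmin h => normal_p_complement p hmin h) h

/-- (CL) core lemma (helper34) -/
theorem card_commutator_le {G : Type*} [Group G] [Finite G] (r : ℕ) [Fact r.Prime]
    (N E : Subgroup G) [N.Normal] (hNr : IsPGroup r N)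
    (hNab : ∀ a ∈ N, ∀ b ∈ N, a * b = b * a)
    (hEab : ∀ e ∈ E, ∀ e' ∈ E, e * e' * e⁻¹ * e'⁻¹ ∈ Subgroup.centralizer (N : Set G))
    (hr' : ∀ e ∈ E, e ^ r ∈ Subgroup.centralizer (N : Set G) →
      e ∈ Subgroup.centralizer (N : Set G))
    (hsmall : ∀ e ∈ E, ¬ r ^ 2 ∣ (Subgroup.centralizer ({e} : Set G)).index) :
    Nat.card (⁅N, E⁆ : Subgroup G) ≤ r :=
  Helper34.Sqf34.card_commutator_le r N E hNr hNab hEab hr' hsmall

/-- (M) normal subgroup of prime order -/
theorem SF.exists_normal_prime {G : Type u} [Group G] [Finite G] [Nontrivial G] (h : SF G) :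
    ∃ N : Subgroup G, N.Normal ∧ (Nat.card N).Prime :=
  Helper48.Sqf.exists_normal_prime_of h h.isSolvable_and_sylow_normal
    (fun r _ N E _ hNr hNab hEab hr' hsmall => card_commutator_le r N E hNr hNab hEab hr' hsmall)

/-- (DG1) -/
theorem commute_of_nonabelian {G : Type*} [Group G] [Finite G] (r : ℕ) [Fact r.Prime]
    (P : Sylow r G) (hPn : (P : Subgroup G).Normal)
    (h : ∀ x : G, ¬ r ^ 2 ∣ (Subgroup.centralizer ({x} : Set G)).index)
    (hcen : ∀ a ∈ (P : Subgroup G), ∀ b ∈ (P : Subgroup G), a * b * a⁻¹ * b⁻¹ ∈ Subgroup.center G)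
    (hna : ∃ a ∈ (P : Subgroup G), ∃ b ∈ (P : Subgroup G), a * b ≠ b * a)
    (x : G) (hx : (orderOf x).Coprime r) : ∀ v ∈ (P : Subgroup G), x * v = v * x :=
  Helper34.Sqf34.commute_of_nonabelian r P hPn h hcen hna x hx

/-- (DG2) (helper37) -/
theorem commutator_le_of_centralizes {G : Type*} [Group G] [Finite G] (r : ℕ) [Fact r.Prime]
    (P : Sylow r G) (hG' : commutator G ≤ (P : Subgroup G))
    (hc : ∀ x : G, (orderOf x).Coprime r → ∀ v ∈ (P : Subgroup G), x * v = v * x) :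
    commutator G ≤ ⁅(P : Subgroup G), (P : Subgroup G)⁆ :=
  Helper37.Sqf.commutator_le_of_centralizes r P hG' hc

/-- (K) Knoche (helper48) -/
theorem card_commutator_le_of_breadth_one {P : Type*} [Group P] [Finite P] (r : ℕ)
    [Fact r.Prime] (hP : IsPGroup r P)
    (hb : ∀ y : P, (Subgroup.centralizer ({y} : Set P)).index ∣ r) :
    Nat.card (commutator P) ≤ r :=
  Helper48.Sqf.card_commutator_le_of_breadth_one r hP hb

/-- (DG4) -/
theorem card_commutator_le_of_abelian {G : Type*} [Group G] [Finite G] (r : ℕ) [Fact r.Prime]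
    (h : ∀ x : G, ¬ r ^ 2 ∣ (Subgroup.centralizer ({x} : Set G)).index)
    (P : Sylow r G) (hG' : commutator G ≤ (P : Subgroup G))
    (hab : ∀ a ∈ (P : Subgroup G), ∀ b ∈ (P : Subgroup G), a * b = b * a) :
    Nat.card (commutator G) ≤ r :=
  Helper95.Sqf.card_commutator_le_of_abelian r h P hG' hab

/-- (DR) (helper95) -/
theorem exists_normal_compl_in_commutator {G : Type*} [Group G] [Finite G]
    (hnil : Group.IsNilpotent (commutator G)) (r : ℕ) [Fact r.Prime] :
    ∃ K : Subgroup G, K.Normal ∧ K ≤ commutator G ∧ (Nat.card K).Coprime r ∧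
      ∃ k : ℕ, Nat.card (commutator G) = Nat.card K * r ^ k :=
  Helper95.Sqf.exists_normal_compl_in_commutator hnil r

/-- (E1) (helper48) -/
theorem le_centralizer_of_nilpotent {G : Type*} [Group G] [Finite G] (g₀ : G)
    (hsq : Squarefree (orderOf g₀)) (hn : (Subgroup.zpowers g₀).Normal) (M : Subgroup G)
    [M.Normal] (hM : Group.IsNilpotent M) : M ≤ Subgroup.centralizer ({g₀} : Set G) :=
  Helper48.Sqf.le_centralizer_of_nilpotent g₀ hsq hn M hM

end Cfsg.Agent.Helper74.Sqf
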