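import Cfsg.Agent.Helper74.ThreeDegC
import Cfsg.Agent.Helper74.ThreeDegA
import Cfsg.Agent.Helper80.DegGraph3

/-!
# Three character degrees, coprime case

`cd(G) = {1, m, n}` with `gcd(m, n) = 1`.  Let `K` be maximal normal with `G/K` nonabelian.  By the
counting lemma `G/K` has only one nonlinear degree, hence is metabelian; by Isaacs 12.3 it is a
`p`-group (impossible by Gallagher) or a Frobenius-like group with kernel `N/K`, and then Isaacs
12.4 shows `cd(N) ⊆ {1, g}`, so `N` is metabelian and `G/N` is abelian.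
-/

set_option autoImplicit false
set_option linter.unusedSectionVars false

namespace Cfsg.Agent.Helper74.ThreeDeg

open Cfsg Cfsg.Agent.Helper80.DegGraph
open scoped ComplexConjugate commutatorElement

universe u

section coprime

variable {G : Type u} [Group G] [Finite G]

theorem derivedSeries_le_map_of_le (N : Subgroup G) (a : ℕ) (h : derivedSeries G a ≤ N) (i : ℕ) :
    derivedSeries G (a + i) ≤ (derivedSeries N i).map N.subtype := by
  induction i with
  | zero =>
    rw [add_zero, derivedSeries_zero, ← MonoidHom.range_eq_map, Subgroup.range_subtype]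
    exact h
  | succ i ih =>
    rw [← add_assoc, derivedSeries_succ, derivedSeries_succ, Subgroup.map_commutator]
    exact Subgroup.commutator_mono ih ih

/-- The coprime case, with `m < n`. -/
theorem coprime_case {m n : ℕ}
    (hcd : ∀ χ : IrrCharacter G, charDegree (χ : G → ℂ) = 1 ∨ charDegree (χ : G → ℂ) = m ∨
      charDegree (χ : G → ℂ) = n)
    (hm : ∃ χ : IrrCharacter G, charDegree (χ : G → ℂ) = m)
    (hn : ∃ χ : IrrCharacter G, charDegree (χ : G → ℂ) = n)
    (h1m : 1 < m) (hmn : m < n) (hcop : Nat.Coprime m n) :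
    derivedSeries G 3 = ⊥ := by
  classical
  have := Fintype.ofFinite G
  have h1n : 1 < n := h1m.trans hmn
  have habel : commutator G ≠ ⊥ := by
    intro habel
    obtain ⟨χ, hχ⟩ := hm
    have h1 : charDegree (χ : G → ℂ) = 1 :=
      Helper80.IsIrrCharacter.charDegree_eq_one_of_commutator_le χ.2 (by
        intro g hg
        rw [habel, Subgroup.mem_bot] at hg
        rw [hg])
    omega
  -- choose `K` maximal with nonabelian quotient
  obtain ⟨K, hKmax⟩ := Set.Finite.exists_maximal
    (s := {K : Subgroup G | K.Normal ∧ ¬ commutator G ≤ K}) (Set.toFinite _)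
    ⟨⊥, inferInstance, fun h => habel (le_bot_iff.mp h)⟩
  have hKn : K.Normal := hKmax.1.1
  have hKc : ¬ commutator G ≤ K := hKmax.1.2
  have := Fintype.ofFinite K
  have hcommap : commutator (G ⧸ K) = (commutator G).map (QuotientGroup.mk' K) := by
    rw [commutator_def, commutator_def, Subgroup.map_commutator,
      Subgroup.map_top_of_surjective _ (QuotientGroup.mk'_surjective K)]
  have hD : commutator (G ⧸ K) ≠ ⊥ := by
    intro h
    rw [hcommap, Subgroup.map_eq_bot_iff, QuotientGroup.ker_mk'] at h
    exact hKc h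
  have hmin : DerivedMinimal (G ⧸ K) := by
    intro M hMn hMne
    have hM'n : (M.comap (QuotientGroup.mk' K)).Normal := hMn.comap _
    have hKM' : K ≤ M.comap (QuotientGroup.mk' K) := by
      intro k hk
      rw [Subgroup.mem_comap, QuotientGroup.mk'_apply, (QuotientGroup.eq_one_iff k).mpr hk]
      exact one_mem M
    have hle : commutator G ≤ M.comap (QuotientGroup.mk' K) := by
      by_contra hcon
      have h1 := hKmax.2 (⟨hM'n, hcon⟩ : M.comap (QuotientGroup.mk' K) ∈
        {K : Subgroup G | K.Normal ∧ ¬ commutator G ≤ K}) hKM'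
      apply hMne
      rw [Subgroup.eq_bot_iff_forall]
      intro x hx
      obtain ⟨g, rfl⟩ := QuotientGroup.mk'_surjective K x
      have : g ∈ K := h1 (Subgroup.mem_comap.mpr hx)
      exact (QuotientGroup.eq_one_iff g).mpr this
    rw [hcommap]
    exact (Subgroup.map_mono hle).trans (Subgroup.map_comap_le _ _)
  -- degrees of the quotient
  have hcdQ : ∀ ψ : IrrCharacter (G ⧸ K), charDegree (ψ : G ⧸ K → ℂ) = 1 ∨
      charDegree (ψ : G ⧸ K → ℂ) = m ∨ charDegree (ψ : G ⧸ K → ℂ) = n := by
    intro ψ
    rw [← charDegree_irrQuotientEquiv]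
    exact hcd _
  -- the quotient has two degrees, hence is solvable
  have hsolv : Group.IsSolvable (G ⧸ K) := by
    have h2 : derivedSeries (G ⧸ K) 2 = ⊥ := by
      by_cases hQm : ∃ ψ : IrrCharacter (G ⧸ K), charDegree (ψ : G ⧸ K → ℂ) = m
      · by_cases hQn : ∃ ψ : IrrCharacter (G ⧸ K), charDegree (ψ : G ⧸ K → ℂ) = n
        · exfalso
          obtain ⟨χ, hχ⟩ := hQm
          obtain ⟨ψ, hψ⟩ := hQn
          exact not_both_degrees hmin hD h1m hmn hcop hcdQ χ ψ hχ hψ
        · push Not at hQn
          apply derivedSeries_two_eq_bot_of_two_degrees m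
          intro ψ
          rcases hcdQ ψ with h | h | h
          · exact Or.inl h
          · exact Or.inr h
          · exact absurd h (hQn ψ)
      · push Not at hQm
        apply derivedSeries_two_eq_bot_of_two_degrees n
        intro ψ
        rcases hcdQ ψ with h | h | h
        · exact Or.inl h
        · exact absurd h (hQm ψ)
        · exact Or.inr h
    exact ⟨⟨2, h2⟩⟩
  obtain ⟨p, hp, hexp, hcomm, hcase⟩ := derivedMinimal_dichotomy hmin hD
  have hpf : Fact p.Prime := ⟨hp⟩
  rcases hcase with hpg | hfpf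
  · -- `G/K` is a `p`-group: impossible
    exfalso
    obtain ⟨a, ha⟩ := IsPGroup.iff_card.mp hpg
    have hidx : K.index = p ^ a := by
      rw [← ha]
      rfl
    obtain ⟨⟨β, hβ⟩, hall⟩ := pquotient_case K hp hidx hKc
    have key : ∀ d1 d2 : ℕ, charDegree (β : G → ℂ) = d1 → 1 < d2 → Nat.Coprime d1 d2 →
        (∃ χ : IrrCharacter G, charDegree (χ : G → ℂ) = d2) →
        (∀ χ : IrrCharacter G, charDegree (χ : G → ℂ) = 1 ∨ charDegree (χ : G → ℂ) = d1 ∨
          charDegree (χ : G → ℂ) = d2) → False := by
      intro d1 d2 hβd h1d2 hcop' ⟨χ2, hχ2⟩ hcd'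
      obtain ⟨q, hq, hqd⟩ := Nat.exists_prime_and_dvd (by omega : d2 ≠ 1)
      have hpd1 : p ∣ d1 := hβd ▸ hβ
      have hqp : q ≠ p := by
        intro h
        rw [h] at hqd
        have := Nat.dvd_gcd hpd1 hqd
        rw [hcop'] at this
        exact hp.one_lt.ne' (Nat.dvd_one.mp this)
      obtain ⟨ξ, hξ⟩ := hall χ2 q hq (hχ2 ▸ hqd) hqp
      have hpξ : p ∣ charDegree (ξ : G → ℂ) := dvd_trans (Dvd.intro _ rfl) hξ
      have hqξ : q ∣ charDegree (ξ : G → ℂ) := dvd_trans (Dvd.intro_left _ rfl) hξ
      rcases hcd' ξ with h | h | h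
      · rw [h] at hpξ
        exact hp.one_lt.ne' (Nat.dvd_one.mp hpξ)
      · rw [h] at hqξ
        have := Nat.dvd_gcd hqξ hqd
        rw [hcop'] at this
        exact hq.one_lt.ne' (Nat.dvd_one.mp this)
      · rw [h] at hpξ
        have := Nat.dvd_gcd hpd1 hpξ
        rw [hcop'] at this
        exact hp.one_lt.ne' (Nat.dvd_one.mp this)
    rcases hcd β with h | h | h
    · rw [h] at hβ
      exact hp.one_lt.ne' (Nat.dvd_one.mp hβ)
    · exact key m n h h1n hcop hn hcd
    · exact key n m h h1m hcop.symm hm (fun χ => by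
        rcases hcd χ with h' | h' | h'
        · exact Or.inl h'
        · exact Or.inr (Or.inr h')
        · exact Or.inr (Or.inl h'))
  · -- the Frobenius case
    obtain ⟨N, hNdef⟩ : ∃ N : Subgroup G, N = (commutator (G ⧸ K)).comap (QuotientGroup.mk' K) :=
      ⟨_, rfl⟩
    have hNn : N.Normal := by
      rw [hNdef]
      exact (inferInstance : (commutator (G ⧸ K)).Normal).comap _
    have := Fintype.ofFinite N
    have hmemN : ∀ g : G, g ∈ N ↔ (g : G ⧸ K) ∈ commutator (G ⧸ K) := by
      intro g
      rw [hNdef, Subgroup.mem_comap]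
      rfl
    have hGN : ∀ x y : G, x⁻¹ * y⁻¹ * x * y ∈ N := by
      intro x y
      rw [hmemN]
      have h1 : ((x⁻¹ * y⁻¹ * x * y : G) : G ⧸ K) = ⁅((x⁻¹ : G) : G ⧸ K), ((y⁻¹ : G) : G ⧸ K)⁆ := by
        rw [commutatorElement_def]
        simp only [QuotientGroup.mk_mul, QuotientGroup.mk_inv, inv_inv]
      rw [h1]
      exact Subgroup.commutator_mem_commutator (Subgroup.mem_top _) (Subgroup.mem_top _)
    have hab : ∀ x y : N, ((x * y * x⁻¹ * y⁻¹ : N) : G) ∈ K := by
      intro x y
      have hx := (hmemN x).mp x.2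
      have hy := (hmemN y).mp y.2
      have hc := hcomm _ hx _ hy
      rw [← QuotientGroup.eq_one_iff]
      have h1 : ((((x * y * x⁻¹ * y⁻¹ : N) : G)) : G ⧸ K) =
          ((x : G) : G ⧸ K) * ((y : G) : G ⧸ K) * ((x : G) : G ⧸ K)⁻¹ * ((y : G) : G ⧸ K)⁻¹ := by
        simp only [Subgroup.coe_mul, Subgroup.coe_inv, QuotientGroup.mk_mul, QuotientGroup.mk_inv]
      rw [h1, hc]
      group
    have hfpf' : ∀ g : G, g ∉ N → ∀ n : N, g * (n : G) * g⁻¹ * (n : G)⁻¹ ∈ K → (n : G) ∈ K := by
      intro g hg n hn
      have hg' : (g : G ⧸ K) ∉ commutator (G ⧸ K) := fun h => hg ((hmemN g).mpr h)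
      have hn' := (hmemN n).mp n.2
      have h1 : ((g * (n : G) * g⁻¹ * (n : G)⁻¹ : G) : G ⧸ K) = 1 :=
        (QuotientGroup.eq_one_iff _).mpr hn
      have h2 : (g : G ⧸ K) * ((n : G) : G ⧸ K) = ((n : G) : G ⧸ K) * (g : G ⧸ K) := by
        have h3 : ((g * (n : G) * g⁻¹ * (n : G)⁻¹ : G) : G ⧸ K) =
            (g : G ⧸ K) * ((n : G) : G ⧸ K) * (g : G ⧸ K)⁻¹ * ((n : G) : G ⧸ K)⁻¹ := by
          simp only [QuotientGroup.mk_mul, QuotientGroup.mk_inv]
        rw [h3] at h1
        calc (g : G ⧸ K) * ((n : G) : G ⧸ K)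
            = ((g : G ⧸ K) * ((n : G) : G ⧸ K) * (g : G ⧸ K)⁻¹ * ((n : G) : G ⧸ K)⁻¹) *
              (((n : G) : G ⧸ K) * (g : G ⧸ K)) := by group
          _ = ((n : G) : G ⧸ K) * (g : G ⧸ K) := by rw [h1, one_mul]
      have h4 := hfpf _ hg' _ hn' h2
      exact (QuotientGroup.eq_one_iff _).mp h4
    have hKN : K ≤ N := by
      intro k hk
      rw [hmemN, (QuotientGroup.eq_one_iff k).mpr hk]
      exact one_mem _
    have hDp : IsPGroup p (commutator (G ⧸ K)) := by
      intro d
      refine ⟨1, ?_⟩
      rw [pow_one]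
      exact Subtype.ext (hexp d d.2)
    obtain ⟨a, ha⟩ := IsPGroup.iff_card.mp hDp
    have hidx : (K.subgroupOf N).index = p ^ a := by
      have h1 : K.relIndex N * N.index = K.index := Subgroup.relIndex_mul_index hKN
      have h2 : N.index = (commutator (G ⧸ K)).index := by
        rw [hNdef]
        exact Subgroup.index_comap_of_surjective _ (QuotientGroup.mk'_surjective K)
      have h3 : K.index = Nat.card (G ⧸ K) := rfl
      have h4 := Subgroup.index_mul_card (commutator (G ⧸ K))
      rw [h2, h3, ← h4, mul_comm] at h1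
      have h5 : (commutator (G ⧸ K)).index ≠ 0 := Subgroup.index_ne_zero_of_finite
      have h6 := Nat.eq_of_mul_eq_mul_left (Nat.pos_of_ne_zero h5) h1
      rw [← ha, ← h6]
      rfl
    have hne : ∃ n : N, (n : G) ∉ K := by
      obtain ⟨d, hd, hd1⟩ : ∃ d ∈ commutator (G ⧸ K), d ≠ 1 := by
        by_contra hcon
        push Not at hcon
        apply hD
        rw [Subgroup.eq_bot_iff_forall]
        exact hcon
      obtain ⟨g, rfl⟩ := QuotientGroup.mk'_surjective K d
      refine ⟨⟨g, (hmemN g).mpr hd⟩, ?_⟩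
      intro hgK
      exact hd1 ((QuotientGroup.eq_one_iff g).mpr hgK)
    obtain ⟨⟨β, hβ⟩, -⟩ := frobenius_case N K hGN hab hfpf' hp hidx hne
    have hf1 : N.index ≠ 1 := by
      intro h1
      have hNtop : N = ⊤ := Subgroup.index_eq_one.mp h1
      apply hKc
      apply Subgroup.Normal.quotient_commutative_iff_commutator_le.mp
      rw [isMulCommutative_iff]
      intro x y
      obtain ⟨g, rfl⟩ := QuotientGroup.mk'_surjective K x
      obtain ⟨h, rfl⟩ := QuotientGroup.mk'_surjective K y
      have hg : g ∈ N := by rw [hNtop]; trivial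
      have hh : h ∈ N := by rw [hNtop]; trivial
      exact hcomm _ ((hmemN g).mp hg) _ ((hmemN h).mp hh)
    -- Isaacs 12.4
    have key : ∀ ψ : IrrCharacter N,
        (∃ ξ : IrrCharacter G, charDegree (ξ : G → ℂ) = N.index * charDegree (ψ : N → ℂ)) ∨
        p ∣ charDegree (ψ : N → ℂ) := by
      intro ψ
      rcases Helper80.exists_irr_index_mul_or_twist_fixed N K hGN hab hfpf' ψ with ⟨ξ, hξ⟩ | hfix
      · left
        refine ⟨ξ, ?_⟩
        have h : (charDegree (ξ : G → ℂ) : ℂ) = ((N.index * charDegree (ψ : N → ℂ) : ℕ) : ℂ) := by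
          rw [Helper80.IsCharacter.charDegree_cast (Helper80.IsIrrCharacter.isCharacter ξ.2), hξ]
          push_cast
          rw [Helper80.IsCharacter.charDegree_cast (Helper80.IsIrrCharacter.isCharacter ψ.2)]
        exact_mod_cast h
      · right
        exact prime_dvd_of_twist_fixed N K hab hp hidx hne ψ hfix
    -- the degrees of `N`
    have main : ∀ f g : ℕ, N.index = f → 1 < g → Nat.Coprime f g →
        (∃ χ : IrrCharacter G, charDegree (χ : G → ℂ) = g) →
        (∀ χ : IrrCharacter G, charDegree (χ : G → ℂ) = 1 ∨ charDegree (χ : G → ℂ) = f ∨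
          charDegree (χ : G → ℂ) = g) →
        ∀ ψ : IrrCharacter N, charDegree (ψ : N → ℂ) = 1 ∨ charDegree (ψ : N → ℂ) = g := by
      intro f g hf h1g hcop' ⟨χg, hχg⟩ hcd' ψ
      have h1f : 1 < f := by
        have : 0 < N.index := Nat.pos_of_ne_zero N.index_ne_zero_of_finite
        omega
      -- ratio for a constituent
      have hratio : ∀ (χ : IrrCharacter G) (φ : IrrCharacter N),
          classInner (fun x : N => (χ : G → ℂ) x) (φ : N → ℂ) ≠ 0 →
          ∃ b : ℕ, charDegree (χ : G → ℂ) = b * charDegree (φ : N → ℂ) ∧ b ∣ f := by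
        intro χ φ hcon
        obtain ⟨b, hb, hbd⟩ := Helper74.degree_ratio_dvd N χ.2 φ.2 hcon
        refine ⟨b, ?_, hf ▸ hbd⟩
        have h2 : (charDegree (χ : G → ℂ) : ℂ) = ((b * charDegree (φ : N → ℂ) : ℕ) : ℂ) := by
          rw [Helper80.IsCharacter.charDegree_cast (Helper74.irr_isCharacter χ), hb]
          push_cast
          rw [Helper80.IsCharacter.charDegree_cast (Helper74.irr_isCharacter φ)]
        exact_mod_cast h2
      -- `p` does not divide `f`
      have hpf' : ¬ p ∣ f := by
        intro hpf'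
        obtain ⟨φ, hφ⟩ := Helper81.exists_irr_constituent
          (Helper74.isCharacter_restrict N (Helper74.irr_isCharacter χg))
          (Helper80.IsIrrCharacter.map_one_ne_zero χg.2)
        obtain ⟨b, hb, hbf⟩ := hratio χg φ hφ
        have hbg : b ∣ g := by rw [← hχg, hb]; exact dvd_mul_right _ _
        have hb1 : b = 1 := by
          have := Nat.dvd_gcd hbf hbg
          rw [hcop'] at this
          exact Nat.dvd_one.mp this
        rw [hb1, one_mul, hχg] at hb
        rcases key φ with ⟨ξ, hξ⟩ | hpφ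
        · rw [← hb, hf] at hξ
          rcases hcd' ξ with h | h | h
          · rw [h] at hξ
            nlinarith
          · rw [h] at hξ
            nlinarith
          · rw [h] at hξ
            nlinarith
        · rw [← hb] at hpφ
          have := Nat.dvd_gcd hpf' hpφ
          rw [hcop'] at this
          exact hp.one_lt.ne' (Nat.dvd_one.mp this)
      rcases key ψ with ⟨ξ, hξ⟩ | hpψ
      · left
        rw [hf] at hξ
        rcases hcd' ξ with h | h | h
        · rw [h] at hξ
          have hpos := Helper80.IsIrrCharacter.charDegree_pos ψ.2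
          nlinarith
        · rw [h] at hξ
          have : f * 1 = f * charDegree (ψ : N → ℂ) := by rw [mul_one]; exact hξ
          exact (Nat.eq_of_mul_eq_mul_left (by omega) this).symm
        · exfalso
          rw [h] at hξ
          have hfg : f ∣ g := ⟨_, hξ⟩
          have := Nat.dvd_gcd dvd_rfl hfg
          rw [hcop'] at this
          have := Nat.dvd_one.mp this
          omega
      · right
        obtain ⟨χ, hcon⟩ := exists_irr_over' N ψ
        obtain ⟨b, hb, hbf⟩ := hratio χ ψ hcon
        have hψχ : charDegree (ψ : N → ℂ) ∣ charDegree (χ : G → ℂ) := by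
          rw [hb]; exact dvd_mul_left _ _
        rcases hcd' χ with h | h | h
        · exfalso
          rw [h] at hψχ
          have := hpψ.trans hψχ
          exact hp.one_lt.ne' (Nat.dvd_one.mp this)
        · exfalso
          rw [h] at hψχ
          exact hpf' (hpψ.trans hψχ)
        · have hbg : b ∣ g := by rw [← h, hb]; exact dvd_mul_right _ _
          have hb1 : b = 1 := by
            have := Nat.dvd_gcd hbf hbg
            rw [hcop'] at this
            exact Nat.dvd_one.mp this
          rw [hb1, one_mul, h] at hb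
          exact hb.symm
    have hN2 : derivedSeries N 2 = ⊥ := by
      rcases hcd β with h | h | h
      · exact absurd (hβ ▸ h) hf1
      · exact derivedSeries_two_eq_bot_of_two_degrees n
          (main m n (hβ ▸ h) h1n hcop hn hcd)
      · exact derivedSeries_two_eq_bot_of_two_degrees m
          (main n m (hβ ▸ h) h1m hcop.symm hm (fun χ => by
            rcases hcd χ with h' | h' | h'
            · exact Or.inl h'
            · exact Or.inr (Or.inr h')
            · exact Or.inr (Or.inl h')))
    have hG1 : derivedSeries G 1 ≤ N := by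
      rw [derivedSeries_one, commutator_def, Subgroup.commutator_le]
      intro x _ y _
      have := hGN x⁻¹ y⁻¹
      rw [inv_inv, inv_inv] at this
      rw [commutatorElement_def]
      exact this
    have h3 := derivedSeries_le_map_of_le N 1 hG1 2
    rw [hN2, Subgroup.map_bot] at h3
    exact le_bot_iff.mp h3

end coprime

end Cfsg.Agent.Helper74.ThreeDeg
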