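import Cfsg.Agent.Helper80.DegGraph1
import Cfsg.Agent.Helper80.DegGraph2
import Cfsg.Agent.Helper74.LinTwist
import Cfsg.Agent.Helper74.AFT
import Cfsg.Agent.Helper81.RootCount
import Cfsg.Agent.Helper15.CliffordCorr
import Cfsg.Agent.Helper15.Gallagher
import Cfsg.Agent.Helper80.OneChar
import Cfsg.Agent.Helper80.CharLevel

/-!
# A counting lemma for groups whose derived subgroup is the unique minimal normal subgroup

Let `H` be a finite nonabelian group in which every nontrivial normal subgroup contains `H'`.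
If every nonlinear irreducible character of `H` has degree `m` or `n`, where `m < n` are coprime,
then the degrees `m` and `n` do not both occur (`not_both_degrees`).  No solvability is assumed: this is
the step that excludes nonsolvable groups with exactly three character degrees.

The proof multiplies the regular character `∑ φ(1) φ` by `χ` (of degree `m`) and compares the
multiplicity of `ψ` (of degree `n`) on both sides.
-/

set_option autoImplicit false
set_option linter.unusedSectionVars false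

namespace Cfsg.Agent.Helper74.ThreeDeg

open Cfsg
open scoped ComplexConjugate

universe u

section basic

variable {H : Type u} [Group H] [Fintype H]

/-- The multiplicity of an irreducible character in a (character) function, as a natural number. -/
noncomputable def cmult (Φ : H → ℂ) (ψ : IrrCharacter H) : ℕ :=
  ⌊(classInner Φ (ψ : H → ℂ)).re⌋₊

theorem cmult_spec {Φ : H → ℂ} (hΦ : IsCharacter H Φ) (ψ : IrrCharacter H) :
    classInner Φ (ψ : H → ℂ) = (cmult Φ ψ : ℂ) := by
  obtain ⟨a, ha⟩ := Helper74.isCharacter_inner_irr_nat hΦ ψ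
  unfold cmult
  rw [ha]
  simp

theorem irr_one_eq (ψ : IrrCharacter H) : (ψ : H → ℂ) 1 = (charDegree (ψ : H → ℂ) : ℂ) :=
  (Helper80.IsCharacter.charDegree_cast (Helper80.IsIrrCharacter.isCharacter ψ.2)).symm

theorem apply_eq_sum [Fintype (IrrCharacter H)] {Φ : H → ℂ} (hΦ : IsCharacter H Φ) (g : H) :
    Φ g = ∑ ψ : IrrCharacter H, (cmult Φ ψ : ℂ) * (ψ : H → ℂ) g := by
  have h := congrFun (Helper74.isCharacter_eq_sum_irr hΦ) g
  rw [Finset.sum_apply] at h
  rw [h]
  refine Finset.sum_congr rfl fun ψ _ => ?_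
  rw [Pi.smul_apply, smul_eq_mul, cmult_spec hΦ]

theorem charDegree_eq_sum [Fintype (IrrCharacter H)] {Φ : H → ℂ} (hΦ : IsCharacter H Φ) :
    charDegree Φ = ∑ ψ : IrrCharacter H, cmult Φ ψ * charDegree (ψ : H → ℂ) := by
  have h := apply_eq_sum hΦ 1
  have h2 : (charDegree Φ : ℂ) =
      ((∑ ψ : IrrCharacter H, cmult Φ ψ * charDegree (ψ : H → ℂ) : ℕ) : ℂ) := by
    rw [Helper80.IsCharacter.charDegree_cast hΦ, h]
    push_cast
    refine Finset.sum_congr rfl fun ψ _ => ?_
    rw [irr_one_eq]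
  exact_mod_cast h2

/-- `[a * b, c] = [a, conj b * c]`. -/
theorem classInner_mul_left (a b c : H → ℂ) :
    classInner (a * b) c = classInner a (fun g => conj (b g) * c g) := by
  rw [Helper74.classInner_def, Helper74.classInner_def]
  congr 1
  refine Finset.sum_congr rfl fun g _ => ?_
  simp only [Pi.mul_apply, map_mul, Complex.conj_conj]
  ring

/-- `[a * conj b, c] = [a, b * c]`. -/
theorem classInner_mul_conj_left (a b c : H → ℂ) :
    classInner (fun g => a g * conj (b g)) c = classInner a (b * c) := by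
  rw [Helper74.classInner_def, Helper74.classInner_def]
  congr 1
  refine Finset.sum_congr rfl fun g _ => ?_
  simp only [Pi.mul_apply, map_mul]
  ring

/-- `[a * conj b, c] = [conj c * a, b]`. -/
theorem classInner_mul_conj_swap (a b c : H → ℂ) :
    classInner (fun g => a g * conj (b g)) c = classInner (fun g => conj (c g) * a g) b := by
  rw [Helper74.classInner_def, Helper74.classInner_def]
  congr 1
  refine Finset.sum_congr rfl fun g _ => ?_
  ring

/-- Multiplying the regular character by `χ`: `∑_φ φ(1) [φ χ, ψ] = χ(1) conj ψ(1)`. -/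
theorem sum_degree_mul_inner [Fintype (IrrCharacter H)] (χ ψ : H → ℂ) :
    ∑ φ : IrrCharacter H, (φ : H → ℂ) 1 * classInner ((φ : H → ℂ) * χ) ψ = χ 1 * conj (ψ 1) := by
  classical
  have hH : (Nat.card H : ℂ) ≠ 0 := by exact_mod_cast Nat.card_pos.ne'
  simp only [Helper74.classInner_def, Pi.mul_apply]
  rw [show (∑ φ : IrrCharacter H, (φ : H → ℂ) 1 *
        ((Nat.card H : ℂ)⁻¹ * ∑ g : H, (φ : H → ℂ) g * χ g * conj (ψ g))) =
      (Nat.card H : ℂ)⁻¹ * ∑ g : H, (∑ φ : IrrCharacter H, (φ : H → ℂ) 1 * (φ : H → ℂ) g) *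
        (χ g * conj (ψ g)) from ?_]
  · rw [Finset.sum_eq_single (1 : H)]
    · rw [Helper81.sum_irr_one_mul, if_pos rfl]
      field_simp
    · intro g _ hg
      rw [Helper81.sum_irr_one_mul, if_neg hg, zero_mul]
    · intro h; exact absurd (Finset.mem_univ _) h
  · simp only [Finset.mul_sum, Finset.sum_mul]
    rw [Finset.sum_comm]
    refine Finset.sum_congr rfl fun g _ => ?_
    refine Finset.sum_congr rfl fun φ _ => ?_
    ring

end basic

section classes

variable {H : Type u} [Group H] [Fintype H] [Fintype (IrrCharacter H)]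

open Classical in
/-- The irreducible characters of degree `d`. -/
noncomputable def X (H : Type u) [Group H] [Fintype (IrrCharacter H)] (d : ℕ) :
    Finset (IrrCharacter H) :=
  Finset.univ.filter fun φ => charDegree (φ : H → ℂ) = d

theorem mem_X {d : ℕ} {φ : IrrCharacter H} : φ ∈ X H d ↔ charDegree (φ : H → ℂ) = d := by
  unfold X
  simp

/-- Splitting a sum over the irreducible characters by degree. -/
theorem sum_split {M : Type*} [AddCommMonoid M] {m n : ℕ} (h1m : 1 ≠ m) (h1n : 1 ≠ n)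
    (hmn : m ≠ n)
    (hcd : ∀ φ : IrrCharacter H, charDegree (φ : H → ℂ) = 1 ∨ charDegree (φ : H → ℂ) = m ∨
      charDegree (φ : H → ℂ) = n) (f : IrrCharacter H → M) :
    ∑ φ : IrrCharacter H, f φ = ∑ φ ∈ X H 1, f φ + ∑ φ ∈ X H m, f φ + ∑ φ ∈ X H n, f φ := by
  classical
  have hd1 : Disjoint (X H 1) (X H m) := by
    rw [Finset.disjoint_left]
    intro φ h1 h2
    exact h1m ((mem_X.mp h1).symm.trans (mem_X.mp h2))
  have hd2 : Disjoint (X H 1 ∪ X H m) (X H n) := by
    rw [Finset.disjoint_left]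
    intro φ h1 h2
    rcases Finset.mem_union.mp h1 with h | h
    · exact h1n ((mem_X.mp h).symm.trans (mem_X.mp h2))
    · exact hmn ((mem_X.mp h).symm.trans (mem_X.mp h2))
  rw [← Finset.sum_union hd1, ← Finset.sum_union hd2]
  refine Finset.sum_congr ?_ fun _ _ => rfl
  ext φ
  simp only [Finset.mem_univ, Finset.mem_union, mem_X, true_iff]
  rcases hcd φ with h | h | h
  · exact Or.inl (Or.inl h)
  · exact Or.inl (Or.inr h)
  · exact Or.inr h

/-- A linear irreducible character is given by a homomorphism to `ℂˣ`. -/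
theorem exists_hom_of_degree_one (φ : IrrCharacter H) (h : charDegree (φ : H → ℂ) = 1) :
    ∃ μ : H →* ℂˣ, (φ : H → ℂ) = Helper74.linFun μ := by
  have h1 : (φ : H → ℂ) 1 = 1 := by rw [irr_one_eq, h, Nat.cast_one]
  obtain ⟨μ, hμ⟩ := Helper80.IsCharacter.exists_monoidHom
    (Helper80.IsIrrCharacter.isCharacter φ.2) h1
  exact ⟨μ, funext hμ⟩

/-- The product of a linear character with an irreducible character of degree `≠ deg ψ` is
orthogonal to `ψ`. -/
theorem cmult_linear_mul_eq_zero (φ χ ψ : IrrCharacter H) (hφ : charDegree (φ : H → ℂ) = 1)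
    (hne : charDegree (χ : H → ℂ) ≠ charDegree (ψ : H → ℂ)) :
    cmult ((φ : H → ℂ) * (χ : H → ℂ)) ψ = 0 := by
  obtain ⟨μ, hμ⟩ := exists_hom_of_degree_one φ hφ
  have h1 : (φ : H → ℂ) * (χ : H → ℂ) = (Helper74.twist μ χ : H → ℂ) := by
    rw [hμ]; rfl
  have h2 : Helper74.twist μ χ ≠ ψ := by
    intro h
    apply hne
    rw [← h, Helper74.charDegree_twist]
  unfold cmult
  rw [h1, Helper74.irr_inner_ne h2]
  simp

end classes

section main

variable {H : Type u} [Group H] [Fintype H] [Fintype (IrrCharacter H)] {m n : ℕ}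

theorem isCharacter_finsum {ι : Type*} (s : Finset ι) (f : ι → H → ℂ)
    (h : ∀ i ∈ s, IsCharacter H (f i)) : IsCharacter H (∑ i ∈ s, f i) := by
  classical
  induction s using Finset.induction_on with
  | empty => simpa using Helper74.isCharacter_zero
  | insert a s ha ih =>
    rw [Finset.sum_insert ha]
    exact Helper74.isCharacter_add (h a (Finset.mem_insert_self a s))
      (ih fun i hi => h i (Finset.mem_insert_of_mem hi))

theorem irr_mul_isCharacter (φ χ : IrrCharacter H) :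
    IsCharacter H ((φ : H → ℂ) * (χ : H → ℂ)) :=
  Helper74.isCharacter_mul (Helper74.irr_isCharacter φ) (Helper74.irr_isCharacter χ)

/-- The basic identity: comparing the multiplicity of `ψ` in `ρ χ = χ(1) ρ`. -/
theorem degree_identity (h1m : 1 ≠ m) (h1n : 1 ≠ n) (hmn : m ≠ n)
    (hcd : ∀ φ : IrrCharacter H, charDegree (φ : H → ℂ) = 1 ∨ charDegree (φ : H → ℂ) = m ∨
      charDegree (φ : H → ℂ) = n)
    (χ ψ : IrrCharacter H) (hχ : charDegree (χ : H → ℂ) = m) (hψ : charDegree (ψ : H → ℂ) = n) :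
    m * (∑ φ ∈ X H m, cmult ((φ : H → ℂ) * (χ : H → ℂ)) ψ) +
      n * (∑ φ ∈ X H n, cmult ((φ : H → ℂ) * (χ : H → ℂ)) ψ) = m * n := by
  have h := sum_degree_mul_inner (χ : H → ℂ) (ψ : H → ℂ)
  have h2 : ∑ φ : IrrCharacter H,
      charDegree (φ : H → ℂ) * cmult ((φ : H → ℂ) * (χ : H → ℂ)) ψ = m * n := by
    have h3 : ((∑ φ : IrrCharacter H,
        charDegree (φ : H → ℂ) * cmult ((φ : H → ℂ) * (χ : H → ℂ)) ψ : ℕ) : ℂ) =
        ((m * n : ℕ) : ℂ) := by
      push_cast
      rw [← hχ, ← hψ, ← irr_one_eq χ, ← irr_one_eq ψ]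
      have h4 : conj ((ψ : H → ℂ) 1) = (ψ : H → ℂ) 1 := by
        rw [irr_one_eq, Complex.conj_natCast]
      rw [← h4, ← h]
      refine Finset.sum_congr rfl fun φ _ => ?_
      rw [irr_one_eq φ, cmult_spec (irr_mul_isCharacter φ χ)]
    exact_mod_cast h3
  rw [sum_split h1m h1n hmn hcd] at h2
  have hz : ∑ φ ∈ X H 1, charDegree (φ : H → ℂ) * cmult ((φ : H → ℂ) * (χ : H → ℂ)) ψ = 0 := by
    refine Finset.sum_eq_zero fun φ hφ => ?_
    rw [cmult_linear_mul_eq_zero φ χ ψ (mem_X.mp hφ) (by rw [hχ, hψ]; exact hmn), mul_zero]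
  rw [hz, zero_add] at h2
  rw [Finset.mul_sum, Finset.mul_sum, ← h2]
  congr 1
  · refine Finset.sum_congr rfl fun φ hφ => ?_
    rw [mem_X.mp hφ]
  · refine Finset.sum_congr rfl fun φ hφ => ?_
    rw [mem_X.mp hφ]

theorem dichotomy (hcop : Nat.Coprime m n) (hm0 : 0 < m) (hn0 : 0 < n) {A B : ℕ}
    (h : m * A + n * B = m * n) : (A = n ∧ B = 0) ∨ (A = 0 ∧ B = m) := by
  have hdvd : n ∣ m * A := by
    have h1 : n ∣ m * A + n * B := by rw [h]; exact dvd_mul_left n m
    exact (Nat.dvd_add_left (dvd_mul_right n B)).mp h1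
  have hA : n ∣ A := hcop.symm.dvd_of_dvd_mul_left hdvd
  obtain ⟨c, rfl⟩ := hA
  have h2 : m * c + B = m := by
    apply Nat.eq_of_mul_eq_mul_left hn0
    nlinarith
  rcases c with _ | _ | c
  · right
    simp at h2 ⊢
    exact h2
  · left
    simp at h2 ⊢
    exact h2
  · exfalso
    have h3 : m = 0 := by nlinarith
    omega

/-- If every nontrivial normal subgroup contains the derived subgroup, the nonlinear irreducible
characters are faithful. -/
theorem faithful_of_derivedMinimal (hmin : Helper80.DegGraph.DerivedMinimal H)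
    (χ : IrrCharacter H) (hχ : charDegree (χ : H → ℂ) ≠ 1) {g : H}
    (hg : (χ : H → ℂ) g = (χ : H → ℂ) 1) : g = 1 := by
  have hc := Helper74.irr_isCharacter χ
  by_contra hg1
  have hK : Helper80.kerChar (χ : H → ℂ) hc ≠ ⊥ := by
    intro h
    apply hg1
    have h1 : g ∈ Helper80.kerChar (χ : H → ℂ) hc := (Helper80.mem_kerChar hc g).mpr hg
    rw [h] at h1
    exact Subgroup.mem_bot.mp h1
  have hle := hmin _ inferInstance hK
  apply hχ
  exact Helper80.IsIrrCharacter.charDegree_eq_one_of_commutator_le χ.2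
    (fun x hx => (Helper80.mem_kerChar hc x).mp (hle hx))

/-- The trivial character as an irreducible character. -/
noncomputable def oneIrr (H : Type u) [Group H] : IrrCharacter H :=
  ⟨fun _ => 1, Helper15.isIrrCharacter_one H⟩

theorem charDegree_oneIrr : charDegree (oneIrr H : H → ℂ) = 1 := by
  unfold charDegree oneIrr
  simp

/-- For `χ` of degree `m` there is `ψ` of degree `n` such that no product `φ χ` with `φ` of
degree `n` contains `ψ`. -/
theorem exists_B_eq_zero (hmin : Helper80.DegGraph.DerivedMinimal H)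
    (h1m : 1 ≠ m) (h1n : 1 ≠ n) (hmn : m ≠ n) (hcop : Nat.Coprime m n) (hm0 : 0 < m)
    (hn0 : 0 < n)
    (hcd : ∀ φ : IrrCharacter H, charDegree (φ : H → ℂ) = 1 ∨ charDegree (φ : H → ℂ) = m ∨
      charDegree (φ : H → ℂ) = n)
    (χ : IrrCharacter H) (hχ : charDegree (χ : H → ℂ) = m) (hXn : (X H n).Nonempty) :
    ∃ ψ ∈ X H n, ∑ φ ∈ X H n, cmult ((φ : H → ℂ) * (χ : H → ℂ)) ψ = 0 := by
  classical
  by_contra hcon
  push Not at hcon
  have hB : ∀ ψ ∈ X H n, ∑ φ ∈ X H n, cmult ((φ : H → ℂ) * (χ : H → ℂ)) ψ = m := by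
    intro ψ hψ
    rcases dichotomy hcop hm0 hn0
      (degree_identity h1m h1n hmn hcd χ ψ hχ (mem_X.mp hψ)) with ⟨-, h⟩ | ⟨-, h⟩
    · exact absurd h (hcon ψ hψ)
    · exact h
  obtain ⟨β, hβ⟩ : ∃ β : H → ℂ, β = ∑ φ ∈ X H n, (φ : H → ℂ) := ⟨_, rfl⟩
  have hβc : IsCharacter H β := by
    rw [hβ]
    exact isCharacter_finsum _ _ (fun φ _ => Helper74.irr_isCharacter φ)
  obtain ⟨Φ, hΦ⟩ : ∃ Φ : H → ℂ, Φ = β * (χ : H → ℂ) := ⟨_, rfl⟩
  have hΦc : IsCharacter H Φ := by
    rw [hΦ]
    exact Helper74.isCharacter_mul hβc (Helper74.irr_isCharacter χ)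
  have hmult : ∀ ψ : IrrCharacter H,
      cmult Φ ψ = ∑ φ ∈ X H n, cmult ((φ : H → ℂ) * (χ : H → ℂ)) ψ := by
    intro ψ
    have h1 : (cmult Φ ψ : ℂ) =
        ((∑ φ ∈ X H n, cmult ((φ : H → ℂ) * (χ : H → ℂ)) ψ : ℕ) : ℂ) := by
      rw [← cmult_spec hΦc, hΦ, hβ, Finset.sum_mul, Helper74.classInner_sum_left]
      push_cast
      refine Finset.sum_congr rfl fun φ _ => ?_
      rw [cmult_spec (irr_mul_isCharacter φ χ)]
    exact_mod_cast h1
  have hβ1 : β 1 = (((X H n).card * n : ℕ) : ℂ) := by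
    rw [hβ, Finset.sum_apply,
      Finset.sum_congr rfl (fun φ hφ => by rw [irr_one_eq φ, mem_X.mp hφ])]
    simp
  have hdegΦ : charDegree Φ = (X H n).card * n * m := by
    have h1 : (charDegree Φ : ℂ) = (((X H n).card * n * m : ℕ) : ℂ) := by
      rw [Helper80.IsCharacter.charDegree_cast hΦc, hΦ, Pi.mul_apply, hβ1, irr_one_eq χ, hχ]
      push_cast
      ring
    exact_mod_cast h1
  have hsum := charDegree_eq_sum hΦc
  rw [sum_split h1m h1n hmn hcd, hdegΦ] at hsum
  have hXn_sum : ∑ ψ ∈ X H n, cmult Φ ψ * charDegree (ψ : H → ℂ) = (X H n).card * n * m := by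
    rw [Finset.sum_congr rfl (fun ψ hψ => by rw [hmult ψ, hB ψ hψ, mem_X.mp hψ])]
    simp only [Finset.sum_const, smul_eq_mul]
    ring
  have hz1 : ∀ ψ ∈ X H 1, cmult Φ ψ = 0 := by
    intro ψ hψ
    have h1 : ∑ ψ ∈ X H 1, cmult Φ ψ * charDegree (ψ : H → ℂ) = 0 := by omega
    have h2 := (Finset.sum_eq_zero_iff.mp h1) ψ hψ
    rw [mem_X.mp hψ, mul_one] at h2
    exact h2
  have hzm : ∀ ψ ∈ X H m, cmult Φ ψ = 0 := by
    intro ψ hψ
    have h1 : ∑ ψ ∈ X H m, cmult Φ ψ * charDegree (ψ : H → ℂ) = 0 := by omega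
    have h2 := (Finset.sum_eq_zero_iff.mp h1) ψ hψ
    rw [mem_X.mp hψ] at h2
    rcases Nat.mul_eq_zero.mp h2 with h | h
    · exact h
    · omega
  have hval : ∀ g, Φ g = (m : ℂ) * β g := by
    intro g
    rw [apply_eq_sum hΦc g, sum_split h1m h1n hmn hcd,
      Finset.sum_eq_zero (fun ψ hψ => by rw [hz1 ψ hψ]; simp),
      Finset.sum_eq_zero (fun ψ hψ => by rw [hzm ψ hψ]; simp), zero_add, zero_add,
      hβ, Finset.sum_apply, Finset.mul_sum]
    refine Finset.sum_congr rfl fun ψ hψ => ?_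
    rw [hmult ψ, hB ψ hψ]
  have hβ0 : ∀ g, g ≠ 1 → β g = 0 := by
    intro g hg
    have h1 := hval g
    rw [hΦ, Pi.mul_apply] at h1
    have h2 : β g * ((χ : H → ℂ) g - m) = 0 := by linear_combination h1
    rcases mul_eq_zero.mp h2 with h | h
    · exact h
    · exfalso
      apply hg
      apply faithful_of_derivedMinimal hmin χ (by rw [hχ]; exact h1m.symm)
      rw [irr_one_eq, hχ]
      linear_combination h
  have hin : classInner β (oneIrr H : H → ℂ) = 0 := by
    rw [hβ, Helper74.classInner_sum_left]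
    refine Finset.sum_eq_zero fun φ hφ => ?_
    apply Helper74.irr_inner_ne
    intro h
    have h1 := mem_X.mp hφ
    rw [h, charDegree_oneIrr] at h1
    exact h1n h1
  have hin2 : classInner β (oneIrr H : H → ℂ) = (Nat.card H : ℂ)⁻¹ * β 1 := by
    rw [Helper74.classInner_def, Finset.sum_eq_single (1 : H)]
    · simp [oneIrr]
    · intro g _ hg
      rw [hβ0 g hg, zero_mul]
    · intro h; exact absurd (Finset.mem_univ _) h
  rw [hin2, hβ1] at hin
  have hH : (Nat.card H : ℂ) ≠ 0 := by exact_mod_cast Nat.card_pos.ne'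
  rcases mul_eq_zero.mp hin with h | h
  · exact hH (inv_eq_zero.mp h)
  · have h3 : (X H n).card * n = 0 := by exact_mod_cast h
    rcases Nat.mul_eq_zero.mp h3 with h4 | h4
    · exact (Finset.card_pos.mpr hXn).ne' h4
    · omega

/-- A character of degree `m²` without linear constituents has no constituents of degree `n`. -/
theorem cmult_eq_zero_of_no_linear (h1m : 1 ≠ m) (h1n : 1 ≠ n) (hmn : m < n)
    (hcop : Nat.Coprime m n) (hm0 : 0 < m)
    (hcd : ∀ φ : IrrCharacter H, charDegree (φ : H → ℂ) = 1 ∨ charDegree (φ : H → ℂ) = m ∨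
      charDegree (φ : H → ℂ) = n)
    {Ξ : H → ℂ} (hΞ : IsCharacter H Ξ) (hdeg : charDegree Ξ = m * m)
    (hlin : ∀ φ ∈ X H 1, cmult Ξ φ = 0) : ∀ ψ ∈ X H n, cmult Ξ ψ = 0 := by
  classical
  have hsum := charDegree_eq_sum hΞ
  rw [sum_split h1m h1n hmn.ne hcd, hdeg,
    Finset.sum_eq_zero (fun φ hφ => by rw [hlin φ hφ, zero_mul]), zero_add,
    Finset.sum_congr rfl (fun φ hφ => by rw [mem_X.mp hφ]),
    Finset.sum_congr rfl (fun φ (hφ : φ ∈ X H n) => by rw [mem_X.mp hφ]),
    ← Finset.sum_mul, ← Finset.sum_mul] at hsum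
  obtain ⟨y, hy⟩ : ∃ y, y = ∑ φ ∈ X H n, cmult Ξ φ := ⟨_, rfl⟩
  rw [← hy] at hsum
  have hdvd : m ∣ y * n := by
    have h1 : m ∣ (∑ φ ∈ X H m, cmult Ξ φ) * m + y * n := by rw [← hsum]; exact dvd_mul_left m m
    exact (Nat.dvd_add_right (dvd_mul_left m _)).mp h1
  have hdvd' : m ∣ y := hcop.dvd_of_dvd_mul_right hdvd
  have hy0 : y = 0 := by
    by_contra hne
    have h1 : m ≤ y := Nat.le_of_dvd (Nat.pos_of_ne_zero hne) hdvd'
    have h2 : m * n ≤ y * n := Nat.mul_le_mul_right n h1
    have h3 : m * m < m * n := Nat.mul_lt_mul_of_pos_left hmn hm0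
    have h4 : y * n ≤ m * m := by rw [hsum]; exact Nat.le_add_left _ _
    omega
  intro ψ hψ
  rw [hy] at hy0
  exact (Finset.sum_eq_zero_iff.mp hy0) ψ hψ

theorem charDegree_irrConj (φ : IrrCharacter H) :
    charDegree (Helper74.irrConj φ : H → ℂ) = charDegree (φ : H → ℂ) := by
  unfold charDegree
  rw [Helper74.irrConj_apply, irr_one_eq, Complex.conj_natCast]

/-- If no product `φ χ` (`φ` of degree `n`) contains `ψ`, then `χ` vanishes on the nonidentity
elements of the derived subgroup. -/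
theorem vanish_on_commutator (hmin : Helper80.DegGraph.DerivedMinimal H)
    (h1m : 1 ≠ m) (h1n : 1 ≠ n) (hmn : m < n) (hcop : Nat.Coprime m n) (hm0 : 0 < m)
    (hcd : ∀ φ : IrrCharacter H, charDegree (φ : H → ℂ) = 1 ∨ charDegree (φ : H → ℂ) = m ∨
      charDegree (φ : H → ℂ) = n)
    (χ ψ : IrrCharacter H) (hχ : charDegree (χ : H → ℂ) = m)
    (hψ : charDegree (ψ : H → ℂ) = n)
    (hB : ∑ φ ∈ X H n, cmult ((φ : H → ℂ) * (χ : H → ℂ)) ψ = 0) :
    ∀ x ∈ commutator H, x ≠ 1 → (χ : H → ℂ) x = 0 := by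
  classical
  have hχc := Helper74.irr_isCharacter χ
  have hψc := Helper74.irr_isCharacter ψ
  obtain ⟨Ψ, hΨ⟩ : ∃ Ψ : H → ℂ, Ψ = fun g => (χ : H → ℂ) g * conj ((ψ : H → ℂ) g) := ⟨_, rfl⟩
  have hΨc : IsCharacter H Ψ := by
    rw [hΨ]
    exact Helper74.isCharacter_mul hχc (Helper74.isCharacter_conj hψc)
  -- linear constituents
  have hΨ1 : ∀ φ ∈ X H 1, cmult Ψ φ = 0 := by
    intro φ hφ
    obtain ⟨μ, hμ⟩ := exists_hom_of_degree_one φ (mem_X.mp hφ)
    have h1 : classInner Ψ (φ : H → ℂ) = 0 := by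
      rw [hΨ, classInner_mul_conj_left]
      have h2 : (ψ : H → ℂ) * (φ : H → ℂ) = (Helper74.twist μ ψ : H → ℂ) := by
        rw [hμ, mul_comm]; rfl
      rw [h2]
      apply Helper74.irr_inner_ne
      intro h
      have h3 : charDegree (χ : H → ℂ) = charDegree (Helper74.twist μ ψ : H → ℂ) := by rw [h]
      rw [Helper74.charDegree_twist, hχ, hψ] at h3
      exact hmn.ne h3
    unfold cmult
    rw [h1]
    simp
  -- constituents of degree n
  have hΨn : ∀ φ ∈ X H n, cmult Ψ φ = 0 := by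
    intro φ hφ
    have hmem : Helper74.irrConj φ ∈ X H n := by
      rw [mem_X, charDegree_irrConj]
      exact mem_X.mp hφ
    have h0 := (Finset.sum_eq_zero_iff.mp hB) _ hmem
    have h1 : classInner Ψ (φ : H → ℂ) = 0 := by
      rw [hΨ, classInner_mul_conj_swap]
      have h2 := cmult_spec (irr_mul_isCharacter (Helper74.irrConj φ) χ) ψ
      rw [h0, Nat.cast_zero] at h2
      exact h2
    unfold cmult
    rw [h1]
    simp
  -- constituents of degree m agree with χ on the derived subgroup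
  have hΨm : ∀ φ ∈ X H m, cmult Ψ φ ≠ 0 → ∀ x ∈ commutator H,
      (φ : H → ℂ) x = (χ : H → ℂ) x := by
    intro φ hφ hne x hx
    have hφc := Helper74.irr_isCharacter φ
    obtain ⟨Ξ, hΞ⟩ : ∃ Ξ : H → ℂ, Ξ = fun g => (χ : H → ℂ) g * conj ((φ : H → ℂ) g) :=
      ⟨_, rfl⟩
    have hΞc : IsCharacter H Ξ := by
      rw [hΞ]
      exact Helper74.isCharacter_mul hχc (Helper74.isCharacter_conj hφc)
    have hΞdeg : charDegree Ξ = m * m := by
      have h1 : (charDegree Ξ : ℂ) = ((m * m : ℕ) : ℂ) := by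
        rw [Helper80.IsCharacter.charDegree_cast hΞc, hΞ]
        simp only
        rw [irr_one_eq χ, irr_one_eq φ, hχ, mem_X.mp hφ, Complex.conj_natCast]
        push_cast
        ring
      exact_mod_cast h1
    have hΞψ : cmult Ξ ψ ≠ 0 := by
      have h1 : classInner Ξ (ψ : H → ℂ) = classInner Ψ (φ : H → ℂ) := by
        rw [hΞ, hΨ, Helper74.classInner_def, Helper74.classInner_def]
        congr 1
        refine Finset.sum_congr rfl fun g _ => ?_
        ring
      have h2 : (cmult Ξ ψ : ℂ) = (cmult Ψ φ : ℂ) := by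
        rw [← cmult_spec hΞc, ← cmult_spec hΨc, h1]
      have h3 : cmult Ξ ψ = cmult Ψ φ := by exact_mod_cast h2
      rw [h3]
      exact hne
    have hex : ∃ lam ∈ X H 1, cmult Ξ lam ≠ 0 := by
      by_contra hcon
      push Not at hcon
      exact hΞψ (cmult_eq_zero_of_no_linear h1m h1n hmn hcop hm0 hcd hΞc hΞdeg hcon ψ
        (mem_X.mpr hψ))
    obtain ⟨lam, hlam, hlamne⟩ := hex
    obtain ⟨μ, hμ⟩ := exists_hom_of_degree_one lam (mem_X.mp hlam)
    have h2 : (φ : H → ℂ) * (lam : H → ℂ) = (Helper74.twist μ φ : H → ℂ) := by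
      rw [hμ, mul_comm]; rfl
    have h3 : χ = Helper74.twist μ φ := by
      by_contra hne'
      apply hlamne
      have h4 : classInner Ξ (lam : H → ℂ) = 0 := by
        rw [hΞ, classInner_mul_conj_left, h2]
        exact Helper74.irr_inner_ne hne'
      unfold cmult
      rw [h4]
      simp
    have h5 : x ∈ μ.ker := Abelianization.commutator_subset_ker μ hx
    rw [h3, Helper74.twist_apply, MonoidHom.mem_ker.mp h5]
    simp
  -- the degree of Ψ
  have hΨdeg : charDegree Ψ = m * n := by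
    have h1 : (charDegree Ψ : ℂ) = ((m * n : ℕ) : ℂ) := by
      rw [Helper80.IsCharacter.charDegree_cast hΨc, hΨ]
      simp only
      rw [irr_one_eq χ, irr_one_eq ψ, hχ, hψ, Complex.conj_natCast]
      push_cast
      ring
    exact_mod_cast h1
  have hsum := charDegree_eq_sum hΨc
  rw [sum_split h1m h1n hmn.ne hcd, hΨdeg,
    Finset.sum_eq_zero (fun φ hφ => by rw [hΨ1 φ hφ, zero_mul]), zero_add,
    Finset.sum_eq_zero (fun φ (hφ : φ ∈ X H n) => by rw [hΨn φ hφ, zero_mul]), add_zero,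
    Finset.sum_congr rfl (fun φ hφ => by rw [mem_X.mp hφ]), ← Finset.sum_mul] at hsum
  have hcount : ∑ φ ∈ X H m, cmult Ψ φ = n := by
    have h1 : m * n = m * ∑ φ ∈ X H m, cmult Ψ φ := by rw [hsum, mul_comm]
    exact (Nat.eq_of_mul_eq_mul_left hm0 h1).symm
  intro x hx hx1
  have hval : Ψ x = (n : ℂ) * (χ : H → ℂ) x := by
    rw [apply_eq_sum hΨc x, sum_split h1m h1n hmn.ne hcd,
      Finset.sum_eq_zero (fun φ hφ => by rw [hΨ1 φ hφ]; simp), zero_add,
      Finset.sum_eq_zero (fun φ (hφ : φ ∈ X H n) => by rw [hΨn φ hφ]; simp), add_zero,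
      ← hcount]
    push_cast
    rw [Finset.sum_mul]
    refine Finset.sum_congr rfl fun φ hφ => ?_
    by_cases h0 : cmult Ψ φ = 0
    · rw [h0]; simp
    · rw [hΨm φ hφ h0 x hx]
  rw [hΨ] at hval
  simp only at hval
  have h2 : (χ : H → ℂ) x * (conj ((ψ : H → ℂ) x) - n) = 0 := by linear_combination hval
  rcases mul_eq_zero.mp h2 with h | h
  · exact h
  · exfalso
    apply hx1
    apply faithful_of_derivedMinimal hmin ψ (by rw [hψ]; exact h1n.symm)
    rw [irr_one_eq, hψ]
    have h3 : conj ((ψ : H → ℂ) x) = (n : ℂ) := by linear_combination h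
    have h4 := congrArg conj h3
    rw [Complex.conj_conj, Complex.conj_natCast] at h4
    exact h4

/-- An irreducible character vanishing on the nonidentity elements of a nontrivial normal
subgroup: impossible. -/
theorem false_of_vanish_on_commutator (hD : commutator H ≠ ⊥) (χ : IrrCharacter H)
    (hvan : ∀ x ∈ commutator H, x ≠ 1 → (χ : H → ℂ) x = 0) : False := by
  classical
  have : Fintype (commutator H) := Fintype.ofFinite _
  have hθ : IsIrrCharacter (commutator H) (fun _ => (1 : ℂ)) :=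
    Helper15.isIrrCharacter_one (commutator H)
  have hχ1 : (χ : H → ℂ) 1 ≠ 0 := Helper80.IsIrrCharacter.map_one_ne_zero χ.2
  have hne : classInner (fun d : commutator H => (χ : H → ℂ) d) (fun _ => (1 : ℂ)) ≠ 0 := by
    rw [Helper74.classInner_def, Finset.sum_eq_single (1 : commutator H)]
    · simp only [map_one, mul_one, OneMemClass.coe_one]
      apply mul_ne_zero _ hχ1
      apply inv_ne_zero
      exact_mod_cast Nat.card_pos.ne'
    · intro d _ hd
      rw [hvan d d.2 (fun h => hd (Subtype.ext h)), zero_mul]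
    · intro h; exact absurd (Finset.mem_univ _) h
  have h := Helper15.restrict_eq_smul_of_invariant (commutator H) χ.2 hθ hne (fun g => rfl)
  obtain ⟨x, hx, hx1⟩ : ∃ x ∈ commutator H, x ≠ 1 := by
    by_contra hcon
    push Not at hcon
    exact hD ((Subgroup.eq_bot_iff_forall _).mpr hcon)
  have h1 := congrFun h ⟨x, hx⟩
  have h2 := congrFun h 1
  simp only [Pi.smul_apply, smul_eq_mul, mul_one, OneMemClass.coe_one] at h1 h2
  rw [hvan x hx hx1] at h1
  rw [← h1] at h2
  exact hχ1 h2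

end main

/-- **Counting lemma.**  Let `H` be a finite group in which every nontrivial normal subgroup
contains the (nontrivial) derived subgroup, and suppose every irreducible character of `H` has
degree `1`, `m` or `n` with `1 < m < n` coprime.  Then `m` and `n` cannot both occur. -/
theorem not_both_degrees {H : Type u} [Group H] [Finite H]
    (hmin : Helper80.DegGraph.DerivedMinimal H) (hD : commutator H ≠ ⊥) {m n : ℕ}
    (h1m : 1 < m) (hmn : m < n) (hcop : Nat.Coprime m n)
    (hcd : ∀ φ : IrrCharacter H, charDegree (φ : H → ℂ) = 1 ∨ charDegree (φ : H → ℂ) = m ∨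
      charDegree (φ : H → ℂ) = n)
    (χ ψ : IrrCharacter H) (hχ : charDegree (χ : H → ℂ) = m)
    (hψ : charDegree (ψ : H → ℂ) = n) : False := by
  classical
  have := Fintype.ofFinite H
  let _ := Helper74.irrFintype H
  have h1m' : 1 ≠ m := by omega
  have h1n' : 1 ≠ n := by omega
  obtain ⟨ψ', hψ', hB⟩ := exists_B_eq_zero hmin h1m' h1n' hmn.ne hcop (by omega) (by omega) hcd
    χ hχ ⟨ψ, mem_X.mpr hψ⟩
  exact false_of_vanish_on_commutator hD χ
    (vanish_on_commutator hmin h1m' h1n' hmn hcop (by omega) hcd χ ψ' hχ (mem_X.mp hψ') hB)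

end Cfsg.Agent.Helper74.ThreeDeg
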