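import Cfsg.Agent.Helper74.ThreeDegB

/-!
# Three character degrees: derived length at most three (Isaacs 12.15)

Strong induction on the group order, combining the case of a common prime divisor of the two
nonlinear degrees with the coprime case.
-/

set_option autoImplicit false
set_option linter.unusedSectionVars false

namespace Cfsg.Agent.Helper74.ThreeDeg

open Cfsg

universe u

/-- Swap the two nonlinear degrees in the hypothesis. -/
theorem hcd_swap {G : Type u} [Group G] {m n : ℕ}
    (hcd : ∀ χ : IrrCharacter G, charDegree (χ : G → ℂ) = 1 ∨ charDegree (χ : G → ℂ) = m ∨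
      charDegree (χ : G → ℂ) = n) :
    ∀ χ : IrrCharacter G, charDegree (χ : G → ℂ) = 1 ∨ charDegree (χ : G → ℂ) = n ∨
      charDegree (χ : G → ℂ) = m := by
  intro χ
  rcases hcd χ with h | h | h
  · exact Or.inl h
  · exact Or.inr (Or.inr h)
  · exact Or.inr (Or.inl h)

theorem three_deg_aux : ∀ (k : ℕ) (G : Type u) [Group G] [Finite G], Nat.card G = k →
    ∀ m n : ℕ, (∀ χ : IrrCharacter G, charDegree (χ : G → ℂ) = 1 ∨ charDegree (χ : G → ℂ) = m ∨
      charDegree (χ : G → ℂ) = n) → derivedSeries G 3 = ⊥ := by
  intro k
  induction k using Nat.strong_induction_on with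
  | _ k ih =>
    intro G _ _ hk m n hcd
    have hle : derivedSeries G 3 ≤ derivedSeries G 2 := derivedSeries_antitone G (by norm_num)
    -- reduction to both degrees occurring
    by_cases hm : ∃ χ : IrrCharacter G, charDegree (χ : G → ℂ) = m
    swap
    · have h2 := derivedSeries_two_eq_bot_of_two_degrees (G := G) n (by
        intro χ
        rcases hcd χ with h | h | h
        · exact Or.inl h
        · exact absurd ⟨χ, h⟩ hm
        · exact Or.inr h)
      exact le_bot_iff.mp (h2 ▸ hle)
    by_cases hn : ∃ χ : IrrCharacter G, charDegree (χ : G → ℂ) = n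
    swap
    · have h2 := derivedSeries_two_eq_bot_of_two_degrees (G := G) m (by
        intro χ
        rcases hcd χ with h | h | h
        · exact Or.inl h
        · exact Or.inr h
        · exact absurd ⟨χ, h⟩ hn)
      exact le_bot_iff.mp (h2 ▸ hle)
    by_cases hmn : m = n
    · subst hmn
      have h2 := derivedSeries_two_eq_bot_of_two_degrees (G := G) m (by
        intro χ
        rcases hcd χ with h | h | h
        · exact Or.inl h
        · exact Or.inr h
        · exact Or.inr h)
      exact le_bot_iff.mp (h2 ▸ hle)
    by_cases hm1 : m = 1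
    · subst hm1
      have h2 := derivedSeries_two_eq_bot_of_two_degrees (G := G) n (by
        intro χ
        rcases hcd χ with h | h | h
        · exact Or.inl h
        · exact Or.inl h
        · exact Or.inr h)
      exact le_bot_iff.mp (h2 ▸ hle)
    by_cases hn1 : n = 1
    · subst hn1
      have h2 := derivedSeries_two_eq_bot_of_two_degrees (G := G) m (by
        intro χ
        rcases hcd χ with h | h | h
        · exact Or.inl h
        · exact Or.inr h
        · exact Or.inl h)
      exact le_bot_iff.mp (h2 ▸ hle)
    have hm0 : 0 < m := by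
      obtain ⟨χ, hχ⟩ := hm
      rw [← hχ]
      exact Helper80.IsIrrCharacter.charDegree_pos χ.2
    have hn0 : 0 < n := by
      obtain ⟨χ, hχ⟩ := hn
      rw [← hχ]
      exact Helper80.IsIrrCharacter.charDegree_pos χ.2
    have h1m : 1 < m := by omega
    have h1n : 1 < n := by omega
    by_cases hcop : Nat.Coprime m n
    · rcases lt_or_gt_of_ne hmn with hlt | hgt
      · exact coprime_case hcd hm hn h1m hlt hcop
      · exact coprime_case (hcd_swap hcd) hn hm h1n hgt hcop.symm
    · obtain ⟨p, hp, hpm, hpn⟩ := Nat.Prime.not_coprime_iff_dvd.mp hcop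
      haveI : Fact p.Prime := ⟨hp⟩
      refine noncoprime_case p hcd hm hn hmn hpm hpn ?_
      intro N hN m' n' hcd'
      exact ih (Nat.card N) (hk ▸ hN) N rfl m' n' hcd'

/-- **Isaacs 12.15.** A finite group with at most three character degrees `1, m, n` has derived
length at most three. -/
theorem three_deg {G : Type u} [Group G] [Finite G] (m n : ℕ)
    (hcd : ∀ χ : IrrCharacter G, charDegree (χ : G → ℂ) = 1 ∨ charDegree (χ : G → ℂ) = m ∨
      charDegree (χ : G → ℂ) = n) : derivedSeries G 3 = ⊥ :=
  three_deg_aux (Nat.card G) G rfl m n hcd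

/-- The version with the degree set of cardinality three. -/
theorem three_deg_of_card {G : Type u} [Group G] [Finite G]
    (hcd : Nat.card {n : ℕ // ∃ χ : IrrCharacter G, charDegree (χ : G → ℂ) = n} = 3) :
    derivedSeries G 3 = ⊥ := by
  classical
  have := Fintype.ofFinite G
  set S : Set ℕ := {n : ℕ | ∃ χ : IrrCharacter G, charDegree (χ : G → ℂ) = n} with hS
  have hcard : Nat.card S = 3 := hcd
  have hfin : S.Finite := Set.finite_of_ncard_pos (by
    rw [← Nat.card_coe_set_eq]
    omega)
  have hncard : S.ncard = 3 := by rw [← Nat.card_coe_set_eq]; exact hcard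
  obtain ⟨a, b, c, hab, hac, hbc, habc⟩ := Set.ncard_eq_three.mp hncard
  have h1 : (1 : ℕ) ∈ S := ⟨oneIrr G, by unfold charDegree oneIrr; simp⟩
  have hmem : ∀ χ : IrrCharacter G, charDegree (χ : G → ℂ) ∈ S := fun χ => ⟨χ, rfl⟩
  rw [habc] at h1 hmem
  simp only [Set.mem_insert_iff, Set.mem_singleton_iff] at h1 hmem
  rcases h1 with h1 | h1 | h1
  · subst h1
    exact three_deg b c hmem
  · subst h1
    refine three_deg a c ?_
    intro χ
    rcases hmem χ with h | h | h
    · exact Or.inr (Or.inl h)
    · exact Or.inl h
    · exact Or.inr (Or.inr h)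
  · subst h1
    refine three_deg a b ?_
    intro χ
    rcases hmem χ with h | h | h
    · exact Or.inr (Or.inl h)
    · exact Or.inr (Or.inr h)
    · exact Or.inl h

end Cfsg.Agent.Helper74.ThreeDeg
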