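import Mathlib
import Cfsg.Agent.Helper63.Frattini

/-!
# (EX) for S3777 STEP 1 (helper39's farm #13542)

The Frattini quotient of a finite `p`-group as a `ZMod p`-vector space.
-/

set_option autoImplicit false

namespace Cfsg.Agent.Helper74.VL

universe u

/-- commutators lie in the Frattini subgroup of a finite `p`-group (inverse form used for
`QuotientGroup.eq`). -/
theorem comm_mem_frattini' {G : Type u} [Group G] [Finite G] {p : ℕ} [Fact p.Prime]
    (hG : IsPGroup p G) (a b : G) : (a * b)⁻¹ * (b * a) ∈ frattini G := by
  unfold frattini Order.radical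
  simp only [Subgroup.mem_iInf]
  intro M hM
  haveI hn : M.Normal := Helper63.normal_of_isCoatom_of_isPGroup hG M hM
  have hidx := Helper63.index_of_isCoatom_of_isPGroup hG M hM
  have hcard : Nat.card (G ⧸ M) = p := by rw [← Subgroup.index_eq_card, hidx]
  haveI : IsCyclic (G ⧸ M) := isCyclic_of_prime_card hcard
  rw [← QuotientGroup.eq]
  have hc : ∀ x y : G ⧸ M, x * y = y * x :=
    fun x y => (IsCyclic.commGroup (α := G ⧸ M)).mul_comm x y
  rw [QuotientGroup.mk_mul, QuotientGroup.mk_mul, hc]

/-- (EX) the Frattini quotient of a finite `p`-group as a `ZMod p`-vector space. -/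
theorem exists_frattini_space {G : Type u} [Group G] [Finite G] {p : ℕ} [Fact p.Prime]
    (hG : IsPGroup p G) :
    ∃ (V : Type u) (_ : AddCommGroup V) (_ : Module (ZMod p) V) (_ : Finite V)
      (π : G →* Multiplicative V),
      Function.Surjective π ∧ ∀ H : Subgroup G, H ⊔ π.ker = ⊤ → H = ⊤ := by
  classical
  have hcomm : ∀ a b : G ⧸ frattini G, a * b = b * a := by
    intro a b
    induction a using QuotientGroup.induction_on with
    | H a =>
      induction b using QuotientGroup.induction_on with
      | H b =>
        rw [← QuotientGroup.mk_mul, ← QuotientGroup.mk_mul, QuotientGroup.eq]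
        exact comm_mem_frattini' hG a b
  letI iC : CommGroup (G ⧸ frattini G) :=
    { (inferInstance : Group (G ⧸ frattini G)) with mul_comm := hcomm }
  have hp : ∀ v : Additive (G ⧸ frattini G), p • v = 0 := by
    intro v
    obtain ⟨q, rfl⟩ := Additive.ofMul.surjective v
    induction q using QuotientGroup.induction_on with
    | H g =>
      rw [← ofMul_pow, ← QuotientGroup.mk_pow,
        (QuotientGroup.eq_one_iff _).2 (Helper63.pow_prime_mem_frattini hG g)]
      rfl
  letI iM : Module (ZMod p) (Additive (G ⧸ frattini G)) := AddCommGroup.zmodModule hp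
  let π : G →* Multiplicative (Additive (G ⧸ frattini G)) :=
    { toFun := fun g => Multiplicative.ofAdd (Additive.ofMul (QuotientGroup.mk g))
      map_one' := rfl
      map_mul' := fun _ _ => rfl }
  have hker : π.ker = frattini G := by
    ext g
    rw [MonoidHom.mem_ker]
    show Multiplicative.ofAdd (Additive.ofMul (QuotientGroup.mk g : G ⧸ frattini G)) = 1 ↔ _
    rw [← QuotientGroup.eq_one_iff]
    rfl
  refine ⟨Additive (G ⧸ frattini G), inferInstance, iM, inferInstance, π, ?_, ?_⟩
  · intro v
    obtain ⟨w, rfl⟩ := Multiplicative.ofAdd.surjective v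
    obtain ⟨q, rfl⟩ := Additive.ofMul.surjective w
    obtain ⟨g, rfl⟩ := QuotientGroup.mk_surjective q
    exact ⟨g, rfl⟩
  · intro H hH
    rw [hker] at hH
    exact frattini_nongenerating hH

end Cfsg.Agent.Helper74.VL
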