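import Cfsg.Agent.Helper85.XDefs
import Cfsg.Agent.Helper85.KLMain
import Cfsg.Agent.Helper76.XS1
import Cfsg.Agent.Helper84.SatCrit3
import Cfsg.Agent.Helper87.FusionQuot
set_option autoImplicit false

/-!
# S5141 (helper85), piece (XD2): conjugation of the sets `𝔄_P`

Core form: the piece (XA) `exists_extension_sup` of the skeleton enters as a hypothesis with exactly the type of the
skeleton statement.
-/

namespace Cfsg.Agent.Helper74.XD2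

open Cfsg Cfsg.FusionSystem Cfsg.Agent.Helper87 Cfsg.Agent.Helper85.KL Cfsg.Agent.Helper85.XT

variable {Ω : Type*} [Group Ω] {S T : Subgroup Ω}

/-- Automorphisms of `U = T C_S(T)` in `F` preserve `T` and `C_S(T)`. -/
theorem aut_preserves [Finite S] (F : FusionSystem S) (hT : F.StronglyClosed T)
    (α : MulAut ↥(T ⊔ centralizerIn S T)) (hα : α ∈ F.autGroup (T ⊔ centralizerIn S T)) :
    (∀ x : ↥(T ⊔ centralizerIn S T), (x : Ω) ∈ T → ((α x : ↥(T ⊔ centralizerIn S T)) : Ω) ∈ T) ∧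
    (∀ x : ↥(T ⊔ centralizerIn S T), (x : Ω) ∈ centralizerIn S T →
      ((α x : ↥(T ⊔ centralizerIn S T)) : Ω) ∈ centralizerIn S T) := by
  have hUS : T ⊔ centralizerIn S T ≤ S := sup_le hT.1 inf_le_left
  have h := (mem_autGroup_iff F hUS α).mp hα
  have h2 := Cfsg.Agent.Helper76.XS1.hom_sup_centralizer F hT _ h
  exact ⟨h2.2.1, h2.2.2⟩

/-- (XD2) with (XA) as a hypothesis. -/
theorem exists_conj_Aset_of [Finite S] (p : ℕ) [Fact p.Prime] (hS : IsPGroup p S) (F : FusionSystem S)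
    (hF : F.IsSaturated p) (hT : F.StronglyClosed T)
    (hXA : ∀ {P : Subgroup Ω} (_ : TCentric F T P) (φ : P →* Ω) (_ : φ ∈ F.Hom P),
      ∃ ψ ∈ F.Hom (P ⊔ centralizerIn S T), (∀ x : P, ψ (Subgroup.inclusion le_sup_left x) = φ x) ∧
        ψ.range = φ.range ⊔ centralizerIn S T)
    {P P₁ : Subgroup Ω} (hP : TCentric F T P)
    (ξ : P →* Ω) (hξ : ξ ∈ F.Hom P) (hξr : ξ.range = P₁) :
    ∃ γ ∈ F.autGroup (T ⊔ centralizerIn S T), ∀ β ∈ Aset F T P, γ * β * γ⁻¹ ∈ Aset F T P₁ := by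
  classical
  subst hξr
  have hTS : T ≤ S := hT.1
  have hPT : P ≤ T := hP.1
  have hPS : P ≤ S := hPT.trans hTS
  have hPc : centralizerIn T P ≤ P := hP.2 P (isConj_refl F hPS)
  have hCS : centralizerIn S T ≤ S := inf_le_left
  have hUS : T ⊔ centralizerIn S T ≤ S := sup_le hTS hCS
  have : Finite ↥(T ⊔ centralizerIn S T) :=
    Finite.of_injective (Subgroup.inclusion hUS) (Subgroup.inclusion_injective hUS)
  have hP₁T : ξ.range ≤ T := by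
    rintro _ ⟨x, rfl⟩; exact hT.2 P hPT ξ hξ x
  have hPU : P ⊔ centralizerIn S T ≤ T ⊔ centralizerIn S T := sup_le_sup_right hPT _
  have hP₁U : ξ.range ⊔ centralizerIn S T ≤ T ⊔ centralizerIn S T := sup_le_sup_right hP₁T _
  have hCP : centralizerIn S T ≤ P ⊔ centralizerIn S T := le_sup_right
  have hCP₁ : centralizerIn S T ≤ ξ.range ⊔ centralizerIn S T := le_sup_right
  -- (XA)
  obtain ⟨ψ, hψ, hψξ, hψr⟩ := hXA hP ξ hξ
  set e : ↥(P ⊔ centralizerIn S T) ≃* ↥(ξ.range ⊔ centralizerIn S T) := isoOfRange F hψ hψr with he_def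
  have he : IsIso F e := isIso_isoOfRange F hψ hψr
  have he_apply : ∀ x, ((e x : ↥(ξ.range ⊔ centralizerIn S T)) : Ω) = ψ x := fun x => rfl
  -- extension modulo `T`
  obtain ⟨ψ', hψ', hψ'T⟩ := exists_extension_mod hS F hF hT hψ
  have hUle : T ⊔ centralizerIn S T ≤ (P ⊔ centralizerIn S T) ⊔ T :=
    sup_le le_sup_right (le_sup_of_le_left le_sup_right)
  have hres := restrict_mem F hψ' hUle
  have hhom := Cfsg.Agent.Helper76.XS1.hom_sup_centralizer F hT _ hres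
  have hinU : ∀ x : ↥(T ⊔ centralizerIn S T),
      ψ' (Subgroup.inclusion hUle x) ∈ T ⊔ centralizerIn S T := by
    intro x
    have h1 : (ψ'.comp (Subgroup.inclusion hUle)) x ∈ (ψ'.comp (Subgroup.inclusion hUle)).range :=
      ⟨x, rfl⟩
    rw [hhom.1] at h1
    exact h1
  obtain ⟨γ, hγ, hγx⟩ := Cfsg.Agent.Helper84.exists_aut_of_maps_into F hψ' hUle hinU
  have hg3 : ∀ y : ↥(P ⊔ centralizerIn S T),
      (ψ y)⁻¹ * ((γ ⟨(y : Ω), hPU y.2⟩ : ↥(T ⊔ centralizerIn S T)) : Ω) ∈ T := by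
    intro y
    rw [hγx]
    have h1 : Subgroup.inclusion hUle ⟨(y : Ω), hPU y.2⟩ = Subgroup.inclusion le_sup_left y :=
      Subtype.ext rfl
    rw [h1]
    exact hψ'T y
  have hγpres := aut_preserves F hT γ hγ
  have hγinv : γ⁻¹ ∈ F.autGroup (T ⊔ centralizerIn S T) := inv_mem hγ
  have hγipres := aut_preserves F hT γ⁻¹ hγinv
  refine ⟨γ, hγ, ?_⟩
  rintro β ⟨hβF, δ, hδF, hδP, hδc⟩
  have hδiso : IsIso F (δ : ↥(P ⊔ centralizerIn S T) ≃* ↥(P ⊔ centralizerIn S T)) :=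
    (mem_autGroup_iff F (hPU.trans hUS) δ).mp hδF
  let δ₁ : MulAut ↥(ξ.range ⊔ centralizerIn S T) :=
    e.symm.trans ((δ : ↥(P ⊔ centralizerIn S T) ≃* ↥(P ⊔ centralizerIn S T)).trans e)
  have hδ₁F : δ₁ ∈ F.autGroup (ξ.range ⊔ centralizerIn S T) := by
    rw [mem_autGroup_iff F (hP₁U.trans hUS)]
    exact (IsIso.symm he).trans (hδiso.trans he)
  have hδ₁_apply : ∀ y, δ₁ y = e (δ (e.symm y)) := fun y => rfl
  refine ⟨mul_mem (mul_mem hγ hβF) hγinv, δ₁, hδ₁F, ?_, ?_⟩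
  · -- `δ₁` fixes `P₁` pointwise
    intro y hy
    obtain ⟨x₀, hx₀⟩ := hy
    have h1 : e (Subgroup.inclusion le_sup_left x₀) = y := by
      apply Subtype.ext
      rw [he_apply, hψξ, hx₀]
    rw [hδ₁_apply, ← h1, MulEquiv.symm_apply_apply, hδP _ x₀.2]
  · intro c hc
    -- notation
    set c' : ↥(T ⊔ centralizerIn S T) := γ⁻¹ c with hc'_def
    have hc'C : (c' : Ω) ∈ centralizerIn S T := hγipres.2 c hc
    have hγc' : γ c' = c := by rw [hc'_def, MulAut.apply_inv_self]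
    set e' : ↥(P ⊔ centralizerIn S T) := e.symm ⟨(c : Ω), hCP₁ hc⟩ with he'_def
    have he' : ψ e' = (c : Ω) := by
      have h1 : e e' = ⟨(c : Ω), hCP₁ hc⟩ := by rw [he'_def, MulEquiv.apply_symm_apply]
      have h2 := congrArg Subtype.val h1
      rw [he_apply] at h2
      exact h2
    -- `t = c'⁻¹ e' ∈ T`
    have ht : (c' : Ω)⁻¹ * (e' : Ω) ∈ T := by
      have h1 := hg3 e'
      rw [he'] at h1
      have h2 : ((γ (c'⁻¹ * ⟨(e' : Ω), hPU e'.2⟩) : ↥(T ⊔ centralizerIn S T)) : Ω) =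
          (c : Ω)⁻¹ * ((γ ⟨(e' : Ω), hPU e'.2⟩ : ↥(T ⊔ centralizerIn S T)) : Ω) := by
        rw [map_mul, map_inv, hγc']
        rfl
      have h3 := hγipres.1 (γ (c'⁻¹ * ⟨(e' : Ω), hPU e'.2⟩)) (by rw [h2]; exact h1)
      rw [MulAut.inv_apply_self] at h3
      exact h3
    have htP' : (c' : Ω)⁻¹ * (e' : Ω) ∈ P ⊔ centralizerIn S T :=
      mul_mem (inv_mem (hCP hc'C)) e'.2
    have htP : (c' : Ω)⁻¹ * (e' : Ω) ∈ P :=
      Cfsg.Agent.Helper76.XS1.mem_of_mem_sup_of_mem hPT hTS hPc htP' ht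
    have he'eq : e' = (⟨(c' : Ω), hCP hc'C⟩ : ↥(P ⊔ centralizerIn S T)) *
        Subgroup.inclusion le_sup_left (⟨(c' : Ω)⁻¹ * (e' : Ω), htP⟩ : P) := by
      apply Subtype.ext
      show (e' : Ω) = (c' : Ω) * ((c' : Ω)⁻¹ * (e' : Ω))
      group
    set d : ↥(P ⊔ centralizerIn S T) := δ ⟨(c' : Ω), hCP hc'C⟩ with hd_def
    have hδe' : δ e' = d * Subgroup.inclusion le_sup_left (⟨(c' : Ω)⁻¹ * (e' : Ω), htP⟩ : P) := by
      have h1 := congrArg δ he'eq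
      rw [map_mul, hδP (Subgroup.inclusion le_sup_left (⟨(c' : Ω)⁻¹ * (e' : Ω), htP⟩ : P)) htP] at h1
      exact h1
    have hval : ((δ₁ ⟨(c : Ω), hCP₁ hc⟩ : ↥(ξ.range ⊔ centralizerIn S T)) : Ω) =
        ψ d * ξ ⟨(c' : Ω)⁻¹ * (e' : Ω), htP⟩ := by
      rw [hδ₁_apply, he_apply]
      show ψ (δ e') = _
      rw [hδe', map_mul, hψξ]
    have hξt : ξ ⟨(c' : Ω)⁻¹ * (e' : Ω), htP⟩ ∈ T := hT.2 P hPT ξ hξ _
    -- the condition for `β` at `c'`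
    have h3 : ((β c' : ↥(T ⊔ centralizerIn S T)) : Ω)⁻¹ * (d : Ω) ∈ T := hδc c' hc'C
    have h4 : ((γ ((β c')⁻¹ * ⟨(d : Ω), hPU d.2⟩) : ↥(T ⊔ centralizerIn S T)) : Ω) ∈ T :=
      hγpres.1 _ h3
    have h5 : ((γ ((β c')⁻¹ * ⟨(d : Ω), hPU d.2⟩) : ↥(T ⊔ centralizerIn S T)) : Ω) =
        ((γ (β c') : ↥(T ⊔ centralizerIn S T)) : Ω)⁻¹ *
          ((γ ⟨(d : Ω), hPU d.2⟩ : ↥(T ⊔ centralizerIn S T)) : Ω) := by
      rw [map_mul, map_inv]
      rfl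
    rw [h5] at h4
    have h6 := hg3 d
    have hgoal : (((γ * β * γ⁻¹) c : ↥(T ⊔ centralizerIn S T)) : Ω)⁻¹ *
        ((δ₁ ⟨(c : Ω), hCP₁ hc⟩ : ↥(ξ.range ⊔ centralizerIn S T)) : Ω) =
        (((γ (β c') : ↥(T ⊔ centralizerIn S T)) : Ω)⁻¹ *
          ((γ ⟨(d : Ω), hPU d.2⟩ : ↥(T ⊔ centralizerIn S T)) : Ω)) *
        ((ψ d)⁻¹ * ((γ ⟨(d : Ω), hPU d.2⟩ : ↥(T ⊔ centralizerIn S T)) : Ω))⁻¹ *
        ξ ⟨(c' : Ω)⁻¹ * (e' : Ω), htP⟩ := by
      rw [hval]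
      show ((γ (β c') : ↥(T ⊔ centralizerIn S T)) : Ω)⁻¹ * _ = _
      group
    show (((γ * β * γ⁻¹) c : ↥(T ⊔ centralizerIn S T)) : Ω)⁻¹ *
        ((δ₁ ⟨(c : Ω), hCP₁ hc⟩ : ↥(ξ.range ⊔ centralizerIn S T)) : Ω) ∈ T
    rw [hgoal]
    exact mul_mem (mul_mem h4 (inv_mem h6)) hξt

end Cfsg.Agent.Helper74.XD2
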