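import Cfsg.Agent.Helper85.XDefs
import Cfsg.Agent.Helper85.KLMain
set_option autoImplicit false

/-!
# S5141 (helper85), piece (XD4): the induction `exists_pow_mem_Bset`

Core form: the pieces (XD1a), (XD1b), (XD2), (XD3) of the skeleton enter as hypotheses with exactly the types of the
skeleton statements.
-/

namespace Cfsg.Agent.Helper74.XD4

open Cfsg Cfsg.FusionSystem Cfsg.Agent.Helper87 Cfsg.Agent.Helper85.KL Cfsg.Agent.Helper85.XT
  Cfsg.Agent.Helper55.KLRestr Cfsg.Agent.Helper55.KLConj Cfsg.Agent.Helper55.KLInd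

variable {Ω : Type*} [Group Ω] {S T : Subgroup Ω}

/-- The hypotheses (XD1a), (XD1b), (XD2), (XD3) bundled. -/
structure Deps (p : ℕ) (F : FusionSystem S) (T : Subgroup Ω) : Prop where
  one_mem_Aset : ∀ {P : Subgroup Ω} (_ : P ≤ T), (1 : MulAut ↥(T ⊔ centralizerIn S T)) ∈ Aset F T P
  mul_mem_Aset : ∀ {P : Subgroup Ω} (_ : P ≤ T) (_ : centralizerIn T P ≤ P)
    {β₁ β₂ : MulAut ↥(T ⊔ centralizerIn S T)} (_ : β₁ ∈ Aset F T P) (_ : β₂ ∈ Aset F T P),
    β₁ * β₂ ∈ Aset F T P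
  inv_mem_Aset : ∀ {P : Subgroup Ω} (_ : P ≤ T) (_ : centralizerIn T P ≤ P)
    {β : MulAut ↥(T ⊔ centralizerIn S T)} (_ : β ∈ Aset F T P), β⁻¹ ∈ Aset F T P
  one_mem_Bset : (1 : MulAut ↥(T ⊔ centralizerIn S T)) ∈ Bset F T
  mul_mem_Bset : ∀ {β₁ β₂ : MulAut ↥(T ⊔ centralizerIn S T)} (_ : β₁ ∈ Bset F T) (_ : β₂ ∈ Bset F T),
    β₁ * β₂ ∈ Bset F T
  inv_mem_Bset : ∀ {β : MulAut ↥(T ⊔ centralizerIn S T)} (_ : β ∈ Bset F T), β⁻¹ ∈ Bset F T
  conj_mem_Bset : ∀ {γ β : MulAut ↥(T ⊔ centralizerIn S T)} (_ : γ ∈ F.autGroup (T ⊔ centralizerIn S T))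
    (_ : β ∈ Bset F T), γ * β * γ⁻¹ ∈ Bset F T
  Bset_subset_Aset : ∀ {P : Subgroup Ω} (_ : P ≤ T) (_ : centralizerIn T P ≤ P), Bset F T ⊆ Aset F T P
  Aset_top_subset_Bset : Aset F T T ⊆ Bset F T
  Aset_mono : ∀ {P R : Subgroup Ω} (_ : P ≤ R) (_ : R ≤ T) (_ : centralizerIn T P ≤ P),
    Aset F T R ⊆ Aset F T P
  autInducedBy_subset_Aset : ∀ {P : Subgroup Ω} (_ : P ≤ T),
    ((autInducedBy (centralizerIn S P) (T ⊔ centralizerIn S T) : Subgroup _) :
      Set (MulAut ↥(T ⊔ centralizerIn S T))) ⊆ Aset F T P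
  exists_conj_Aset : ∀ {P P₁ : Subgroup Ω} (_ : TCentric F T P) (ξ : P →* Ω) (_ : ξ ∈ F.Hom P)
    (_ : ξ.range = P₁),
    ∃ γ ∈ F.autGroup (T ⊔ centralizerIn S T), ∀ β ∈ Aset F T P, γ * β * γ⁻¹ ∈ Aset F T P₁
  Aset_step : ∀ {P : Subgroup Ω} (_ : P ≤ T) (_ : F.IsFullyNormalized P) (_ : centralizerIn T P ≤ P)
    (β : MulAut ↥(T ⊔ centralizerIn S T)) (_ : β ∈ Aset F T P),
    ∃ s ∈ centralizerIn S P, ∃ σ ∈ F.autGroup (T ⊔ centralizerIn S T),
      (∀ u : ↥(T ⊔ centralizerIn S T),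
        ((σ u : ↥(T ⊔ centralizerIn S T)) : Ω) = s * (u : Ω) * s⁻¹) ∧
      β * σ⁻¹ ∈ Aset F T (normalizerIn T P)

/-- `𝔄_P` as a subgroup. -/
def asetSubgroup {p : ℕ} {F : FusionSystem S} (d : Deps p F T) {P : Subgroup Ω} (hPT : P ≤ T)
    (hPc : centralizerIn T P ≤ P) : Subgroup (MulAut ↥(T ⊔ centralizerIn S T)) where
  carrier := Aset F T P
  mul_mem' := fun ha hb => d.mul_mem_Aset hPT hPc ha hb
  one_mem' := d.one_mem_Aset hPT
  inv_mem' := fun ha => d.inv_mem_Aset hPT hPc ha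

/-- `B` as a subgroup. -/
def bsetSubgroup {p : ℕ} {F : FusionSystem S} (d : Deps p F T) :
    Subgroup (MulAut ↥(T ⊔ centralizerIn S T)) where
  carrier := Bset F T
  mul_mem' := fun ha hb => d.mul_mem_Bset ha hb
  one_mem' := d.one_mem_Bset
  inv_mem' := fun ha => d.inv_mem_Bset ha

theorem exists_pow_mem_Bset_core [Finite S] (p : ℕ) [Fact p.Prime] (hS : IsPGroup p S)
    (F : FusionSystem S) (hT : F.StronglyClosed T) (d : Deps p F T) :
    ∀ (n : ℕ) (P : Subgroup Ω), Nat.card T - Nat.card P = n → TCentric F T P →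
      ∀ β : MulAut ↥(T ⊔ centralizerIn S T), β ∈ Aset F T P → ∃ k : ℕ, β ^ p ^ k ∈ Bset F T := by
  have hTS : T ≤ S := hT.1
  have : Finite T := Finite.of_injective (Subgroup.inclusion hTS) (Subgroup.inclusion_injective hTS)
  have hTp : IsPGroup p T := hS.to_le hTS
  have hUS : T ⊔ centralizerIn S T ≤ S := sup_le hTS inf_le_left
  have : Finite ↥(T ⊔ centralizerIn S T) :=
    Finite.of_injective (Subgroup.inclusion hUS) (Subgroup.inclusion_injective hUS)
  intro n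
  induction n using Nat.strong_induction_on with
  | _ n ih =>
    intro P hn hP β hβ
    have hPT : P ≤ T := hP.1
    by_cases hPeq : P = T
    · subst hPeq
      exact ⟨0, by simpa using d.Aset_top_subset_Bset hβ⟩
    have hcardlt : Nat.card P < Nat.card T := by
      rcases lt_or_ge (Nat.card P) (Nat.card T) with h | h
      · exact h
      · exact absurd (Subgroup.eq_of_le_of_card_ge hPT h) hPeq
    -- a fully normalized conjugate
    obtain ⟨P₁, hconj, hP₁n⟩ := exists_isConj_fullyNormalized F (hPT.trans hTS)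
    obtain ⟨ξ, hξ, hξr⟩ := hconj
    have hP₁T : P₁ ≤ T := by
      rw [← hξr]
      rintro _ ⟨x, rfl⟩
      exact hT.2 P hPT ξ hξ x
    obtain ⟨γ, hγ, hγA⟩ := d.exists_conj_Aset hP ξ hξ hξr
    have hβ' : γ * β * γ⁻¹ ∈ Aset F T P₁ := hγA β hβ
    have hconj' : F.IsConj P P₁ := ⟨ξ, hξ, hξr⟩
    have hP₁c : TCentric F T P₁ := tCentric_of_isConj F hP hconj' hP₁T
    have hP₁cc : centralizerIn T P₁ ≤ P₁ := hP.2 P₁ hconj'
    have hcard₁ : Nat.card P = Nat.card P₁ := card_eq_of_isConj F hconj'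
    have hP₁lt : P₁ < T := by
      refine lt_of_le_of_ne hP₁T ?_
      intro h
      rw [h] at hcard₁
      exact absurd hcard₁ (ne_of_lt hcardlt)
    have hRlt : P₁ < normalizerIn T P₁ := lt_normalizerIn hTp hP₁lt
    have hRT : normalizerIn T P₁ ≤ T := inf_le_left
    have hRc : TCentric F T (normalizerIn T P₁) := tCentric_of_le F hP₁c hRlt.le hRT
    have hRcc : centralizerIn T (normalizerIn T P₁) ≤ normalizerIn T P₁ :=
      hRc.2 _ (isConj_refl F (hRT.trans hTS))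
    have hcardR : Nat.card P₁ < Nat.card (normalizerIn T P₁) := by
      have : Finite (normalizerIn T P₁) :=
        Finite.of_injective (Subgroup.inclusion hRT) (Subgroup.inclusion_injective hRT)
      rcases lt_or_ge (Nat.card P₁) (Nat.card (normalizerIn T P₁)) with h | h
      · exact h
      · exact absurd (Subgroup.eq_of_le_of_card_ge hRlt.le h) (ne_of_lt hRlt)
    have hcardRT : Nat.card (normalizerIn T P₁) ≤ Nat.card T := Subgroup.card_le_of_le hRT
    have hIH : ∀ y ∈ asetSubgroup d hRT hRcc, ∃ k : ℕ, y ^ p ^ k ∈ bsetSubgroup d := by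
      intro y hy
      exact ih (Nat.card T - Nat.card (normalizerIn T P₁)) (by omega) _ rfl hRc y hy
    have hmain := Cfsg.Agent.Helper50.KL.exists_pow_mem_of_mul p (asetSubgroup d hP₁T hP₁cc)
      (bsetSubgroup d) (asetSubgroup d hRT hRcc)
      (autInducedBy (centralizerIn S P₁) (T ⊔ centralizerIn S T))
      (fun b hb => d.Bset_subset_Aset hRT hRcc hb)
      (fun y hy => d.Aset_mono hRlt.le hRT hP₁cc hy)
      (fun z hz => d.autInducedBy_subset_Aset hP₁T hz)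
      (fun x hx b hb => d.conj_mem_Bset hx.1 hb)
      hIH
      (isPGroup_autInducedBy hS inf_le_left (T ⊔ centralizerIn S T))
      (by
        intro x hx
        obtain ⟨s, hs, σ, hσF, hσ, hxσ⟩ := d.Aset_step hP₁T hP₁n hP₁cc x hx
        refine ⟨x * σ⁻¹, hxσ, σ, ?_, (inv_mul_cancel_right x σ).symm⟩
        exact Subgroup.subset_closure ⟨s, hs, hσ⟩)
    obtain ⟨k, hk⟩ := hmain _ hβ'
    refine ⟨k, ?_⟩
    rw [conj_pow] at hk
    have := d.conj_mem_Bset (Subgroup.inv_mem _ hγ) hk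
    have e : γ⁻¹ * (γ * β ^ p ^ k * γ⁻¹) * γ⁻¹⁻¹ = β ^ p ^ k := by group
    rwa [e] at this

/-- (XD4) with the earlier pieces as hypotheses. -/
theorem exists_pow_mem_Bset_of [Finite S] (p : ℕ) [Fact p.Prime] (hS : IsPGroup p S) (F : FusionSystem S)
    (hT : F.StronglyClosed T) (d : Deps p F T) {P : Subgroup Ω} (hP : TCentric F T P)
    (β : MulAut ↥(T ⊔ centralizerIn S T)) (hβ : β ∈ Aset F T P) : ∃ k : ℕ, β ^ p ^ k ∈ Bset F T :=
  exists_pow_mem_Bset_core p hS F hT d _ P rfl hP β hβ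

end Cfsg.Agent.Helper74.XD4
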